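import Mathlib
import Cfsg.Prelude.Def_Blocks

/-!
# The local ring of the algebraic integers at a prime ideal M
-/

namespace CfsgLib.Blocks

open Cfsg

variable (M : Ideal AlgInt) [M.IsPrime]

/-- The localization of the algebraic integers at `M`, as a subring of `ℂ`. -/
def loc : Subring ℂ where
  carrier := {z | MemLocalRing M z}
  one_mem' := ⟨1, 1, fun h => ‹M.IsPrime›.ne_top ((Ideal.eq_top_iff_one M).2 h), by simp⟩
  zero_mem' := ⟨0, 1, fun h => ‹M.IsPrime›.ne_top ((Ideal.eq_top_iff_one M).2 h), by simp⟩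
  mul_mem' := by
    rintro x y ⟨a, b, hb, rfl⟩ ⟨c, d, hd, rfl⟩
    refine ⟨a * c, b * d, fun h => ((Ideal.IsPrime.mem_or_mem ‹_› h).elim hb hd), ?_⟩
    push_cast
    rw [div_mul_div_comm]
  add_mem' := by
    rintro x y ⟨a, b, hb, rfl⟩ ⟨c, d, hd, rfl⟩
    refine ⟨a * d + b * c, b * d, fun h => ((Ideal.IsPrime.mem_or_mem ‹_› h).elim hb hd), ?_⟩
    have hb0 : (b : ℂ) ≠ 0 := fun h => hb (by rw [(Subtype.ext h : b = 0)]; exact M.zero_mem)
    have hd0 : (d : ℂ) ≠ 0 := fun h => hd (by rw [(Subtype.ext h : d = 0)]; exact M.zero_mem)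
    push_cast
    rw [div_add_div _ _ hb0 hd0]
  neg_mem' := by
    rintro x ⟨a, b, hb, rfl⟩
    exact ⟨-a, b, hb, by push_cast; rw [neg_div]⟩

variable {M}

theorem mem_loc {z : ℂ} : z ∈ loc M ↔ MemLocalRing M z := Iff.rfl

theorem one_notMem : (1 : AlgInt) ∉ M := fun h => ‹M.IsPrime›.ne_top ((Ideal.eq_top_iff_one M).2 h)

omit [M.IsPrime] in
theorem coe_ne_zero_of_notMem {b : AlgInt} (hb : b ∉ M) : (b : ℂ) ≠ 0 :=
  fun h => hb (by rw [(Subtype.ext h : b = 0)]; exact M.zero_mem)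

theorem algInt_mem_loc (a : AlgInt) : (a : ℂ) ∈ loc M := ⟨a, 1, one_notMem, by simp⟩

theorem isIntegral_mem_loc {z : ℂ} (hz : IsIntegral ℤ z) : z ∈ loc M :=
  algInt_mem_loc ⟨z, hz⟩

theorem natCast_mem_loc (n : ℕ) : (n : ℂ) ∈ loc M := natCast_mem _ n

/-- Membership of the local ideal, for a complex number, is membership of a subset of `loc M`. -/
theorem MemLocalIdeal.mem_loc {z : ℂ} (h : MemLocalIdeal M z) : z ∈ loc M := by
  obtain ⟨a, b, -, hb, h⟩ := h
  exact ⟨a, b, hb, h⟩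

variable (M)

/-- The maximal ideal of `loc M`. -/
def locIdeal : Ideal (loc M) where
  carrier := {x | MemLocalIdeal M (x : ℂ)}
  zero_mem' := ⟨0, 1, M.zero_mem, one_notMem, by simp⟩
  add_mem' := by
    rintro x y ⟨a, b, ha, hb, hx⟩ ⟨c, d, hc, hd, hy⟩
    refine ⟨a * d + b * c, b * d, ?_, fun h => ((Ideal.IsPrime.mem_or_mem ‹_› h).elim hb hd), ?_⟩
    · exact M.add_mem (M.mul_mem_right _ ha) (M.mul_mem_left _ hc)
    · show _ = ((x + y : loc M) : ℂ)
      push_cast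
      rw [← hx, ← hy, div_add_div _ _ (coe_ne_zero_of_notMem hb) (coe_ne_zero_of_notMem hd)]
  smul_mem' := by
    rintro ⟨r, a, b, hb, rfl⟩ x ⟨c, d, hc, hd, hx⟩
    refine ⟨a * c, b * d, M.mul_mem_left _ hc,
      fun h => ((Ideal.IsPrime.mem_or_mem ‹_› h).elim hb hd), ?_⟩
    show _ = (((⟨_, _⟩ : loc M) * x : loc M) : ℂ)
    push_cast
    rw [← hx, div_mul_div_comm]

variable {M}

theorem mem_locIdeal {x : loc M} : x ∈ locIdeal M ↔ MemLocalIdeal M (x : ℂ) := Iff.rfl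

theorem memLocalIdeal_algInt_iff (a : AlgInt) : MemLocalIdeal M (a : ℂ) ↔ a ∈ M := by
  refine ⟨?_, fun h => ⟨a, 1, h, one_notMem, by simp⟩⟩
  rintro ⟨c, d, hc, hd, h⟩
  rw [div_eq_iff (coe_ne_zero_of_notMem hd)] at h
  have h' : c = a * d := Subtype.ext (by push_cast; exact h)
  rw [h'] at hc
  exact (Ideal.IsPrime.mem_or_mem ‹_› hc).resolve_right hd

theorem not_memLocalIdeal_one : ¬ MemLocalIdeal M (1 : ℂ) := by
  have := (memLocalIdeal_algInt_iff (M := M) 1).not.2 one_notMem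
  simpa using this

theorem isUnit_of_notMem_locIdeal {x : loc M} (hx : x ∉ locIdeal M) : IsUnit x := by
  obtain ⟨a, b, hb, h⟩ := x.2
  have ha : a ∉ M := fun ha => hx ⟨a, b, ha, hb, h⟩
  refine IsUnit.of_mul_eq_one ⟨(b : ℂ) / a, b, a, ha, rfl⟩ (Subtype.ext ?_)
  push_cast
  rw [← h]
  field_simp [coe_ne_zero_of_notMem ha, coe_ne_zero_of_notMem hb]

instance instIsLocalRingLoc : IsLocalRing (loc M) := by
  refine IsLocalRing.of_nonunits_add fun a b ha hb => ?_
  have h : ∀ x : loc M, x ∈ nonunits (loc M) ↔ x ∈ locIdeal M := fun x => by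
    refine ⟨fun hu => by_contra fun hn => hu (isUnit_of_notMem_locIdeal hn), fun hm hu => ?_⟩
    have : (1 : loc M) ∈ locIdeal M := by
      rw [Ideal.eq_top_of_isUnit_mem _ hm hu]
      exact Submodule.mem_top
    exact not_memLocalIdeal_one (M := M) (by simpa [mem_locIdeal] using this)
  rw [h] at *
  exact Ideal.add_mem _ ha hb

theorem maximalIdeal_loc : IsLocalRing.maximalIdeal (loc M) = locIdeal M := by
  ext x
  rw [IsLocalRing.mem_maximalIdeal, mem_nonunits_iff]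
  refine ⟨fun hu => by_contra fun hn => hu (isUnit_of_notMem_locIdeal hn), fun hm hu => ?_⟩
  have h1 := Ideal.eq_top_of_isUnit_mem _ hm hu
  have : (1 : loc M) ∈ locIdeal M := by rw [h1]; exact Submodule.mem_top
  exact not_memLocalIdeal_one (M := M) (by simpa [mem_locIdeal] using this)

instance instLocIdealPrime : (locIdeal M).IsPrime := by
  rw [← maximalIdeal_loc]
  exact (IsLocalRing.maximalIdeal.isMaximal _).isPrime

/-- The reduction of a local integer. -/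
noncomputable abbrev red : loc M →+* IsLocalRing.ResidueField (loc M) :=
  IsLocalRing.residue (loc M)

theorem red_eq_zero_iff {x : loc M} : red x = 0 ↔ MemLocalIdeal M (x : ℂ) := by
  rw [IsLocalRing.residue_eq_zero_iff, maximalIdeal_loc, mem_locIdeal]

/-! ## Arithmetic of the local ideal on complex numbers -/

theorem MemLocalIdeal.add' {x y : ℂ} (hx : MemLocalIdeal M x) (hy : MemLocalIdeal M y) :
    MemLocalIdeal M (x + y) :=
  (locIdeal M).add_mem (a := ⟨x, MemLocalIdeal.mem_loc hx⟩) (b := ⟨y, MemLocalIdeal.mem_loc hy⟩) hx hy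

theorem MemLocalIdeal.zero' : MemLocalIdeal M (0 : ℂ) := (locIdeal M).zero_mem

theorem MemLocalIdeal.neg' {x : ℂ} (hx : MemLocalIdeal M x) : MemLocalIdeal M (-x) :=
  (locIdeal M).neg_mem (show (⟨x, MemLocalIdeal.mem_loc hx⟩ : loc M) ∈ locIdeal M from hx)

theorem MemLocalIdeal.sub' {x y : ℂ} (hx : MemLocalIdeal M x) (hy : MemLocalIdeal M y) :
    MemLocalIdeal M (x - y) := by
  rw [sub_eq_add_neg]; exact MemLocalIdeal.add' hx (MemLocalIdeal.neg' hy)

theorem MemLocalIdeal.mul_left' {x y : ℂ} (hx : x ∈ loc M) (hy : MemLocalIdeal M y) :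
    MemLocalIdeal M (x * y) :=
  (locIdeal M).mul_mem_left ⟨x, hx⟩ (b := ⟨y, MemLocalIdeal.mem_loc hy⟩) hy

theorem MemLocalIdeal.mul_right' {x y : ℂ} (hx : MemLocalIdeal M x) (hy : y ∈ loc M) :
    MemLocalIdeal M (x * y) := by
  rw [mul_comm]; exact MemLocalIdeal.mul_left' hy hx

theorem MemLocalIdeal.sum' {ι : Type*} {s : Finset ι} {f : ι → ℂ}
    (h : ∀ i ∈ s, MemLocalIdeal M (f i)) : MemLocalIdeal M (∑ i ∈ s, f i) :=
  Finset.sum_induction f (MemLocalIdeal M) (fun _ _ => MemLocalIdeal.add') MemLocalIdeal.zero' h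

theorem MemLocalIdeal.mem_or_mem {x y : ℂ} (hx : x ∈ loc M) (hy : y ∈ loc M)
    (h : MemLocalIdeal M (x * y)) : MemLocalIdeal M x ∨ MemLocalIdeal M y :=
  (instLocIdealPrime (M := M)).mem_or_mem (x := ⟨x, hx⟩) (y := ⟨y, hy⟩) h

theorem inv_mem_loc {x : ℂ} (hx : x ∈ loc M) (hn : ¬ MemLocalIdeal M x) : x⁻¹ ∈ loc M := by
  obtain ⟨u, hu⟩ := isUnit_of_notMem_locIdeal (x := ⟨x, hx⟩) hn
  have h1 : x * ((↑(u⁻¹) : loc M) : ℂ) = 1 := by
    have := congrArg Subtype.val u.mul_inv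
    push_cast at this
    rwa [hu] at this
  rw [inv_eq_of_mul_eq_one_right h1]
  exact Subtype.prop _

/-! ## The prime p below M -/

section PrimeBelow

variable {p : ℕ}

theorem isPrime_of_isPModular {M : Ideal AlgInt} (h : IsPModular p M) : M.IsPrime :=
  h.2.1.isPrime

theorem intCast_mem_iff (hp : p.Prime) (hpM : (p : AlgInt) ∈ M) (n : ℤ) :
    (n : AlgInt) ∈ M ↔ (p : ℤ) ∣ n := by
  refine ⟨fun h => by_contra fun hn => ?_, ?_⟩
  · have hco : IsCoprime (p : ℤ) n := (Nat.prime_iff_prime_int.1 hp).coprime_iff_not_dvd.2 hn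
    obtain ⟨a, b, hab⟩ := hco
    apply one_notMem (M := M)
    have := congrArg (fun z : ℤ => (z : AlgInt)) hab
    push_cast at this
    rw [← this]
    exact M.add_mem (M.mul_mem_left _ hpM) (M.mul_mem_left _ h)
  · rintro ⟨c, rfl⟩
    push_cast
    exact M.mul_mem_right _ hpM

theorem natCast_mem_iff (hp : p.Prime) (hpM : (p : AlgInt) ∈ M) (n : ℕ) :
    (n : AlgInt) ∈ M ↔ p ∣ n := by
  simpa [Int.natCast_dvd_natCast] using intCast_mem_iff hp hpM (n : ℤ)

theorem memLocalIdeal_natCast_iff (hp : p.Prime) (hpM : (p : AlgInt) ∈ M) (n : ℕ) :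
    MemLocalIdeal M (n : ℂ) ↔ p ∣ n := by
  rw [← natCast_mem_iff hp hpM n, ← memLocalIdeal_algInt_iff]
  simp

theorem memLocalIdeal_prime (hpM : (p : AlgInt) ∈ M) : MemLocalIdeal M (p : ℂ) := by
  simpa using (memLocalIdeal_algInt_iff (M := M) (p : AlgInt)).2 hpM

theorem inv_natCast_mem_loc (hp : p.Prime) (hpM : (p : AlgInt) ∈ M) {n : ℕ} (hn : ¬ p ∣ n) :
    (n : ℂ)⁻¹ ∈ loc M :=
  inv_mem_loc (natCast_mem_loc n) ((memLocalIdeal_natCast_iff hp hpM n).not.2 hn)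

theorem charP_residueField (hp : p.Prime) (hpM : (p : AlgInt) ∈ M) :
    CharP (IsLocalRing.ResidueField (loc M)) p := by
  refine ⟨fun n => ?_⟩
  have : (n : IsLocalRing.ResidueField (loc M)) = red (M := M) (n : loc M) := (map_natCast _ n).symm
  rw [this, red_eq_zero_iff]
  simpa using memLocalIdeal_natCast_iff hp hpM n

/-- A nonzero local integer is not divisible by arbitrarily high powers of `p`. -/
theorem eq_zero_of_forall_dvd (hp : p.Prime) (hpM : (p : AlgInt) ∈ M) {x : ℂ}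
    (h : ∀ n : ℕ, ∃ y ∈ loc M, x = (p : ℂ) ^ n * y) : x = 0 := by
  by_contra hx
  obtain ⟨y0, ⟨a, b, hb, hab⟩, hy0⟩ := h 0
  rw [pow_zero, one_mul] at hy0
  have ha : a ≠ 0 := by
    rintro rfl
    exact hx (by rw [hy0, ← hab]; simp)
  have hPint : IsIntegral ℤ a := Algebra.IsIntegral.isIntegral a
  -- a nonzero integer multiple of `a`
  obtain ⟨c, n0, hn0, hac⟩ : ∃ (c : AlgInt) (n0 : ℤ), n0 ≠ 0 ∧ a * c = (n0 : AlgInt) := by
    obtain ⟨r, hr, c, hc⟩ := hPint.isAlgebraic.exists_nonzero_dvd (mem_nonZeroDivisors_of_ne_zero ha)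
    exact ⟨c, r, hr, by rw [← hc]; simp⟩
  -- every power of `p` divides the integer
  obtain ⟨k, m, hm, hkm⟩ := Nat.exists_eq_pow_mul_and_not_dvd (n := n0.natAbs)
    (Int.natAbs_ne_zero.2 hn0) p hp.ne_one
  obtain ⟨y, hy, hxy⟩ := h (k + 1)
  have hdiv : (n0 : ℂ) = (p : ℂ) ^ (k + 1) * (y * (b : ℂ) * (c : ℂ)) := by
    have h1 : (a : ℂ) = x * (b : ℂ) := by
      rw [hy0, ← hab, div_mul_cancel₀ _ (coe_ne_zero_of_notMem hb)]
    have h2 := congrArg (fun z : AlgInt => (z : ℂ)) hac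
    push_cast at h2
    rw [← h2, h1, hxy]
    ring
  have hz : y * (b : ℂ) * (c : ℂ) ∈ loc M :=
    mul_mem (mul_mem hy (algInt_mem_loc _)) (algInt_mem_loc _)
  have hsgn : (n0 : ℂ) = (n0.natAbs : ℂ) ∨ (n0 : ℂ) = -(n0.natAbs : ℂ) := by
    rcases Int.natAbs_eq n0 with h | h
    · left; conv_lhs => rw [h]
      simp only [Int.cast_natCast]
    · right; conv_lhs => rw [h]
      simp only [Int.cast_neg, Int.cast_natCast]
  have hpow : (p : ℂ) ^ k ≠ 0 := pow_ne_zero _ (Nat.cast_ne_zero.2 hp.ne_zero)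
  have hmM : MemLocalIdeal M (m : ℂ) := by
    rcases hsgn with hs | hs <;> rw [hs, hkm] at hdiv <;> push_cast at hdiv
    · rw [pow_succ, mul_assoc] at hdiv
      rw [mul_left_cancel₀ hpow hdiv]
      exact MemLocalIdeal.mul_right' (memLocalIdeal_prime hpM) hz
    · rw [pow_succ, mul_assoc, ← mul_neg] at hdiv
      rw [← neg_neg (m : ℂ), mul_left_cancel₀ hpow hdiv]
      exact MemLocalIdeal.neg' (MemLocalIdeal.mul_right' (memLocalIdeal_prime hpM) hz)
  exact hm ((memLocalIdeal_natCast_iff hp hpM m).1 hmM)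

end PrimeBelow

end CfsgLib.Blocks
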