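import Cfsg.Agent.Lib.Blocks.Osima

/-!
# Twisting idempotents by `p`-regular elements; block parts and weak block orthogonality
-/

set_option linter.unusedSectionVars false
set_option linter.style.haveILetI false

namespace CfsgLib.Blocks

open Cfsg Chars
open scoped ComplexConjugate

/-- If a linear functional kills `f * ε` for every eigen-idempotent `ε` of an element `X` of finite
order `m` commuting with the idempotent `f`, it kills `f * X`. The hypothesis only uses idempotents
of the shape `f * (m⁻¹ ∑ (c • X) ^ j)`. -/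
theorem map_mul_eq_zero_of_idempotents {R A : Type*} [CommRing R] [IsDomain R] [Ring A] [Algebra R A]
    {m : ℕ} (hm : 0 < m) {ζ : R} (hζ : IsPrimitiveRoot ζ m) (hinv : IsUnit (m : R))
    {f X : A} (hf : f * f = f) (hX : X ^ m = 1) (hcomm : Commute f X)
    (T : A →ₗ[R] R)
    (hT : ∀ ε : A, ε ∈ Submodule.span R (Set.range fun j : ℕ => X ^ j) →
      f * ε * (f * ε) = f * ε → T (f * ε) = 0) :
    T (f * X) = 0 := by
  obtain ⟨c, hc⟩ := hinv
  have hε : ∀ i : ℕ, ∑ j ∈ Finset.range m, ζ ^ (i * j) * T (f * X ^ j) = 0 := by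
    intro i
    set z : A := (ζ ^ i) • X with hz
    have hzm : z ^ m = 1 := by
      rw [hz, smul_pow, hX, ← pow_mul, mul_comm, pow_mul, hζ.pow_eq_one, one_pow, one_smul]
    set S : A := ∑ j ∈ Finset.range m, z ^ j with hS
    have hzS : z * S = S := by
      have h1 := Finset.sum_range_succ' (fun j => z ^ j) m
      have h2 := Finset.sum_range_succ (fun j => z ^ j) m
      rw [h2, hzm, pow_zero] at h1
      rw [hS, Finset.mul_sum]
      simp only [← pow_succ']
      exact (add_right_cancel h1).symm
    have hzjS : ∀ j, z ^ j * S = S := by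
      intro j
      induction j with
      | zero => simp
      | succ j ih => rw [pow_succ, mul_assoc, hzS, ih]
    have hSS : S * S = (m : R) • S := by
      conv_lhs => arg 1; rw [hS]
      rw [Finset.sum_mul, Finset.sum_congr rfl fun j _ => hzjS j, Finset.sum_const, Finset.card_range,
        Nat.cast_smul_eq_nsmul]
    have hcS : Commute f S :=
      Commute.sum_right _ _ _ fun j _ => (hcomm.smul_right _).pow_right j
    have hfS : f * S * (f * S) = (m : R) • (f * S) := by
      rw [mul_assoc, ← mul_assoc S f S, ← hcS.eq, mul_assoc f S S, ← mul_assoc f f, hf, hSS,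
        mul_smul_comm]
    have hmem : ((↑c⁻¹ : R) • S) ∈ Submodule.span R (Set.range fun j : ℕ => X ^ j) := by
      refine Submodule.smul_mem _ _ (Submodule.sum_mem _ fun j _ => ?_)
      rw [hz, smul_pow]
      exact Submodule.smul_mem _ _ (Submodule.subset_span ⟨j, rfl⟩)
    have h := hT _ hmem (by
      rw [mul_smul_comm, smul_mul_smul_comm, hfS, smul_smul, ← hc, mul_assoc, Units.inv_mul, mul_one])
    rw [mul_smul_comm, map_smul, smul_eq_mul, Units.mul_right_eq_zero, hS, Finset.mul_sum,
      map_sum] at h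
    rw [← h]
    refine Finset.sum_congr rfl fun j _ => ?_
    rw [hz, smul_pow, mul_smul_comm, map_smul, smul_eq_mul, pow_mul]
  rcases Nat.lt_or_ge 1 m with h1m | h1m
  · have key : ∑ i ∈ Finset.range m,
        ζ ^ (i * (m - 1)) * ∑ j ∈ Finset.range m, ζ ^ (i * j) * T (f * X ^ j) = 0 :=
      Finset.sum_eq_zero fun i _ => by rw [hε, mul_zero]
    simp only [Finset.mul_sum] at key
    rw [Finset.sum_comm, Finset.sum_eq_single 1] at key
    · have h1 : ∀ i : ℕ, ζ ^ (i * (m - 1)) * (ζ ^ (i * 1) * T (f * X ^ 1)) = T (f * X ^ 1) := by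
        intro i
        rw [← mul_assoc, ← pow_add, ← mul_add, Nat.sub_add_cancel (by omega), mul_comm i, pow_mul,
          hζ.pow_eq_one, one_pow, one_mul]
      rw [Finset.sum_congr rfl fun i _ => h1 i, Finset.sum_const, Finset.card_range, nsmul_eq_mul,
        pow_one] at key
      exact (mul_eq_zero.1 key).resolve_left (hc ▸ c.ne_zero)
    · intro j hj hj1
      have hne : ζ ^ (m - 1 + j) ≠ 1 := by
        intro h
        obtain ⟨k, hk⟩ := (hζ.pow_eq_one_iff_dvd _).1 h
        have hjm := Finset.mem_range.1 hj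
        have hk2 : k = 1 := by
          rcases k with _ | _ | k
          · omega
          · rfl
          · have : m * 2 ≤ m * (k + 1 + 1) := Nat.mul_le_mul_left _ (by omega)
            omega
        subst hk2
        omega
      have hsum : ∑ i ∈ Finset.range m, (ζ ^ (m - 1 + j)) ^ i = 0 := by
        have h2 := geom_sum_mul (ζ ^ (m - 1 + j)) m
        rw [← pow_mul, mul_comm (m - 1 + j) m, pow_mul ζ m, hζ.pow_eq_one, one_pow, sub_self] at h2
        exact (mul_eq_zero.1 h2).resolve_right (sub_ne_zero.2 hne)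
      calc ∑ i ∈ Finset.range m, ζ ^ (i * (m - 1)) * (ζ ^ (i * j) * T (f * X ^ j))
          = (∑ i ∈ Finset.range m, (ζ ^ (m - 1 + j)) ^ i) * T (f * X ^ j) := by
            rw [Finset.sum_mul]
            refine Finset.sum_congr rfl fun i _ => ?_
            rw [← mul_assoc, ← pow_add, ← mul_add, mul_comm i, pow_mul]
        _ = 0 := by rw [hsum, zero_mul]
    · intro h; exact absurd (Finset.mem_range.2 h1m) h
  · have hm1 : m = 1 := by omega
    subst hm1
    rw [pow_one] at hX
    have := hε 0
    simp only [Finset.sum_range_one, mul_zero, pow_zero, one_mul, mul_one] at this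
    rw [hX, mul_one]
    simpa using this

variable {G : Type*} [Group G] [Fintype G] {M : Ideal AlgInt} [M.IsPrime] {p : ℕ}

/-- The linear functional attached to a function on the group. -/
noncomputable def evalFun (θ : G → loc M) : MonoidAlgebra (loc M) G →ₗ[loc M] loc M where
  toFun f := ∑ g, θ g * f.coeff g
  map_add' f h := by simp [mul_add, Finset.sum_add_distrib]
  map_smul' c f := by simp [Finset.mul_sum, mul_left_comm]

theorem evalFun_apply (θ : G → loc M) (f : MonoidAlgebra (loc M) G) :
    evalFun θ f = ∑ g, θ g * f.coeff g := rfl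

theorem evalFun_mul_single (θ : G → loc M) (f : MonoidAlgebra (loc M) G) (s : G) :
    evalFun θ (f * MonoidAlgebra.single s 1) = ∑ g, θ (g * s) * f.coeff g := by
  rw [evalFun_apply, ← Equiv.sum_comp (Equiv.mulRight s)]
  simp

theorem single_pow_orderOf (R : Type*) [CommRing R] (s : G) :
    (MonoidAlgebra.single s (1 : R)) ^ orderOf s = 1 := by
  rw [MonoidAlgebra.single_pow, pow_orderOf_eq_one, one_pow]; rfl

theorem exists_primitiveRoot_loc {m : ℕ} (hm : 0 < m) : ∃ ζ : loc M, IsPrimitiveRoot ζ m := by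
  have h := Complex.isPrimitiveRoot_exp m hm.ne'
  have hint : IsIntegral ℤ (Complex.exp (2 * Real.pi * Complex.I / m)) :=
    IsIntegral.of_pow hm (by rw [h.pow_eq_one]; exact isIntegral_one)
  refine ⟨⟨_, isIntegral_mem_loc hint⟩, ?_⟩
  exact IsPrimitiveRoot.of_map_of_injective (f := (loc M).subtype) (by exact h) Subtype.val_injective

theorem isUnit_natCast_loc (hp : p.Prime) (hpM : (p : AlgInt) ∈ M) {m : ℕ} (hm : ¬ p ∣ m) :
    IsUnit (m : loc M) :=
  isUnit_of_notMem_locIdeal (by
    rw [mem_locIdeal]; push_cast; exact (memLocalIdeal_natCast_iff hp hpM m).not.2 hm)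

theorem toAlg_commute_single {a : G → ℂ} (ha : ∀ g, a g ∈ loc M) {s : G}
    (h : ∀ g, a (s * g * s⁻¹) = a g) :
    Commute (toAlg a ha) (MonoidAlgebra.single s (1 : loc M)) := by
  apply MonoidAlgebra.ext
  ext g
  have h1 := h (s⁻¹ * g)
  rw [mul_inv_cancel_left] at h1
  simp [h1]

/-- A class function vanishing on `p`-regular elements vanishes on `f * s` for an idempotent
function `f` invariant under the `p`-regular element `s`. -/
theorem sum_idem_mul_regular_eq_zero (hp : p.Prime) (hpM : (p : AlgInt) ∈ M) {a : G → ℂ}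
    (ha : ∀ g, a g ∈ loc M) (h : conv a a = a) {θ : G → ℂ} (hθ : IsClassFunction G θ)
    (hreg : ∀ g, ¬ p ∣ orderOf g → θ g = 0) {s : G} (hs : ¬ p ∣ orderOf s)
    (hinv : ∀ g, a (s * g * s⁻¹) = a g) :
    ∑ g, a g * θ (g * s) = 0 := by
  classical
  have key : ∀ y : G, p ∣ orderOf y → ∑ g, a g * classInd y (g * s) = 0 := by
    intro y hy
    obtain ⟨ζ, hζ⟩ := exists_primitiveRoot_loc (M := M) (orderOf_pos s)
    have hθy : ∀ g, classInd y g ∈ loc M := (isLocClassFun_classInd y).2
    have := map_mul_eq_zero_of_idempotents (orderOf_pos s) hζ (isUnit_natCast_loc hp hpM hs)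
      (toAlg_mul_self ha h) (single_pow_orderOf (loc M) s) (toAlg_commute_single ha hinv)
      (evalFun fun g => ⟨classInd y g, hθy g⟩) (fun ε _ hε => ?_)
    · rw [evalFun_mul_single] at this
      have h2 := congrArg Subtype.val this
      push_cast at h2
      simp only [coeff_toAlg] at h2
      rw [← h2]
      exact Finset.sum_congr rfl fun g _ => mul_comm _ _
    · rw [evalFun_apply]
      refine trace_idempotent_eq_zero_of_regular hp (loc_eq_zero_of_forall_dvd hp hpM) hε _
        (fun g h => Subtype.ext ((isClassFunction_classInd y) g h)) (fun g hg => Subtype.ext ?_)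
      show classInd y g = 0
      rw [classInd_apply, if_neg]
      intro hc
      obtain ⟨c, rfl⟩ := isConj_iff.1 hc
      exact hg (by rwa [← (SemiconjBy.conj_mk c y).orderOf_eq])
  haveI := Fintype.ofFinite (ConjClasses G)
  rw [classFun_eq_sum_classInd hθ]
  simp only [Finset.sum_apply, Pi.smul_apply, smul_eq_mul, Finset.mul_sum]
  rw [Finset.sum_comm]
  refine Finset.sum_eq_zero fun C _ => ?_
  by_cases hC : p ∣ orderOf (classRep C)
  · rw [← mul_zero (θ (classRep C)), ← key _ hC, Finset.mul_sum]
    exact Finset.sum_congr rfl fun g _ => by ring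
  · exact Finset.sum_eq_zero fun g _ => by rw [hreg _ hC, zero_mul, mul_zero]

/-- The block part of a class function is its translate by the block idempotent. -/
theorem blockPart_eq_sum (B : Set (IrrCharacter G)) {θ : G → ℂ} (hθ : IsClassFunction G θ) (u : G) :
    blockPart B θ u = ∑ g, blockCoeff B g * θ (g * u) := by
  classical
  haveI := irrFintype G
  conv_rhs => rw [classFun_eq_sum hθ]
  simp only [Finset.sum_apply, Pi.smul_apply, smul_eq_mul, Finset.mul_sum]
  rw [Finset.sum_comm, blockPart]
  rw [finsum_mem_eq_sum_of_inter_support_eq (t := Finset.univ.filter (· ∈ B)) _ (by ext; simp),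
    Finset.sum_filter]
  refine Finset.sum_congr rfl fun χ _ => ?_
  have : ∑ g, blockCoeff B g * (classInner θ (χ : G → ℂ) * (χ : G → ℂ) (g * u)) =
      classInner θ (χ : G → ℂ) * if χ ∈ B then (χ : G → ℂ) u else 0 := by
    rw [← sum_mul_blockCoeff B χ u, Finset.mul_sum]
    exact Finset.sum_congr rfl fun g _ => by ring
  rw [this]
  split_ifs with hc
  · rw [inner_congr_inst]
  · rw [mul_zero]

/-- The block part of a class function vanishing on `p`-regular elements vanishes there. -/
theorem blockPart_eq_zero_of_regular (hp : p.Prime) (hpM : (p : AlgInt) ∈ M)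
    {B : Set (IrrCharacter G)} (hB : IsPBlock M B) {θ : G → ℂ} (hθ : IsClassFunction G θ)
    (hreg : ∀ g, ¬ p ∣ orderOf g → θ g = 0) {s : G} (hs : ¬ p ∣ orderOf s) :
    blockPart B θ s = 0 := by
  rw [blockPart_eq_sum B hθ]
  exact sum_idem_mul_regular_eq_zero hp hpM (blockCoeff_mem_loc hB) (conv_blockCoeff_self B) hθ hreg
    hs (fun g => isClassFunction_blockCoeff B g s)

theorem inner_classInd (y : G) (χ : IrrCharacter G) :
    classInner (classInd y) (χ : G → ℂ) =
      ((Nat.card G : ℂ)⁻¹ * (Nat.card {x : G // IsConj y x} : ℂ)) * conj ((χ : G → ℂ) y) := by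
  classical
  rw [inner_def, mul_assoc]
  congr 1
  rw [Nat.card_eq_fintype_card, Fintype.card_subtype, ← nsmul_eq_mul, ← Finset.sum_const,
    Finset.sum_filter]
  refine Finset.sum_congr rfl fun x _ => ?_
  rw [classInd_apply]
  split_ifs with h
  · rw [one_mul, classFun_of_isConj (isClassFunction_irr χ) h]
  · rw [zero_mul]

/-- **Weak block orthogonality.** -/
theorem weak_orthogonality (hp : p.Prime) (hpM : (p : AlgInt) ∈ M)
    {B : Set (IrrCharacter G)} (hB : IsPBlock M B) {x y : G} (hx : ¬ p ∣ orderOf x)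
    (hy : p ∣ orderOf y) : ∑ᶠ χ ∈ B, (χ : G → ℂ) x * conj ((χ : G → ℂ) y) = 0 := by
  classical
  haveI := irrFintype G
  have h := blockPart_eq_zero_of_regular hp hpM hB (isClassFunction_classInd y) (fun g hg => by
    rw [classInd_apply, if_neg]
    intro hc
    obtain ⟨c, rfl⟩ := isConj_iff.1 hc
    exact hg (by rwa [← (SemiconjBy.conj_mk c y).orderOf_eq])) hx
  rw [blockPart] at h
  rw [finsum_mem_eq_sum_of_inter_support_eq (t := Finset.univ.filter (· ∈ B)) _ (by ext; simp)] at h ⊢
  set c : ℂ := (Nat.card G : ℂ)⁻¹ * (Nat.card {x : G // IsConj y x} : ℂ)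
  have hc : c ≠ 0 := by
    refine mul_ne_zero (inv_ne_zero (card_ne_zero G)) (Nat.cast_ne_zero.2 ?_)
    haveI : Nonempty {x : G // IsConj y x} := ⟨⟨y, IsConj.refl y⟩⟩
    exact Nat.card_pos.ne'
  have h' : c * ∑ χ ∈ Finset.univ.filter (· ∈ B), (χ : G → ℂ) x * conj ((χ : G → ℂ) y) = 0 := by
    rw [Finset.mul_sum, ← h]
    refine Finset.sum_congr rfl fun χ _ => ?_
    rw [inner_congr_inst (φ := classInd y) (ψ := (χ : G → ℂ)) (Fintype.ofFinite G) ‹Fintype G›, inner_classInd]
    ring
  exact (mul_eq_zero.1 h').resolve_left hc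

end CfsgLib.Blocks
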