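import Cfsg.Agent.Lib.Blocks.SectionPart
import Cfsg.Agent.Lib.BlockOrth.PPart
import Cfsg.Agent.Lib.Base.Cores
import Cfsg.Agent.S0936

/-!
# The principal block
-/

set_option linter.unusedSectionVars false
set_option linter.style.haveILetI false

namespace CfsgLib.Blocks

open Cfsg Chars Base
open scoped ComplexConjugate

variable {G : Type*} [Group G] [Fintype G] {M : Ideal AlgInt} [M.IsPrime] {p : ℕ} [Fact p.Prime]

/-- The group ring idempotent attached to a subgroup. -/
noncomputable def avgInd (N : Subgroup G) : G → ℂ := fun g => by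
  classical exact if g ∈ N then (Nat.card N : ℂ)⁻¹ else 0

omit [Fintype G] in
open scoped Classical in
theorem avgInd_apply (N : Subgroup G) (g : G) :
    avgInd N g = if g ∈ N then (Nat.card N : ℂ)⁻¹ else 0 := by
  simp [avgInd]

omit [Fintype G] in
theorem isClassFunction_avgInd (N : Subgroup G) [hN : N.Normal] :
    IsClassFunction G (avgInd N) := fun g h => by
  classical
  simp only [avgInd_apply]
  refine if_congr ⟨fun h1 => ?_, fun h1 => hN.conj_mem g h1 h⟩ rfl rfl
  have := hN.conj_mem _ h1 h⁻¹
  simpa [mul_assoc] using this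

theorem sum_avgInd (N : Subgroup G) : ∑ g, avgInd N g = 1 := by
  classical
  simp only [avgInd_apply]
  rw [← Finset.sum_filter, Finset.sum_const, nsmul_eq_mul,
    show (Finset.univ.filter (· ∈ N)).card = Nat.card N from by
      rw [Nat.card_eq_fintype_card, Fintype.card_subtype],
    mul_inv_cancel₀ (Nat.cast_ne_zero.2 Nat.card_pos.ne')]

theorem conv_avgInd_self (N : Subgroup G) : conv (avgInd N) (avgInd N) = avgInd N := by
  classical
  funext x
  have h : ∀ y, avgInd N y * avgInd N (y⁻¹ * x) = avgInd N y * avgInd N x := by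
    intro y
    by_cases hy : y ∈ N
    · rw [avgInd_apply N (y⁻¹ * x), avgInd_apply N x]
      congr 1
      exact if_congr (N.mul_mem_cancel_left (N.inv_mem hy)) rfl rfl
    · rw [avgInd_apply N y, if_neg hy, zero_mul, zero_mul]
  simp only [conv, h]
  rw [← Finset.sum_mul, sum_avgInd, one_mul]

theorem omega_avgInd_eq_one_iff (N : Subgroup G) [N.Normal] (χ : IrrCharacter G) :
    omega (χ : G → ℂ) (avgInd N) = 1 ↔ ∀ n ∈ N, (χ : G → ℂ) n = (χ : G → ℂ) 1 := by
  classical
  constructor
  · intro h n hn
    have h1 := sum_mul_irr χ (isClassFunction_avgInd N) n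
    rw [h, one_mul] at h1
    rw [← h1]
    have h2 : ∑ g, avgInd N g * (χ : G → ℂ) (g * n) = ∑ g, avgInd N g * (χ : G → ℂ) g := by
      rw [← Equiv.sum_comp (Equiv.mulRight n) (fun g => avgInd N g * (χ : G → ℂ) g)]
      refine Finset.sum_congr rfl fun g _ => ?_
      simp only [Equiv.coe_mulRight, avgInd_apply]
      congr 1
      exact if_congr (N.mul_mem_cancel_right hn).symm rfl rfl
    rw [h2]
    rw [omega, div_eq_one_iff_eq (irr_degree_ne_zero χ.2)] at h
    exact h
  · intro h
    rw [omega, div_eq_one_iff_eq (irr_degree_ne_zero χ.2)]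
    have h2 : ∀ g, avgInd N g * (χ : G → ℂ) g = avgInd N g * (χ : G → ℂ) 1 := fun g => by
      by_cases hg : g ∈ N
      · rw [h g hg]
      · rw [avgInd_apply, if_neg hg, zero_mul, zero_mul]
    simp only [h2]
    rw [← Finset.sum_mul, sum_avgInd, one_mul]

theorem omega_avgInd_eq_zero_or_one (N : Subgroup G) [N.Normal] (χ : IrrCharacter G) :
    omega (χ : G → ℂ) (avgInd N) = 0 ∨ omega (χ : G → ℂ) (avgInd N) = 1 := by
  have h := omega_conv χ (isClassFunction_avgInd N) (avgInd N)
  rw [conv_avgInd_self] at h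
  rcases eq_or_ne (omega (χ : G → ℂ) (avgInd N)) 0 with h0 | h0
  · exact Or.inl h0
  · exact Or.inr (mul_left_cancel₀ h0 (by rw [mul_one]; exact h.symm))

theorem isLocClassFun_avgInd (hpM : (p : AlgInt) ∈ M) (N : Subgroup G) [N.Normal]
    (hN : ¬ p ∣ Nat.card N) : IsLocClassFun M (avgInd N) :=
  ⟨isClassFunction_avgInd N, fun g => by
    rw [avgInd_apply]
    split_ifs
    · exact inv_natCast_mem_loc Fact.out hpM hN
    · exact zero_mem _⟩

/-- Characters in the principal block are trivial on normal `p'`-subgroups. -/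
theorem principalBlock_apply_normal (hpM : (p : AlgInt) ∈ M) {N : Subgroup G} [N.Normal]
    (hN : ¬ p ∣ Nat.card N) {χ : IrrCharacter G} (hχ : χ ∈ principalBlock M G) {n : G}
    (hn : n ∈ N) : (χ : G → ℂ) n = (χ : G → ℂ) 1 := by
  rcases omega_avgInd_eq_zero_or_one N χ with h | h
  · exfalso
    rw [principalBlock_eq] at hχ
    have h1 := omega_sub_mem (mem_blockOf.1 hχ) (isLocClassFun_avgInd hpM N hN)
    rw [h, sub_zero, (omega_avgInd_eq_one_iff N (principal G)).2 fun _ _ => rfl] at h1
    exact not_memLocalIdeal_one h1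
  · exact (omega_avgInd_eq_one_iff N χ).1 h n hn

theorem index_eq_pow_mem_of_regular {N : Subgroup G} [N.Normal] {k : ℕ} (hk : N.index = p ^ k)
    {g : G} (hg : ¬ p ∣ orderOf g) : g ∈ N := by
  have hc : Nat.Coprime (orderOf g) N.index := by
    rw [hk]
    exact Nat.Coprime.pow_right k ((Fact.out : p.Prime).coprime_iff_not_dvd.2 hg).symm
  rw [← QuotientGroup.eq_one_iff, ← orderOf_eq_one_iff]
  refine Nat.eq_one_of_dvd_coprimes hc ?_ ?_
  · exact orderOf_map_dvd (QuotientGroup.mk' N) g
  · rw [Subgroup.index_eq_card]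
    exact orderOf_dvd_natCard _

/-- The principal block of a group with a normal `p`-complement. -/
theorem mem_principalBlock_iff_of_pow_index (hpM : (p : AlgInt) ∈ M) {N : Subgroup G} [N.Normal]
    (hN : ¬ p ∣ Nat.card N) {k : ℕ} (hk : N.index = p ^ k) (χ : IrrCharacter G) :
    χ ∈ principalBlock M G ↔ ∀ n ∈ N, (χ : G → ℂ) n = (χ : G → ℂ) 1 := by
  classical
  refine ⟨fun h n hn => principalBlock_apply_normal hpM hN h hn, fun h => ?_⟩
  have hB := isPBlock_principalBlock (G := G) M
  have hsupp : ∀ g, g ∉ N → blockCoeff (principalBlock M G) g = 0 := fun g hg =>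
    blockCoeff_eq_zero_of_dvd Fact.out hpM hB
      (by by_contra hd; exact hg (index_eq_pow_mem_of_regular hk hd))
  have h1 : ∀ ψ : IrrCharacter G, (∀ n ∈ N, (ψ : G → ℂ) n = (ψ : G → ℂ) 1) →
      omega (ψ : G → ℂ) (blockCoeff (principalBlock M G)) =
        ∑ g, blockCoeff (principalBlock M G) g := by
    intro ψ hψ
    rw [omega, Finset.sum_div]
    refine Finset.sum_congr rfl fun g _ => ?_
    by_cases hg : g ∈ N
    · rw [hψ g hg, mul_div_cancel_right₀ _ (irr_degree_ne_zero ψ.2)]
    · rw [hsupp g hg, zero_mul, zero_div]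
  have h2 := h1 χ h
  rw [← h1 (principal G) (fun _ _ => rfl), omega_blockCoeff, omega_blockCoeff,
    if_pos (principal_mem_principalBlock M)] at h2
  by_contra hne
  rw [if_neg hne] at h2
  exact zero_ne_one h2

theorem blockCoeff_principalBlock_one (hpM : (p : AlgInt) ∈ M) {N : Subgroup G} [N.Normal]
    (hN : ¬ p ∣ Nat.card N) {k : ℕ} (hk : N.index = p ^ k) :
    blockCoeff (principalBlock M G) 1 = (Nat.card N : ℂ)⁻¹ := by
  classical
  rw [← eq_blockCoeff (isClassFunction_avgInd N) (B := principalBlock M G) fun χ => ?_]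
  · rw [avgInd_apply, if_pos N.one_mem]
  · have h := mem_principalBlock_iff_of_pow_index hpM hN hk χ
    rw [← omega_avgInd_eq_one_iff] at h
    rcases omega_avgInd_eq_zero_or_one N χ with h0 | h0
    · rw [h0, if_neg fun hm => zero_ne_one (h0 ▸ h.1 hm)]
    · rw [h0, if_pos (h.2 h0)]

/-- The blocks of a centralizer inducing the principal block. -/
theorem setOf_inducing_principalBlock (hM : IsPModular p M) {z : G}
    (hz : ∃ k, orderOf z = p ^ k) :
    {ξ : IrrCharacter (Subgroup.centralizer ({z} : Set G)) |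
        IsInducedBlock M (Subgroup.centralizer ({z} : Set G))
          (blockOf M (ξ : Subgroup.centralizer ({z} : Set G) → ℂ)) (principalBlock M G)} =
      principalBlock M (Subgroup.centralizer ({z} : Set G)) := by
  classical
  haveI := Fintype.ofFinite (Subgroup.centralizer ({z} : Set G))
  ext ξ
  have hdef := exists_isInducedBlock_centralizer hM.2.2 hz (isPBlock_blockOf (M := M) ξ)
  rw [Set.mem_setOf_eq, Cfsg.Agent.S0936.result p M hM _ _ hdef]
  exact ⟨fun h => h ▸ mem_blockOf_self ξ,
    fun h => (IsPBlock.eq_blockOf (isPBlock_principalBlock M) h).symm⟩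

theorem blockPart_principalBlock_centralizer (hM : IsPModular p M) {θ : G → ℂ}
    (hθ : IsClassFunction G θ) {z : G} (hz : ∃ k, orderOf z = p ^ k)
    {y : Subgroup.centralizer ({z} : Set G)} (hy : ¬ p ∣ orderOf y) :
    blockPart (principalBlock M G) θ (z * y) =
      blockPart (principalBlock M (Subgroup.centralizer ({z} : Set G)))
        (fun c : Subgroup.centralizer ({z} : Set G) => θ (z * c)) y := by
  rw [blockPart_centralizer hM.2.2 (isPBlock_principalBlock M) hθ hz hy,
    setOf_inducing_principalBlock hM hz]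

theorem blockPart_irr_of_mem {B : Set (IrrCharacter G)} {χ : IrrCharacter G} (hχ : χ ∈ B)
    (g : G) : blockPart B (χ : G → ℂ) g = (χ : G → ℂ) g := by
  classical
  rw [blockPart_eq_sum B (isClassFunction_irr χ), sum_mul_blockCoeff, if_pos hχ]

theorem blockPart_apply_eq_sum [Fintype (IrrCharacter G)] (B : Set (IrrCharacter G))
    [DecidablePred (· ∈ B)] (θ : G → ℂ) (g : G) :
    blockPart B θ g = ∑ χ ∈ Finset.univ.filter (· ∈ B),
      classInner θ (χ : G → ℂ) * (χ : G → ℂ) g := by
  simp only [blockPart]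
  rw [finsum_mem_eq_sum_of_inter_support_eq]
  · refine Finset.sum_congr rfl fun χ _ => ?_
    congr! 2
  · ext χ
    simp

/-- A principal block character is constant on `u O_{p'}(C(u))`. -/
theorem principalBlock_apply_mul_core (hM : IsPModular p M) {u : G}
    (hu : ∃ k, orderOf u = p ^ k) {v : Subgroup.centralizer ({u} : Set G)}
    (hv : v ∈ pPrimeCore p (Subgroup.centralizer ({u} : Set G))) {χ : IrrCharacter G}
    (hχ : χ ∈ principalBlock M G) : (χ : G → ℂ) (u * v) = (χ : G → ℂ) u := by
  classical
  haveI := Fintype.ofFinite (Subgroup.centralizer ({u} : Set G))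
  haveI := irrFintype (Subgroup.centralizer ({u} : Set G))
  haveI := pPrimeCore_normal p (Subgroup.centralizer ({u} : Set G))
  have hN := not_dvd_card_pPrimeCore p (Subgroup.centralizer ({u} : Set G))
  have hvo : ¬ p ∣ orderOf v := fun h =>
    hN (h.trans (Subgroup.orderOf_dvd_natCard _ hv))
  have h1o : ¬ p ∣ orderOf (1 : Subgroup.centralizer ({u} : Set G)) := by
    rw [orderOf_one]; exact (Fact.out : p.Prime).not_dvd_one
  have key : ∀ w : Subgroup.centralizer ({u} : Set G), ¬ p ∣ orderOf w →
      (χ : G → ℂ) (u * w) = blockPart (principalBlock M (Subgroup.centralizer ({u} : Set G)))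
        (fun c : Subgroup.centralizer ({u} : Set G) => (χ : G → ℂ) (u * c)) w := fun w hw => by
    rw [← blockPart_principalBlock_centralizer hM (isClassFunction_irr χ) hu hw,
      blockPart_irr_of_mem hχ]
  have e1 := key v hvo
  have e2 := key 1 h1o
  rw [Subgroup.coe_one, mul_one] at e2
  rw [e1, e2, blockPart_apply_eq_sum, blockPart_apply_eq_sum]
  refine Finset.sum_congr rfl fun ξ hξ => ?_
  rw [principalBlock_apply_normal hM.2.2 hN (Finset.mem_filter.1 hξ).2 hv]

theorem blockPart_classInd (B : Set (IrrCharacter G)) (y g : G) :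
    blockPart B (classInd y) g =
      (Nat.card (Subgroup.centralizer ({y} : Set G)) : ℂ)⁻¹ *
        ∑ᶠ χ ∈ B, (χ : G → ℂ) g * conj ((χ : G → ℂ) y) := by
  classical
  haveI := irrFintype G
  have hc : (Nat.card G : ℂ)⁻¹ * (Nat.card {x : G // IsConj y x} : ℂ) =
      (Nat.card (Subgroup.centralizer ({y} : Set G)) : ℂ)⁻¹ := by
    rw [← card_isConj_mul_card_centralizer y, Nat.cast_mul, mul_inv]
    have : (Nat.card {x : G // IsConj y x} : ℂ) ≠ 0 := by
      haveI : Nonempty {x : G // IsConj y x} := ⟨⟨y, IsConj.refl y⟩⟩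
      exact Nat.cast_ne_zero.2 Nat.card_pos.ne'
    field_simp
  rw [blockPart_apply_eq_sum, finsum_mem_eq_sum_of_inter_support_eq
    (t := Finset.univ.filter (· ∈ B)) _ (by ext χ; simp), Finset.mul_sum]
  refine Finset.sum_congr rfl fun χ _ => ?_
  rw [inner_classInd, hc]
  ring

theorem card_centralizer_mul {z : G} (hz : ∃ k, orderOf z = p ^ k)
    (y : Subgroup.centralizer ({z} : Set G)) (hy : ¬ p ∣ orderOf y) :
    Nat.card (Subgroup.centralizer ({z * (y : G)} : Set G)) =
      Nat.card (Subgroup.centralizer ({y} : Set (Subgroup.centralizer ({z} : Set G)))) := by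
  have hcomm : Commute z (y : G) := (Subgroup.mem_centralizer_singleton_iff.1 y.2 : _ = _).symm
  have hP : BlockOrth.IsPPrimePart p (z * y) (y : G) :=
    ⟨z, rfl, hcomm, hz, by rwa [Subgroup.orderOf_coe]⟩
  rw [← Subgroup.card_map_of_injective (Subgroup.centralizer ({z} : Set G)).subtype_injective]
  suffices hsub : Subgroup.centralizer ({z * (y : G)} : Set G) =
      (Subgroup.centralizer ({y} : Set (Subgroup.centralizer ({z} : Set G)))).map
        (Subgroup.centralizer ({z} : Set G)).subtype by rw [hsub]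
  have key : ∀ g : G, g ∈ Subgroup.centralizer ({z * (y : G)} : Set G) ↔
      g ∈ Subgroup.centralizer ({z} : Set G) ∧ Commute g (y : G) := by
    intro g
    constructor
    · intro hg
      have h1 : Commute g (z * y) := Subgroup.mem_centralizer_singleton_iff.1 hg
      obtain ⟨n, hn⟩ := hP.exists_pow
      have h2 : Commute g (y : G) := hn ▸ h1.pow_right n
      refine ⟨Subgroup.mem_centralizer_singleton_iff.2 ?_, h2⟩
      have h3 : Commute g ((z * y) * (y : G)⁻¹) := h1.mul_right h2.inv_right
      rwa [mul_inv_cancel_right] at h3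
    · rintro ⟨h1, h2⟩
      have h1' : Commute g z := Subgroup.mem_centralizer_singleton_iff.1 h1
      exact Subgroup.mem_centralizer_singleton_iff.2 (h1'.mul_right h2)
  ext g
  rw [key, Subgroup.mem_map]
  constructor
  · rintro ⟨h1, h2⟩
    exact ⟨⟨g, h1⟩, Subgroup.mem_centralizer_singleton_iff.2 (Subtype.ext h2), rfl⟩
  · rintro ⟨c, hc, rfl⟩
    exact ⟨c.2, congrArg Subtype.val (Subgroup.mem_centralizer_singleton_iff.1 hc)⟩

theorem classInd_mul_left_of_regular {z : G} (hz : ∃ k, orderOf z = p ^ k)
    (y c : Subgroup.centralizer ({z} : Set G)) (hy : ¬ p ∣ orderOf y) (hc : ¬ p ∣ orderOf c) :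
    classInd (z * (y : G)) (z * (c : G)) = classInd y c := by
  classical
  have hcomm : ∀ w : Subgroup.centralizer ({z} : Set G), Commute z (w : G) := fun w =>
    (Subgroup.mem_centralizer_singleton_iff.1 w.2 : _ = _).symm
  have hP : ∀ w : Subgroup.centralizer ({z} : Set G), ¬ p ∣ orderOf w →
      BlockOrth.IsPPrimePart p (z * w) (w : G) := fun w hw =>
    ⟨z, rfl, hcomm w, hz, by rwa [Subgroup.orderOf_coe]⟩
  suffices hiff : IsConj (z * (y : G)) (z * (c : G)) ↔ IsConj y c by
    by_cases h : IsConj y c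
    · rw [classInd_apply, classInd_apply, if_pos h, if_pos (hiff.2 h)]
    · rw [classInd_apply, classInd_apply, if_neg h, if_neg (hiff.not.2 h)]
  refine ⟨fun h => ?_, fun h => ?_⟩
  · obtain ⟨g, hg⟩ := isConj_iff.1 h
    have h1 := (hP y hy).conj g
    rw [hg] at h1
    have h2 : g * (y : G) * g⁻¹ = c := h1.unique (hP c hc)
    have h3 : g * z * g⁻¹ = z := by
      have h4 : g * z * g⁻¹ * (g * (y : G) * g⁻¹) = z * c := by rw [← hg]; group
      rw [h2] at h4
      exact mul_right_cancel h4
    have h5 : g ∈ Subgroup.centralizer ({z} : Set G) :=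
      Subgroup.mem_centralizer_singleton_iff.2 (mul_inv_eq_iff_eq_mul.1 h3)
    exact isConj_iff.2 ⟨⟨g, h5⟩, Subtype.ext h2⟩
  · obtain ⟨g, rfl⟩ := isConj_iff.1 h
    refine isConj_iff.2 ⟨(g : G), ?_⟩
    have hgz : Commute (g : G) z := Subgroup.mem_centralizer_singleton_iff.1 g.2
    push_cast
    rw [← mul_assoc, hgz.eq]
    group

/-- The norm sum over the principal block on the section of `z`. -/
theorem principalBlock_normSum_centralizer (hM : IsPModular p M) {z : G}
    (hz : ∃ k, orderOf z = p ^ k) (y : Subgroup.centralizer ({z} : Set G))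
    (hy : ¬ p ∣ orderOf y) :
    ∑ᶠ ζ ∈ principalBlock M G, (ζ : G → ℂ) (z * y) * conj ((ζ : G → ℂ) (z * y)) =
      ∑ᶠ χ ∈ principalBlock M (Subgroup.centralizer ({z} : Set G)),
        (χ : Subgroup.centralizer ({z} : Set G) → ℂ) y *
          conj ((χ : Subgroup.centralizer ({z} : Set G) → ℂ) y) := by
  classical
  haveI := Fintype.ofFinite (Subgroup.centralizer ({z} : Set G))
  have h := blockPart_principalBlock_centralizer hM (isClassFunction_classInd (z * (y : G))) hz hy
  have hB := isPBlock_principalBlock (G := Subgroup.centralizer ({z} : Set G)) M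
  have hcf := isClassFunction_mul_left (z := z) (isClassFunction_classInd (z * (y : G)))
  have h0 : blockPart (principalBlock M (Subgroup.centralizer ({z} : Set G)))
      (fun c : Subgroup.centralizer ({z} : Set G) => classInd (z * (y : G)) (z * c)) y =
      blockPart (principalBlock M (Subgroup.centralizer ({z} : Set G))) (classInd y) y := by
    have hd : IsClassFunction (Subgroup.centralizer ({z} : Set G))
        (fun c => classInd (z * (y : G)) (z * c) + (-1 : ℂ) * classInd y c) :=
      isClassFunction_add hcf (isClassFunction_smul (-1 : ℂ) (isClassFunction_classInd y))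
    have h1 := blockPart_eq_zero_of_regular (Fact.out : p.Prime) hM.2.2 hB hd (fun g hg => by
      rw [classInd_mul_left_of_regular hz y g hy hg]; ring) hy
    rw [blockPart_eq_sum _ hd] at h1
    rw [blockPart_eq_sum _ hcf, blockPart_eq_sum _ (isClassFunction_classInd y)]
    simp only [mul_add, Finset.sum_add_distrib, neg_mul, one_mul, mul_neg,
      Finset.sum_neg_distrib] at h1
    exact eq_of_sub_eq_zero (by rw [sub_eq_add_neg]; exact h1)
  rw [h0, blockPart_classInd, blockPart_classInd, card_centralizer_mul hz y hy] at h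
  exact mul_left_cancel₀ (inv_ne_zero (Nat.cast_ne_zero.2 Nat.card_pos.ne')) h

end CfsgLib.Blocks
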