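import Cfsg.Agent.Lib.Blocks.RegularTwist
import Cfsg.Agent.Lib.Chars.Char

/-!
# Degrees, and bridges to the vocabulary of the Prelude
-/

set_option linter.unusedSectionVars false
set_option linter.style.haveILetI false

namespace CfsgLib.Blocks

open Cfsg Chars

variable {G : Type*} [Group G]

theorem charDegree_cast (χ : IrrCharacter G) :
    ((charDegree (χ : G → ℂ) : ℕ) : ℂ) = (χ : G → ℂ) 1 := by
  obtain ⟨n, -, hn⟩ := irr_degree_nat χ.2
  rw [charDegree, hn]
  simp

theorem charDegree_pos (χ : IrrCharacter G) : 0 < charDegree (χ : G → ℂ) := by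
  refine Nat.pos_of_ne_zero fun h => irr_degree_ne_zero χ.2 ?_
  rw [← charDegree_cast, h, Nat.cast_zero]

theorem principalBlock_eq (M : Ideal AlgInt) :
    principalBlock M G = blockOf M ((principal G : IrrCharacter G) : G → ℂ) := rfl

theorem isPBlock_principalBlock (M : Ideal AlgInt) [M.IsPrime] :
    IsPBlock M (principalBlock M G) := ⟨principal G, rfl⟩

theorem principal_mem_principalBlock (M : Ideal AlgInt) [M.IsPrime] :
    principal G ∈ principalBlock M G := mem_blockOf_self (principal G)

end CfsgLib.Blocks
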