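import Cfsg.Agent.Lib.Blocks.HomocyclicAutomizer
import Cfsg.Agent.Lib.CharApps.InertialThree
import Cfsg.Agent.Lib.CharApps.InertialThreeInvolution
import Cfsg.Agent.Lib.CharApps.PrincipalRational

/-!
# The principal block when a Sylow subgroup is a Klein four group with one class of involutions
-/

set_option autoImplicit false
set_option linter.style.haveILetI false
set_option linter.unusedSectionVars false

namespace CfsgLib.Blocks

open Cfsg Chars CharApps BlockOrth
open scoped ComplexConjugate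

universe u

variable {G : Type u} [Group G] [Fintype G] {M : Ideal AlgInt} [M.IsPrime] [Fact (Nat.Prime 2)]

theorem fewInvolutions_of_klein (P : Sylow 2 G) (hP : IsKleinFour (P : Subgroup G)) :
    FewInvolutions P :=
  ⟨IsPGroup.commutative_of_card_eq_prime_sq (p := 2) (hP.card_four.trans (by norm_num)),
    (Finite.card_subtype_le _).trans hP.card_four.le⟩

/-- The data of the principal block. -/
structure KleinData (G : Type u) [Group G] [Fintype G] (M : Ideal AlgInt) (J : G) where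
  X : IrrCharacter G
  Y : IrrCharacter G
  Z : IrrCharacter G
  ε : ℤ
  ε_cases : ε = 1 ∨ ε = -1
  X_ne : X ≠ principal G
  Y_ne : Y ≠ principal G
  Z_ne : Z ≠ principal G
  XY : X ≠ Y
  XZ : X ≠ Z
  YZ : Y ≠ Z
  block : principalBlock M G = {principal G, X, Y, Z}
  valX : (X : G → ℂ) J = 1
  valY : (Y : G → ℂ) J = ε
  valZ : (Z : G → ℂ) J = -1
  modX : (4 : ℤ) ∣ (charDegree (X : G → ℂ) : ℤ) - 1
  modY : (4 : ℤ) ∣ (charDegree (Y : G → ℂ) : ℤ) - ε
  modZ : (4 : ℤ) ∣ (charDegree (Z : G → ℂ) : ℤ) + 1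
  rel : ∀ y : G, ¬ 2 ∣ orderOf y →
    1 + (X : G → ℂ) y + (ε : ℂ) * (Y : G → ℂ) y - (Z : G → ℂ) y = 0

theorem exists_kleinData (hM : IsPModular 2 M) (P : Sylow 2 G) (hP : IsKleinFour (P : Subgroup G))
    (hone : ∀ s t : G, orderOf s = 2 → orderOf t = 2 → IsConj s t) {J : G} (hJ : orderOf J = 2) :
    Nonempty (KleinData G M J) := by
  classical
  haveI := irrFintype G
  have hF := fewInvolutions_of_klein P hP
  have hab : IsMulCommutative P := ⟨⟨hF.comm⟩⟩
  have hfrob : ∀ y : G, y ∈ (P : Subgroup G) → y ≠ 1 →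
      Subgroup.centralizer ({y} : Set G) ⊓ Subgroup.normalizer ((P : Subgroup G) : Set G) =
        Subgroup.centralizer ((P : Subgroup G) : Set G) :=
    fun y hy hy1 => hF.centralizer_inf_normalizer hy hy1
  have hJJ : J * J = 1 := by rw [← sq, ← hJ, pow_orderOf_eq_one]
  have hord : ∀ y : (P : Subgroup G), y ≠ 1 → orderOf (y : G) = 2 := fun y hy => by
    rw [Subgroup.orderOf_coe]
    refine orderOf_eq_prime ?_ hy
    have h := Monoid.pow_exponent_eq_one y
    rwa [hP.exponent_two] at h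
  obtain ⟨y₀, hy₀, hJy⟩ : ∃ y : (P : Subgroup G), y ≠ 1 ∧ IsConj J (y : G) := by
    haveI : Nontrivial (P : Subgroup G) :=
      Finite.one_lt_card_iff_nontrivial.1 (by rw [hP.card_four]; norm_num)
    obtain ⟨y, hy⟩ := exists_ne (1 : (P : Subgroup G))
    exact ⟨y, hy, hone J y hJ (hord y hy)⟩
  have hJp : ∀ χ : IrrCharacter G, (χ : G → ℂ) J = (χ : G → ℂ) (y₀ : G) :=
    fun χ => (isConj_iff_forall_irr _ _).1 hJy χ
  -- values at singular elements
  have hsing : ∀ χ ∈ principalBlock M G, ∀ g : G, 2 ∣ orderOf g →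
      (χ : G → ℂ) g = (χ : G → ℂ) J := by
    intro χ hχ g hg
    obtain ⟨v, y, hyv, hc, ⟨k, hk⟩, hv⟩ := exists_isPPrimePart (p := 2) g
    obtain ⟨T, hT⟩ := (IsPGroup.of_card (p := 2) (n := k) (G := Subgroup.zpowers y)
      (by rw [Nat.card_zpowers, hk])).exists_le_sylow
    obtain ⟨c, hcT⟩ := MulAction.exists_smul_eq G T P
    have hmem : c * y * c⁻¹ ∈ (P : Subgroup G) := by
      rw [← hcT, Sylow.coe_subgroup_smul]
      exact ⟨_, hT (Subgroup.mem_zpowers y), rfl⟩
    have hne : (⟨_, hmem⟩ : (P : Subgroup G)) ≠ 1 := fun e => by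
      have e' : c * y * c⁻¹ = 1 := congrArg Subtype.val e
      rw [conj_eq_one_iff] at e'
      rw [← hyv, e', one_mul] at hg
      exact hv hg
    have hz : IsPPart 2 (c * g * c⁻¹) (c * y * c⁻¹) := by
      refine ⟨c * v * c⁻¹, by rw [← hyv]; group, (Commute.conj_iff c).2 hc, ⟨k, ?_⟩, ?_⟩
      · exact (MulEquiv.orderOf_eq (MulAut.conj c) y).trans hk
      · intro h; exact hv (h.trans (MulEquiv.orderOf_eq (MulAut.conj c) v).dvd)
    rw [hJp, (isConj_iff_forall_irr _ _).1 (isConj_iff.2 ⟨c, rfl⟩ : IsConj g (c * g * c⁻¹)) χ,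
      apply_eq_of_pPart hM hab hfrob ⟨_, hmem⟩ hne hz hχ]
    exact (isConj_iff_forall_irr _ _).1 (hone _ _ (hord _ hne) (hord y₀ hy₀)) χ
  choose n hn using fun χ : IrrCharacter G => exists_int_apply_involution hJJ χ
  set B := Finset.univ.filter (fun χ : IrrCharacter G => χ ∈ principalBlock M G) with hB
  have hn0 : ∀ χ ∈ B, n χ ≠ 0 := by
    intro χ hχ h0
    by_cases hχp : χ = principal G
    · have := hn χ
      rw [h0, hχp, principal_apply, Int.cast_zero] at this
      exact zero_ne_one this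
    apply (mem_principalBlock_iff_regularSum hM.2.2 χ).1 (Finset.mem_filter.1 hχ).2
    have hi := inner_irr_ne hχp
    rw [inner_def, inv_mul_eq_iff_eq_mul₀ (card_ne_zero G), mul_zero,
      ← Finset.sum_filter_add_sum_filter_not Finset.univ (fun g : G => ¬ 2 ∣ orderOf g)] at hi
    rw [Finset.sum_eq_zero (s := Finset.univ.filter fun g : G => ¬¬ 2 ∣ orderOf g) fun g hg => by
      rw [hsing χ (Finset.mem_filter.1 hχ).2 g (not_not.1 (Finset.mem_filter.1 hg).2), ← hn, h0,
        Int.cast_zero, zero_mul], add_zero] at hi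
    simp only [principal_apply, map_one, mul_one] at hi
    exact hi
  have h4 : ∑ χ ∈ B, n χ ^ 2 = 4 := by
    have e := column_norm_eq_card hM hab hfrob y₀ hy₀
    rw [finsum_mem_eq_sum_of_inter_support_eq (t := B) _ (by ext; simp [hB]),
      Finset.sum_congr rfl (g := fun χ => ((n χ ^ 2 : ℤ) : ℂ)) (fun χ _ => by
        rw [← hJp, ← hn, map_intCast]; push_cast; ring)] at e
    rw [show Nat.card P = 4 from hP.card_four] at e
    exact_mod_cast e
  have hpm : principal G ∈ B :=
    Finset.mem_filter.2 ⟨Finset.mem_univ _, principal_mem_principalBlock M⟩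
  have h1 : n (principal G) = 1 := by
    have := hn (principal G)
    rw [principal_apply] at this
    exact_mod_cast this
  set T := B.erase (principal G) with hT
  have hT3 : ∑ χ ∈ T, n χ ^ 2 = 3 := by
    rw [← Finset.add_sum_erase _ _ hpm, h1] at h4
    linarith
  have hsmall : ∀ χ ∈ T, n χ = 1 ∨ n χ = -1 := fun χ hχ => by
    have hle : n χ ^ 2 ≤ 3 := hT3 ▸ Finset.single_le_sum (fun ψ _ => sq_nonneg (n ψ)) hχ
    have a : -1 ≤ n χ := by nlinarith
    have b : n χ ≤ 1 := by nlinarith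
    have := hn0 χ (Finset.mem_of_mem_erase hχ)
    omega
  have hcard : T.card = 3 := by
    rw [Finset.sum_congr rfl (g := fun _ => (1 : ℤ)) (fun χ hχ => by
      rcases hsmall χ hχ with e | e <;> rw [e] <;> norm_num)] at hT3
    simp at hT3
    exact_mod_cast hT3
  have horth : ∀ y : G, ¬ 2 ∣ orderOf y → 1 + ∑ χ ∈ T, (n χ : ℂ) * (χ : G → ℂ) y = 0 := by
    intro y hy
    have e := weak_orthogonality Nat.prime_two hM.2.2 (isPBlock_principalBlock (G := G) M) hy
      (y := J) (by rw [hJ])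
    rw [finsum_mem_eq_sum_of_inter_support_eq (t := B) _ (by ext; simp [hB]),
      ← Finset.add_sum_erase _ _ hpm, principal_apply, principal_apply, map_one, mul_one] at e
    rw [← e]
    refine congrArg (1 + ·) (Finset.sum_congr rfl fun χ _ => ?_)
    rw [← hn, map_intCast, mul_comm]
  have hdeg0 : (1 : ℤ) + ∑ χ ∈ T, n χ * (charDegree (χ : G → ℂ) : ℤ) = 0 := by
    have e := horth 1 (by rw [orderOf_one]; norm_num)
    simp only [deg_eq] at e
    exact_mod_cast e
  obtain ⟨X, hXT, hX⟩ : ∃ χ ∈ T, n χ = 1 := by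
    by_contra hno
    push Not at hno
    rw [Finset.sum_congr (s₁ := T) rfl (g := fun χ => -((charDegree (χ : G → ℂ) : ℕ) : ℤ))
      (fun χ hχ => by rw [(hsmall χ hχ).resolve_left (hno χ hχ)]; ring)] at hdeg0
    have : T.card ≤ ∑ χ ∈ T, charDegree (χ : G → ℂ) := by
      rw [Finset.card_eq_sum_ones]
      exact Finset.sum_le_sum fun χ _ => deg_pos χ
    rw [Finset.sum_neg_distrib, ← Nat.cast_sum] at hdeg0
    omega
  obtain ⟨Z, hZT, hZ⟩ : ∃ χ ∈ T, n χ = -1 := by
    by_contra hno
    push Not at hno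
    rw [Finset.sum_congr (s₁ := T) rfl (g := fun χ => ((charDegree (χ : G → ℂ) : ℕ) : ℤ))
      (fun χ hχ => by rw [(hsmall χ hχ).resolve_right (hno χ hχ)]; ring), ← Nat.cast_sum] at hdeg0
    omega
  have hXZ : X ≠ Z := fun e => by rw [e, hZ] at hX; norm_num at hX
  have hZm : Z ∈ T.erase X := Finset.mem_erase.2 ⟨hXZ.symm, hZT⟩
  obtain ⟨Y, hY⟩ := Finset.card_eq_one.1 (show ((T.erase X).erase Z).card = 1 by
    rw [Finset.card_erase_of_mem hZm, Finset.card_erase_of_mem hXT, hcard])
  have hYm : Y ∈ (T.erase X).erase Z := by simp [hY]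
  have hYT : Y ∈ T := Finset.mem_of_mem_erase (Finset.mem_of_mem_erase hYm)
  have hTeq : T = {X, Y, Z} := by
    rw [← Finset.insert_erase hXT, ← Finset.insert_erase hZm, hY]
    ext χ; simp [or_comm, or_left_comm]
  have hmod : ∀ χ ∈ T, (4 : ℤ) ∣ (charDegree (χ : G → ℂ) : ℤ) - n χ := by
    intro χ hχ
    obtain ⟨m, hm⟩ := inner_irr_right_nat
      (isCharacter_restrict (P : Subgroup G) (isCharacter_of_irr χ.2)) (principal (P : Subgroup G))
    rw [inner_def, ← Finset.add_sum_erase _ _ (Finset.mem_univ (1 : (P : Subgroup G))),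
      Finset.sum_congr rfl (g := fun _ => (n χ : ℂ)) (fun y hy => by
        rw [principal_apply, map_one, mul_one, hn]
        exact (isConj_iff_forall_irr _ _).1 (hone _ J (hord y (Finset.ne_of_mem_erase hy)) hJ) χ),
      Finset.sum_const, Finset.card_erase_of_mem (Finset.mem_univ _), Finset.card_univ,
      ← Nat.card_eq_fintype_card, hP.card_four, principal_apply, map_one, mul_one,
      Subgroup.coe_one, deg_eq] at hm
    have e : (charDegree (χ : G → ℂ) : ℤ) + 3 * n χ = 4 * (m : ℤ) := by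
      apply Int.cast_injective (α := ℂ)
      push_cast
      rw [← hm]
      norm_num
      ring
    omega
  refine ⟨⟨X, Y, Z, n Y, hsmall Y hYT, Finset.ne_of_mem_erase hXT, Finset.ne_of_mem_erase hYT,
    Finset.ne_of_mem_erase hZT, (Finset.ne_of_mem_erase (Finset.mem_of_mem_erase hYm)).symm, hXZ,
    Finset.ne_of_mem_erase hYm, ?_, ?_, (hn Y).symm, ?_, hX ▸ hmod X hXT, hmod Y hYT, ?_, ?_⟩⟩
  · have : principalBlock M G = ↑(insert (principal G) T) := by
      rw [hT, Finset.insert_erase hpm, hB]; ext; simp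
    rw [this, hTeq]
    simp
  · rw [← hn, hX, Int.cast_one]
  · rw [← hn, hZ, Int.cast_neg, Int.cast_one]
  · have := hmod Z hZT
    rwa [hZ, sub_neg_eq_add] at this
  · intro y hy
    have e := horth y hy
    have hXY' : X ≠ Y := (Finset.ne_of_mem_erase (Finset.mem_of_mem_erase hYm)).symm
    rw [hTeq, Finset.sum_insert (by simp [hXY', hXZ]),
      Finset.sum_pair (Finset.ne_of_mem_erase hYm), hX, hZ, Int.cast_one, Int.cast_neg,
      Int.cast_one] at e
    linear_combination e

end CfsgLib.Blocks
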