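import Cfsg.Agent.Lib.Blocks.MinMax

/-!
# Classes with a given Sylow subgroup of the centralizer
-/

set_option linter.unusedSectionVars false
set_option linter.style.haveILetI false

namespace CfsgLib.Blocks

variable {G : Type*} [Group G] [Finite G] {p : ℕ} [Fact p.Prime]

/-- A `p`-subgroup of `H` at least as large as a Sylow subgroup is a Sylow subgroup. -/
theorem exists_sylow_map_eq {H P : Subgroup G} (hP : IsPGroup p P) (hPH : P ≤ H) (T : Sylow p H)
    (hcard : Nat.card T ≤ Nat.card P) : ∃ S : Sylow p H, (S : Subgroup H).map H.subtype = P := by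
  have hP' : IsPGroup p (P.subgroupOf H) := hP.of_equiv (Subgroup.subgroupOfEquivOfLe hPH).symm
  obtain ⟨S, hS⟩ := hP'.exists_le_sylow
  refine ⟨S, ?_⟩
  have hle : P ≤ (S : Subgroup H).map H.subtype := fun u hu =>
    ⟨⟨u, hPH hu⟩, hS (Subgroup.mem_subgroupOf.2 hu), rfl⟩
  refine (Subgroup.eq_of_le_of_card_ge hle ?_).symm
  rw [Base.card_map_subtype]
  refine le_trans (le_of_eq ?_) hcard
  obtain ⟨h, rfl⟩ := MulAction.exists_smul_eq H T S
  exact (Nat.card_congr (T.equivSMul h).toEquiv).symm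

theorem card_sylow_centralizer_conj {g c : G} (hgc : IsConj g c)
    (S : Sylow p (Subgroup.centralizer ({g} : Set G)))
    (T : Sylow p (Subgroup.centralizer ({c} : Set G))) : Nat.card T ≤ Nat.card S := by
  obtain ⟨x, hx⟩ := exists_conj_le_of_centralizes (isPGroup_sylow_map _ T) hgc
    (mem_centralizer_sylow c T) S
  have := (Base.card_map_conj x _).ge.trans (Subgroup.card_le_of_le hx)
  rwa [Base.card_map_subtype, Base.card_map_subtype] at this

/-- Two conjugate elements centralized by a common Sylow subgroup `P` of their centralizers are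
conjugate in `N(P)`. -/
theorem exists_normalizer_conj {P : Subgroup G} (hP : IsPGroup p P) {g : G}
    {S : Sylow p (Subgroup.centralizer ({g} : Set G))} (hS : Nat.card S ≤ Nat.card P) {c₁ c₂ : G}
    (h₁ : IsConj g c₁) (h₂ : IsConj g c₂) (hc₁ : c₁ ∈ Subgroup.centralizer (P : Set G))
    (hc₂ : c₂ ∈ Subgroup.centralizer (P : Set G)) :
    ∃ n ∈ Subgroup.normalizer (P : Set G), n * c₁ * n⁻¹ = c₂ := by
  obtain ⟨x, hx⟩ := isConj_iff.1 (h₁.symm.trans h₂)
  obtain ⟨T, hT⟩ := exists_sylow_map_eq hP (le_centralizer_singleton hc₂) default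
    ((card_sylow_centralizer_conj h₂ S _).trans hS)
  have hxP : P.map (MulAut.conj x).toMonoidHom ≤ Subgroup.centralizer ({c₂} : Set G) :=
    le_centralizer_singleton (hx ▸ conj_mem_centralizer hc₁ x)
  obtain ⟨h, hh, hle⟩ := exists_conj_le_sylow (hP.map _) hxP T
  rw [hT, map_conj_map_conj] at hle
  refine ⟨h * x, ?_, ?_⟩
  · have heq : P.map (MulAut.conj (h * x)).toMonoidHom = P :=
      Subgroup.eq_of_le_of_card_ge hle (by rw [Base.card_map_conj])
    rw [Subgroup.mem_normalizer_iff]
    intro u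
    constructor
    · intro hu
      exact heq ▸ ⟨u, hu, rfl⟩
    · intro hu
      obtain ⟨v, hv, hvu⟩ := heq.ge hu
      have : v = u := (MulAut.conj (h * x)).injective hvu
      exact this ▸ hv
  · have hc := Subgroup.mem_centralizer_singleton_iff.1 hh
    calc h * x * c₁ * (h * x)⁻¹ = h * (x * c₁ * x⁻¹) * h⁻¹ := by group
      _ = h * c₂ * h⁻¹ := by rw [hx]
      _ = c₂ := by rw [hc, mul_inv_cancel_right]

/-- A Sylow subgroup `P` of `C(c) ∩ N(P)` is a Sylow subgroup of `C(c)`. -/
theorem exists_sylow_of_normalizer {P : Subgroup G} (hP : IsPGroup p P) {c : G}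
    (hc : c ∈ Subgroup.centralizer (P : Set G))
    (hmax : ∀ Q : Subgroup G, IsPGroup p Q → P ≤ Q →
      Q ≤ Subgroup.centralizer ({c} : Set G) ⊓ Subgroup.normalizer (P : Set G) → Q ≤ P) :
    ∃ S : Sylow p (Subgroup.centralizer ({c} : Set G)),
      (S : Subgroup (Subgroup.centralizer ({c} : Set G))).map
        (Subgroup.centralizer ({c} : Set G)).subtype = P := by
  set H := Subgroup.centralizer ({c} : Set G) with hH
  have hPH : P ≤ H := le_centralizer_singleton hc
  have hP' : IsPGroup p (P.subgroupOf H) := hP.of_equiv (Subgroup.subgroupOfEquivOfLe hPH).symm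
  obtain ⟨S, hS⟩ := hP'.exists_le_sylow
  refine ⟨S, ?_⟩
  set Q := (S : Subgroup H).map H.subtype with hQ
  have hPQ : P ≤ Q := fun u hu => ⟨⟨u, hPH hu⟩, hS (Subgroup.mem_subgroupOf.2 hu), rfl⟩
  have hQp : IsPGroup p Q := isPGroup_sylow_map H S
  refine le_antisymm ?_ hPQ
  by_contra hcon
  haveI : Group.IsNilpotent Q := hQp.isNilpotent
  have hne : P.subgroupOf Q < ⊤ :=
    lt_top_iff_ne_top.2 fun h => hcon (Subgroup.subgroupOf_eq_top.1 h)
  have hlt := Group.normalizerCondition_of_isNilpotent _ hne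
  obtain ⟨u, hu, huP⟩ := SetLike.exists_of_lt hlt
  apply huP
  rw [Subgroup.mem_subgroupOf]
  have hu' : (u : G) ∈ Subgroup.normalizer (P : Set G) := by
    have h1 := Subgroup.mem_normalizer_iff.1 hu
    rw [Subgroup.mem_normalizer_iff]
    intro v
    constructor
    · intro hv
      exact (h1 ⟨v, hPQ hv⟩).1 hv
    · intro hv
      have hvQ : v ∈ Q := by
        have := Q.mul_mem (Q.mul_mem (Q.inv_mem u.2) (hPQ hv)) u.2
        simpa [mul_assoc] using this
      exact (h1 ⟨v, hvQ⟩).2 hv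
  set R := P ⊔ Subgroup.zpowers (u : G)
  have hRQ : R ≤ Q := sup_le hPQ (Subgroup.zpowers_le.2 u.2)
  exact hmax R (hQp.to_le hRQ) le_sup_left
    (sup_le (le_inf hPH Subgroup.le_normalizer)
      (Subgroup.zpowers_le.2 ⟨(Subgroup.map_subtype_le _) u.2, hu'⟩))
    (Subgroup.mem_sup_right (Subgroup.mem_zpowers (u : G)))

end CfsgLib.Blocks
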