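import Cfsg.Agent.Lib.Blocks.Induced
import Cfsg.Agent.Lib.Blocks.SylowClasses

/-!
# The Brauer correspondence and the first main theorem
-/

set_option linter.unusedSectionVars false
set_option linter.style.haveILetI false

namespace CfsgLib.Blocks

open Cfsg Chars

variable {G : Type*} [Group G] [Fintype G] {M : Ideal AlgInt} [M.IsPrime] {p : ℕ} [Fact p.Prime]

/-- If the idempotent of `B` is a unit somewhere on `C(P)`, so is every class function whose value
at `B` is a unit. -/
theorem exists_unit_mem_centralizer (hpM : (p : AlgInt) ∈ M) {B : Set (IrrCharacter G)}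
    (hB : IsPBlock M B) {P : Subgroup G} (hP : IsPGroup p P) {c : G}
    (hc : c ∈ Subgroup.centralizer (P : Set G)) (hcoef : ¬ MemLocalIdeal M (blockCoeff B c))
    {a : G → ℂ} (ha : IsLocClassFun M a) {χ : IrrCharacter G} (hχ : χ ∈ B)
    (hu : ¬ MemLocalIdeal M (omega (χ : G → ℂ) a)) :
    ∃ c' ∈ Subgroup.centralizer (P : Set G), ¬ MemLocalIdeal M (a c') := by
  by_contra hcon
  simp only [not_exists, not_and, not_not] at hcon
  haveI := charP_resField (M := M) (Fact.out (p := p.Prime)) hpM
  set C := Subgroup.centralizer (P : Set G)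
  obtain ⟨w, hw, hE⟩ := exists_blockIdem_eq_mul hB ha hχ hu
  have hcutA : cut (C : Set G) (redFun a ha.2) = 0 := by
    apply MonoidAlgebra.ext
    ext x
    by_cases hx : x ∈ C
    · rw [coeff_cut_of_mem _ hx, MonoidAlgebra.coeff_zero, Finsupp.coe_zero, Pi.zero_apply,
        coeff_redFun_eq_zero_iff]
      exact hcon x hx
    · rw [coeff_cut_of_notMem _ hx]; simp
  have hwfix : IsFixedBy P w := isFixedBy_iff_commute.2 fun _ _ => hw _
  have h0 : cut (C : Set G) (blockIdem hB) = 0 := by
    rw [hE, cut_mul p hP ((isFixedBy_blockIdem hB P).mul (isFixedBy_redFun ha P)) hwfix,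
      cut_mul p hP (isFixedBy_blockIdem hB P) (isFixedBy_redFun ha P), hcutA, mul_zero, zero_mul]
  apply hcoef
  rw [← coeff_blockIdem_eq_zero_iff hB, ← coeff_cut_of_mem (blockIdem hB) hc, h0]
  simp

/-- Every defect group of `b` is contained in a defect group of an induced block. -/
theorem IsInducedBlock.exists_defect_le (hpM : (p : AlgInt) ∈ M) {H : Subgroup G}
    {b : Set (IrrCharacter H)} {B : Set (IrrCharacter G)} (h : IsInducedBlock M H b B)
    {D : Subgroup H} (hD : IsDefectGroup p M b D) :
    ∃ E : Subgroup G, IsDefectGroup p M B E ∧ D.map H.subtype ≤ E := by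
  classical
  haveI := Fintype.ofFinite H
  obtain ⟨g, hg, P, rfl⟩ := hD
  obtain ⟨ξ, hξ⟩ := IsPBlock.nonempty h.1
  obtain ⟨χ, hχ⟩ := IsPBlock.nonempty h.2.1
  have he : IsLocClassFun M (blockCoeff B) := isLocClassFun_blockCoeff h.2.1
  have hu : ¬ MemLocalIdeal M (omega (ξ : H → ℂ) (resFun H (blockCoeff B))) := fun hm => by
    have h1 := MemLocalIdeal.sub' hm (IsInducedBlock.omega_sub h hξ hχ he)
    rw [sub_sub_cancel, omega_blockCoeff, if_pos hχ] at h1
    exact not_memLocalIdeal_one h1
  obtain ⟨c, hc, hcn⟩ := exists_unit_mem_centralizer hpM h.1 (isPGroup_sylow_map _ P)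
    (mem_centralizer_sylow g P) hg.2.1 (isLocClassFun_resFun H he) hξ hu
  set Q := ((P : Subgroup (Subgroup.centralizer ({g} : Set H))).map
    (Subgroup.centralizer ({g} : Set H)).subtype).map H.subtype
  have hQ : IsPGroup p Q := (isPGroup_sylow_map _ P).map _
  have hcQ : (c : G) ∈ Subgroup.centralizer (Q : Set G) := by
    rw [Subgroup.mem_centralizer_iff]
    rintro _ ⟨u, hu, rfl⟩
    exact congrArg Subtype.val (Subgroup.mem_centralizer_iff.1 hc u hu)
  obtain ⟨E, hE⟩ := exists_isDefectGroup (p := p) h.2.1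
  obtain ⟨x, hx⟩ := IsDefectGroup.exists_map_conj_le hpM h.2.1 hE hQ hcQ hcn
  refine ⟨_, IsDefectGroup.map_conj hE x⁻¹ h.2.1, fun u hu => ?_⟩
  exact ⟨_, hx ⟨u, hu, rfl⟩, by simp [mul_assoc]⟩

/-- A block whose idempotent does not vanish on `C(P)` modulo `M` is induced from a block of any
`H` with `P C(P) ≤ H ≤ N(P)`. -/
theorem exists_block_inducing (hpM : (p : AlgInt) ∈ M) {P H : Subgroup G} (hP : IsPGroup p P)
    (hPH : P ≤ H) (hCH : Subgroup.centralizer (P : Set G) ≤ H)
    (hHN : H ≤ Subgroup.normalizer (P : Set G)) {B : Set (IrrCharacter G)} (hB : IsPBlock M B)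
    {c : G} (hc : c ∈ Subgroup.centralizer (P : Set G))
    (hcoef : ¬ MemLocalIdeal M (blockCoeff B c)) :
    ∃ b : Set (IrrCharacter H), IsInducedBlock M H b B := by
  classical
  haveI := Fintype.ofFinite H
  haveI := charP_resField (M := M) (Fact.out (p := p.Prime)) hpM
  have he : IsLocClassFun M (blockCoeff B) := isLocClassFun_blockCoeff hB
  have hbr : IsLocClassFun M (brFun P H (blockCoeff B)) := isLocClassFun_brFun hHN he
  obtain ⟨ξ, hξ⟩ : ∃ ξ : IrrCharacter H,
      ¬ MemLocalIdeal M (omega (ξ : H → ℂ) (brFun P H (blockCoeff B))) := by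
    by_contra hcon
    simp only [not_exists, not_not] at hcon
    obtain ⟨n, hn⟩ := isNilpotent_redFun hbr hcon
    have hidem : redFun (brFun P H (blockCoeff B)) hbr.2 * redFun (brFun P H (blockCoeff B)) hbr.2 =
        redFun (brFun P H (blockCoeff B)) hbr.2 := by
      rw [redFun, ← map_mul, toAlg_conv hbr.2 hbr.2 (hbr.conv hbr).2]
      apply MonoidAlgebra.ext
      ext u
      rw [← redFun, ← redFun, coeff_redFun, coeff_redFun, ← sub_eq_zero, ← map_sub, red_eq_zero_iff]
      have h1 := brFun_conv hpM hP hCH he he u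
      rw [conv_blockCoeff_self] at h1
      simpa using MemLocalIdeal.neg' h1
    have hpow : ∀ m, redFun (brFun P H (blockCoeff B)) hbr.2 ^ (m + 1) =
        redFun (brFun P H (blockCoeff B)) hbr.2 := by
      intro m
      induction m with
      | zero => simp
      | succ m ih => rw [pow_succ, ih, hidem]
    have h0 : redFun (brFun P H (blockCoeff B)) hbr.2 = 0 := by
      rw [← hpow n, pow_succ, hn, zero_mul]
    apply hcoef
    have hz : (redFun (brFun P H (blockCoeff B)) hbr.2).coeff ⟨c, hCH hc⟩ = 0 := by rw [h0]; simp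
    rwa [coeff_redFun_eq_zero_iff, brFun_of_mem (h := ⟨c, hCH hc⟩) _ hc] at hz
  have hb := isPBlock_blockOf (M := M) ξ
  obtain ⟨B', hind⟩ := exists_isInducedBlock hpM hP hPH hCH hHN hb
  refine ⟨blockOf M (ξ : H → ℂ), ?_⟩
  suffices B' = B from this ▸ hind
  obtain ⟨ψ, hψ⟩ := IsPBlock.nonempty hind.2.1
  by_contra hne
  have h1 := MemLocalIdeal.sub' (IsInducedBlock.omega_sub hind (mem_blockOf_self ξ) hψ he)
    (omega_res_sub_br_mem hpM hP hPH hHN he ξ)
  rw [omega_blockCoeff, if_neg (fun h' => hne (IsPBlock.eq_of_mem hind.2.1 hB hψ h')), sub_zero,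
    sub_sub_cancel] at h1
  exact hξ h1

/-- With a normal `p`-subgroup `P`, block idempotents are supported on `C(P)` modulo `M`. -/
theorem blockCoeff_mem_of_notMem_centralizer (hpM : (p : AlgInt) ∈ M) {B : Set (IrrCharacter G)}
    (hB : IsPBlock M B) {P : Subgroup G} [P.Normal] (hP : IsPGroup p P) {g : G}
    (hg : g ∉ Subgroup.centralizer (P : Set G)) : MemLocalIdeal M (blockCoeff B g) := by
  classical
  haveI := charP_resField (M := M) (Fact.out (p := p.Prime)) hpM
  set C := Subgroup.centralizer (P : Set G)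
  set E := blockIdem hB with hEdef
  set F := cut (C : Set G) E with hFdef
  have hEE : E * E = E := blockIdem_mul_self hB
  have hFF : F * F = F := by rw [hFdef, ← cut_mul p hP (isFixedBy_blockIdem hB P)
    (isFixedBy_blockIdem hB P), hEE]
  have hEF : E * F = F * E := (commute_blockIdem hB F).eq
  have hFfix : IsFixedBy P F := by
    intro u hu x
    by_cases hx : x ∈ C
    · rw [coeff_cut_of_mem _ hx, coeff_cut_of_mem _ ((conj_mem_centralizer_iff
        (Subgroup.le_normalizer hu) x).2 hx), isFixedBy_blockIdem hB P u hu x]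
    · rw [coeff_cut_of_notMem _ hx, coeff_cut_of_notMem _ (mt (conj_mem_centralizer_iff
        (Subgroup.le_normalizer hu) x).1 hx)]
  set X := E - F with hX
  obtain ⟨n, hn⟩ : IsNilpotent X := isNilpotent_of_vanish_centralizer hP
    (fun u hu x => by
      rw [hX, MonoidAlgebra.coeff_sub, Finsupp.sub_apply, Finsupp.sub_apply,
        isFixedBy_blockIdem hB P u hu x, hFfix u hu x])
    (fun c hc => by
      rw [hX, MonoidAlgebra.coeff_sub, Finsupp.sub_apply, coeff_cut_of_mem _ hc, sub_self])
  have h3 : X * X * X = X := by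
    have e1 : X * X = E - E * F - E * F + F := by
      rw [hX, sub_mul, mul_sub, mul_sub, hEE, hFF, hEF]; abel
    have e2 : (E - E * F - E * F + F) * X = E - F := by
      rw [hX]
      simp only [add_mul, sub_mul, mul_sub, hEE, hFF, mul_assoc]
      rw [← hEF, ← mul_assoc E E F, hEE]
      abel
    rw [e1, e2]
  have hX0 : X = 0 := by
    have hm : ∀ m, X ^ (2 * m + 1) = X := by
      intro m
      induction m with
      | zero => simp
      | succ m ih =>
        rw [show 2 * (m + 1) + 1 = (2 * m + 1) + 2 by ring, pow_add, ih, sq, ← mul_assoc, h3]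
    rw [← hm n, show 2 * n + 1 = n + (n + 1) by ring, pow_add, hn, zero_mul]
  rw [← coeff_blockIdem_eq_zero_iff hB]
  have := congrArg (fun e => MonoidAlgebra.coeff e g) hX0
  simpa [hX, hFdef, coeff_cut_of_notMem _ hg] using this

/-! ## The first main theorem -/

variable {D : Subgroup G}

theorem map_subtype_subgroupOf (D : Subgroup G) :
    (D.subgroupOf (Subgroup.normalizer (D : Set G))).map
      (Subgroup.normalizer (D : Set G)).subtype = D :=
  (Subgroup.subgroupOf_map_subtype _ _).trans (inf_eq_left.2 Subgroup.le_normalizer)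

/-- Where the idempotent of a block of `N(D)` with defect group `D` is a unit. -/
theorem support_of_defect (hpM : (p : AlgInt) ∈ M) (hD : IsPGroup p D)
    [Fintype (Subgroup.normalizer (D : Set G))]
    {b : Set (IrrCharacter (Subgroup.normalizer (D : Set G)))} (hb : IsPBlock M b)
    (hdef : IsDefectGroup p M b (D.subgroupOf (Subgroup.normalizer (D : Set G))))
    {h : Subgroup.normalizer (D : Set G)} (hu : ¬ MemLocalIdeal M (blockCoeff b h)) :
    (h : G) ∈ Subgroup.centralizer (D : Set G) ∧
      ∃ S : Sylow p (Subgroup.centralizer ({(h : G)} : Set G)),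
        (S : Subgroup (Subgroup.centralizer ({(h : G)} : Set G))).map
          (Subgroup.centralizer ({(h : G)} : Set G)).subtype = D := by
  haveI : (D.subgroupOf (Subgroup.normalizer (D : Set G))).Normal :=
    (Subgroup.normal_subgroupOf_iff_le_normalizer Subgroup.le_normalizer).2 le_rfl
  have hDn : IsPGroup p (D.subgroupOf (Subgroup.normalizer (D : Set G))) :=
    hD.of_equiv (Subgroup.subgroupOfEquivOfLe Subgroup.le_normalizer).symm
  have hC : (h : G) ∈ Subgroup.centralizer (D : Set G) := by
    by_contra hcon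
    refine hu (blockCoeff_mem_of_notMem_centralizer hpM hb hDn fun h' => hcon ?_)
    rw [Subgroup.mem_centralizer_iff] at h' ⊢
    intro u hu'
    exact congrArg Subtype.val (h' ⟨u, Subgroup.le_normalizer hu'⟩ (Subgroup.mem_subgroupOf.2 hu'))
  refine ⟨hC, exists_sylow_of_normalizer hD hC fun Q hQ hDQ hQle => ?_⟩
  have hQN : Q ≤ Subgroup.normalizer (D : Set G) := hQle.trans inf_le_right
  have hQn : IsPGroup p (Q.subgroupOf (Subgroup.normalizer (D : Set G))) :=
    hQ.of_equiv (Subgroup.subgroupOfEquivOfLe hQN).symm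
  have hc : h ∈ Subgroup.centralizer
      ((Q.subgroupOf (Subgroup.normalizer (D : Set G))) : Set (Subgroup.normalizer (D : Set G))) := by
    rw [Subgroup.mem_centralizer_iff]
    intro u hu'
    exact Subtype.ext (Subgroup.mem_centralizer_singleton_iff.1
      ((hQle.trans inf_le_left) (Subgroup.mem_subgroupOf.1 hu')))
  obtain ⟨x, hx⟩ := IsDefectGroup.exists_map_conj_le hpM hb hdef hQn hc hu
  have hcard := card_le_of_map_conj_le hx
  rw [Base.card_subgroupOf hQN, Base.card_subgroupOf Subgroup.le_normalizer] at hcard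
  exact (Subgroup.eq_of_le_of_card_ge hDQ hcard).ge

/-- At the support of such a block, the Brauer map sends class sums to class sums. -/
theorem brFun_classInd_of_sylow (hD : IsPGroup p D) {h : Subgroup.normalizer (D : Set G)}
    [Fintype (Subgroup.normalizer (D : Set G))]
    (hC : (h : G) ∈ Subgroup.centralizer (D : Set G))
    {S : Sylow p (Subgroup.centralizer ({(h : G)} : Set G))}
    (hS : (S : Subgroup (Subgroup.centralizer ({(h : G)} : Set G))).map
      (Subgroup.centralizer ({(h : G)} : Set G)).subtype = D) :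
    brFun D (Subgroup.normalizer (D : Set G)) (classInd (h : G)) = classInd h := by
  have hcard : Nat.card S ≤ Nat.card D := le_of_eq (by
    conv_rhs => rw [← hS]
    rw [Base.card_map_subtype])
  funext u
  by_cases hu : IsConj h u
  · obtain ⟨n, rfl⟩ := isConj_iff.1 hu
    rw [brFun_of_mem _ (by push_cast; exact (conj_mem_centralizer_iff n.2 _).2 hC), classInd_apply,
      classInd_apply, if_pos hu, if_pos (isConj_iff.2 ⟨(n : G), by push_cast; rfl⟩)]
  · rw [classInd_apply h, if_neg hu]
    by_cases hc : (u : G) ∈ Subgroup.centralizer (D : Set G)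
    · rw [brFun_of_mem _ hc, classInd_apply, if_neg]
      intro hconj
      obtain ⟨n, hn, hnh⟩ := exists_normalizer_conj hD hcard (IsConj.refl _) hconj hC hc
      exact hu (isConj_iff.2 ⟨⟨n, hn⟩, Subtype.ext (by push_cast; exact hnh)⟩)
    · rw [brFun_of_notMem _ hc]

theorem centralChar_sub_of_induced (hpM : (p : AlgInt) ∈ M) (hD : IsPGroup p D)
    [Fintype (Subgroup.normalizer (D : Set G))]
    {b : Set (IrrCharacter (Subgroup.normalizer (D : Set G)))} {B : Set (IrrCharacter G)}
    (hind : IsInducedBlock M (Subgroup.normalizer (D : Set G)) b B)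
    {h : Subgroup.normalizer (D : Set G)}
    (hC : (h : G) ∈ Subgroup.centralizer (D : Set G))
    {S : Sylow p (Subgroup.centralizer ({(h : G)} : Set G))}
    (hS : (S : Subgroup (Subgroup.centralizer ({(h : G)} : Set G))).map
      (Subgroup.centralizer ({(h : G)} : Set G)).subtype = D)
    {ξ : IrrCharacter (Subgroup.normalizer (D : Set G))} (hξ : ξ ∈ b) {χ : IrrCharacter G}
    (hχ : χ ∈ B) :
    MemLocalIdeal M (centralChar (ξ : Subgroup.normalizer (D : Set G) → ℂ) h -
      centralChar (χ : G → ℂ) (h : G)) := by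
  have h1 := omega_res_sub_br_mem hpM hD Subgroup.le_normalizer le_rfl
    (isLocClassFun_classInd (M := M) (h : G)) ξ
  have h2 := IsInducedBlock.omega_sub hind hξ hχ (isLocClassFun_classInd (h : G))
  rw [brFun_classInd_of_sylow hD hC hS] at h1
  rw [← omega_classInd, ← omega_classInd]
  have := MemLocalIdeal.sub' h2 h1
  rwa [sub_sub_sub_cancel_left] at this

/-- First main theorem: the induced block has defect group `D`. -/
theorem first_main_induced (hpM : (p : AlgInt) ∈ M) (hD : IsPGroup p D)
    {b : Set (IrrCharacter (Subgroup.normalizer (D : Set G)))} (hb : IsPBlock M b)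
    (hdef : IsDefectGroup p M b (D.subgroupOf (Subgroup.normalizer (D : Set G)))) :
    ∃ B : Set (IrrCharacter G), IsPBlock M B ∧ IsDefectGroup p M B D ∧
      IsInducedBlock M (Subgroup.normalizer (D : Set G)) b B := by
  haveI := Fintype.ofFinite (Subgroup.normalizer (D : Set G))
  obtain ⟨B, hind⟩ := exists_isInducedBlock hpM hD Subgroup.le_normalizer
    (Subgroup.centralizer_le_normalizer _) le_rfl hb
  refine ⟨B, hind.2.1, ?_, hind⟩
  obtain ⟨E, hE, hle⟩ := IsInducedBlock.exists_defect_le hpM hind hdef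
  rw [map_subtype_subgroupOf] at hle
  obtain ⟨g, hg, -⟩ := id hdef
  obtain ⟨hC, S, hS⟩ := support_of_defect hpM hD hb hdef hg.2.1
  obtain ⟨ξ, hξ⟩ := IsPBlock.nonempty hb
  obtain ⟨χ, hχ⟩ := IsPBlock.nonempty hind.2.1
  have hu : ¬ MemLocalIdeal M (centralChar (χ : G → ℂ) (g : G)) := fun hm => hg.2.2 ξ hξ (by
    have := MemLocalIdeal.add' (centralChar_sub_of_induced hpM hD hind hC hS hξ hχ) hm
    rwa [sub_add_cancel] at this)
  obtain ⟨g', hgg', hg'⟩ := IsDefectGroup.exists_conj_mem_centralizer hpM hind.2.1 hE hχ hu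
  obtain ⟨x, hx⟩ := exists_conj_le_of_centralizes (IsDefectGroup.isPGroup hE) hgg' hg' S
  rw [hS] at hx
  rwa [Subgroup.eq_of_le_of_card_ge hle (card_le_of_map_conj_le hx)]

/-- First main theorem: uniqueness. -/
theorem first_main_unique (hpM : (p : AlgInt) ∈ M) (hD : IsPGroup p D)
    {b b' : Set (IrrCharacter (Subgroup.normalizer (D : Set G)))} {B : Set (IrrCharacter G)}
    (h : IsInducedBlock M (Subgroup.normalizer (D : Set G)) b B)
    (h' : IsInducedBlock M (Subgroup.normalizer (D : Set G)) b' B)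
    (hdef : IsDefectGroup p M b (D.subgroupOf (Subgroup.normalizer (D : Set G)))) : b = b' := by
  classical
  haveI := Fintype.ofFinite (Subgroup.normalizer (D : Set G))
  haveI := Fintype.ofFinite (ConjClasses (Subgroup.normalizer (D : Set G)))
  obtain ⟨ξ, hξ⟩ := IsPBlock.nonempty h.1
  obtain ⟨ξ', hξ'⟩ := IsPBlock.nonempty h'.1
  obtain ⟨χ, hχ⟩ := IsPBlock.nonempty h.2.1
  have he := isLocClassFun_blockCoeff h.1
  have key : MemLocalIdeal M (omega (ξ : Subgroup.normalizer (D : Set G) → ℂ) (blockCoeff b) -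
      omega (ξ' : Subgroup.normalizer (D : Set G) → ℂ) (blockCoeff b)) := by
    rw [omega_eq_sum_centralChar ξ he.1, omega_eq_sum_centralChar ξ' he.1, ← Finset.sum_sub_distrib]
    refine MemLocalIdeal.sum' fun C _ => ?_
    rw [← mul_sub]
    by_cases hu : MemLocalIdeal M (blockCoeff b (classRep C))
    · exact MemLocalIdeal.mul_right' hu
        (sub_mem (centralChar_mem_loc ξ _) (centralChar_mem_loc ξ' _))
    · obtain ⟨hC, S, hS⟩ := support_of_defect hpM hD h.1 hdef hu
      refine MemLocalIdeal.mul_left' (he.2 _) ?_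
      have := MemLocalIdeal.sub' (centralChar_sub_of_induced hpM hD h hC hS hξ hχ)
        (centralChar_sub_of_induced hpM hD h' hC hS hξ' hχ)
      rwa [sub_sub_sub_cancel_right] at this
  rw [omega_blockCoeff, omega_blockCoeff, if_pos hξ] at key
  by_cases hm : ξ' ∈ b
  · exact IsPBlock.eq_of_mem h.1 h'.1 hm hξ'
  · rw [if_neg hm, sub_zero] at key
    exact absurd key not_memLocalIdeal_one

/-- First main theorem: existence. -/
theorem first_main_exists (hpM : (p : AlgInt) ∈ M) {B : Set (IrrCharacter G)} (hB : IsPBlock M B)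
    (hdef : IsDefectGroup p M B D) :
    ∃ b : Set (IrrCharacter (Subgroup.normalizer (D : Set G))), IsPBlock M b ∧
      IsDefectGroup p M b (D.subgroupOf (Subgroup.normalizer (D : Set G))) ∧
      IsInducedBlock M (Subgroup.normalizer (D : Set G)) b B := by
  haveI := Fintype.ofFinite (Subgroup.normalizer (D : Set G))
  have hD := IsDefectGroup.isPGroup hdef
  obtain ⟨g, hg, S, hS⟩ := id hdef
  obtain ⟨b, hind⟩ := exists_block_inducing hpM hD Subgroup.le_normalizer
    (Subgroup.centralizer_le_normalizer _) le_rfl hB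
    (hS ▸ mem_centralizer_sylow g S) hg.2.1
  refine ⟨b, hind.1, ?_, hind⟩
  obtain ⟨E, hE⟩ := exists_isDefectGroup (p := p) hind.1
  haveI : (D.subgroupOf (Subgroup.normalizer (D : Set G))).Normal :=
    (Subgroup.normal_subgroupOf_iff_le_normalizer Subgroup.le_normalizer).2 le_rfl
  have hle := IsDefectGroup.normal_le hpM hind.1 hE
    (hD.of_equiv (Subgroup.subgroupOfEquivOfLe Subgroup.le_normalizer).symm)
  obtain ⟨F, hF, hEF⟩ := IsInducedBlock.exists_defect_le hpM hind hE
  obtain ⟨x, hx⟩ := IsDefectGroup.exists_conj_eq hpM hB hF hdef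
  have hcard : Nat.card E ≤ Nat.card (D.subgroupOf (Subgroup.normalizer (D : Set G))) := by
    rw [Base.card_subgroupOf Subgroup.le_normalizer, ← Base.card_map_subtype E]
    exact (Subgroup.card_le_of_le hEF).trans (card_le_of_map_conj_le hx.le)
  rwa [Subgroup.eq_of_le_of_card_ge hle hcard]

end CfsgLib.Blocks
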