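import Cfsg.Agent.Lib.Blocks.OrbitSum

/-!
# The Brauer homomorphism on group rings in characteristic `p`
-/

set_option linter.unusedSectionVars false
set_option linter.style.haveILetI false

namespace CfsgLib.Blocks

variable {k G : Type*} [CommRing k] [Group G]

/-- Invariance of the coefficients under conjugation by a subgroup. -/
def IsFixedBy (P : Subgroup G) (f : MonoidAlgebra k G) : Prop :=
  ∀ u ∈ P, ∀ g, f.coeff (u * g * u⁻¹) = f.coeff g

/-- Keep only the coefficients on a set. -/
noncomputable def cut (S : Set G) (f : MonoidAlgebra k G) : MonoidAlgebra k G := by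
  classical exact MonoidAlgebra.ofCoeff (f.coeff.filter (· ∈ S))

open scoped Classical in
theorem coeff_cut (S : Set G) (f : MonoidAlgebra k G) (g : G) :
    (cut S f).coeff g = if g ∈ S then f.coeff g else 0 := by
  simp [cut, Finsupp.filter_apply]

theorem coeff_cut_of_mem {S : Set G} (f : MonoidAlgebra k G) {g : G} (h : g ∈ S) :
    (cut S f).coeff g = f.coeff g := by
  classical rw [coeff_cut, if_pos h]

theorem coeff_cut_of_notMem {S : Set G} (f : MonoidAlgebra k G) {g : G} (h : g ∉ S) :
    (cut S f).coeff g = 0 := by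
  classical rw [coeff_cut, if_neg h]

theorem cut_eq_self_iff {S : Set G} {f : MonoidAlgebra k G} :
    cut S f = f ↔ ∀ g ∉ S, f.coeff g = 0 := by
  constructor
  · intro h g hg
    rw [← h, coeff_cut_of_notMem f hg]
  · intro h
    apply MonoidAlgebra.ext
    ext g
    by_cases hg : g ∈ S
    · rw [coeff_cut_of_mem f hg]
    · rw [coeff_cut_of_notMem f hg, h g hg]

theorem cut_add (S : Set G) (f h : MonoidAlgebra k G) : cut S (f + h) = cut S f + cut S h := by
  apply MonoidAlgebra.ext
  ext g
  by_cases hg : g ∈ S <;> simp [coeff_cut_of_mem, coeff_cut_of_notMem, hg]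

theorem cut_smul (S : Set G) (c : k) (f : MonoidAlgebra k G) : cut S (c • f) = c • cut S f := by
  apply MonoidAlgebra.ext
  ext g
  by_cases hg : g ∈ S <;> simp [coeff_cut_of_mem, coeff_cut_of_notMem, hg]

theorem cut_zero (S : Set G) : cut S (0 : MonoidAlgebra k G) = 0 := by
  apply MonoidAlgebra.ext
  ext g
  by_cases hg : g ∈ S <;> simp [coeff_cut_of_mem, coeff_cut_of_notMem, hg]

theorem cut_one (H : Subgroup G) : cut (H : Set G) (1 : MonoidAlgebra k G) = 1 := by
  rw [cut_eq_self_iff]
  intro g hg
  rw [MonoidAlgebra.one_def, MonoidAlgebra.coeff_single, Finsupp.single_eq_of_ne]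
  rintro rfl
  exact hg H.one_mem

theorem cut_sum {ι : Type*} (S : Set G) (s : Finset ι) (f : ι → MonoidAlgebra k G) :
    cut S (∑ i ∈ s, f i) = ∑ i ∈ s, cut S (f i) := by
  classical
  induction s using Finset.induction with
  | empty => simp [cut_zero]
  | insert i s hi ih => rw [Finset.sum_insert hi, Finset.sum_insert hi, cut_add, ih]

theorem cut_cut (S T : Set G) (f : MonoidAlgebra k G) : cut S (cut T f) = cut (S ∩ T) f := by
  apply MonoidAlgebra.ext
  ext g
  by_cases hg : g ∈ S <;> by_cases hg' : g ∈ T <;>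
    simp [coeff_cut_of_mem, coeff_cut_of_notMem, hg, hg']

theorem isFixedBy_iff_commute {P : Subgroup G} {f : MonoidAlgebra k G} :
    IsFixedBy P f ↔ ∀ u ∈ P, Commute f (MonoidAlgebra.single u 1) := by
  constructor
  · intro h u hu
    apply MonoidAlgebra.ext
    ext g
    have h1 := h u hu (u⁻¹ * g)
    rw [mul_inv_cancel_left] at h1
    simp [h1]
  · intro h u hu g
    have h1 := congrArg (fun e => MonoidAlgebra.coeff e (u * g)) (h u hu).eq
    simpa using h1

theorem IsFixedBy.mul {P : Subgroup G} {f h : MonoidAlgebra k G} (hf : IsFixedBy P f)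
    (hh : IsFixedBy P h) : IsFixedBy P (f * h) := by
  rw [isFixedBy_iff_commute] at *
  exact fun u hu => (hf u hu).mul_left (hh u hu)

theorem IsFixedBy.one {P : Subgroup G} : IsFixedBy P (1 : MonoidAlgebra k G) := by
  rw [isFixedBy_iff_commute]
  exact fun u _ => Commute.one_left _

theorem IsFixedBy.pow {P : Subgroup G} {f : MonoidAlgebra k G} (hf : IsFixedBy P f) (n : ℕ) :
    IsFixedBy P (f ^ n) := by
  rw [isFixedBy_iff_commute] at *
  exact fun u hu => (hf u hu).pow_left n

theorem IsFixedBy.smul {P : Subgroup G} {f : MonoidAlgebra k G} (hf : IsFixedBy P f) (c : k) :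
    IsFixedBy P (c • f) := fun u hu g => by simp [hf u hu g]

theorem IsFixedBy.mono {P Q : Subgroup G} (hPQ : Q ≤ P) {f : MonoidAlgebra k G}
    (hf : IsFixedBy P f) : IsFixedBy Q f := fun u hu => hf u (hPQ hu)

variable [Fintype G]

theorem coeff_mul_eq_sum (f h : MonoidAlgebra k G) (x : G) :
    (f * h).coeff x = ∑ y, f.coeff y * h.coeff (y⁻¹ * x) := by
  classical
  have hf : f = ∑ g, MonoidAlgebra.single g (f.coeff g) := by
    apply MonoidAlgebra.ext
    ext g
    simp
  conv_lhs => rw [hf, Finset.sum_mul]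
  simp only [MonoidAlgebra.coeff_sum, Finsupp.finsetSum_apply]
  exact Finset.sum_congr rfl fun y _ => by simp

/-- **The Brauer homomorphism is multiplicative.** -/
theorem cut_mul (p : ℕ) [Fact p.Prime] [CharP k p] {P : Subgroup G} (hP : IsPGroup p P)
    {f h : MonoidAlgebra k G} (hf : IsFixedBy P f) (hh : IsFixedBy P h) :
    cut (Subgroup.centralizer (P : Set G) : Set G) (f * h) =
      cut (Subgroup.centralizer (P : Set G) : Set G) f *
        cut (Subgroup.centralizer (P : Set G) : Set G) h := by
  classical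
  set C := Subgroup.centralizer (P : Set G) with hC
  apply MonoidAlgebra.ext
  ext c
  by_cases hc : c ∈ C
  · rw [coeff_cut_of_mem _ hc, coeff_mul_eq_sum, coeff_mul_eq_sum]
    letI : MulAction P G := MulAction.compHom G
      ((ConjAct.toConjAct : G ≃* ConjAct G).toMonoidHom.comp P.subtype)
    have hsmul : ∀ (u : P) (y : G), u • y = (u : G) * y * (u : G)⁻¹ := fun u y => by
      show ConjAct.toConjAct (u : G) • y = _
      rw [ConjAct.toConjAct_smul]
    have hfixed : ∀ y : G, y ∈ MulAction.fixedPoints P G ↔ y ∈ C := by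
      intro y
      rw [hC, Subgroup.mem_centralizer_iff]
      constructor
      · intro hy u hu
        have := hy ⟨u, hu⟩
        rw [hsmul] at this
        exact mul_inv_eq_iff_eq_mul.1 this
      · intro hy u
        rw [hsmul, mul_inv_eq_iff_eq_mul]
        exact hy u u.2
    rw [sum_eq_sum_fixedPoints p hP (fun y => f.coeff y * h.coeff (y⁻¹ * c))]
    · rw [← Finset.sum_filter_add_sum_filter_not Finset.univ (fun y => y ∈ MulAction.fixedPoints P G)
        (fun y => (cut (C : Set G) f).coeff y * (cut (C : Set G) h).coeff (y⁻¹ * c))]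
      rw [Finset.sum_eq_zero (s := Finset.filter (fun y => ¬ _) _) (fun y hy => by
        rw [coeff_cut_of_notMem _ (fun h' => (Finset.mem_filter.1 hy).2 ((hfixed y).2 h')), zero_mul]),
        add_zero]
      refine Finset.sum_congr rfl fun y hy => ?_
      have hyC := (hfixed y).1 (Finset.mem_filter.1 hy).2
      rw [coeff_cut_of_mem _ hyC, coeff_cut_of_mem _ (C.mul_mem (C.inv_mem hyC) hc)]
    · intro u y
      rw [hsmul, hf u u.2]
      congr 1
      have h1 : ((u : G) * y * (u : G)⁻¹)⁻¹ * c = (u : G) * (y⁻¹ * c) * (u : G)⁻¹ := by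
        have hcu : c * (u : G) = (u : G) * c := (Subgroup.mem_centralizer_iff.1 hc u u.2).symm
        have hcu' : c = (u : G) * c * (u : G)⁻¹ := by rw [← hcu, mul_inv_cancel_right]
        conv_lhs => rw [hcu']
        group
      rw [h1, hh u u.2]
  · rw [coeff_cut_of_notMem _ hc, coeff_mul_eq_sum]
    refine (Finset.sum_eq_zero fun y _ => ?_).symm
    by_cases hy : y ∈ C
    · have h' : y⁻¹ * c ∉ C := fun h' => hc (by
        have := C.mul_mem hy h'
        rwa [mul_inv_cancel_left] at this)
      rw [coeff_cut_of_notMem h h', mul_zero]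
    · rw [coeff_cut_of_notMem _ hy, zero_mul]

theorem cut_pow (p : ℕ) [Fact p.Prime] [CharP k p] {P : Subgroup G} (hP : IsPGroup p P)
    {f : MonoidAlgebra k G} (hf : IsFixedBy P f) (n : ℕ) :
    cut (Subgroup.centralizer (P : Set G) : Set G) (f ^ n) =
      cut (Subgroup.centralizer (P : Set G) : Set G) f ^ n := by
  induction n with
  | zero => rw [pow_zero, pow_zero, cut_one]
  | succ n ih => rw [pow_succ, cut_mul p hP (hf.pow n) hf, ih, pow_succ]

end CfsgLib.Blocks
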