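import Cfsg.Agent.Lib.Blocks.OrbitSum
import Cfsg.Agent.Lib.Blocks.BrauerHom

/-!
# Elements of a group algebra killed by a normal `p`-subgroup
-/

set_option linter.unusedSectionVars false
set_option linter.style.haveILetI false

namespace CfsgLib.Blocks

variable {k G : Type*} [Field k] [Group G] [Fintype G] {p : ℕ} [Fact p.Prime] [CharP k p]

/-- A nonzero module over a `p`-group algebra in characteristic `p` has a nonzero fixed vector. -/
theorem exists_fixed_ne_zero {P V : Type*} [Group P] [Finite P] [AddCommGroup V] [Module k V]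
    (hP : IsPGroup p P) (ρ : P →* Module.End k V) [Nontrivial V] :
    ∃ v : V, v ≠ 0 ∧ ∀ g, ρ g v = v := by
  classical
  haveI := Fintype.ofFinite P
  obtain ⟨v, hv⟩ := exists_ne (0 : V)
  set F : (P → ZMod p) → V := fun c => ∑ g, (ZMod.castHom dvd_rfl k (c g)) • ρ g v with hF
  let W := Set.range F
  haveI : Finite W := (Set.finite_range F).to_subtype
  have hmem : ∀ (g : P) (w : W), ρ g (w : V) ∈ W := by
    rintro g ⟨_, c, rfl⟩
    refine ⟨fun h => c (g⁻¹ * h), ?_⟩
    simp only [hF, map_sum, map_smul]
    rw [← Equiv.sum_comp (Equiv.mulLeft g)]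
    refine Finset.sum_congr rfl fun h _ => ?_
    simp
  letI : MulAction P W :=
    { smul := fun g w => ⟨ρ g w, hmem g w⟩
      one_smul := fun w => Subtype.ext (by show ρ 1 (w : V) = w; rw [map_one]; rfl)
      mul_smul := fun a b w => Subtype.ext (by
        show ρ (a * b) (w : V) = ρ a (ρ b (w : V)); rw [map_mul]; rfl) }
  have hadd : ∀ a b : V, a ∈ W → b ∈ W → a + b ∈ W := by
    rintro _ _ ⟨c, rfl⟩ ⟨d, rfl⟩
    refine ⟨c + d, ?_⟩
    simp [hF, add_smul, Finset.sum_add_distrib]
  have hvW : v ∈ W := ⟨Pi.single 1 1, by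
    simp only [hF]
    rw [Finset.sum_eq_single 1 (fun g _ hg => by simp [hg]) (by simp)]
    simp⟩
  -- `W` is a nontrivial `p`-group
  let A : AddSubgroup V :=
    { carrier := W
      zero_mem' := ⟨0, by simp [hF]⟩
      add_mem' := fun {a b} => hadd a b
      neg_mem' := fun {a} => by rintro ⟨c, rfl⟩; exact ⟨-c, by simp [hF]⟩ }
  have hdvd : p ∣ Nat.card W := by
    haveI : Finite A := inferInstanceAs (Finite W)
    have h1 : addOrderOf (⟨v, hvW⟩ : A) = p := by
      refine addOrderOf_eq_prime ?_ (fun h => hv (congrArg Subtype.val h))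
      apply Subtype.ext
      show p • v = 0
      rw [← Nat.cast_smul_eq_nsmul k, CharP.cast_eq_zero k p, zero_smul]
    exact h1 ▸ addOrderOf_dvd_natCard (⟨v, hvW⟩ : A)
  have h0 : (⟨0, A.zero_mem⟩ : W) ∈ MulAction.fixedPoints P W :=
    fun g => Subtype.ext (map_zero (ρ g))
  obtain ⟨w, hw, hne⟩ := hP.exists_fixed_point_of_prime_dvd_card_of_fixed_point _ hdvd h0
  exact ⟨w, fun h => hne (Subtype.ext h.symm), fun g => congrArg Subtype.val (hw g)⟩

/-- The descending series attached to a normal subgroup. -/
noncomputable def augSeries (k : Type*) [Field k] (P : Subgroup G) :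
    ℕ → Submodule k (MonoidAlgebra k G)
  | 0 => ⊤
  | n + 1 => Submodule.span k {x | ∃ u ∈ P, ∃ w ∈ augSeries k P n,
      (MonoidAlgebra.single u (1 : k) - 1) * w = x}

theorem augSeries_succ_le (P : Subgroup G) : ∀ n, augSeries k P (n + 1) ≤ augSeries k P n := by
  intro n
  induction n with
  | zero => exact le_top
  | succ n ih =>
    refine Submodule.span_mono ?_
    rintro x ⟨u, hu, w, hw, rfl⟩
    exact ⟨u, hu, w, ih hw, rfl⟩

theorem single_mul_mem_augSeries (P : Subgroup G) [P.Normal] :
    ∀ (n : ℕ) (g : G) (w : MonoidAlgebra k G), w ∈ augSeries k P n →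
      MonoidAlgebra.single g (1 : k) * w ∈ augSeries k P n := by
  intro n
  induction n with
  | zero => intro g w _; exact Submodule.mem_top
  | succ n ih =>
    intro g w hw
    have h : ∀ x, x ∈ augSeries k P (n + 1) →
        MonoidAlgebra.single g (1 : k) * x ∈ augSeries k P (n + 1) := by
      intro x hx
      refine Submodule.span_induction ?_ ?_ ?_ ?_ hx
      · rintro _ ⟨u, hu, v, hv, rfl⟩
        refine Submodule.subset_span ⟨g * u * g⁻¹, ‹P.Normal›.conj_mem u hu g,
          MonoidAlgebra.single g (1 : k) * v, ih g v hv, ?_⟩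
        rw [← mul_assoc, ← mul_assoc, sub_mul, mul_sub, one_mul, mul_one,
          MonoidAlgebra.single_mul_single, MonoidAlgebra.single_mul_single]
        simp
      · simp
      · intro a b _ _ ha hb; rw [mul_add]; exact Submodule.add_mem _ ha hb
      · intro c a _ ha; rw [mul_smul_comm]; exact Submodule.smul_mem _ _ ha
    exact h w hw

theorem augSeries_eq_bot {P : Subgroup G} [P.Normal] (hP : IsPGroup p P) :
    ∃ n, augSeries k P n = ⊥ := by
  classical
  haveI : FiniteDimensional k (MonoidAlgebra k G) :=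
    Module.Finite.equiv (MonoidAlgebra.coeffLinearEquiv k).symm
  have hlt : ∀ n, augSeries k P n ≠ ⊥ → augSeries k P (n + 1) < augSeries k P n := by
    intro n hn
    refine lt_of_le_of_ne (augSeries_succ_le P n) fun heq => ?_
    set W := augSeries k P n with hW
    haveI : Nontrivial W := Submodule.nontrivial_iff_ne_bot.2 hn
    let L : G → Module.End k W := fun g =>
      (LinearMap.mulLeft k (MonoidAlgebra.single g (1 : k))).restrict
        fun w hw => single_mul_mem_augSeries P n g w hw
    have hL1 : L 1 = 1 := by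
      apply LinearMap.ext; intro x; apply Subtype.ext
      show MonoidAlgebra.single (1 : G) (1 : k) * (x : MonoidAlgebra k G) = x
      rw [← MonoidAlgebra.one_def, one_mul]
    have hLmul : ∀ a b, L (a * b) = L a * L b := by
      intro a b
      apply LinearMap.ext; intro x; apply Subtype.ext
      show MonoidAlgebra.single (a * b) (1 : k) * (x : MonoidAlgebra k G) =
        MonoidAlgebra.single a (1 : k) * (MonoidAlgebra.single b (1 : k) * (x : MonoidAlgebra k G))
      rw [← mul_assoc, MonoidAlgebra.single_mul_single, mul_one]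
    -- the contragredient action on the dual
    let ρ : P →* Module.End k (Module.Dual k W) :=
      { toFun := fun u => (L (u : G)⁻¹).dualMap
        map_one' := by simp [hL1, Module.End.one_eq_id]
        map_mul' := fun a b => by
          apply LinearMap.ext; intro φ; apply LinearMap.ext; intro x
          simp [hLmul] }
    haveI : Nontrivial (Module.Dual k W) := by
      obtain ⟨x, hx⟩ := exists_ne (0 : W)
      by_contra h
      rw [not_nontrivial_iff_subsingleton] at h
      exact hx ((Module.forall_dual_apply_eq_zero_iff k x).1 fun φ => by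
        rw [Subsingleton.elim φ 0]; simp)
    obtain ⟨φ, hφ0, hφ⟩ := exists_fixed_ne_zero hP ρ
    apply hφ0
    apply LinearMap.ext
    intro x
    have hx : (x : MonoidAlgebra k G) ∈ augSeries k P (n + 1) := heq.ge x.2
    have key : ∀ y, y ∈ augSeries k P (n + 1) → ∀ hy : y ∈ W, φ ⟨y, hy⟩ = 0 := by
      intro y hy
      refine Submodule.span_induction ?_ ?_ ?_ ?_ hy
      · rintro _ ⟨u, hu, w, hw, rfl⟩ hy'
        have h1 := LinearMap.congr_fun (hφ ⟨u⁻¹, P.inv_mem hu⟩) ⟨w, hw⟩
        have e : (⟨_, hy'⟩ : W) = L u ⟨w, hw⟩ - ⟨w, hw⟩ := Subtype.ext (by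
          show (MonoidAlgebra.single u (1 : k) - 1) * w = MonoidAlgebra.single u (1 : k) * w - w
          rw [sub_mul, one_mul])
        rw [e, map_sub]
        simp [ρ] at h1
        rw [h1, sub_self]
      · intro _; exact map_zero φ
      · intro a b ha hb iha ihb hab
        have haW : a ∈ W := augSeries_succ_le P n ha
        have hbW : b ∈ W := augSeries_succ_le P n hb
        rw [show (⟨a + b, hab⟩ : W) = ⟨a, haW⟩ + ⟨b, hbW⟩ from rfl, map_add, iha, ihb, add_zero]
      · intro c a ha iha hca
        have haW : a ∈ W := augSeries_succ_le P n ha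
        rw [show (⟨c • a, hca⟩ : W) = c • ⟨a, haW⟩ from rfl, map_smul, iha, smul_zero]
    exact key _ hx x.2
  by_contra hcon
  simp only [not_exists] at hcon
  have : ∀ n, Module.finrank k (augSeries k P n) + n ≤ Module.finrank k (augSeries k P 0) := by
    intro n
    induction n with
    | zero => simp
    | succ n ih =>
      have := Submodule.finrank_lt_finrank_of_lt (hlt n (hcon n))
      omega
  have := this (Module.finrank k (augSeries k P 0) + 1)
  omega

theorem mul_mem_augSeries {P : Subgroup G} [P.Normal] [Fintype P] {f : MonoidAlgebra k G}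
    (hf : ∀ g : G, ∑ u : P, f.coeff (g * u) = 0) {n : ℕ} {w : MonoidAlgebra k G}
    (hw : w ∈ augSeries k P n) : f * w ∈ augSeries k P (n + 1) := by
  classical
  have hdec : f = ∑ g : G, f.coeff g • ((MonoidAlgebra.single g (1 : k)) -
      MonoidAlgebra.single (Quotient.out (QuotientGroup.mk g : G ⧸ P)) (1 : k)) := by
    simp only [smul_sub, Finset.sum_sub_distrib]
    have h1 : ∑ g : G, f.coeff g • MonoidAlgebra.single g (1 : k) = f := by
      apply MonoidAlgebra.ext; ext x; simp
    have h2 : ∑ g : G, f.coeff g •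
        MonoidAlgebra.single (Quotient.out (QuotientGroup.mk g : G ⧸ P)) (1 : k) = 0 := by
      rw [← Finset.sum_fiberwise Finset.univ (fun g => (QuotientGroup.mk g : G ⧸ P))]
      refine Finset.sum_eq_zero fun q _ => ?_
      rw [Finset.sum_congr rfl (g := fun g => f.coeff g • MonoidAlgebra.single (Quotient.out q) (1 : k))
        fun g hg => by rw [(Finset.mem_filter.1 hg).2], ← Finset.sum_smul]
      obtain ⟨r, rfl⟩ := QuotientGroup.mk_surjective q
      have : ∑ g ∈ Finset.univ.filter (fun g => (QuotientGroup.mk g : G ⧸ P) = QuotientGroup.mk r),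
          f.coeff g = ∑ u : P, f.coeff (r * u) := by
        refine Finset.sum_bij' (fun g hg => ⟨r⁻¹ * g, ?_⟩) (fun u _ => r * (u : G)) (by simp)
          (fun u _ => ?_) (by simp) (fun u _ => Subtype.ext (by simp)) (by simp)
        · exact QuotientGroup.eq.1 (Finset.mem_filter.1 hg).2.symm
        · simp
      rw [this, hf, zero_smul]
    rw [h1, h2, sub_zero]
  rw [hdec, Finset.sum_mul]
  refine Submodule.sum_mem _ fun g _ => ?_
  rw [smul_mul_assoc]
  refine Submodule.smul_mem _ _ ?_
  set r : G := Quotient.out (QuotientGroup.mk g : G ⧸ P)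
  have hgr : g * r⁻¹ ∈ P := by
    have h : r⁻¹ * g ∈ P := QuotientGroup.eq.1 (Quotient.out_eq _)
    exact ‹P.Normal›.mem_comm h
  refine Submodule.subset_span ⟨g * r⁻¹, hgr, MonoidAlgebra.single r (1 : k) * w,
    single_mul_mem_augSeries P n r w hw, ?_⟩
  rw [← mul_assoc, sub_mul (MonoidAlgebra.single (g * r⁻¹) (1 : k)), one_mul,
    MonoidAlgebra.single_mul_single, one_mul, inv_mul_cancel_right]

/-- An element of the group algebra with vanishing sums over the cosets of a normal `p`-subgroup is
nilpotent. -/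
theorem isNilpotent_of_coset_sums {P : Subgroup G} [P.Normal] [Fintype P] (hP : IsPGroup p P)
    {f : MonoidAlgebra k G} (hf : ∀ g : G, ∑ u : P, f.coeff (g * u) = 0) : IsNilpotent f := by
  obtain ⟨n, hn⟩ := augSeries_eq_bot (k := k) hP
  have h : ∀ m, f ^ m ∈ augSeries k P m := by
    intro m
    induction m with
    | zero => exact Submodule.mem_top
    | succ m ih => rw [pow_succ']; exact mul_mem_augSeries hf ih
  refine ⟨n, ?_⟩
  have h1 := h n
  rwa [hn, Submodule.mem_bot] at h1

/-- An element fixed by conjugation under a normal `p`-subgroup `P` and vanishing on `C(P)` is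
nilpotent. -/
theorem isNilpotent_of_vanish_centralizer {P : Subgroup G} [P.Normal] (hP : IsPGroup p P)
    {f : MonoidAlgebra k G} (hfix : IsFixedBy P f)
    (h0 : ∀ c ∈ Subgroup.centralizer (P : Set G), f.coeff c = 0) : IsNilpotent f := by
  classical
  haveI := Fintype.ofFinite P
  refine isNilpotent_of_coset_sums hP fun g => ?_
  letI : MulAction P G := MulAction.compHom G
    ((ConjAct.toConjAct : G ≃* ConjAct G).toMonoidHom.comp P.subtype)
  have hsmul : ∀ (v : P) (x : G), v • x = (v : G) * x * (v : G)⁻¹ := fun v x => by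
    show ConjAct.toConjAct (v : G) • x = _
    rw [ConjAct.toConjAct_smul]
  have hco : ∀ (v : P) (x : G), g⁻¹ * ((v : G) * x * (v : G)⁻¹) ∈ P ↔ g⁻¹ * x ∈ P := by
    intro v x
    have h1 : g⁻¹ * ((v : G) * x * (v : G)⁻¹) = (g⁻¹ * v * g) * (g⁻¹ * x) * (v : G)⁻¹ := by group
    have h2 : g⁻¹ * (v : G) * g ∈ P := by simpa using ‹P.Normal›.conj_mem _ v.2 g⁻¹
    rw [h1, P.mul_mem_cancel_right (P.inv_mem v.2), P.mul_mem_cancel_left h2]
  have hsum : ∑ u : P, f.coeff (g * u) = ∑ x : G, if g⁻¹ * x ∈ P then f.coeff x else 0 := by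
    rw [← Finset.sum_filter]
    refine Finset.sum_bij' (fun u _ => g * (u : G))
      (fun x hx => ⟨g⁻¹ * x, (Finset.mem_filter.1 hx).2⟩) (fun u _ => ?_) (by simp)
      (fun u _ => Subtype.ext (by simp)) (by simp) (by simp)
    simp
  rw [hsum, sum_eq_sum_fixedPoints (P := P) p hP]
  · refine Finset.sum_eq_zero fun x hx => ?_
    have hc : x ∈ Subgroup.centralizer (P : Set G) := by
      rw [Subgroup.mem_centralizer_iff]
      intro v hv
      have h1 := (Finset.mem_filter.1 hx).2 ⟨v, hv⟩
      rw [hsmul] at h1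
      exact mul_inv_eq_iff_eq_mul.1 h1
    rw [h0 x hc, ite_self]
  · intro v x
    rw [hsmul, hfix v v.2]
    exact if_congr (hco v x) rfl rfl

end CfsgLib.Blocks
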