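import Cfsg.Agent.Lib.Blocks.MinMax
import Cfsg.Agent.Lib.Blocks.NormalPSubgroup

/-!
# Blocks and normal `p`-subgroups
-/

set_option linter.unusedSectionVars false
set_option linter.style.haveILetI false

namespace CfsgLib.Blocks

open Cfsg Chars

variable {G : Type*} [Group G] [Fintype G] {M : Ideal AlgInt} [M.IsPrime] {p : ℕ} [Fact p.Prime]

/-- A central element vanishing modulo `M` on the centralizer of a normal `p`-subgroup has all its
central character values in `M`. -/
theorem omega_mem_of_vanish (hpM : (p : AlgInt) ∈ M) {P : Subgroup G} [P.Normal] (hP : IsPGroup p P)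
    {a : G → ℂ} (ha : IsLocClassFun M a)
    (h0 : ∀ c ∈ Subgroup.centralizer (P : Set G), MemLocalIdeal M (a c)) (χ : IrrCharacter G) :
    MemLocalIdeal M (omega (χ : G → ℂ) a) := by
  classical
  haveI := charP_resField (M := M) (Fact.out (p := p.Prime)) hpM
  by_contra hu
  have hB := isPBlock_blockOf (M := M) χ
  obtain ⟨w, hw, hE⟩ := exists_blockIdem_eq_mul hB ha (mem_blockOf_self χ) hu
  obtain ⟨n, hn⟩ := isNilpotent_of_vanish_centralizer hP (isFixedBy_redFun ha P) (fun c hc => by
    rw [coeff_redFun_eq_zero_iff]; exact h0 c hc)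
  have hEn : ∀ m, blockIdem hB = blockIdem hB * redFun a ha.2 ^ m * w ^ m := by
    intro m
    induction m with
    | zero => simp
    | succ m ih =>
      calc blockIdem hB = blockIdem hB * redFun a ha.2 * w := hE
        _ = blockIdem hB * redFun a ha.2 ^ m * w ^ m * redFun a ha.2 * w := by rw [← ih]
        _ = _ := by
          have hc : w ^ m * redFun a ha.2 = redFun a ha.2 * w ^ m := ((hw _).pow_left m).eq
          rw [mul_assoc (blockIdem hB * redFun a ha.2 ^ m) (w ^ m), hc, pow_succ, pow_succ]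
          simp only [mul_assoc]
  have h1 : blockIdem hB = 0 := by rw [hEn n, hn, mul_zero, zero_mul]
  obtain ⟨g, hg⟩ := exists_isDefectClass hB
  apply hg.2.1
  rw [← coeff_blockIdem_eq_zero_iff hB, h1]
  simp

theorem centralChar_mem_of_not_meet (hpM : (p : AlgInt) ∈ M) {P : Subgroup G} [P.Normal]
    (hP : IsPGroup p P) {g : G}
    (hg : ∀ x, IsConj g x → x ∉ Subgroup.centralizer (P : Set G)) (χ : IrrCharacter G) :
    MemLocalIdeal M (centralChar (χ : G → ℂ) g) := by
  rw [← omega_classInd]
  refine omega_mem_of_vanish hpM hP (isLocClassFun_classInd g) (fun c hc => ?_) χ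
  rw [classInd_apply, if_neg fun h => hg c h hc]
  exact MemLocalIdeal.zero'

/-- A normal `p`-subgroup is contained in every defect group. -/
theorem IsDefectGroup.normal_le (hpM : (p : AlgInt) ∈ M) {B : Set (IrrCharacter G)}
    (hB : IsPBlock M B) {D : Subgroup G} (hD : IsDefectGroup p M B D) {P : Subgroup G} [P.Normal]
    (hP : IsPGroup p P) : P ≤ D := by
  obtain ⟨g, hg, S, rfl⟩ := hD
  obtain ⟨χ, hχ⟩ := IsPBlock.nonempty hB
  obtain ⟨c, hgc, hc⟩ : ∃ c, IsConj g c ∧ c ∈ Subgroup.centralizer (P : Set G) := by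
    by_contra hcon
    exact hg.2.2 χ hχ (centralChar_mem_of_not_meet hpM hP (fun x h1 h2 => hcon ⟨x, h1, h2⟩) χ)
  obtain ⟨x, hx⟩ := exists_conj_le_of_centralizes hP hgc hc S
  refine le_trans (fun u hu => ?_) hx
  exact ⟨x⁻¹ * u * x, by simpa using ‹P.Normal›.conj_mem u hu x⁻¹, by simp [mul_assoc]⟩

end CfsgLib.Blocks
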