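import Cfsg.Agent.Lib.Blocks.PrincipalBlock
import Cfsg.Agent.Lib.CharsMore.Clifford
import Cfsg.Agent.Lib.CharApps.Basic

/-!
# Blocks and normal `p'`-subgroups
-/

set_option linter.unusedSectionVars false
set_option linter.style.haveILetI false

namespace CfsgLib.Blocks

open Cfsg Chars
open scoped ComplexConjugate

variable {G : Type*} [Group G] [Fintype G]

theorem sum_eq_sum_of_support (N : Subgroup G) [Fintype N] {f : G → ℂ}
    (h : ∀ g, g ∉ N → f g = 0) : ∑ g, f g = ∑ n : N, f n := by
  classical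
  rw [← Finset.sum_subset (Finset.subset_univ (Finset.univ.filter (· ∈ N))) fun g _ hg =>
    h g fun hN => hg (Finset.mem_filter.2 ⟨Finset.mem_univ _, hN⟩),
    Finset.sum_subtype (p := fun x => x ∈ N) _ (by simp)]

/-- A central element supported in `N` acts on an irreducible character as on any of its
constituents. -/
theorem omega_eq_omega_constituent (N : Subgroup G) [Fintype N] {a : G → ℂ}
    (ha : IsClassFunction G a) (hsupp : ∀ g, g ∉ N → a g = 0) (χ : IrrCharacter G)
    (θ : IrrCharacter N)
    (hθ : classInner (fun n : N => (χ : G → ℂ) n) (θ : N → ℂ) ≠ 0) :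
    omega (θ : N → ℂ) (resFun N a) = omega (χ : G → ℂ) a := by
  classical
  set S : ℂ := ∑ m : N, (χ : G → ℂ) m * conj ((θ : N → ℂ) m) with hS
  have hS0 : S ≠ 0 := fun h => hθ (by rw [inner_def, ← hS, h, mul_zero])
  have h1 : ∀ m : N, ∑ n : N, a n * (χ : G → ℂ) ((n : G) * m) =
      omega (χ : G → ℂ) a * (χ : G → ℂ) m := fun m => by
    rw [← sum_mul_irr χ ha (m : G), sum_eq_sum_of_support N (f := fun g => a g * (χ : G → ℂ) (g * m))
      fun g hg => by rw [hsupp g hg, zero_mul]]
  have h2 : omega (χ : G → ℂ) a * S = omega (θ : N → ℂ) (resFun N a) * S := by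
    calc omega (χ : G → ℂ) a * S
        = ∑ m : N, (∑ n : N, a n * (χ : G → ℂ) ((n : G) * m)) * conj ((θ : N → ℂ) m) := by
          rw [hS, Finset.mul_sum]
          exact Finset.sum_congr rfl fun m _ => by rw [h1]; ring
      _ = ∑ n : N, ∑ k : N, a n * (χ : G → ℂ) k * conj ((θ : N → ℂ) (n⁻¹ * k)) := by
          simp only [Finset.sum_mul]
          rw [Finset.sum_comm]
          refine Finset.sum_congr rfl fun n _ => ?_
          rw [← Equiv.sum_comp (Equiv.mulLeft n)
            (fun k : N => a n * (χ : G → ℂ) k * conj ((θ : N → ℂ) (n⁻¹ * k)))]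
          simp
      _ = ∑ k : N, (χ : G → ℂ) k * ∑ n : N, resFun N a n * (θ : N → ℂ) (n * k⁻¹) := by
          rw [Finset.sum_comm]
          refine Finset.sum_congr rfl fun k _ => ?_
          rw [Finset.mul_sum]
          refine Finset.sum_congr rfl fun n _ => ?_
          rw [← irr_inv θ, mul_inv_rev, inv_inv, classFun_mul_comm (isClassFunction_irr θ), resFun]
          ring
      _ = omega (θ : N → ℂ) (resFun N a) * S := by
          rw [hS, Finset.mul_sum]
          refine Finset.sum_congr rfl fun k _ => ?_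
          rw [sum_mul_irr θ (isClassFunction_resFun N ha), irr_inv]
          ring
  exact (mul_right_cancel₀ hS0 h2).symm

theorem inner_conjFn (N : Subgroup G) [N.Normal] [Fintype N] {χ : G → ℂ}
    (hχ : IsClassFunction G χ) (g : G) (θ : N → ℂ) :
    classInner (fun n : N => χ n) (CharsMore.conjFn N g θ) = classInner (fun n : N => χ n) θ := by
  classical
  rw [inner_def, inner_def]
  congr 1
  refine Fintype.sum_bijective (CharsMore.conjBy N g)
    ((Finite.injective_iff_bijective).1 ((Finite.injective_iff_surjective).2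
      (CharsMore.conjBy_surjective N g))) _ _ fun n => ?_
  have e : ((CharsMore.conjBy N g n : N) : G) = g * n * g⁻¹ := by simp
  simp only [CharsMore.conjFn]
  rw [e, hχ]

variable {M : Ideal AlgInt} [M.IsPrime] {p : ℕ} [Fact p.Prime]

theorem exists_constituent_restrict (N : Subgroup G) [Fintype N] (χ : IrrCharacter G) :
    ∃ θ : IrrCharacter N, classInner (fun n : N => (χ : G → ℂ) n) (θ : N → ℂ) ≠ 0 :=
  exists_constituent (φ := fun n : N => (χ : G → ℂ) n)
    (isCharacter_restrict N (isCharacter_of_irr χ.2))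
    fun h => irr_degree_ne_zero χ.2 (by simpa using congrFun h 1)

/-- The constituents on a normal `p'`-subgroup depend only on the block. -/
theorem constituent_of_sameBlock (hpM : (p : AlgInt) ∈ M) (N : Subgroup G) [N.Normal] [Fintype N]
    (hN : ¬ p ∣ Nat.card N) {χ ψ : IrrCharacter G} (h : SameBlock M (χ : G → ℂ) (ψ : G → ℂ))
    {θ : IrrCharacter N}
    (hθ : classInner (fun n : N => (ψ : G → ℂ) n) (θ : N → ℂ) ≠ 0) :
    classInner (fun n : N => (χ : G → ℂ) n) (θ : N → ℂ) ≠ 0 := by
  classical
  haveI := irrFintype N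
  obtain ⟨O, hO⟩ : ∃ O : Set (IrrCharacter N),
      O = {θ : IrrCharacter N | classInner (fun n : N => (χ : G → ℂ) n) (θ : N → ℂ) ≠ 0} := ⟨_, rfl⟩
  obtain ⟨a, ha0⟩ : ∃ a : G → ℂ, a = extendByZero N (blockCoeff O) := ⟨_, rfl⟩
  have hinv : ∀ (g : G) (n : N), blockCoeff O (CharsMore.conjBy N g n) = blockCoeff O n := by
    intro g n
    have hc : IsClassFunction N (fun n => blockCoeff O (CharsMore.conjBy N g n)) := fun x y => by
      simp only [map_mul, map_inv]
      exact isClassFunction_blockCoeff O _ _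
    refine congrFun (classFun_ext_omega hc (isClassFunction_blockCoeff O) fun φ => ?_) n
    have hbij : Function.Bijective (CharsMore.conjBy N g) :=
      (Finite.injective_iff_bijective).1 ((Finite.injective_iff_surjective).2
        (CharsMore.conjBy_surjective N g))
    have e : omega (φ : N → ℂ) (fun n => blockCoeff O (CharsMore.conjBy N g n)) =
        omega (CharsMore.conjFn N g⁻¹ (φ : N → ℂ)) (blockCoeff O) := by
      rw [omega, omega]
      congr 1
      · refine Fintype.sum_bijective _ hbij _ _ fun m => ?_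
        simp only [CharsMore.conjFn]
        congr 2
        exact congrArg _ (Subtype.ext (by simp [mul_assoc]))
      · simp only [CharsMore.conjFn, map_one]
    rw [e]
    have e2 := omega_blockCoeff O (⟨_, CharsMore.isIrr_conjFn N g⁻¹ φ.2⟩ : IrrCharacter N)
    rw [e2, omega_blockCoeff]
    refine if_congr ?_ rfl rfl
    simp only [hO, Set.mem_ofPred_eq]
    rw [inner_conjFn N (isClassFunction_irr χ)]
  have hN' : ∀ g : G, g ∉ N → a g = 0 := fun g hg => by
    rw [ha0, extendByZero_of_not_mem N _ hg]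
  have ha : IsLocClassFun M a := by
    refine ⟨fun x y => ?_, fun x => ?_⟩
    · by_cases hx : x ∈ N
      · have hx' : y * x * y⁻¹ ∈ N := Subgroup.Normal.conj_mem inferInstance x hx y
        rw [ha0, extendByZero_of_mem N _ hx, extendByZero_of_mem N _ hx', ← hinv y ⟨x, hx⟩]
        congr 1
      · have hx' : y * x * y⁻¹ ∉ N := fun h' => hx (by
          simpa [mul_assoc] using Subgroup.Normal.conj_mem inferInstance _ h' y⁻¹)
        rw [hN' _ hx, hN' _ hx']
    · by_cases hx : x ∈ N
      · rw [ha0, extendByZero_of_mem N _ hx, blockCoeff]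
        refine mul_mem (inv_natCast_mem_loc Fact.out hpM hN) ?_
        rw [finsum_mem_eq_sum_of_inter_support_eq (t := Finset.univ.filter (· ∈ O)) _
          (by ext φ; simp)]
        exact sum_mem fun φ _ => mul_mem (irr_mem_loc φ 1) (conj_irr_mem_loc φ _)
      · rw [hN' x hx]; exact zero_mem _
  have hres : resFun N a = blockCoeff O := funext fun n => by
    rw [resFun, ha0, extendByZero_coe]
  have key : ∀ (ξ : IrrCharacter G) (φ : IrrCharacter N),
      classInner (fun n : N => (ξ : G → ℂ) n) (φ : N → ℂ) ≠ 0 →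
      omega (ξ : G → ℂ) a = if φ ∈ O then 1 else 0 := fun ξ φ hφ => by
    rw [← omega_eq_omega_constituent N ha.1 hN' ξ φ hφ, hres, omega_blockCoeff]
  obtain ⟨θ₀, hθ₀⟩ := exists_constituent_restrict N χ
  have h1 := omega_sub_mem h ha
  rw [key χ θ₀ hθ₀, key ψ θ hθ, if_pos (show θ₀ ∈ O by rw [hO]; exact hθ₀)] at h1
  by_contra hne
  rw [if_neg (show θ ∉ O by rw [hO]; exact fun h' => h' hne), sub_zero] at h1
  exact not_memLocalIdeal_one h1

/-- Blocks of a group with a normal `p`-complement. -/
theorem sameBlock_of_common_constituent (hpM : (p : AlgInt) ∈ M) (N : Subgroup G) [N.Normal]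
    [Fintype N] {k : ℕ} (hk : N.index = p ^ k) {χ ψ : IrrCharacter G} {θ : IrrCharacter N}
    (hχ : classInner (fun n : N => (χ : G → ℂ) n) (θ : N → ℂ) ≠ 0)
    (hψ : classInner (fun n : N => (ψ : G → ℂ) n) (θ : N → ℂ) ≠ 0) :
    SameBlock M (χ : G → ℂ) (ψ : G → ℂ) := by
  classical
  have hB := isPBlock_blockOf (M := M) χ
  have hsupp : ∀ g, g ∉ N → blockCoeff (blockOf M (χ : G → ℂ)) g = 0 := fun g hg =>
    blockCoeff_eq_zero_of_dvd Fact.out hpM hB
      (by by_contra hd; exact hg (index_eq_pow_mem_of_regular hk hd))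
  have h1 := omega_eq_omega_constituent N (isClassFunction_blockCoeff _) hsupp χ θ hχ
  have h2 := omega_eq_omega_constituent N (isClassFunction_blockCoeff _) hsupp ψ θ hψ
  rw [h1, omega_blockCoeff, omega_blockCoeff, if_pos (mem_blockOf_self χ)] at h2
  by_contra hne
  rw [if_neg fun h => hne (mem_blockOf.1 h)] at h2
  exact one_ne_zero h2

/-- A normal `p'`-subgroup in the kernel of one character of a block is in the kernel of all. -/
theorem kernel_of_sameBlock (hpM : (p : AlgInt) ∈ M) (N : Subgroup G) [N.Normal]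
    (hN : ¬ p ∣ Nat.card N) {χ ψ : IrrCharacter G} (h : SameBlock M (χ : G → ℂ) (ψ : G → ℂ))
    (hχ : ∀ n ∈ N, (χ : G → ℂ) n = (χ : G → ℂ) 1) {n : G} (hn : n ∈ N) :
    (ψ : G → ℂ) n = (ψ : G → ℂ) 1 := by
  rcases omega_avgInd_eq_zero_or_one N ψ with h0 | h0
  · exfalso
    have h1 := omega_sub_mem h (isLocClassFun_avgInd hpM N hN)
    rw [h0, sub_zero, (omega_avgInd_eq_one_iff N χ).2 hχ] at h1
    exact not_memLocalIdeal_one h1
  · exact (omega_avgInd_eq_one_iff N ψ).1 h0 n hn

end CfsgLib.Blocks
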