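import Cfsg.Agent.Lib.Blocks.MaximalPairs
import Cfsg.Agent.Lib.Blocks.RegularTwist

/-!
# Brauer's third main theorem, and nilpotent principal blocks
-/

set_option linter.unusedSectionVars false
set_option linter.style.haveILetI false

namespace CfsgLib.Blocks

open Cfsg Chars
open scoped ComplexConjugate

variable {G : Type*} [Group G] [Fintype G] {M : Ideal AlgInt} [M.IsPrime] {p : ℕ} [Fact p.Prime]

/-- The principal pair on a subgroup. -/
def principalPair (M : Ideal AlgInt) (Q : Subgroup G) : BrauerPairIdx G :=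
  ⟨Q, principalBlock M (Subgroup.centralizer (Q : Set G))⟩

theorem sum_centralizer_congr (hpM : (p : AlgInt) ∈ M) {Q : Subgroup G} (hQ : IsPGroup p Q)
    [Fintype (Subgroup.centralizer (Q : Set G))] {β : G → ℂ} (hβ : ∀ g, β g ∈ loc M)
    (hinv : ∀ u ∈ Q, ∀ g, β (u * g * u⁻¹) = β g) :
    MemLocalIdeal M ((∑ x : Subgroup.centralizer (Q : Set G), β x) - ∑ g, β g) := by
  classical
  haveI := charP_resField (M := M) (Fact.out (p := p.Prime)) hpM
  letI : MulAction Q G := MulAction.compHom G
    ((ConjAct.toConjAct : G ≃* ConjAct G).toMonoidHom.comp Q.subtype)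
  have hsmul : ∀ (u : Q) (y : G), u • y = (u : G) * y * (u : G)⁻¹ := fun u y => by
    show ConjAct.toConjAct (u : G) • y = _
    rw [ConjAct.toConjAct_smul]
  have hfixed : ∀ y : G, y ∈ MulAction.fixedPoints Q G ↔
      y ∈ Subgroup.centralizer (Q : Set G) := by
    intro y
    rw [Subgroup.mem_centralizer_iff]
    constructor
    · intro hy u hu
      have := hy ⟨u, hu⟩
      rw [hsmul] at this
      exact mul_inv_eq_iff_eq_mul.1 this
    · intro hy u
      rw [hsmul, mul_inv_eq_iff_eq_mul]
      exact hy u u.2
  let z : G → loc M := fun g => ⟨β g, hβ g⟩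
  have h1 := sum_eq_sum_fixedPoints (A := ResField M) p hQ (fun g => red (z g)) (fun u g =>
    congrArg red (Subtype.ext (by rw [hsmul]; exact hinv u u.2 g)))
  have h2 : red ((∑ x : Subgroup.centralizer (Q : Set G), z x) - ∑ g, z g) = 0 := by
    rw [map_sub, map_sum, map_sum, h1, sub_eq_zero]
    exact (Finset.sum_subtype (p := fun x => x ∈ Subgroup.centralizer (Q : Set G)) _
      (fun x => by simp [hfixed]) (fun g => red (z g))).symm
  have h3 := red_eq_zero_iff.1 h2
  simpa [z] using h3

theorem omega_principal (a : G → ℂ) : omega (principal G : G → ℂ) a = ∑ g, a g := by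
  simp [omega, principal_apply]

theorem isBrauerPair_principalPair {Q : Subgroup G} (hQ : IsPGroup p Q) :
    IsBrauerPair p M (principalPair M Q).1 (principalPair M Q).2 :=
  ⟨hQ, isPBlock_principalBlock M⟩

theorem isBrauerPairOf_principalPair (hpM : (p : AlgInt) ∈ M) {Q : Subgroup G}
    (hQ : IsPGroup p Q) :
    IsBrauerPairOf p M (principalBlock M G) Q
      (principalBlock M (Subgroup.centralizer (Q : Set G))) := by
  classical
  haveI := Fintype.ofFinite (Subgroup.centralizer (Q : Set G))
  refine ⟨⟨hQ, isPBlock_principalBlock M⟩, isPBlock_principalBlock M, fun ξ hξ => ?_⟩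
  have hB := isLocClassFun_blockCoeff (isPBlock_principalBlock (G := G) M)
  rw [brauerOmega_eq]
  refine (omega_one_congr_iff (isPBlock_principalBlock M) (isLocClassFun_resFun _ hB)
    (principal_mem_principalBlock M) hξ).1 ?_
  have h := sum_centralizer_congr hpM hQ hB.2 (fun u _ g => hB.1 g u)
  rw [← omega_principal (blockCoeff (principalBlock M G)), omega_blockCoeff,
    if_pos (principal_mem_principalBlock M)] at h
  rwa [omega_principal]

theorem conjImage_principalBlock {H H' : Subgroup G} (x : G)
    (h : ∀ g, x * g * x⁻¹ ∈ H' ↔ g ∈ H) :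
    conjImage x h (principalBlock M H) = principalBlock M H' := by
  haveI := Fintype.ofFinite H
  haveI := Fintype.ofFinite H'
  refine IsPBlock.eq_of_mem (isPBlock_conjImage x h (isPBlock_principalBlock M))
    (isPBlock_principalBlock M) ?_ (principal_mem_principalBlock M)
  exact ⟨principal H, principal_mem_principalBlock M, Subtype.ext (funext fun _ => rfl)⟩

theorem conjPair_principalPair (x : G) (Q : Subgroup G) :
    conjPair x (principalPair M Q) =
      principalPair M (Q.map (MulAut.conj x).toMonoidHom) := by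
  show (⟨_, conjBlock Q x (principalBlock M _)⟩ : BrauerPairIdx G) = _
  rw [conjBlock_eq, conjImage_principalBlock]
  rfl

theorem stabilizesBlock_principal {Q : Subgroup G} {x : G}
    (hx : x ∈ Subgroup.normalizer (Q : Set G)) :
    StabilizesBlock (Subgroup.centralizer (Q : Set G))
      (principalBlock M (Subgroup.centralizer (Q : Set G))) x := by
  haveI := Fintype.ofFinite (Subgroup.centralizer (Q : Set G))
  rw [stabilizesBlock_iff_conjImage (isPBlock_principalBlock M) (mem_normalizer_centralizer hx),
    conjImage_principalBlock]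

theorem isNormalSubpair_principal (hpM : (p : AlgInt) ∈ M) {Q P : Subgroup G}
    (hP : IsPGroup p P) (hQP : Q ≤ P) (hPN : P ≤ Subgroup.normalizer (Q : Set G)) :
    IsNormalSubpair p M Q (principalPair M Q).2 P (principalPair M P).2 := by
  classical
  haveI := Fintype.ofFinite (Subgroup.centralizer (P : Set G))
  haveI := Fintype.ofFinite (Subgroup.centralizer (Q : Set G))
  have hf : IsPBlock M (principalBlock M (Subgroup.centralizer (Q : Set G))) :=
    isPBlock_principalBlock M
  have hst : ∀ x ∈ P, StabilizesBlock (Subgroup.centralizer (Q : Set G))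
      (principalPair M Q).2 x := fun x hx => stabilizesBlock_principal (hPN hx)
  refine ⟨⟨hP.to_le hQP, hf⟩, ⟨hP, isPBlock_principalBlock M⟩, hQP, hPN, hst, fun ξ hξ => ?_⟩
  have hloc : ∀ g, subgroupBlockCoeff (Subgroup.centralizer (Q : Set G))
      (principalBlock M (Subgroup.centralizer (Q : Set G))) g ∈ loc M :=
    subgroupBlockCoeff_mem_loc hf
  show MemLocalIdeal M (brauerOmega P (subgroupBlockCoeff (Subgroup.centralizer (Q : Set G))
    (principalBlock M (Subgroup.centralizer (Q : Set G)))) _ - 1)
  rw [brauerOmega_eq]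
  refine (omega_one_congr_iff (isPBlock_principalBlock M)
    ⟨isClassFunction_resFun_of_inv fun u hu g =>
      subgroupBlockCoeff_conj_of_mem _ (centralizer_antitone hQP hu) g, fun h => hloc h⟩
    (principal_mem_principalBlock M) hξ).1 ?_
  rw [omega_principal]
  have h := sum_centralizer_congr hpM hP hloc
    (fun u hu g => ((stabilizesBlock_iff hf).1 (hst u hu)).2 g)
  have e : ∑ g, subgroupBlockCoeff (Subgroup.centralizer (Q : Set G))
      (principalBlock M (Subgroup.centralizer (Q : Set G))) g = 1 := by
    rw [← Finset.sum_subset (Finset.subset_univ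
      (Finset.univ.filter fun g : G => g ∈ Subgroup.centralizer (Q : Set G)))
      (fun g _ hg => subgroupBlockCoeff_of_notMem _ (by simpa using hg)),
      Finset.sum_subtype (p := fun g => g ∈ Subgroup.centralizer (Q : Set G)) _
        (fun g => by simp)]
    simp only [subgroupBlockCoeff_coe]
    rw [← omega_principal, omega_blockCoeff, if_pos (principal_mem_principalBlock M)]
  rw [e] at h
  exact h

theorem below_principal (hpM : (p : AlgInt) ∈ M) {P : Subgroup G} (hP : IsPGroup p P) :
    ∀ Q : Subgroup G, Q ≤ P →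
      Relation.ReflTransGen (NormalSubpairRel p M) (principalPair M Q) (principalPair M P) := by
  intro Q
  induction hn : Nat.card P - Nat.card Q using Nat.strong_induction_on generalizing Q with
  | _ n ih =>
    intro hQ
    rcases eq_or_lt_of_le hQ with rfl | hlt
    · exact Relation.ReflTransGen.refl
    have hR := exists_lt_le_normalizer hP hlt
    set R := P ⊓ Subgroup.normalizer (Q : Set G) with hRdef
    have h1 : Nat.card Q < Nat.card R := Set.Finite.card_lt_card (Set.toFinite _) hR
    have h2 : Nat.card R ≤ Nat.card P := Subgroup.card_le_of_le inf_le_left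
    exact Relation.ReflTransGen.head (b := principalPair M R)
      (isNormalSubpair_principal hpM (hP.to_le inf_le_left) hR.le inf_le_right)
      (ih _ (by omega) R rfl inf_le_left)

theorem isMaximal_principal_sylow (hpM : (p : AlgInt) ∈ M) (S : Sylow p G) :
    IsMaximalBrauerPair p M (principalBlock M G) (S : Subgroup G)
      (principalPair M (S : Subgroup G)).2 :=
  ⟨isBrauerPairOf_principalPair hpM S.2, fun _ _ hg hle =>
    S.3 hg.1.1 (below_le (show Relation.ReflTransGen (NormalSubpairRel p M)
      (principalPair M (S : Subgroup G)) _ from hle))⟩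

/-- Brauer's third main theorem. -/
theorem third_main (hpM : (p : AlgInt) ∈ M) {Q : Subgroup G}
    {e : Set (IrrCharacter (Subgroup.centralizer (Q : Set G)))}
    (h : IsBrauerPairOf p M (principalBlock M G) Q e) :
    e = principalBlock M (Subgroup.centralizer (Q : Set G)) := by
  obtain ⟨S⟩ : Nonempty (Sylow p G) := inferInstance
  obtain ⟨x, hx⟩ := exists_conj_below hpM (a := ⟨Q, e⟩)
    (b := principalPair M (S : Subgroup G)) (isMaximal_principal_sylow hpM S) h
  have h1 := below_principal hpM S.2 _ (below_le hx)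
  have h2 : conjPair x ⟨Q, e⟩ = conjPair x (principalPair M Q) := by
    rw [conjPair_principalPair]
    have := below_unique hpM (isBrauerPair_principalPair S.2) hx
      (f' := (principalPair M _).2) h1
    exact congrArg (Sigma.mk (β := fun R : Subgroup G =>
      Set (IrrCharacter (Subgroup.centralizer (R : Set G)))) _) this
  have h3 := congrArg (conjPair x⁻¹) h2
  rw [conjPair_mul, conjPair_mul, inv_mul_cancel, conjPair_one, conjPair_one] at h3
  exact eq_of_heq (Sigma.mk.inj_iff.1 h3).2

theorem isNilpotentBlock_principal_iff (hpM : (p : AlgInt) ∈ M) :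
    IsNilpotentBlock p M (principalBlock M G) ↔
      ∀ Q : Subgroup G, IsPGroup p Q → ∀ x ∈ Subgroup.normalizer (Q : Set G),
        IsPRegular p x → x ∈ Subgroup.centralizer (Q : Set G) := by
  refine ⟨fun h Q hQ x hx hreg => h.2 Q _ (isBrauerPairOf_principalPair hpM hQ) x hx
      (stabilizesBlock_principal hx) hreg,
    fun h => ⟨isPBlock_principalBlock M, fun Q e he x hx _ hreg => h Q he.1.1 x hx hreg⟩⟩

/-! ## Rank one -/

theorem pRegularPart_eq_of_pow_index (hpM : (p : AlgInt) ∈ M) {N : Subgroup G} [N.Normal]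
    (hN : ¬ p ∣ Nat.card N) {k : ℕ} (hk : N.index = p ^ k) {χ : IrrCharacter G}
    (hχ : χ ∈ principalBlock M G) :
    pRegularPart p (χ : G → ℂ) =
      (χ : G → ℂ) 1 • pRegularPart p (principal G : G → ℂ) := by
  classical
  funext g
  simp only [pRegularPart, Pi.smul_apply, smul_eq_mul, principal_apply]
  by_cases hg : IsPRegular p g
  · rw [if_pos hg, if_pos hg, mul_one,
      principalBlock_apply_normal hpM hN hχ (index_eq_pow_mem_of_regular hk hg)]
  · rw [if_neg hg, if_neg hg, mul_zero]

theorem blockRank_eq_one_of_pow_index (hpM : (p : AlgInt) ∈ M) {N : Subgroup G} [N.Normal]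
    (hN : ¬ p ∣ Nat.card N) {k : ℕ} (hk : N.index = p ^ k) :
    blockRank p (principalBlock M G) = 1 := by
  classical
  set v := pRegularPart p (principal G : G → ℂ) with hv
  have hv0 : v ≠ 0 := fun h0 => by
    have h1 : v 1 = 1 := by
      simp [hv, pRegularPart, IsPRegular, orderOf_one, (Fact.out : p.Prime).ne_one, principal_apply]
    rw [h0] at h1
    exact zero_ne_one h1
  rw [blockRank]
  have e : Submodule.span ℂ ((fun χ : IrrCharacter G => pRegularPart p (χ : G → ℂ)) ''
      principalBlock M G) = Submodule.span ℂ {v} := by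
    refine le_antisymm (Submodule.span_le.2 ?_) (Submodule.span_mono ?_)
    · rintro _ ⟨χ, hχ, rfl⟩
      exact Submodule.mem_span_singleton.2
        ⟨_, (pRegularPart_eq_of_pow_index hpM hN hk hχ).symm⟩
    · exact Set.singleton_subset_iff.2 ⟨principal G, principal_mem_principalBlock M, rfl⟩
  rw [e]
  exact finrank_span_singleton hv0

theorem exists_normal_complement_of_rank_one (hpM : (p : AlgInt) ∈ M)
    (h : blockRank p (principalBlock M G) = 1) :
    ∃ N : Subgroup G, N.Normal ∧ ¬ p ∣ Nat.card N ∧ ∃ k, N.index = p ^ k := by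
  classical
  haveI := irrFintype G
  have hp : p.Prime := Fact.out
  have hreg1 : IsPRegular p (1 : G) := by simp [IsPRegular, orderOf_one, hp.ne_one]
  set V := Submodule.span ℂ ((fun χ : IrrCharacter G => pRegularPart p (χ : G → ℂ)) ''
    principalBlock M G) with hV
  let v : V := ⟨pRegularPart p (principal G : G → ℂ),
    Submodule.subset_span ⟨principal G, principal_mem_principalBlock M, rfl⟩⟩
  have hv0 : v ≠ 0 := fun h0 => by
    have h1 : (v : G → ℂ) 1 = 1 := by simp [v, pRegularPart, hreg1, principal_apply]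
    rw [h0] at h1
    exact zero_ne_one h1
  have hconst : ∀ χ ∈ principalBlock M G, ∀ g : G, IsPRegular p g →
      (χ : G → ℂ) g = (χ : G → ℂ) 1 := by
    intro χ hχ g hg
    obtain ⟨c, hc⟩ := (finrank_eq_one_iff_of_nonzero' v hv0).1 h
      ⟨pRegularPart p (χ : G → ℂ), Submodule.subset_span ⟨χ, hχ, rfl⟩⟩
    have h1 : ∀ u : G, IsPRegular p u → (χ : G → ℂ) u = c := fun u hu => by
      have h2 := congrFun (congrArg Subtype.val hc) u
      simpa [v, pRegularPart, hu, principal_apply] using h2.symm
    rw [h1 g hg, h1 1 hreg1]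
  set K := Subgroup.closure {g : G | IsPRegular p g} with hK
  haveI hKn : K.Normal := by
    rw [← Subgroup.normalizer_eq_top_iff, eq_top_iff]
    intro x _
    have key : ∀ y : G, K.map (MulAut.conj y).toMonoidHom ≤ K := fun y => by
      rw [hK, MonoidHom.map_closure, Subgroup.closure_le]
      rintro _ ⟨g, hg, rfl⟩
      refine Subgroup.subset_closure ?_
      show IsPRegular p (y * g * y⁻¹)
      simpa [IsPRegular, (SemiconjBy.conj_mk y g).orderOf_eq] using hg
    rw [Subgroup.mem_normalizer_iff]
    intro g
    refine ⟨fun hg => key x ⟨g, hg, rfl⟩, fun hg => ?_⟩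
    have := key x⁻¹ ⟨_, hg, rfl⟩
    simpa [mul_assoc] using this
  have hker : ∀ χ ∈ principalBlock M G, ∀ g ∈ K, (χ : G → ℂ) g = (χ : G → ℂ) 1 := by
    intro χ hχ g hg
    obtain ⟨n, ρ, -, hρ⟩ := χ.2
    rw [ker_iff ρ hρ]
    induction hg using Subgroup.closure_induction with
    | mem u hu => exact (ker_iff ρ hρ u).1 (hconst χ hχ u hu)
    | one => exact map_one ρ
    | mul u w _ _ hu hw => rw [map_mul, hu, hw, one_mul]
    | inv u _ hu =>
      have h2 := map_mul ρ u⁻¹ u
      rw [inv_mul_cancel, map_one, hu, mul_one] at h2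
      exact h2.symm
  refine ⟨K, hKn, fun hd => ?_, ?_⟩
  · obtain ⟨y, hy⟩ := exists_prime_orderOf_dvd_card' p hd
    have hyp : p ∣ orderOf (y : G) := by rw [Subgroup.orderOf_coe, hy]
    have h1 := weak_orthogonality hp hpM (isPBlock_principalBlock M) (x := (1 : G))
      (by simpa [orderOf_one] using hp.ne_one) hyp
    rw [finsum_mem_eq_sum_of_inter_support_eq
      (t := Finset.univ.filter (· ∈ principalBlock M G)) _ (by ext; simp)] at h1
    have h2 : ∀ χ ∈ Finset.univ.filter (· ∈ principalBlock M G),
        (χ : G → ℂ) 1 * conj ((χ : G → ℂ) (y : G)) =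
          (((charDegree (χ : G → ℂ)) ^ 2 : ℕ) : ℂ) := by
      intro χ hχ
      rw [hker χ (Finset.mem_filter.1 hχ).2 y y.2, BlockOrth.irr_apply_one, Complex.conj_natCast]
      push_cast
      ring
    rw [Finset.sum_congr rfl h2, ← Nat.cast_sum, Nat.cast_eq_zero] at h1
    have h3 := Finset.sum_eq_zero_iff.1 h1 (principal G)
      (Finset.mem_filter.2 ⟨Finset.mem_univ _, principal_mem_principalBlock M⟩)
    exact BlockOrth.irr_charDegree_ne_zero (principal G) (pow_eq_zero_iff two_ne_zero |>.1 h3)
  · have hq : IsPGroup p (G ⧸ K) := fun q => by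
      obtain ⟨g, rfl⟩ := QuotientGroup.mk_surjective q
      refine ⟨(orderOf g).factorization p, ?_⟩
      rw [← QuotientGroup.mk_pow, QuotientGroup.eq_one_iff]
      refine Subgroup.subset_closure ?_
      show ¬ p ∣ orderOf (g ^ p ^ _)
      rw [orderOf_pow, Nat.gcd_eq_right (Nat.ordProj_dvd _ _)]
      exact Nat.not_dvd_ordCompl hp (orderOf_pos g).ne'
    obtain ⟨k, hk⟩ := hq.exists_card_eq
    exact ⟨k, by rw [Subgroup.index_eq_card, hk]⟩

end CfsgLib.Blocks
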