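import Cfsg.Agent.Lib.CharApps.SylowCentre
import Cfsg.Agent.Lib.Chars.DefectZero
import Cfsg.Agent.Lib.Blocks.PrincipalBlock

/-!
# Centralizers in simple groups of order `p^a q^b r`
-/

set_option autoImplicit false
set_option linter.style.haveILetI false
set_option linter.unusedSectionVars false

namespace CfsgLib.Blocks

open Cfsg Chars CharApps BlockOrth

universe u

variable {G : Type u} [Group G] [Finite G] [IsSimpleGroup G]

theorem not_commute_prime_order {p q r a b : ℕ} (hp : p.Prime) (hq : q.Prime) (hr : r.Prime)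
    (hpr : p ≠ r) (hqr : q ≠ r) (hcard : Nat.card G = p ^ a * q ^ b * r)
    {x y : G} (hx : orderOf x = p) (hy : orderOf y = r) (hxy : Commute x y) : False := by
  classical
  haveI := Fact.mk hp
  haveI := Fintype.ofFinite G
  haveI := irrFintype G
  have hord : orderOf (x * y) = p * r := by
    rw [hxy.orderOf_mul_eq_mul_orderOf_of_coprime
      (by rw [hx, hy]; exact (Nat.coprime_primes hp hr).2 hpr), hx, hy]
  have hnp : ¬ (Nat.card G).Prime := fun h => by
    have h1 := (Nat.prime_dvd_prime_iff_eq hp h).1 (hx ▸ orderOf_dvd_natCard x)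
    have h2 := (Nat.prime_dvd_prime_iff_eq hr h).1 (hy ▸ orderOf_dvd_natCard y)
    exact hpr (h1.trans h2.symm)
  have hZ : Subgroup.center G = ⊥ := by
    rcases IsSimpleGroup.eq_bot_or_eq_top_of_normal (Subgroup.center G) inferInstance with h | h
    · exact h
    · refine absurd (prime_card_of_simple_comm fun u v => ?_) hnp
      exact (Subgroup.mem_center_iff.1 (h ▸ Subgroup.mem_top v) u)
  obtain ⟨M, hMax, hpM⟩ := exists_maximal_above p
  have hM : IsPModular p M := ⟨hp, hMax, hpM⟩
  haveI := isPrime_of_isPModular hM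
  obtain ⟨P⟩ : Nonempty (Sylow p G) := inferInstance
  haveI : Nontrivial (P : Subgroup G) := by
    rw [Subgroup.nontrivial_iff_ne_bot]
    exact P.ne_bot_of_dvd_card (hx ▸ orderOf_dvd_natCard x)
  haveI : Nontrivial (Subgroup.center (P : Subgroup G)) := P.2.center_nontrivial
  obtain ⟨⟨w, hw⟩, hw1⟩ := exists_ne (1 : Subgroup.center (P : Subgroup G))
  have hwc : ∀ u ∈ (P : Subgroup G), u * (w : G) = (w : G) * u := fun u hu =>
    congrArg Subtype.val (Subgroup.mem_center_iff.1 hw ⟨u, hu⟩)
  have hwne : (w : G) ≠ 1 := fun e => hw1 (Subtype.ext (Subtype.ext e))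
  set B := principalBlock M G with hBdef
  set F := Finset.univ.filter (fun χ : IrrCharacter G => χ ∈ B) with hF
  have hpow : ∀ χ ∈ B, ∀ i, charDegree (χ : G → ℂ) = p ^ i → χ = principal G := by
    intro χ hχ i hi
    by_contra hne
    have hfaith : ∀ g : G, (χ : G → ℂ) g = (χ : G → ℂ) 1 → g = 1 := by
      intro g hg
      rcases IsSimpleGroup.eq_bot_or_eq_top_of_normal (charKer χ) (charKer_normal χ) with h | h
      · exact Subgroup.mem_bot.1 (h ▸ mem_charKer.2 hg)
      · exfalso
        have hall : ∀ u : G, (χ : G → ℂ) u = (χ : G → ℂ) 1 := fun u =>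
          mem_charKer.1 (h ▸ Subgroup.mem_top u)
        have h0 := inner_irr_ne hne
        rw [inner_def, Finset.sum_congr rfl (g := fun _ => (χ : G → ℂ) 1)
          (fun u _ => by rw [hall u, principal_apply]; simp), Finset.sum_const, Finset.card_univ,
          nsmul_eq_mul, ← Nat.card_eq_fintype_card, ← mul_assoc, inv_mul_cancel₀ (card_ne_zero G),
          one_mul] at h0
        exact irr_degree_ne_zero χ.2 h0
    have h0 := eq_zero_on_sylow_center hZ P χ hfaith hi hwne hwc
    have h1 := hχ (w : G)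
    rw [centralChar, centralChar, h0, mul_one, div_one, mul_zero, zero_div, sub_zero] at h1
    have hidx := not_dvd_index_centralizer P hwc
    have h2 := MemLocalIdeal.mul_left' (inv_natCast_mem_loc (M := M) hp hpM hidx) h1
    rw [inv_mul_cancel₀ (Nat.cast_ne_zero.mpr Subgroup.index_ne_zero_of_finite)] at h2
    exact not_memLocalIdeal_one h2
  have hterm : ∀ χ ∈ F.erase (principal G),
      IsIntegral ℤ ((χ : G → ℂ) 1 * (starRingEnd ℂ) ((χ : G → ℂ) (x * y)) / (q : ℂ)) := by
    intro χ hχ
    obtain ⟨hne, hχF⟩ := Finset.mem_erase.1 hχ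
    have hχB := (Finset.mem_filter.1 hχF).2
    obtain ⟨d, -, hd, hdvd⟩ := irr_degree_dvd_card χ.2
    by_cases hrd : r ∣ d
    · have h0 : (χ : G → ℂ) (x * y) = 0 := by
        refine eq_zero_of_dvd_orderOf χ.2 hr hd (n := 1) ?_ (by rwa [pow_one]) (by
          rw [hord]; exact dvd_mul_left r p)
        rw [hcard, pow_succ, pow_one]
        intro h
        have h' : r ∣ p ^ a * q ^ b := Nat.dvd_of_mul_dvd_mul_right hr.pos h
        rcases hr.dvd_mul.1 h' with h'' | h''
        · exact hpr ((Nat.prime_dvd_prime_iff_eq hr hp).1 (hr.dvd_of_dvd_pow h'')).symm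
        · exact hqr ((Nat.prime_dvd_prime_iff_eq hr hq).1 (hr.dvd_of_dvd_pow h'')).symm
      rw [h0, map_zero, mul_zero, zero_div]
      exact isIntegral_zero
    by_cases hqd : q ∣ d
    · obtain ⟨d', rfl⟩ := hqd
      have hqC : (q : ℂ) ≠ 0 := Nat.cast_ne_zero.mpr hq.ne_zero
      rw [hd, show ((q * d' : ℕ) : ℂ) * (starRingEnd ℂ) ((χ : G → ℂ) (x * y)) / (q : ℂ) =
        (d' : ℂ) * (starRingEnd ℂ) ((χ : G → ℂ) (x * y)) by push_cast; field_simp]
      exact (isIntegral_natCast d').mul
        (map_isIntegral_int (starRingEnd ℂ) (char_isIntegral (isCharacter_of_irr χ.2) _))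
    exfalso
    rw [hcard] at hdvd
    have h1 : d ∣ p ^ a * q ^ b :=
      ((hr.coprime_iff_not_dvd.2 hrd).symm).dvd_of_dvd_mul_right hdvd
    have h2 : d ∣ p ^ a :=
      (((hq.coprime_iff_not_dvd.2 hqd).symm).pow_right b).dvd_of_dvd_mul_right h1
    obtain ⟨i, -, rfl⟩ := (Nat.dvd_prime_pow hp).1 h2
    exact hne (hpow χ hχB i (by rw [← Nat.cast_inj (R := ℂ), ← deg_eq, hd]))
  have hsum := weak_orthogonality hp hM.2.2 (isPBlock_principalBlock (G := G) M) (x := (1 : G))
    (y := x * y) (by rw [orderOf_one]; exact hp.not_dvd_one) (by rw [hord]; exact dvd_mul_right p r)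
  rw [finsum_mem_eq_sum_of_inter_support_eq (t := F) _ (by ext; simp [hF, hBdef]),
    ← Finset.add_sum_erase _ _ (Finset.mem_filter.2
      ⟨Finset.mem_univ _, principal_mem_principalBlock M⟩ : principal G ∈ F),
    principal_apply, principal_apply, map_one, mul_one] at hsum
  have hint : IsIntegral ℤ ((-1 : ℂ) / (q : ℂ)) := by
    rw [show (-1 : ℂ) = ∑ χ ∈ F.erase (principal G),
      (χ : G → ℂ) 1 * (starRingEnd ℂ) ((χ : G → ℂ) (x * y)) from
        (eq_neg_of_add_eq_zero_right hsum).symm, Finset.sum_div]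
    exact IsIntegral.sum _ hterm
  have h1 : IsIntegral ℤ ((1 : ℕ) / (q : ℂ) : ℂ) := by simpa [neg_div] using hint.neg
  exact hq.one_lt.ne' (Nat.dvd_one.mp (dvd_of_isIntegral_div hq.ne_zero h1))

theorem centralizer_sylow_three_prime {p q r a b : ℕ} (hp : p.Prime) (hq : q.Prime) [Fact r.Prime]
    (hpr : p ≠ r) (hqr : q ≠ r) (hcard : Nat.card G = p ^ a * q ^ b * r) (S : Sylow r G) :
    Subgroup.centralizer (S : Set G) = (S : Subgroup G) := by
  have hr : r.Prime := Fact.out
  have hS : Nat.card S = r := by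
    rw [S.card_eq_multiplicity, hcard, Nat.factorization_mul (mul_ne_zero
      (pow_ne_zero _ hp.ne_zero) (pow_ne_zero _ hq.ne_zero)) hr.ne_zero, Nat.factorization_mul
      (pow_ne_zero _ hp.ne_zero) (pow_ne_zero _ hq.ne_zero), hp.factorization_pow,
      hq.factorization_pow, hr.factorization]
    simp [hpr, hqr]
  haveI : IsCyclic S := isCyclic_of_prime_card hS
  have hSC : (S : Subgroup G) ≤ Subgroup.centralizer (S : Set G) := fun u hu => by
    rw [Subgroup.mem_centralizer_iff]
    intro v hv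
    letI : CommGroup S := IsCyclic.commGroup
    exact congrArg Subtype.val (mul_comm (⟨v, hv⟩ : S) ⟨u, hu⟩)
  have hp' : IsPGroup r (Subgroup.centralizer (S : Set G)) := by
    obtain ⟨y, hy⟩ := exists_prime_orderOf_dvd_card' (G := S) r (by rw [hS])
    set C := Subgroup.centralizer (S : Set G)
    refine IsPGroup.iff_card.2 ⟨(Nat.card C).primeFactorsList.length,
      Nat.eq_prime_pow_of_unique_prime_dvd Nat.card_pos.ne' fun {s} hs hsd => ?_⟩
    by_contra hsr
    haveI := Fact.mk hs
    obtain ⟨c, hc⟩ := exists_prime_orderOf_dvd_card' (G := C) s hsd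
    have hcomm : Commute (c : G) (y : G) :=
      (Subgroup.mem_centralizer_iff.1 c.2 (y : G) y.2).symm
    have hd : s ∣ p ^ a * q ^ b * r := hcard ▸ hsd.trans (Subgroup.card_subgroup_dvd_card _)
    rcases hs.dvd_mul.1 hd with h | h
    · rcases hs.dvd_mul.1 h with h | h
      · obtain rfl := (Nat.prime_dvd_prime_iff_eq hs hp).1 (hs.dvd_of_dvd_pow h)
        exact not_commute_prime_order hp hq hr hpr hqr hcard
          (by rw [Subgroup.orderOf_coe, hc]) (by rw [Subgroup.orderOf_coe, hy]) hcomm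
      · obtain rfl := (Nat.prime_dvd_prime_iff_eq hs hq).1 (hs.dvd_of_dvd_pow h)
        exact not_commute_prime_order hq hp hr hqr hpr
          (hcard.trans (congrArg (· * r) (mul_comm _ _))) (by rw [Subgroup.orderOf_coe, hc])
          (by rw [Subgroup.orderOf_coe, hy]) hcomm
    · exact hsr ((Nat.prime_dvd_prime_iff_eq hs hr).1 h)
  exact S.is_maximal' hp' hSC

end CfsgLib.Blocks
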