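import Mathlib

/-!
# Divisibility of sums invariant under a permutation of prime power order
-/

namespace CfsgLib.Blocks

/-- If `F` is invariant under a permutation of `p`-power order and is divisible by `p ^ j` at every
point of period at most `p ^ (j-1)`, then the whole sum is divisible by `p ^ j`. -/
theorem pow_dvd_sum_of_perm {W A : Type*} [Fintype W] [CommRing A] {p : ℕ} (hp : p.Prime) (a j : ℕ)
    (σ : Equiv.Perm W) (hσ : σ ^ (p ^ a) = 1) (F : W → A) (hF : ∀ w, F (σ w) = F w)
    (hfix : ∀ w, (σ ^ (p ^ (j - 1))) w = w → (p : A) ^ j ∣ F w) :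
    (p : A) ^ j ∣ ∑ w, F w := by
  classical
  let s := MulAction.orbitRel (Subgroup.zpowers σ) W
  rw [← Finset.sum_fiberwise Finset.univ (fun w => (Quotient.mk s w)) F]
  refine Finset.dvd_sum fun q _ => ?_
  obtain ⟨w, rfl⟩ := Quotient.exists_rep q
  have hinv : ∀ k : ℤ, ∀ u, F ((σ ^ k) u) = F u := by
    intro k
    induction k using Int.induction_on with
    | zero => simp
    | succ i ih => intro u; rw [zpow_add_one, Equiv.Perm.mul_apply, ih, hF]
    | pred i ih =>
      intro u; rw [zpow_sub_one, Equiv.Perm.mul_apply, ih]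
      conv_rhs => rw [← Equiv.apply_symm_apply σ u, hF]
      rfl
  have hfib : ∀ u, u ∈ Finset.univ.filter (fun v => Quotient.mk s v = Quotient.mk s w) ↔
      u ∈ MulAction.orbit (Subgroup.zpowers σ) w := fun u => by
    rw [Finset.mem_filter, Quotient.eq]
    simp [s, MulAction.orbitRel_apply]
  rw [Finset.sum_congr rfl (g := fun _ => F w) fun u hu => ?_, Finset.sum_const, nsmul_eq_mul]
  swap
  · obtain ⟨⟨_, k, rfl⟩, rfl⟩ := (hfib u).1 hu
    exact hinv k w
  have hcard : (Finset.univ.filter (fun v => Quotient.mk s v = Quotient.mk s w)).card =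
      Function.minimalPeriod σ w := by
    have hmp := MulAction.minimalPeriod_eq_card (a := σ) (b := w)
    simp only [Equiv.Perm.smul_def] at hmp
    rw [hmp, ← Fintype.card_coe]
    exact Fintype.card_congr (Equiv.subtypeEquivRight hfib)
  rw [hcard]
  have hper : Function.IsPeriodicPt σ (p ^ a) w := by
    show σ^[p ^ a] w = w
    rw [← Equiv.Perm.coe_pow, hσ]; rfl
  obtain ⟨i, -, hi⟩ := (Nat.dvd_prime_pow hp).1 hper.minimalPeriod_dvd
  rw [hi]
  rcases Nat.lt_or_ge i j with hij | hij
  · refine Dvd.dvd.mul_left (hfix w ?_) _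
    rw [Equiv.Perm.coe_pow]
    exact ((Function.isPeriodicPt_minimalPeriod σ w).trans_dvd
      (hi ▸ pow_dvd_pow p (by omega)))
  · push_cast
    exact Dvd.dvd.mul_right (pow_dvd_pow _ hij) _

/-- The congruence modulo `p` : a sum invariant under a group of `p`-power order agrees with the sum
over the fixed points in characteristic `p`. -/
theorem sum_eq_sum_fixedPoints {P W A : Type*} [Group P] [MulAction P W] [Fintype W] [CommRing A]
    (p : ℕ) [Fact p.Prime] [CharP A p] (hP : IsPGroup p P) (F : W → A)
    (hF : ∀ (g : P) (w : W), F (g • w) = F w)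
    [DecidablePred (fun w => w ∈ MulAction.fixedPoints P W)] :
    ∑ w, F w = ∑ w ∈ Finset.univ.filter (fun w => w ∈ MulAction.fixedPoints P W), F w := by
  classical
  let s := MulAction.orbitRel P W
  rw [← Finset.sum_fiberwise Finset.univ (fun w => (Quotient.mk s w)) F,
    ← Finset.sum_fiberwise (Finset.univ.filter (fun w => w ∈ MulAction.fixedPoints P W))
      (fun w => (Quotient.mk s w)) F]
  refine Finset.sum_congr rfl fun q _ => ?_
  obtain ⟨w, rfl⟩ := Quotient.exists_rep q
  have hfib : ∀ u, Quotient.mk s u = Quotient.mk s w ↔ u ∈ MulAction.orbit P w := fun u => by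
    rw [Quotient.eq]
    simp [s, MulAction.orbitRel_apply]
  by_cases hw : w ∈ MulAction.fixedPoints P W
  · refine Finset.sum_congr ?_ fun _ _ => rfl
    ext u
    simp only [Finset.mem_filter, Finset.mem_univ, true_and, iff_and_self]
    intro hu
    obtain ⟨g, rfl⟩ := (hfib u).1 hu
    show g • w ∈ _
    rw [hw g]
    exact hw
  · rw [Finset.sum_congr rfl (g := fun _ => F w) fun u hu => ?_, Finset.sum_const, nsmul_eq_mul]
    swap
    · obtain ⟨g, rfl⟩ := (hfib u).1 (Finset.mem_filter.1 hu).2
      exact hF g w
    rw [Finset.sum_eq_zero (s := Finset.filter _ (Finset.univ.filter _))]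
    swap
    · intro u hu
      simp only [Finset.mem_filter, Finset.mem_univ, true_and] at hu
      obtain ⟨g, rfl⟩ := (hfib u).1 hu.2
      refine absurd ?_ hw
      have h1 := hu.1 g⁻¹
      rw [inv_smul_smul] at h1
      rw [h1]
      exact hu.1
    have hcard : (Finset.univ.filter (fun v => Quotient.mk s v = Quotient.mk s w)).card =
        Nat.card (MulAction.orbit P w) := by
      rw [Nat.card_eq_fintype_card, ← Fintype.card_coe]
      exact Fintype.card_congr (Equiv.subtypeEquivRight fun u => by
        simp only [Finset.mem_filter, Finset.mem_univ, true_and]; exact hfib u)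
    obtain ⟨n, hn⟩ := hP.card_orbit w
    rw [hcard, hn]
    rcases Nat.eq_zero_or_pos n with rfl | hn0
    · exfalso
      apply hw
      rw [pow_zero, Nat.card_eq_one_iff_unique] at hn
      intro g
      exact congrArg Subtype.val (hn.1.elim (⟨g • w, MulAction.mem_orbit w g⟩ : MulAction.orbit P w)
        ⟨w, MulAction.mem_orbit_self w⟩)
    · have : ((p ^ n : ℕ) : A) = 0 := by
        push_cast
        rw [CharP.cast_eq_zero A p, zero_pow (by omega)]
      rw [this, zero_mul]

end CfsgLib.Blocks
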