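import Cfsg.Agent.Lib.Blocks.Center
import Cfsg.Agent.Lib.Base.Transport

/-!
# Defect classes and defect groups: the min–max theorem
-/

set_option linter.unusedSectionVars false
set_option linter.style.haveILetI false

namespace CfsgLib.Blocks

open Cfsg Chars

variable {G : Type*} [Group G]

/-! ## `p`-subgroups of a subgroup -/

/-- A `p`-subgroup of `H` is conjugate in `H` into any Sylow `p`-subgroup of `H`. -/
theorem exists_conj_le_sylow [Finite G] {p : ℕ} [Fact p.Prime] {H P : Subgroup G}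
    (hP : IsPGroup p P) (hPH : P ≤ H) (S : Sylow p H) :
    ∃ h ∈ H, P.map (MulAut.conj h).toMonoidHom ≤ (S : Subgroup H).map H.subtype := by
  have hP' : IsPGroup p (P.subgroupOf H) := hP.of_equiv (Subgroup.subgroupOfEquivOfLe hPH).symm
  obtain ⟨Q, hQ⟩ := hP'.exists_le_sylow
  obtain ⟨h, hh⟩ := MulAction.exists_smul_eq H Q S
  refine ⟨h, h.2, ?_⟩
  rintro x ⟨u, hu, rfl⟩
  refine ⟨h * ⟨u, hPH hu⟩ * h⁻¹, ?_, by simp⟩
  rw [← hh]
  exact ⟨⟨u, hPH hu⟩, hQ (Subgroup.mem_subgroupOf.2 hu), rfl⟩

theorem map_conj_map_conj (x y : G) (P : Subgroup G) :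
    (P.map (MulAut.conj x).toMonoidHom).map (MulAut.conj y).toMonoidHom =
      P.map (MulAut.conj (y * x)).toMonoidHom := by
  rw [Subgroup.map_map]
  congr 1
  ext g
  simp [mul_assoc]

theorem map_conj_one (P : Subgroup G) : P.map (MulAut.conj (1 : G)).toMonoidHom = P := by
  ext g
  simp

theorem conj_mem_centralizer {P : Subgroup G} {c : G} (hc : c ∈ Subgroup.centralizer (P : Set G))
    (x : G) : x * c * x⁻¹ ∈
      Subgroup.centralizer (P.map (MulAut.conj x).toMonoidHom : Set G) := by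
  rw [Subgroup.mem_centralizer_iff]
  rintro _ ⟨u, hu, rfl⟩
  show x * u * x⁻¹ * (x * c * x⁻¹) = x * c * x⁻¹ * (x * u * x⁻¹)
  have := Subgroup.mem_centralizer_iff.1 hc u hu
  calc x * u * x⁻¹ * (x * c * x⁻¹) = x * (u * c) * x⁻¹ := by group
    _ = x * (c * u) * x⁻¹ := by rw [this]
    _ = _ := by group

theorem mem_centralizer_of_le {P : Subgroup G} {g : G}
    (h : P ≤ Subgroup.centralizer ({g} : Set G)) : g ∈ Subgroup.centralizer (P : Set G) := by
  rw [Subgroup.mem_centralizer_iff]
  intro u hu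
  exact Subgroup.mem_centralizer_singleton_iff.1 (h hu)

theorem le_centralizer_singleton {P : Subgroup G} {g : G}
    (h : g ∈ Subgroup.centralizer (P : Set G)) : P ≤ Subgroup.centralizer ({g} : Set G) :=
  fun u hu => Subgroup.mem_centralizer_singleton_iff.2 (Subgroup.mem_centralizer_iff.1 h u hu)

/-- A `p`-group centralizing a conjugate of `g` is conjugate into a Sylow subgroup of the
centralizer of `g`. -/
theorem exists_conj_le_of_centralizes [Finite G] {p : ℕ} [Fact p.Prime] {P : Subgroup G}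
    (hP : IsPGroup p P) {g c : G} (hgc : IsConj g c) (hc : c ∈ Subgroup.centralizer (P : Set G))
    (S : Sylow p (Subgroup.centralizer ({g} : Set G))) :
    ∃ x : G, P.map (MulAut.conj x).toMonoidHom ≤
      (S : Subgroup (Subgroup.centralizer ({g} : Set G))).map
        (Subgroup.centralizer ({g} : Set G)).subtype := by
  obtain ⟨x, rfl⟩ := isConj_iff.1 hgc
  have h1 := conj_mem_centralizer hc x⁻¹
  rw [show x⁻¹ * (x * g * x⁻¹) * x⁻¹⁻¹ = g by group] at h1
  obtain ⟨h, -, hle⟩ := exists_conj_le_sylow (hP.map _) (le_centralizer_singleton h1) S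
  rw [map_conj_map_conj] at hle
  exact ⟨h * x⁻¹, hle⟩

/-- The defect group of a class as a subgroup of `G`. -/
theorem mem_centralizer_sylow {p : ℕ} (g : G) (S : Sylow p (Subgroup.centralizer ({g} : Set G))) :
    g ∈ Subgroup.centralizer (((S : Subgroup (Subgroup.centralizer ({g} : Set G))).map
      (Subgroup.centralizer ({g} : Set G)).subtype : Subgroup G) : Set G) :=
  mem_centralizer_of_le (Subgroup.map_subtype_le _)

theorem isPGroup_sylow_map {p : ℕ} (H : Subgroup G) (S : Sylow p H) :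
    IsPGroup p ((S : Subgroup H).map H.subtype) :=
  S.isPGroup'.map _

/-! ## Min–max -/

variable [Fintype G] {M : Ideal AlgInt} [M.IsPrime] {p : ℕ} [Fact p.Prime] {B : Set (IrrCharacter G)}

/-- If the block idempotent does not vanish modulo `M` somewhere on `C(P)`, then neither does any
class sum on which the central character of the block is a unit. -/
theorem exists_conj_mem_centralizer (hpM : (p : AlgInt) ∈ M) (hB : IsPBlock M B) {P : Subgroup G}
    (hP : IsPGroup p P) {c : G} (hc : c ∈ Subgroup.centralizer (P : Set G))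
    (hcoef : ¬ MemLocalIdeal M (blockCoeff B c)) {χ : IrrCharacter G} (hχ : χ ∈ B) {g : G}
    (hg : ¬ MemLocalIdeal M (centralChar (χ : G → ℂ) g)) :
    ∃ g' : G, IsConj g g' ∧ g' ∈ Subgroup.centralizer (P : Set G) := by
  by_contra hcon
  rw [not_exists] at hcon
  haveI := charP_resField (M := M) (Fact.out (p := p.Prime)) hpM
  set C := Subgroup.centralizer (P : Set G)
  have ha : IsLocClassFun M (classInd g) := isLocClassFun_classInd g
  rw [← omega_classInd] at hg
  obtain ⟨w, hw, hE⟩ := exists_blockIdem_eq_mul hB ha hχ hg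
  have hcutA : cut (C : Set G) (redFun (classInd g) ha.2) = 0 := by
    apply MonoidAlgebra.ext
    ext x
    by_cases hx : x ∈ C
    · rw [coeff_cut_of_mem _ hx, MonoidAlgebra.coeff_zero, Finsupp.coe_zero, Pi.zero_apply,
        coeff_redFun_eq_zero_iff, classInd_apply, if_neg fun h => hcon x ⟨h, hx⟩]
      exact MemLocalIdeal.zero'
    · rw [coeff_cut_of_notMem _ hx]; simp
  have hwfix : IsFixedBy P w := isFixedBy_iff_commute.2 fun _ _ => hw _
  have h0 : cut (C : Set G) (blockIdem hB) = 0 := by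
    rw [hE, cut_mul p hP ((isFixedBy_blockIdem hB P).mul (isFixedBy_redFun ha P)) hwfix,
      cut_mul p hP (isFixedBy_blockIdem hB P) (isFixedBy_redFun ha P), hcutA, mul_zero, zero_mul]
  apply hcoef
  rw [← coeff_blockIdem_eq_zero_iff hB, ← coeff_cut_of_mem (blockIdem hB) hc, h0]
  simp

/-- **Min–max, general form.** If the idempotent coefficient at `h` and the central character at `g`
are units modulo `M`, then the Sylow subgroup of `C(h)` is conjugate into that of `C(g)`. -/
theorem exists_conj_sylow_le (hpM : (p : AlgInt) ∈ M) (hB : IsPBlock M B) {h g : G}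
    (hcoef : ¬ MemLocalIdeal M (blockCoeff B h)) {χ : IrrCharacter G} (hχ : χ ∈ B)
    (hg : ¬ MemLocalIdeal M (centralChar (χ : G → ℂ) g))
    (T : Sylow p (Subgroup.centralizer ({h} : Set G)))
    (S : Sylow p (Subgroup.centralizer ({g} : Set G))) :
    ∃ x : G, ((T : Subgroup (Subgroup.centralizer ({h} : Set G))).map
        (Subgroup.centralizer ({h} : Set G)).subtype).map (MulAut.conj x).toMonoidHom ≤
      (S : Subgroup (Subgroup.centralizer ({g} : Set G))).map
        (Subgroup.centralizer ({g} : Set G)).subtype := by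
  obtain ⟨g', hgg', hg'⟩ := exists_conj_mem_centralizer hpM hB (isPGroup_sylow_map _ T)
    (mem_centralizer_sylow h T) hcoef hχ hg
  exact exists_conj_le_of_centralizes (isPGroup_sylow_map _ T) hgg' hg' S

theorem card_le_of_map_conj_le {P Q : Subgroup G} {x : G}
    (h : P.map (MulAut.conj x).toMonoidHom ≤ Q) : Nat.card P ≤ Nat.card Q :=
  (Subgroup.card_map_of_injective (MulAut.conj x).injective).ge.trans
    (Subgroup.card_le_of_le h)

/-- A defect class exists. -/
theorem exists_isDefectClass (hB : IsPBlock M B) : ∃ g : G, IsDefectClass M B g := by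
  classical
  by_contra hcon
  obtain ⟨χ₀, hχ₀⟩ := IsPBlock.nonempty hB
  have h1 := omega_blockCoeff B χ₀
  rw [if_pos hχ₀] at h1
  haveI := Fintype.ofFinite (ConjClasses G)
  rw [omega_eq_sum_centralChar χ₀ (isClassFunction_blockCoeff B)] at h1
  apply not_memLocalIdeal_one (M := M)
  rw [← h1]
  refine MemLocalIdeal.sum' fun C _ => ?_
  have hl := blockCoeff_mem_loc hB (classRep C)
  have hc := centralChar_mem_loc (M := M) χ₀ (classRep C)
  by_cases ha : MemLocalIdeal M (blockCoeff B (classRep C))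
  · exact MemLocalIdeal.mul_right' ha hc
  by_cases hw : MemLocalIdeal M (centralChar (χ₀ : G → ℂ) (classRep C))
  · exact MemLocalIdeal.mul_left' hl hw
  refine absurd ⟨_, hl, ha, fun χ hχ h => hw ?_⟩ hcon
  have h2 := MemLocalIdeal.add' (IsPBlock.sameBlock hB hχ₀ hχ (classRep C)) h
  rwa [sub_add_cancel] at h2

theorem IsPBlock.memLocalIdeal_centralChar_iff (hB : IsPBlock M B) {χ ψ : IrrCharacter G}
    (hχ : χ ∈ B) (hψ : ψ ∈ B) (g : G) :
    MemLocalIdeal M (centralChar (χ : G → ℂ) g) ↔ MemLocalIdeal M (centralChar (ψ : G → ℂ) g) := by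
  constructor <;> intro h
  · have h2 := MemLocalIdeal.add' (IsPBlock.sameBlock hB hψ hχ g) h
    rwa [sub_add_cancel] at h2
  · have h2 := MemLocalIdeal.add' (IsPBlock.sameBlock hB hχ hψ g) h
    rwa [sub_add_cancel] at h2

/-- A defect class is `p`-regular. -/
theorem IsDefectClass.regular (hpM : (p : AlgInt) ∈ M) (hB : IsPBlock M B) {g : G}
    (hg : IsDefectClass M B g) : ¬ p ∣ orderOf g := fun h =>
  hg.2.1 (by rw [blockCoeff_eq_zero_of_dvd (Fact.out (p := p.Prime)) hpM hB h]; exact MemLocalIdeal.zero')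

theorem exists_isDefectGroup (hB : IsPBlock M B) : ∃ D : Subgroup G, IsDefectGroup p M B D := by
  obtain ⟨g, hg⟩ := exists_isDefectClass hB
  exact ⟨_, g, hg, default, rfl⟩

theorem IsDefectGroup.isPGroup {D : Subgroup G} (hD : IsDefectGroup p M B D) : IsPGroup p D := by
  obtain ⟨g, -, P, rfl⟩ := hD
  exact isPGroup_sylow_map _ P

/-- Defect groups of a block are conjugate. -/
theorem IsDefectGroup.exists_conj_eq (hpM : (p : AlgInt) ∈ M) (hB : IsPBlock M B) {D E : Subgroup G}
    (hD : IsDefectGroup p M B D) (hE : IsDefectGroup p M B E) :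
    ∃ x : G, D.map (MulAut.conj x).toMonoidHom = E := by
  obtain ⟨g, hg, P, rfl⟩ := hD
  obtain ⟨h, hh, Q, rfl⟩ := hE
  obtain ⟨χ, hχ⟩ := IsPBlock.nonempty hB
  obtain ⟨x, hx⟩ := exists_conj_sylow_le hpM hB hg.2.1 hχ (hh.2.2 χ hχ) P Q
  obtain ⟨y, hy⟩ := exists_conj_sylow_le hpM hB hh.2.1 hχ (hg.2.2 χ hχ) Q P
  refine ⟨x, Subgroup.eq_of_le_of_card_ge hx ?_⟩
  rw [Base.card_map_conj]
  exact card_le_of_map_conj_le hy

theorem IsDefectGroup.map_conj {D : Subgroup G} (hD : IsDefectGroup p M B D) (x : G)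
    (hB : IsPBlock M B) : IsDefectGroup p M B (D.map (MulAut.conj x).toMonoidHom) := by
  obtain ⟨g, hg, P, rfl⟩ := hD
  have hconj : IsConj g (x * g * x⁻¹) := isConj_iff.2 ⟨x, rfl⟩
  refine ⟨x * g * x⁻¹, ⟨?_, ?_, fun χ hχ => ?_⟩, ?_⟩
  · rw [← classFun_of_isConj (isClassFunction_blockCoeff B) hconj]; exact hg.1
  · rw [← classFun_of_isConj (isClassFunction_blockCoeff B) hconj]; exact hg.2.1
  · rw [← centralChar_of_isConj χ hconj]; exact hg.2.2 χ hχ
  · set Q := ((P : Subgroup (Subgroup.centralizer ({g} : Set G))).map (Subgroup.centralizer ({g} : Set G)).subtype).map (MulAut.conj x).toMonoidHom with hQ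
    have hQp : IsPGroup p Q := (isPGroup_sylow_map (Subgroup.centralizer ({g} : Set G)) P).map _
    have hQH : Q ≤ (Subgroup.centralizer ({x * g * x⁻¹} : Set G)) := le_centralizer_singleton (conj_mem_centralizer (mem_centralizer_sylow g P) x)
    obtain ⟨S⟩ : Nonempty (Sylow p (Subgroup.centralizer ({x * g * x⁻¹} : Set G))) := inferInstance
    obtain ⟨h, hh, hle⟩ := exists_conj_le_sylow hQp hQH S
    obtain ⟨z, hz⟩ := exists_conj_le_of_centralizes (isPGroup_sylow_map (Subgroup.centralizer ({x * g * x⁻¹} : Set G)) S) hconj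
      (mem_centralizer_sylow _ S) P
    have heq : Q.map (MulAut.conj h).toMonoidHom = (S : Subgroup (Subgroup.centralizer ({x * g * x⁻¹} : Set G))).map (Subgroup.centralizer ({x * g * x⁻¹} : Set G)).subtype := by
      refine Subgroup.eq_of_le_of_card_ge hle ?_
      rw [hQ, Base.card_map_conj, Base.card_map_conj]
      exact card_le_of_map_conj_le hz
    refine ⟨(⟨h, hh⟩ : (Subgroup.centralizer ({x * g * x⁻¹} : Set G)))⁻¹ • S, ?_⟩
    ext u
    rw [Sylow.coe_subgroup_smul]
    constructor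
    · intro hu
      have h1 : h * u * h⁻¹ ∈ (S : Subgroup (Subgroup.centralizer ({x * g * x⁻¹} : Set G))).map (Subgroup.centralizer ({x * g * x⁻¹} : Set G)).subtype := heq ▸ ⟨u, hu, rfl⟩
      obtain ⟨s, hs, hse⟩ := h1
      refine ⟨(⟨h, hh⟩ : (Subgroup.centralizer ({x * g * x⁻¹} : Set G)))⁻¹ * s * ⟨h, hh⟩, ⟨s, hs, by simp⟩, ?_⟩
      have hse' : ((s : (Subgroup.centralizer ({x * g * x⁻¹} : Set G))) : G) = h * u * h⁻¹ := hse
      simp [hse', mul_assoc]
    · rintro ⟨_, ⟨s, hs, rfl⟩, rfl⟩
      have h1 : (s : G) ∈ Q.map (MulAut.conj h).toMonoidHom := heq ▸ ⟨s, hs, rfl⟩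
      obtain ⟨q, hq, hqs⟩ := h1
      have hqs' : h * q * h⁻¹ = (s : G) := hqs
      have : h⁻¹ * (s : G) * h = q := by rw [← hqs']; group
      simpa [this] using hq

/-- The class of an element with unit central character has a conjugate centralizing any defect
group; its Sylow subgroups of the centralizer contain a defect group. -/
theorem IsDefectGroup.exists_conj_mem_centralizer (hpM : (p : AlgInt) ∈ M) (hB : IsPBlock M B)
    {D : Subgroup G} (hD : IsDefectGroup p M B D) {χ : IrrCharacter G} (hχ : χ ∈ B) {g : G}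
    (hg : ¬ MemLocalIdeal M (centralChar (χ : G → ℂ) g)) :
    ∃ g' : G, IsConj g g' ∧ g' ∈ Subgroup.centralizer (D : Set G) := by
  obtain ⟨h, hh, P, rfl⟩ := hD
  exact Blocks.exists_conj_mem_centralizer hpM hB (isPGroup_sylow_map _ P)
    (mem_centralizer_sylow h P) hh.2.1 hχ hg

/-- A `p`-subgroup centralizing an element at which the block idempotent is a unit is conjugate
into the defect group. -/
theorem IsDefectGroup.exists_map_conj_le (hpM : (p : AlgInt) ∈ M) (hB : IsPBlock M B)
    {D : Subgroup G} (hD : IsDefectGroup p M B D) {Q : Subgroup G} (hQ : IsPGroup p Q) {c : G}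
    (hc : c ∈ Subgroup.centralizer (Q : Set G)) (hcoef : ¬ MemLocalIdeal M (blockCoeff B c)) :
    ∃ x : G, Q.map (MulAut.conj x).toMonoidHom ≤ D := by
  obtain ⟨g, hg, P, rfl⟩ := hD
  obtain ⟨χ, hχ⟩ := IsPBlock.nonempty hB
  obtain ⟨g', h1, h2⟩ := Blocks.exists_conj_mem_centralizer hpM hB hQ hc hcoef hχ (hg.2.2 χ hχ)
  exact exists_conj_le_of_centralizes hQ h1 h2 P

end CfsgLib.Blocks
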