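import Cfsg.Agent.Lib.Blocks.Covering
import Cfsg.Agent.Lib.Blocks.Correspondence
import Cfsg.Agent.Lib.BlockOrth.DefectOrder

/-!
# Blocks of `P C(P)`: transport, transitivity, the extended first main theorem
-/

set_option linter.unusedSectionVars false
set_option linter.style.haveILetI false

namespace CfsgLib.Blocks

open Cfsg Chars

section Transport

variable {K H : Type*} [Group K] [Group H] [Fintype K] [Fintype H] {M : Ideal AlgInt} [M.IsPrime]

/-- Transport of an irreducible character along an isomorphism. -/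
def pullIrr (e : K ≃* H) (φ : IrrCharacter H) : IrrCharacter K :=
  ⟨fun x => (φ : H → ℂ) (e x), isIrrCharacter_comp e.toMonoidHom e.surjective φ.2⟩

omit [Fintype K] [Fintype H] in
theorem pullIrr_apply (e : K ≃* H) (φ : IrrCharacter H) (x : K) :
    (pullIrr e φ : K → ℂ) x = (φ : H → ℂ) (e x) := rfl

theorem omega_pullIrr (e : K ≃* H) (φ : IrrCharacter H) (a : K → ℂ) :
    omega (pullIrr e φ : K → ℂ) a = omega (φ : H → ℂ) (fun h => a (e.symm h)) := by
  rw [omega, omega, pullIrr_apply, map_one]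
  congr 1
  rw [← Equiv.sum_comp e.toEquiv (fun h => a (e.symm h) * (φ : H → ℂ) h)]
  simp [pullIrr_apply]

omit [Fintype K] [Fintype H] in
theorem classInd_symm (e : K ≃* H) (x : K) (h : H) :
    classInd x (e.symm h) = classInd (e x) h := by
  have hiff : IsConj x (e.symm h) ↔ IsConj (e x) h := by
    constructor
    · intro hc
      simpa using e.toMonoidHom.map_isConj hc
    · intro hc
      simpa using e.symm.toMonoidHom.map_isConj hc
  by_cases hc : IsConj (e x) h
  · rw [classInd_apply, classInd_apply, if_pos hc, if_pos (hiff.2 hc)]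
  · rw [classInd_apply, classInd_apply, if_neg hc, if_neg (hiff.not.2 hc)]

theorem centralChar_pullIrr (e : K ≃* H) (φ : IrrCharacter H) (x : K) :
    centralChar (pullIrr e φ : K → ℂ) x = centralChar (φ : H → ℂ) (e x) := by
  rw [← omega_classInd, ← omega_classInd, omega_pullIrr]
  simp only [classInd_symm]

theorem sameBlock_pullIrr (e : K ≃* H) {φ ψ : IrrCharacter H} :
    SameBlock M (pullIrr e φ : K → ℂ) (pullIrr e ψ : K → ℂ) ↔
      SameBlock M (φ : H → ℂ) (ψ : H → ℂ) := by
  constructor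
  · intro h x
    have := h (e.symm x)
    rwa [centralChar_pullIrr, centralChar_pullIrr, e.apply_symm_apply] at this
  · intro h x
    rw [centralChar_pullIrr, centralChar_pullIrr]
    exact h _

theorem pullIrr_symm (e : K ≃* H) (ψ : IrrCharacter K) : pullIrr e (pullIrr e.symm ψ) = ψ :=
  Subtype.ext (funext fun x => congrArg (ψ : K → ℂ) (e.symm_apply_apply x))

theorem isPBlock_image_pullIrr (e : K ≃* H) {b : Set (IrrCharacter H)} (hb : IsPBlock M b) :
    IsPBlock M (pullIrr e '' b) := by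
  obtain ⟨φ, rfl⟩ := hb
  refine ⟨pullIrr e φ, Set.ext fun ψ => ⟨?_, fun h => ?_⟩⟩
  · rintro ⟨φ', h', rfl⟩
    exact (sameBlock_pullIrr e).2 h'
  · refine ⟨pullIrr e.symm ψ, ?_, pullIrr_symm e ψ⟩
    rw [← pullIrr_symm e ψ] at h
    exact (sameBlock_pullIrr e).1 h

end Transport

variable {G : Type*} [Group G] [Fintype G] {M : Ideal AlgInt} [M.IsPrime] {p : ℕ} [Fact p.Prime]

/-- Induction of blocks is transitive. -/
theorem IsInducedBlock.trans' {L N : Subgroup G} [Fintype L] [Fintype N] [Fintype (L.subgroupOf N)]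
    (hLN : L ≤ N) {b : Set (IrrCharacter L)} {b' : Set (IrrCharacter N)} {B : Set (IrrCharacter G)}
    (h1 : IsInducedBlock M (L.subgroupOf N)
      (pullIrr (Subgroup.subgroupOfEquivOfLe hLN) '' b) b')
    (h2 : IsInducedBlock M N b' B) (hb : IsPBlock M b) : IsInducedBlock M L b B := by
  refine ⟨hb, h2.2.1, fun ξ hξ χ hχ g => ?_⟩
  obtain ⟨η, hη⟩ := IsPBlock.nonempty h1.2.1
  have ha : IsLocClassFun M (resFun N (classInd g)) :=
    isLocClassFun_resFun N (isLocClassFun_classInd g)
  have e1 := IsInducedBlock.omega_sub h1 ⟨ξ, hξ, rfl⟩ hη ha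
  have e2 := IsInducedBlock.omega_sub h2 hη hχ (isLocClassFun_classInd (M := M) g)
  rw [omega_classInd] at e2
  have e3 : omega (pullIrr (Subgroup.subgroupOfEquivOfLe hLN) ξ : L.subgroupOf N → ℂ)
      (resFun (L.subgroupOf N) (resFun N (classInd g))) = inducedCentralChar L (ξ : L → ℂ) g := by
    rw [omega_pullIrr, inducedCentralChar_eq]
    rfl
  rw [e3] at e1
  have := MemLocalIdeal.add' e1 e2
  rwa [sub_add_sub_cancel] at this

theorem le_normalizer_sup_centralizer (P : Subgroup G) :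
    Subgroup.normalizer (P : Set G) ≤
      Subgroup.normalizer ((P ⊔ Subgroup.centralizer (P : Set G) : Subgroup G) : Set G) := by
  intro x hx
  rw [Subgroup.mem_normalizer_iff]
  have key : ∀ y ∈ Subgroup.normalizer (P : Set G), ∀ u ∈ P ⊔ Subgroup.centralizer (P : Set G),
      y * u * y⁻¹ ∈ P ⊔ Subgroup.centralizer (P : Set G) := by
    intro y hy u hu
    have : (P ⊔ Subgroup.centralizer (P : Set G)).map (MulAut.conj y).toMonoidHom ≤
        P ⊔ Subgroup.centralizer (P : Set G) := by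
      rw [Subgroup.map_sup, map_conj_eq_of_mem_normalizer hy]
      refine sup_le le_sup_left (le_trans ?_ le_sup_right)
      rintro _ ⟨c, hc, rfl⟩
      exact (conj_mem_centralizer_iff hy c).2 hc
    exact this ⟨u, hu, rfl⟩
  intro u
  refine ⟨key x hx u, fun h => ?_⟩
  have := key x⁻¹ (inv_mem hx) _ h
  simpa [mul_assoc] using this

/-- A block covering a block of `Q C(Q)`, with `Q` a normal `p`-subgroup, is induced from it. -/
theorem isInducedBlock_of_covering (hpM : (p : AlgInt) ∈ M) {Q N : Subgroup G} [Q.Normal] [N.Normal]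
    [Fintype N] (hQ : IsPGroup p Q) (hCN : Subgroup.centralizer (Q : Set G) ≤ N)
    {b : Set (IrrCharacter N)} (hb : IsPBlock M b) {B : Set (IrrCharacter G)} (hB : IsPBlock M B)
    (hcov : ∃ χ ∈ B, ∃ θ ∈ b, classInner (fun n : N => (χ : G → ℂ) n) (θ : N → ℂ) ≠ 0) :
    IsInducedBlock M N b B := by
  refine ⟨hb, hB, fun θ hθ χ hχ g => ?_⟩
  by_cases hg : g ∈ N
  · have h := (covering_iff N hB hb).1 hcov χ hχ θ hθ ⟨g, hg⟩
    rw [← neg_sub]
    exact MemLocalIdeal.neg' h
  · classical
    have h0 : inducedCentralChar N (θ : N → ℂ) g = 0 := by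
      rw [inducedCentralChar_eq, omega, div_eq_zero_iff]
      left
      refine Finset.sum_eq_zero fun n _ => ?_
      rw [resFun, classInd_apply, if_neg, zero_mul]
      intro h
      obtain ⟨c, hc⟩ := isConj_iff.1 h.symm
      exact hg (hc ▸ Subgroup.Normal.conj_mem inferInstance _ n.2 c)
    rw [h0, zero_sub]
    exact MemLocalIdeal.neg' (centralChar_mem_of_not_meet hpM hQ (fun x hx hxC => hg (by
      obtain ⟨c, hc⟩ := isConj_iff.1 hx.symm
      exact hc ▸ Subgroup.Normal.conj_mem inferInstance _ (hCN hxC) c)) χ)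

/-- The extended first main theorem, existence. -/
theorem extended_first_main_exists (hpM : (p : AlgInt) ∈ M) {B : Set (IrrCharacter G)}
    (hB : IsPBlock M B) {P L : Subgroup G} (hP : IsDefectGroup p M B P) (hPL : P ≤ L)
    (hCL : Subgroup.centralizer (P : Set G) ≤ L) (hLN : L ≤ Subgroup.normalizer (P : Set G)) :
    ∃ b : Set (IrrCharacter L), IsDefectGroup p M b (P.subgroupOf L) ∧
      IsInducedBlock M L b B := by
  haveI := Fintype.ofFinite L
  have hD := IsDefectGroup.isPGroup hP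
  obtain ⟨g, hg, S, hS⟩ := id hP
  obtain ⟨b, hind⟩ := exists_block_inducing hpM hD hPL hCL hLN hB
    (hS ▸ mem_centralizer_sylow g S) hg.2.1
  refine ⟨b, ?_, hind⟩
  obtain ⟨E, hE⟩ := exists_isDefectGroup (p := p) hind.1
  haveI : (P.subgroupOf L).Normal := (Subgroup.normal_subgroupOf_iff_le_normalizer hPL).2 hLN
  have hle := IsDefectGroup.normal_le hpM hind.1 hE
    (hD.of_equiv (Subgroup.subgroupOfEquivOfLe hPL).symm)
  obtain ⟨F, hF, hEF⟩ := IsInducedBlock.exists_defect_le hpM hind hE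
  obtain ⟨x, hx⟩ := IsDefectGroup.exists_conj_eq hpM hB hF hP
  have hcard : Nat.card E ≤ Nat.card (P.subgroupOf L) := by
    rw [Base.card_subgroupOf hPL, ← Base.card_map_subtype E]
    exact (Subgroup.card_le_of_le hEF).trans (card_le_of_map_conj_le hx.le)
  rwa [Subgroup.eq_of_le_of_card_ge hle hcard]

/-- The extended first main theorem, conjugacy. -/
theorem extended_first_main_unique (hpM : (p : AlgInt) ∈ M) {B : Set (IrrCharacter G)}
    (hB : IsPBlock M B) {P : Subgroup G} (hP : IsDefectGroup p M B P)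
    {L : Subgroup G} (hL : L = P ⊔ Subgroup.centralizer (P : Set G))
    {b b' : Set (IrrCharacter L)}
    (h : IsInducedBlock M L b B) (h' : IsInducedBlock M L b' B) :
    ∃ n ∈ Subgroup.normalizer (P : Set G), ∀ θ ∈ b, ∃ θ' ∈ b',
      ∀ x : L, ∀ hx : n * (x : G) * n⁻¹ ∈ L,
        (θ' : L → ℂ) x = (θ : L → ℂ) ⟨n * (x : G) * n⁻¹, hx⟩ := by
  classical
  set N := Subgroup.normalizer (P : Set G) with hN
  have hPp := IsDefectGroup.isPGroup hP
  have hLN : L ≤ N := hL.trans_le <| sup_le Subgroup.le_normalizer (Subgroup.centralizer_le_normalizer _)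
  haveI := Fintype.ofFinite L
  haveI := Fintype.ofFinite N
  haveI := Fintype.ofFinite (L.subgroupOf N)
  haveI : (L.subgroupOf N).Normal :=
    (Subgroup.normal_subgroupOf_iff_le_normalizer hLN).2 (hL.symm ▸ le_normalizer_sup_centralizer P)
  set e := Subgroup.subgroupOfEquivOfLe hLN
  have hP' : IsPGroup p (P.subgroupOf N) :=
    hPp.of_equiv (Subgroup.subgroupOfEquivOfLe Subgroup.le_normalizer).symm
  haveI : (P.subgroupOf N).Normal :=
    (Subgroup.normal_subgroupOf_iff_le_normalizer Subgroup.le_normalizer).2 le_rfl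
  have hPL' : P.subgroupOf N ≤ L.subgroupOf N := fun u hu => (le_sup_left.trans hL.ge : P ≤ L) hu
  have hCL' : Subgroup.centralizer ((P.subgroupOf N : Subgroup N) : Set N) ≤ L.subgroupOf N := by
    intro c hc
    refine (le_sup_right.trans hL.ge : Subgroup.centralizer (P : Set G) ≤ L) ?_
    rw [Subgroup.mem_centralizer_iff] at hc ⊢
    intro u hu
    exact congrArg Subtype.val (hc ⟨u, Subgroup.le_normalizer hu⟩ (Subgroup.mem_subgroupOf.2 hu))
  have hNN : L.subgroupOf N ≤ Subgroup.normalizer ((P.subgroupOf N : Subgroup N) : Set N) := by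
    rw [Subgroup.normalizer_eq_top]
    exact le_top
  -- both blocks induce one block of `N`
  have step : ∀ c : Set (IrrCharacter L), IsInducedBlock M L c B →
      ∃ c' : Set (IrrCharacter N), IsInducedBlock M (L.subgroupOf N) (pullIrr e '' c) c' ∧
        IsInducedBlock M N c' B := by
    intro c hc
    obtain ⟨c', hc'⟩ := exists_isInducedBlock hpM hP' hPL' hCL' hNN
      (isPBlock_image_pullIrr e hc.1)
    obtain ⟨B', hB'⟩ := exists_isInducedBlock hpM hPp Subgroup.le_normalizer
      (Subgroup.centralizer_le_normalizer _) le_rfl hc'.2.1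
    have : B' = B := IsInducedBlock.unique (IsInducedBlock.trans' hLN hc' hB' hc.1) hc
    exact ⟨c', hc', this ▸ hB'⟩
  obtain ⟨c, hc, hcB⟩ := step b h
  obtain ⟨c', hc', hcB'⟩ := step b' h'
  obtain ⟨E, hE⟩ := exists_isDefectGroup (p := p) hc.2.1
  have hle := IsDefectGroup.normal_le hpM hc.2.1 hE hP'
  obtain ⟨F, hF, hEF⟩ := IsInducedBlock.exists_defect_le hpM hcB hE
  obtain ⟨x, hx⟩ := IsDefectGroup.exists_conj_eq hpM hB hF hP
  have hcard : Nat.card E ≤ Nat.card (P.subgroupOf N) := by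
    rw [Base.card_subgroupOf Subgroup.le_normalizer, ← Base.card_map_subtype E]
    exact (Subgroup.card_le_of_le hEF).trans (card_le_of_map_conj_le hx.le)
  have hdef : IsDefectGroup p M c (P.subgroupOf N) := by
    rwa [Subgroup.eq_of_le_of_card_ge hle hcard]
  obtain rfl : c = c' := first_main_unique hpM hPp hcB hcB' hdef
  -- so both are covered by it
  have hcov : ∀ (d : Set (IrrCharacter L)),
      IsInducedBlock M (L.subgroupOf N) (pullIrr e '' d) c →
      ∃ χ ∈ c, ∃ θ ∈ pullIrr e '' d,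
        classInner (fun n : L.subgroupOf N => (χ : N → ℂ) n) (θ : L.subgroupOf N → ℂ) ≠ 0 :=
    fun d hd => (covering_iff _ hd.2.1 hd.1).2 fun χ hχ θ hθ n => by
      rw [← neg_sub]
      exact MemLocalIdeal.neg' (hd.2.2 θ hθ χ hχ n)
  obtain ⟨χ, hχ, θ₀, hθ₀, h0⟩ := hcov b hc
  obtain ⟨χ', hχ', θ₁, hθ₁, h1⟩ := hcov b' hc'
  obtain ⟨g, θ₂, hθ₂, rfl⟩ := mem_conjSet_of_sameBlock (L.subgroupOf N) hc.1
    (IsPBlock.sameBlock hc.2.1 hχ hχ') hθ₀ h0 h1
  refine ⟨(g : G), g.2, fun θ hθ => ?_⟩
  obtain ⟨θ₃, hθ₃, he⟩ : conjIrr (L.subgroupOf N) g (pullIrr e θ) ∈ pullIrr e '' b' :=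
    IsPBlock.mem_of_sameBlock hc'.1 hθ₁ (sameBlock_conjIrr _ g
      (IsPBlock.sameBlock hc.1 hθ₂ ⟨θ, hθ, rfl⟩))
  refine ⟨θ₃, hθ₃, fun x hx => ?_⟩
  have h2 := congrFun (congrArg (fun φ : IrrCharacter (L.subgroupOf N) => (φ : L.subgroupOf N → ℂ)) he)
    (e.symm x)
  simp only [pullIrr_apply, coe_conjIrr, CharsMore.conjFn, MulEquiv.apply_symm_apply] at h2
  rw [h2]
  exact congrArg (θ : L → ℂ) (Subtype.ext rfl)

end CfsgLib.Blocks
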