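import Cfsg.Agent.Lib.Blocks.CoveringOrbit
import Cfsg.Agent.Lib.Blocks.ExtendedFirstMain
import Cfsg.Agent.Lib.CharsMore.Gallagher
import Cfsg.Agent.Lib.CharsMore.Extend
import Cfsg.Agent.Lib.CharsMore.BrauerInduction

/-!
# Restriction of the principal block to a normal subgroup with a centralizer supplement
-/

set_option linter.unusedSectionVars false
set_option linter.style.haveILetI false

namespace CfsgLib.Blocks

open Cfsg Chars
open scoped ComplexConjugate commutatorElement

namespace PrincExt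

universe u

variable {M : Ideal AlgInt} [M.IsPrime] {p : ℕ} [Fact p.Prime]

/-- Roots of unity of order prime to `p` are separated modulo `M`. -/
theorem root_eq_one (hpM : (p : AlgInt) ∈ M) {ζ : ℂ} {m : ℕ} (hm : ¬ p ∣ m) (h : ζ ^ m = 1)
    (hloc : ζ ∈ loc M) (h1 : MemLocalIdeal M (ζ - 1)) : ζ = 1 := by
  by_contra hne
  apply hm
  rw [← memLocalIdeal_natCast_iff (M := M) Fact.out hpM]
  have hs : ∑ i ∈ Finset.range m, ζ ^ i = 0 := by
    have := geom_sum_mul ζ m
    rw [h, sub_self] at this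
    exact (mul_eq_zero.1 this).resolve_right (sub_ne_zero.2 hne)
  have hk : ∀ i : ℕ, MemLocalIdeal M (1 - ζ ^ i) := by
    intro i
    rw [← geom_sum_mul_neg ζ i]
    refine MemLocalIdeal.mul_left' (sum_mem fun j _ => pow_mem hloc j) ?_
    have := MemLocalIdeal.neg' h1
    rwa [neg_sub] at this
  have := MemLocalIdeal.sum' (M := M) (s := Finset.range m) (f := fun i => 1 - ζ ^ i) fun i _ => hk i
  rwa [Finset.sum_sub_distrib, hs, sub_zero, Finset.sum_const, Finset.card_range, nsmul_one] at this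

section Abstract

variable {G : Type u} [Group G] [Fintype G]

theorem omega_principal (a : G → ℂ) : omega ((principal G : IrrCharacter G) : G → ℂ) a = ∑ g, a g := by
  simp [omega, principal_apply]

/-- Members of the principal block against a class sum of size prime to `p`. -/
theorem ratio_of_mem (hpM : (p : AlgInt) ∈ M) {χ : IrrCharacter G}
    (hχ : χ ∈ principalBlock M G) {x : G}
    (hx : ¬ p ∣ (Subgroup.centralizer ({x} : Set G)).index) :
    MemLocalIdeal M ((χ : G → ℂ) x / (χ : G → ℂ) 1 - 1) := by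
  rw [principalBlock_eq] at hχ
  have h := (mem_blockOf.1 hχ) x
  simp only [centralChar, principal_apply, mul_one, div_one] at h
  have h' := MemLocalIdeal.mul_left' (inv_natCast_mem_loc Fact.out hpM hx) h
  have hi : ((Subgroup.centralizer ({x} : Set G)).index : ℂ) ≠ 0 :=
    Nat.cast_ne_zero.2 Subgroup.index_ne_zero_of_finite
  have e : ((Subgroup.centralizer ({x} : Set G)).index : ℂ)⁻¹ *
      ((Subgroup.centralizer ({x} : Set G)).index - (Subgroup.centralizer ({x} : Set G)).index *
        (χ : G → ℂ) x / (χ : G → ℂ) 1) = 1 - (χ : G → ℂ) x / (χ : G → ℂ) 1 := by field_simp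
  rw [e] at h'
  simpa using MemLocalIdeal.neg' h'

theorem ne_zero_of_ratio {χ : G → ℂ} {x : G} (h : MemLocalIdeal M (χ x / χ 1 - 1)) : χ x ≠ 0 := by
  intro h0
  rw [h0, zero_div, zero_sub] at h
  exact not_memLocalIdeal_one (by simpa using MemLocalIdeal.neg' h)

theorem conjIrr_principal_mem (N : Subgroup G) [N.Normal] [Fintype N] (g : G) :
    conjIrr N g (principal N) = principal N :=
  Subtype.ext (funext fun n => by rw [coe_conjIrr]; rfl)

theorem conjSet_principalBlock (N : Subgroup G) [N.Normal] [Fintype N] :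
    conjSet N (principalBlock M N) ⊆ principalBlock M N := by
  rintro θ ⟨g, θ₀, h0, rfl⟩
  rw [principalBlock_eq] at h0 ⊢
  have h := sameBlock_conjIrr N g (mem_blockOf.1 h0)
  rw [conjIrr_principal_mem] at h
  exact mem_blockOf.2 h

theorem inner_restrict_principal (N : Subgroup G) [Fintype N] :
    classInner (fun n : N => ((principal G : IrrCharacter G) : G → ℂ) n)
      ((principal N : IrrCharacter N) : N → ℂ) ≠ 0 := by
  have e : (fun n : N => ((principal G : IrrCharacter G) : G → ℂ) n) =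
      ((principal N : IrrCharacter N) : N → ℂ) := funext fun _ => rfl
  rw [e, inner_irr_self]
  exact one_ne_zero

theorem constituent_mem (N : Subgroup G) [N.Normal] [Fintype N] {χ : IrrCharacter G}
    (hχ : χ ∈ principalBlock M G) {θ : IrrCharacter N}
    (hθ : classInner (fun n : N => (χ : G → ℂ) n) (θ : N → ℂ) ≠ 0) : θ ∈ principalBlock M N :=
  conjSet_principalBlock N (mem_conjSet_of_sameBlock N (isPBlock_principalBlock M)
    (IsPBlock.sameBlock (isPBlock_principalBlock M) (principal_mem_principalBlock M) hχ)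
    (principal_mem_principalBlock M) (inner_restrict_principal N) hθ)

theorem exists_over (N : Subgroup G) [N.Normal] [Fintype N] {θ : IrrCharacter N}
    (hθ : θ ∈ principalBlock M N) :
    ∃ χ ∈ principalBlock M G, classInner (fun n : N => (χ : G → ℂ) n) (θ : N → ℂ) ≠ 0 :=
  exists_over_of_covered N (isPBlock_principalBlock M) (isPBlock_principalBlock M)
    ⟨_, principal_mem_principalBlock M, _, principal_mem_principalBlock M,
      inner_restrict_principal N⟩ hθ

/-- An abelian quotient: restriction is irreducible. -/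
theorem restrict_irr_abelian (N : Subgroup G) [N.Normal] [Fintype N] (hab : commutator G ≤ N)
    {χ : IrrCharacter G}
    (hX : ∀ h : G, ∃ x, (χ : G → ℂ) x ≠ 0 ∧ h⁻¹ * x ∈ N) :
    IsIrrCharacter N (fun n : N => (χ : G → ℂ) n) := by
  classical
  haveI := irrFintype G
  refine isIrrCharacter_iff_inner_self.2 ⟨isCharacter_restrict N (isCharacter_of_irr χ.2), ?_⟩
  rw [← inner_indFun N _ (isClassFunction_irr χ), CharsMore.indFun_restrict_eq_sum N χ.2,
    inner_sum_left]
  have hlin : ∀ β ∈ CharsMore.quotIrr N, ∃ l : G →* ℂˣ, (β : G → ℂ) = fun g => (l g : ℂ) := by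
    intro β hβ
    have hker := (CharsMore.mem_quotIrr N).1 hβ
    obtain ⟨f, hf, hfe⟩ := exists_deflate_irr N β.2 fun n hn =>
      CharApps.mem_charKer.1 (hker hn)
    have hcomm : ∀ a b : G ⧸ N, a * b = b * a := fun a b => by
      obtain ⟨a, rfl⟩ := QuotientGroup.mk_surjective a
      obtain ⟨b, rfl⟩ := QuotientGroup.mk_surjective b
      rw [← QuotientGroup.mk_mul, ← QuotientGroup.mk_mul, QuotientGroup.eq]
      refine hab ?_
      rw [show (a * b)⁻¹ * (b * a) = ⁅b⁻¹, a⁻¹⁆ by rw [commutatorElement_def]; group]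
      exact Subgroup.commutator_mem_commutator (Subgroup.mem_top _) (Subgroup.mem_top _)
    refine Chars.exists_hom_of_degree_one (isCharacter_of_irr β.2) ?_
    rw [hfe]
    exact irr_abelian_degree hcomm hf
  rw [Finset.sum_eq_single ⟨fun _ => 1, isIrrCharacter_one⟩]
  · rw [Chars.inner_smul_left, show ((fun _ => (1 : ℂ)) : G → ℂ) * (χ : G → ℂ) = (χ : G → ℂ) from
      funext fun g => one_mul _, inner_irr_self, mul_one]
  · intro β hβ hne
    obtain ⟨l, hl⟩ := hlin β hβ
    have hirr : IsIrrCharacter G ((β : G → ℂ) * (χ : G → ℂ)) := by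
      rw [hl]; exact isIrrCharacter_linear_mul l χ.2
    rw [Chars.inner_smul_left, inner_irr_of_isIrr hirr χ.2, if_neg, mul_zero]
    intro heq
    apply hne
    refine Subtype.ext (funext fun h => ?_)
    obtain ⟨x, hx, hxN⟩ := hX h
    have h1 := congrFun heq x
    rw [Pi.mul_apply] at h1
    have h2 : (β : G → ℂ) x = (β : G → ℂ) h := by
      rw [← CharsMore.quotIrr_mul N hβ
        ⟨h * (h⁻¹ * x) * h⁻¹, Subgroup.Normal.conj_mem inferInstance _ hxN h⟩ h]
      simp [mul_assoc]
    rw [← h2]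
    exact (mul_eq_right₀ hx).1 h1
  · intro h
    exact absurd ((CharsMore.mem_quotIrr N).2 fun n _ => CharApps.mem_charKer.2 rfl) h

/-- Extensions are determined by the ratio congruence on coset representatives. -/
theorem eq_of_ratio (hpM : (p : AlgInt) ∈ M) (N : Subgroup G) [N.Normal] [Fintype N]
    (hidx : ¬ p ∣ N.index) {ξ ξ' : IrrCharacter G}
    (hirr : IsIrrCharacter N (fun n : N => (ξ : G → ℂ) n))
    (hover : classInner (fun n : N => (ξ' : G → ℂ) n) (fun n : N => (ξ : G → ℂ) n) ≠ 0)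
    (hX : ∀ h : G, ∃ x, h⁻¹ * x ∈ N ∧ MemLocalIdeal M ((ξ : G → ℂ) x / (ξ : G → ℂ) 1 - 1) ∧
      MemLocalIdeal M ((ξ' : G → ℂ) x / (ξ' : G → ℂ) 1 - 1) ∧
      ¬ p ∣ (Subgroup.centralizer ({x} : Set G)).index) :
    ξ' = ξ := by
  classical
  haveI := irrFintype G
  obtain ⟨β, hβ, heq⟩ := CharsMore.gallagher_exists N ξ.2 hirr ξ'.2 hover
  by_cases hone : ∀ g, (β : G → ℂ) g = 1
  · exact Subtype.ext (funext fun g => by rw [heq, Pi.mul_apply, hone, one_mul])
  exfalso
  have hβN : ∀ n ∈ N, ∀ g, (β : G → ℂ) (n * g) = (β : G → ℂ) g := fun n hn g =>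
    CharsMore.quotIrr_mul N hβ ⟨n, hn⟩ g
  have hsum : ∑ g : G, (β : G → ℂ) g = 0 := by
    have h1 := inner_irr_of_isIrr β.2 (isIrrCharacter_one (G := G))
    rw [if_neg fun h => hone fun g => congrFun h g, inner_def] at h1
    simp only [map_one, mul_one] at h1
    exact (mul_eq_zero.1 h1).resolve_left (inv_ne_zero (card_ne_zero G))
  choose r hr using fun h : G => hX h
  have hmem : ∀ h : G, MemLocalIdeal M ((β : G → ℂ) h / (β : G → ℂ) 1 - 1) := fun h => by
    obtain ⟨h1, h2, h3, h4⟩ := hr h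
    have e : (β : G → ℂ) (r h) = (β : G → ℂ) h := by
      rw [← hβN _ (Subgroup.Normal.conj_mem inferInstance _ h1 h) h]
      simp [mul_assoc]
    rw [heq, Pi.mul_apply, Pi.mul_apply, e, mul_div_mul_comm] at h3
    have hA : (ξ : G → ℂ) (r h) / (ξ : G → ℂ) 1 ∈ loc M := by
      have hc := centralChar_mem_loc (M := M) ξ (r h)
      rw [centralChar, mul_div_assoc] at hc
      have := mul_mem (inv_natCast_mem_loc Fact.out hpM h4) hc
      rwa [← mul_assoc, inv_mul_cancel₀ (Nat.cast_ne_zero.2 Subgroup.index_ne_zero_of_finite),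
        one_mul] at this
    by_contra hcon
    have hB : (β : G → ℂ) h / (β : G → ℂ) 1 - 1 ∈ loc M := by
      have hc := centralChar_mem_loc (M := M) β (r h)
      rw [centralChar, mul_div_assoc] at hc
      have := mul_mem (inv_natCast_mem_loc Fact.out hpM h4) hc
      rw [← mul_assoc, inv_mul_cancel₀ (Nat.cast_ne_zero.2 Subgroup.index_ne_zero_of_finite),
        one_mul, e] at this
      exact sub_mem this (one_mem _)
    have hprod : MemLocalIdeal M (((β : G → ℂ) h / (β : G → ℂ) 1 - 1) *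
        ((ξ : G → ℂ) (r h) / (ξ : G → ℂ) 1)) := by
      rw [sub_mul, one_mul]
      have := MemLocalIdeal.sub' h3 h2
      rwa [sub_sub_sub_cancel_right] at this
    rcases MemLocalIdeal.mem_or_mem hB hA hprod with h5 | h5
    · exact hcon h5
    · have := MemLocalIdeal.sub' h5 h2
      rw [sub_sub_cancel] at this
      exact not_memLocalIdeal_one this
  -- sum over cosets
  haveI := Fintype.ofFinite (G ⧸ N)
  have hq : ∑ q : G ⧸ N, (β : G → ℂ) q.out = 0 := by
    have h1 : ∑ g : G, (β : G → ℂ) g = (Nat.card N : ℂ) * ∑ q : G ⧸ N, (β : G → ℂ) q.out := by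
      rw [← Finset.sum_fiberwise Finset.univ (fun g : G => (QuotientGroup.mk g : G ⧸ N)),
        Finset.mul_sum]
      refine Finset.sum_congr rfl fun q _ => ?_
      rw [Finset.sum_congr rfl (g := fun _ => (β : G → ℂ) q.out) fun g hg => ?_, Finset.sum_const,
        nsmul_eq_mul]
      · congr 1
        norm_cast
        rw [← Fintype.card_subtype, ← Nat.card_eq_fintype_card]
        refine Nat.card_congr
          { toFun := fun g => ⟨q.out⁻¹ * g.1, QuotientGroup.eq.1 (by rw [g.2, QuotientGroup.out_eq'])⟩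
            invFun := fun n => ⟨q.out * n.1, by
              rw [QuotientGroup.mk_mul, (QuotientGroup.eq_one_iff _).2 n.2, mul_one,
                QuotientGroup.out_eq']⟩
            left_inv := fun g => Subtype.ext (by simp)
            right_inv := fun n => Subtype.ext (by simp) }
      · have h2 : q.out⁻¹ * g ∈ N := QuotientGroup.eq.1 (by
          rw [(Finset.mem_filter.1 hg).2, QuotientGroup.out_eq'])
        have := hβN _ (Subgroup.Normal.conj_mem inferInstance _ h2 q.out) q.out
        rw [← this]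
        simp [mul_assoc]
    rw [hsum] at h1
    exact (mul_eq_zero.1 h1.symm).resolve_left (Nat.cast_ne_zero.2 Nat.card_pos.ne')
  apply hidx
  rw [← memLocalIdeal_natCast_iff (M := M) Fact.out hpM, Subgroup.index_eq_card,
    Nat.card_eq_fintype_card]
  have := MemLocalIdeal.sum' (M := M) (s := Finset.univ)
    (f := fun q : G ⧸ N => (β : G → ℂ) q.out / (β : G → ℂ) 1 - 1) fun q _ => hmem q.out
  rw [Finset.sum_sub_distrib, ← Finset.sum_div, hq, zero_div, Finset.sum_const, Finset.card_univ,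
    nsmul_one, zero_sub] at this
  simpa using MemLocalIdeal.neg' this

/-- Restriction to a subgroup containing one on which a character stays irreducible. -/
theorem isIrr_comp {L : Type u} [Group L] [Fintype L] {N' : Type u} [Group N'] [Finite N']
    (ι : N' →* L) (κ : L →* G) {χ : IrrCharacter G}
    (h : IsIrrCharacter N' (fun n => (χ : G → ℂ) (κ (ι n)))) :
    IsIrrCharacter L (fun l => (χ : G → ℂ) (κ l)) := by
  obtain ⟨d, ρ, hρ, e⟩ := h
  obtain ⟨R, -, hR, hRe⟩ := CharsMore.exists_repExt_of_character ι ρ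
    (χ := fun l => (χ : G → ℂ) (κ l)) (isCharacter_comp κ (isCharacter_of_irr χ.2))
    (fun n => (congrFun e n).symm)
  exact hRe ▸ ⟨d, R, hR, rfl⟩

end Abstract

/-- Pullback preserves the principal block. -/
theorem pullIrr_mem_principal {K H : Type u} [Group K] [Fintype K] [Group H] [Fintype H]
    (e : K ≃* H) {χ : IrrCharacter H} (hχ : χ ∈ principalBlock M H) :
    pullIrr e χ ∈ principalBlock M K := by
  have h1 := isPBlock_image_pullIrr e (isPBlock_principalBlock (G := H) M)
  have h2 : (principal K : IrrCharacter K) ∈ pullIrr e '' principalBlock M H :=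
    ⟨principal H, principal_mem_principalBlock M, Subtype.ext (funext fun _ => rfl)⟩
  rw [IsPBlock.eq_of_mem (isPBlock_principalBlock (G := K) M) h1 (principal_mem_principalBlock M) h2]
  exact ⟨χ, hχ, rfl⟩

section Ambient

variable {G : Type u} [Group G] [Fintype G]

/-- Extensions inside subgroups over a normal subgroup. -/
def HasExt (N : Subgroup G) (θ : N → ℂ) (K : Subgroup G) (ξ : K → ℂ) : Prop :=
  ∀ (n : G) (hn : n ∈ N) (hk : n ∈ K), ξ ⟨n, hk⟩ = θ ⟨n, hn⟩

variable {N : Subgroup G} [N.Normal] {P : Sylow p G}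

theorem exists_rep (hsup : N ⊔ Subgroup.centralizer ((P : Subgroup G) : Set G) = ⊤) (g : G) :
    ∃ x ∈ Subgroup.centralizer ((P : Subgroup G) : Set G), g⁻¹ * x ∈ N := by
  have h : g ∈ ((N ⊔ Subgroup.centralizer ((P : Subgroup G) : Set G) : Subgroup G) : Set G) := by
    rw [hsup]; trivial
  rw [Subgroup.normal_mul] at h
  obtain ⟨n, hn, c, hc, rfl⟩ := h
  refine ⟨c, hc, ?_⟩
  have := Subgroup.Normal.conj_mem (H := N) inferInstance n⁻¹ (N.inv_mem hn) c⁻¹
  simpa [mul_inv_rev, mul_assoc] using this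

theorem le_of_index (hidx : ¬ p ∣ N.index) : (P : Subgroup G) ≤ N := fun u hu => by
  obtain ⟨k, hk⟩ := IsPGroup.iff_orderOf.1 P.2 ⟨u, hu⟩
  rw [Subgroup.orderOf_mk] at hk
  rw [← QuotientGroup.eq_one_iff, ← orderOf_eq_one_iff]
  refine Nat.eq_one_of_dvd_coprimes
    (Nat.Coprime.pow_left k ((Fact.out : p.Prime).coprime_iff_not_dvd.2 hidx))
    (hk ▸ orderOf_map_dvd (QuotientGroup.mk' N) u) ?_
  rw [Subgroup.index_eq_card]
  exact orderOf_dvd_natCard _

theorem index_centralizer_rep {K : Subgroup G} (hPK : (P : Subgroup G) ≤ K) {x : K}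
    (hx : (x : G) ∈ Subgroup.centralizer ((P : Subgroup G) : Set G)) :
    ¬ p ∣ (Subgroup.centralizer ({x} : Set K)).index := by
  have h1 : (P.subtype hPK : Subgroup K) ≤ Subgroup.centralizer ({x} : Set K) := fun u hu =>
    Subgroup.mem_centralizer_singleton_iff.2 (Subtype.ext
      (Subgroup.mem_centralizer_iff.1 hx u (Subgroup.mem_subgroupOf.1 hu)))
  exact fun hd => (P.subtype hPK).not_dvd_index (hd.trans (Subgroup.index_dvd_of_le h1))

theorem not_dvd_index_subgroupOf (hidx : ¬ p ∣ N.index) {K : Subgroup G} (hNK : N ≤ K) :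
    ¬ p ∣ (N.subgroupOf K).index := fun hd => hidx (by
  rw [← Subgroup.relIndex_mul_index hNK]
  exact hd.mul_right _)

variable (hpM : (p : AlgInt) ∈ M) (hidx : ¬ p ∣ N.index)
  (hsup : N ⊔ Subgroup.centralizer ((P : Subgroup G) : Set G) = ⊤)

include hpM hidx hsup

theorem ratio_rep {K : Subgroup G} (hNK : N ≤ K) {ξ : IrrCharacter K}
    (hξ : ξ ∈ principalBlock M K) {x : K}
    (hx : (x : G) ∈ Subgroup.centralizer ((P : Subgroup G) : Set G)) :
    MemLocalIdeal M ((ξ : K → ℂ) x / (ξ : K → ℂ) 1 - 1) := by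
  haveI := Fintype.ofFinite K
  exact ratio_of_mem hpM hξ (index_centralizer_rep ((le_of_index hidx).trans hNK) hx)

/-- Uniqueness of extensions in the principal block, via the congruences. -/
theorem eq_of_ext {K : Subgroup G} (hNK : N ≤ K) {θ : IrrCharacter N} {ξ ξ' : IrrCharacter K}
    (hξ : HasExt N (θ : N → ℂ) K (ξ : K → ℂ))
    (hξ' : HasExt N (θ : N → ℂ) K (ξ' : K → ℂ))
    (hr : ∀ x : K, (x : G) ∈ Subgroup.centralizer ((P : Subgroup G) : Set G) →
      MemLocalIdeal M ((ξ : K → ℂ) x / (ξ : K → ℂ) 1 - 1))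
    (hr' : ∀ x : K, (x : G) ∈ Subgroup.centralizer ((P : Subgroup G) : Set G) →
      MemLocalIdeal M ((ξ' : K → ℂ) x / (ξ' : K → ℂ) 1 - 1)) : ξ' = ξ := by
  classical
  haveI := Fintype.ofFinite K
  haveI := Fintype.ofFinite (N.subgroupOf K)
  haveI := Fintype.ofFinite N
  have e : (fun n : N.subgroupOf K => (ξ : K → ℂ) n) =
      (pullIrr (Subgroup.subgroupOfEquivOfLe hNK) θ : N.subgroupOf K → ℂ) :=
    funext fun n => by
      rw [pullIrr_apply]
      exact hξ ((n : K) : G) (Subgroup.mem_subgroupOf.1 n.2) (n : K).2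
  have e' : (fun n : N.subgroupOf K => (ξ' : K → ℂ) n) =
      (pullIrr (Subgroup.subgroupOfEquivOfLe hNK) θ : N.subgroupOf K → ℂ) :=
    funext fun n => by
      rw [pullIrr_apply]
      exact hξ' ((n : K) : G) (Subgroup.mem_subgroupOf.1 n.2) (n : K).2
  refine eq_of_ratio hpM (N.subgroupOf K) (not_dvd_index_subgroupOf hidx hNK) (e ▸ (pullIrr _ θ).2) ?_
    fun h => ?_
  · rw [e, e', inner_irr_self]; exact one_ne_zero
  · obtain ⟨x, hx, hxN⟩ := exists_rep hsup (h : G)
    have hxK : x ∈ K := by simpa using K.mul_mem h.2 (hNK hxN)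
    exact ⟨⟨x, hxK⟩, Subgroup.mem_subgroupOf.2 hxN, hr ⟨x, hxK⟩ hx, hr' ⟨x, hxK⟩ hx,
      index_centralizer_rep ((le_of_index hidx).trans hNK) (x := ⟨x, hxK⟩) hx⟩

/-- The bijection statement for a subgroup over `N`. -/
def Bij (M : Ideal AlgInt) (N : Subgroup G) (K : Subgroup G) : Prop :=
  (∀ θ ∈ principalBlock M N, ∃ ξ ∈ principalBlock M K, HasExt N (θ : N → ℂ) K (ξ : K → ℂ)) ∧
    ∀ ξ ∈ principalBlock M K, ∃ θ ∈ principalBlock M N, HasExt N (θ : N → ℂ) K (ξ : K → ℂ)

omit hpM hidx hsup in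
theorem bij_self : Bij M N N :=
  ⟨fun θ hθ => ⟨θ, hθ, fun _ _ _ => rfl⟩, fun θ hθ => ⟨θ, hθ, fun _ _ _ => rfl⟩⟩

/-- One step with abelian quotient. -/
theorem bij_step {K K' : Subgroup G} (hNK' : N ≤ K') (hK'K : K' ≤ K)
    [(K'.subgroupOf K).Normal] (hab : ⁅K, K⁆ ≤ K') (h : Bij M N K') : Bij M N K := by
  classical
  haveI := Fintype.ofFinite K
  haveI := Fintype.ofFinite K'
  haveI := Fintype.ofFinite (K'.subgroupOf K)
  obtain ⟨e, he⟩ : ∃ e : K'.subgroupOf K ≃* K', e = Subgroup.subgroupOfEquivOfLe hK'K := ⟨_, rfl⟩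
  have hcomm : commutator K ≤ K'.subgroupOf K := fun u hu => by
    rw [Subgroup.mem_subgroupOf]
    refine hab ?_
    rw [← Subgroup.map_subtype_commutator]
    exact ⟨u, hu, rfl⟩
  have hres : ∀ χ ∈ principalBlock M K, ∃ ξ' : IrrCharacter K', ξ' ∈ principalBlock M K' ∧
      ∀ v : K'.subgroupOf K, (χ : K → ℂ) v = (ξ' : K' → ℂ) (e v) := by
    intro χ hχ
    have hX : ∀ h : K, ∃ x : K, (χ : K → ℂ) x ≠ 0 ∧ h⁻¹ * x ∈ K'.subgroupOf K := fun h => by
      obtain ⟨x, hx, hxN⟩ := exists_rep hsup (h : G)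
      have hxK : x ∈ K := by simpa using K.mul_mem h.2 (hK'K (hNK' hxN))
      exact ⟨⟨x, hxK⟩, ne_zero_of_ratio (ratio_rep hpM hidx hsup (hNK'.trans hK'K) hχ hx),
        Subgroup.mem_subgroupOf.2 (hNK' hxN)⟩
    have hirr := restrict_irr_abelian (K'.subgroupOf K) hcomm hX
    have hmem : (⟨_, hirr⟩ : IrrCharacter (K'.subgroupOf K)) ∈
        principalBlock M (K'.subgroupOf K) :=
      constituent_mem (K'.subgroupOf K) hχ (θ := ⟨_, hirr⟩)
        (by rw [inner_irr_of_isIrr hirr hirr, if_pos rfl]; exact one_ne_zero)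
    exact ⟨pullIrr e.symm ⟨_, hirr⟩, pullIrr_mem_principal e.symm hmem,
      fun v => by rw [pullIrr_apply, MulEquiv.symm_apply_apply]⟩
  refine ⟨fun θ hθ => ?_, fun χ hχ => ?_⟩
  · obtain ⟨ξ, hξ, hext⟩ := h.1 θ hθ
    obtain ⟨χ, hχ, hover⟩ := exists_over (K'.subgroupOf K) (pullIrr_mem_principal e hξ)
    obtain ⟨ξ', -, hξ'⟩ := hres χ hχ
    have heq : ξ' = ξ := by
      by_contra hne
      apply hover
      rw [show (fun v : K'.subgroupOf K => (χ : K → ℂ) v) =
        (pullIrr e ξ' : K'.subgroupOf K → ℂ) from funext fun v => hξ' v]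
      exact inner_irr_ne fun h' => hne (Subtype.ext (funext fun w => by
        have := congrArg (fun φ : IrrCharacter (K'.subgroupOf K) =>
          (φ : K'.subgroupOf K → ℂ) (e.symm w)) h'
        simpa [pullIrr_apply] using this))
    refine ⟨χ, hχ, fun n hn hk => ?_⟩
    rw [hξ' ⟨⟨n, hk⟩, Subgroup.mem_subgroupOf.2 (hNK' hn)⟩, heq, he]
    exact hext n hn (hNK' hn)
  · obtain ⟨ξ', hξ'm, hξ'⟩ := hres χ hχ
    obtain ⟨θ, hθ, hext⟩ := h.2 ξ' hξ'm
    refine ⟨θ, hθ, fun n hn hk => ?_⟩
    rw [hξ' ⟨⟨n, hk⟩, Subgroup.mem_subgroupOf.2 (hNK' hn)⟩, he]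
    exact hext n hn (hNK' hn)

/-- Solvable extensions. -/
theorem bij_solvable (E : Subgroup G) (hE : Group.IsSolvable E) : Bij M N (N ⊔ E) := by
  induction hn : Nat.card E using Nat.strong_induction_on generalizing E with
  | _ n ih =>
    by_cases hbot : E = ⊥
    · subst hbot
      rw [sup_bot_eq]
      exact bij_self
    have hlt : ⁅E, E⁆ < E := by
      refine lt_of_le_of_ne (Subgroup.commutator_le_self E) fun heq => ?_
      haveI := hE
      haveI : Nontrivial E := (Subgroup.nontrivial_iff_ne_bot E).2 hbot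
      refine (Group.IsSolvable.commutator_lt_top_of_nontrivial E).ne ?_
      apply Subgroup.map_injective E.subtype_injective
      rw [Subgroup.map_subtype_commutator, heq, ← MonoidHom.range_eq_map, E.range_subtype]
    have hcard : Nat.card (⁅E, E⁆ : Subgroup G) < n :=
      hn ▸ Set.Finite.card_lt_card (Set.toFinite _) hlt
    haveI := hE
    have h1 := ih _ hcard ⁅E, E⁆ (Group.isSolvable_of_isSolvable_injective (f := Subgroup.inclusion hlt.le)
      (Subgroup.inclusion_injective _)) rfl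
    have hmap : (N ⊔ E).map (QuotientGroup.mk' N) = E.map (QuotientGroup.mk' N) := by
      rw [Subgroup.map_sup, QuotientGroup.map_mk'_self, bot_sup_eq]
    have hcom : ⁅N ⊔ E, N ⊔ E⁆ ≤ N ⊔ ⁅E, E⁆ := by
      have h2 : (⁅N ⊔ E, N ⊔ E⁆).map (QuotientGroup.mk' N) = (⁅E, E⁆).map (QuotientGroup.mk' N) := by
        rw [Subgroup.map_commutator, Subgroup.map_commutator, hmap]
      calc ⁅N ⊔ E, N ⊔ E⁆ ≤ ((⁅N ⊔ E, N ⊔ E⁆).map (QuotientGroup.mk' N)).comap (QuotientGroup.mk' N) :=
            Subgroup.le_comap_map _ _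
        _ = N ⊔ ⁅E, E⁆ := by
            rw [h2, Subgroup.comap_map_eq, QuotientGroup.ker_mk', sup_comm]
    haveI : ((N ⊔ ⁅E, E⁆).subgroupOf (N ⊔ E)).Normal := by
      rw [Subgroup.normal_subgroupOf_iff (sup_le_sup_left hlt.le N)]
      intro v g hv hg
      have h3 : ⁅g, v⁆ * v ∈ N ⊔ ⁅E, E⁆ := mul_mem
        (hcom (Subgroup.commutator_mem_commutator hg (sup_le_sup_left hlt.le N hv))) hv
      rwa [commutatorElement_def, inv_mul_cancel_right] at h3
    exact bij_step hpM hidx hsup le_sup_left (sup_le_sup_left hlt.le N) hcom h1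

omit hpM hidx hsup in
theorem isSolvable_of_elementary {q : ℕ} [Fact q.Prime] {E : Type u} [Group E] [Finite E]
    (hE : IsElementary q E) : Group.IsSolvable E := by
  obtain ⟨x, hx, -, k, hk⟩ := hE
  haveI : (Subgroup.zpowers x).Normal := ⟨fun z hz g => by
    rw [(Subgroup.mem_center_iff.1 ((Subgroup.zpowers_le.2 hx) hz) g), mul_inv_cancel_right]
    exact hz⟩
  haveI : Group.IsNilpotent (E ⧸ Subgroup.zpowers x) :=
    (IsPGroup.of_card (p := q) (n := k) (by rw [← Subgroup.index_eq_card, hk])).isNilpotent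
  haveI : Group.IsNilpotent E := Subgroup.isNilpotent_of_ker_le_center
    (QuotientGroup.mk' (Subgroup.zpowers x))
    (by rw [QuotientGroup.ker_mk']; exact Subgroup.zpowers_le.2 hx)
  infer_instance

theorem bij_cyclic (g : G) : Bij M N (N ⊔ Subgroup.zpowers g) := by
  refine bij_solvable hpM hidx hsup _ ?_
  haveI : IsMulCommutative (Subgroup.zpowers g) := inferInstance
  infer_instance

/-- Restriction of an extension is the extension. -/
theorem ext_restrict {θ : IrrCharacter N} {K L : Subgroup G} (hNL : N ≤ L) (hLK : L ≤ K)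
    {ξ : IrrCharacter K} (hξ : ξ ∈ principalBlock M K) (hext : HasExt N (θ : N → ℂ) K (ξ : K → ℂ))
    {η : IrrCharacter L} (hη : η ∈ principalBlock M L) (hext' : HasExt N (θ : N → ℂ) L (η : L → ℂ))
    (l : L) : (ξ : K → ℂ) (Subgroup.inclusion hLK l) = (η : L → ℂ) l := by
  haveI := Fintype.ofFinite K
  haveI := Fintype.ofFinite L
  haveI := Fintype.ofFinite N
  have hirr : IsIrrCharacter L (fun l => (ξ : K → ℂ) (Subgroup.inclusion hLK l)) :=
    isIrr_comp (Subgroup.inclusion hNL) (Subgroup.inclusion hLK) (χ := ξ) (by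
      rw [show (fun n : N => (ξ : K → ℂ) (Subgroup.inclusion hLK (Subgroup.inclusion hNL n))) =
        (θ : N → ℂ) from funext fun n => hext n n.2 _]
      exact θ.2)
  have h := eq_of_ext hpM hidx hsup hNL (ξ := η) (ξ' := ⟨_, hirr⟩) hext'
    (fun n hn hl => hext n hn (hLK hl))
    (fun x hx => ratio_rep hpM hidx hsup hNL hη hx)
    (fun x hx => by
      simpa using ratio_rep hpM hidx hsup (hNL.trans hLK) hξ (x := Subgroup.inclusion hLK x) hx)
  rw [← h]

/-- Every member of the principal block of `N` extends into the principal block. -/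
theorem exists_ext {θ : IrrCharacter N} (hθ : θ ∈ principalBlock M N) :
    ∃ χ ∈ principalBlock M G, ∀ n : N, (χ : G → ℂ) n = (θ : N → ℂ) n := by
  classical
  haveI := Fintype.ofFinite N
  haveI := irrFintype G
  choose η hηm hηe using fun g : G => (bij_cyclic hpM hidx hsup g).1 θ hθ
  let f : G → ℂ := fun g =>
    (η g).1 ⟨g, Subgroup.mem_sup_right (Subgroup.mem_zpowers g)⟩
  have hval : ∀ (K : Subgroup G) (ξ : IrrCharacter K), N ≤ K → ξ ∈ principalBlock M K →
      HasExt N (θ : N → ℂ) K (ξ : K → ℂ) → ∀ k : K, (ξ : K → ℂ) k = f k := by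
    intro K ξ hNK hξ hext k
    exact ext_restrict hpM hidx hsup le_sup_left (sup_le hNK (Subgroup.zpowers_le.2 k.2)) hξ hext
      (hηm (k : G)) (hηe (k : G)) ⟨(k : G), Subgroup.mem_sup_right (Subgroup.mem_zpowers _)⟩
  have hN : ∀ n : N, f n = (θ : N → ℂ) n := fun n =>
    hηe (n : G) n n.2 (Subgroup.mem_sup_right (Subgroup.mem_zpowers _))
  -- `θ` is invariant
  have hinv : ∀ (h : G) (n : G) (hn : n ∈ N) (hn' : h * n * h⁻¹ ∈ N),
      (θ : N → ℂ) ⟨h * n * h⁻¹, hn'⟩ = (θ : N → ℂ) ⟨n, hn⟩ := by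
    intro h n hn hn'
    haveI := Fintype.ofFinite (N ⊔ Subgroup.zpowers h : Subgroup G)
    rw [← hηe h n hn (Subgroup.mem_sup_left hn), ← hηe h _ hn' (Subgroup.mem_sup_left hn')]
    exact isClassFunction_irr (η h) (⟨n, Subgroup.mem_sup_left hn⟩ :
      (N ⊔ Subgroup.zpowers h : Subgroup G))
      ⟨h, Subgroup.mem_sup_right (Subgroup.mem_zpowers h)⟩
  have hcl : IsClassFunction G f := by
    intro g h
    let K := N ⊔ Subgroup.zpowers g
    let K' := N ⊔ Subgroup.zpowers (h * g * h⁻¹)
    have hmap : K.map (MulAut.conj h).toMonoidHom = K' := by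
      show (N ⊔ Subgroup.zpowers g).map (MulAut.conj h).toMonoidHom = _
      rw [Subgroup.map_sup, MonoidHom.map_zpowers]
      congr 1
      exact map_conj_eq_of_mem_normalizer (Subgroup.le_normalizer_of_normal (Subgroup.mem_top h))
    let e : K ≃* K' := (K.equivMapOfInjective _ (MulAut.conj h).injective).trans
      (MulEquiv.subgroupCongr hmap)
    have he : ∀ v : K, ((e v : K') : G) = h * v * h⁻¹ := fun v => rfl
    haveI := Fintype.ofFinite K
    haveI := Fintype.ofFinite K'
    have h1 := hval K (pullIrr e (η (h * g * h⁻¹))) le_sup_left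
      (pullIrr_mem_principal e (hηm _)) (fun n hn hk => by
        rw [pullIrr_apply]
        have hn' : h * n * h⁻¹ ∈ N := Subgroup.Normal.conj_mem inferInstance n hn h
        rw [← hinv h n hn hn', ← hηe (h * g * h⁻¹) _ hn' (Subgroup.mem_sup_left hn')]
        exact congrArg _ (Subtype.ext (he ⟨n, hk⟩)))
      ⟨g, Subgroup.mem_sup_right (Subgroup.mem_zpowers g)⟩
    rw [pullIrr_apply] at h1
    rw [← h1]
    show (η (h * g * h⁻¹)).1 _ = _
    exact congrArg _ (Subtype.ext (he ⟨g, _⟩).symm)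
  have hgen : IsGeneralizedCharacter G f := by
    refine CharsMore.isGeneralized_of_elementary hcl fun E q hq hE => ?_
    haveI : Fact q.Prime := ⟨hq⟩
    obtain ⟨ξ, hξ, hext⟩ :=
      (bij_solvable hpM hidx hsup E (isSolvable_of_elementary hE)).1 θ hθ
    refine ⟨fun v => (ξ : (N ⊔ E : Subgroup G) → ℂ) (Subgroup.inclusion le_sup_right v), 0,
      isCharacter_comp (Subgroup.inclusion le_sup_right) (isCharacter_of_irr ξ.2),
      isCharacter_zero, funext fun v => ?_⟩
    rw [Pi.sub_apply, Pi.zero_apply, sub_zero]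
    exact (hval _ ξ le_sup_left hξ hext (Subgroup.inclusion le_sup_right v)).symm
  -- the norm
  haveI := Fintype.ofFinite (G ⧸ N)
  have hnorm : classInner f f = 1 := by
    rw [inner_def]
    have hk : ∀ q : G ⧸ N, ∑ g ∈ Finset.univ.filter (fun g : G => (g : G ⧸ N) = q),
        f g * conj (f g) = (Nat.card N : ℂ) := by
      intro q
      obtain ⟨t, rfl⟩ := QuotientGroup.mk_surjective q
      let K := N ⊔ Subgroup.zpowers t
      haveI := Fintype.ofFinite K
      haveI := Fintype.ofFinite (N.subgroupOf K)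
      have hirr : IsIrrCharacter (N.subgroupOf K) (fun n : N.subgroupOf K => (η t : K → ℂ) n) := by
        rw [show (fun n : N.subgroupOf K => (η t : K → ℂ) n) =
          (pullIrr (Subgroup.subgroupOfEquivOfLe (le_sup_left : N ≤ K)) θ : _ → ℂ) from
          funext fun n => hηe t _ (Subgroup.mem_subgroupOf.1 n.2) (n : K).2]
        exact (pullIrr _ θ).2
      have h1 := CharsMore.coset_norm_avg (N.subgroupOf K) (η t).2 hirr
        ⟨t, Subgroup.mem_sup_right (Subgroup.mem_zpowers t)⟩
      rw [inv_mul_eq_one₀ (Nat.cast_ne_zero.2 Nat.card_pos.ne'),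
        Base.card_subgroupOf (le_sup_left : N ≤ K)] at h1
      rw [h1]
      refine Finset.sum_bij'
        (fun g hg => (⟨⟨g * t⁻¹, Subgroup.mem_sup_left ?_⟩, Subgroup.mem_subgroupOf.2 ?_⟩ :
          N.subgroupOf K))
        (fun n _ => ((n : K) : G) * t) (fun _ _ => Finset.mem_univ _) (fun n _ => ?_)
        (fun g _ => by simp) (fun n _ => Subtype.ext (Subtype.ext (by simp))) (fun g hg => ?_)
      · have := QuotientGroup.eq.1 (Finset.mem_filter.1 hg).2.symm
        simpa [mul_assoc] using Subgroup.Normal.conj_mem inferInstance _ this t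
      · have := QuotientGroup.eq.1 (Finset.mem_filter.1 hg).2.symm
        simpa [mul_assoc] using Subgroup.Normal.conj_mem inferInstance _ this t
      · refine Finset.mem_filter.2 ⟨Finset.mem_univ _, ?_⟩
        rw [QuotientGroup.mk_mul, (QuotientGroup.eq_one_iff _).2 (Subgroup.mem_subgroupOf.1 n.2),
          one_mul]
      · rw [hval K (η t) le_sup_left (hηm t) (hηe t)]
        simp
    rw [← Finset.sum_fiberwise Finset.univ (fun g : G => (g : G ⧸ N)),
      Finset.sum_congr rfl fun q _ => hk q, Finset.sum_const, Finset.card_univ, nsmul_eq_mul,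
      ← Nat.card_eq_fintype_card, ← Subgroup.index_eq_card, ← Nat.cast_mul,
      Subgroup.index_mul_card, inv_mul_cancel₀ (card_ne_zero G)]
  have hf1 : f 1 = (θ : N → ℂ) 1 := hN 1
  have hirr : IsIrrCharacter G f := irr_of_norm_one hgen hnorm (by
    rw [hf1, CharApps.deg_eq θ]; simp)
  refine ⟨⟨f, hirr⟩, ?_, hN⟩
  rw [principalBlock_eq, mem_blockOf]
  intro g
  rw [← omega_classInd, ← omega_classInd, omega_principal]
  show MemLocalIdeal M (∑ x, classInd g x - omega f (classInd g))
  rw [omega, Finset.sum_div, ← Finset.sum_sub_distrib,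
    ← Finset.sum_fiberwise Finset.univ (fun x : G => (x : G ⧸ N))]
  refine MemLocalIdeal.sum' fun q _ => ?_
  obtain ⟨t, rfl⟩ := QuotientGroup.mk_surjective q
  let K := N ⊔ Subgroup.zpowers t
  haveI := Fintype.ofFinite K
  let a : G → ℂ := fun x => if (x : G ⧸ N) = (t : G ⧸ N) then classInd g x else 0
  have hKq : ∀ k : K, Commute ((k : G) : G ⧸ N) (t : G ⧸ N) := by
    intro k
    have h1 : ((k : G) : G ⧸ N) ∈ K.map (QuotientGroup.mk' N) := ⟨k, k.2, rfl⟩
    rw [Subgroup.map_sup, QuotientGroup.map_mk'_self, bot_sup_eq, MonoidHom.map_zpowers] at h1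
    obtain ⟨i, hi⟩ := h1
    rw [← hi]
    exact Commute.zpow_self _ i
  have ha : IsLocClassFun M (resFun K a) := by
    refine ⟨fun x k => ?_, fun x => ?_⟩
    · have hconj : (((k : G) * (x : G) * (k : G)⁻¹ : G) : G ⧸ N) = (t : G ⧸ N) ↔
          ((x : G) : G ⧸ N) = (t : G ⧸ N) := by
        rw [QuotientGroup.mk_mul, QuotientGroup.mk_mul, QuotientGroup.mk_inv, mul_inv_eq_iff_eq_mul,
          ← (hKq k).eq, mul_right_inj]
      simp only [resFun, a, Subgroup.coe_mul, Subgroup.coe_inv]
      exact if_congr hconj (isClassFunction_classInd g (x : G) (k : G)) rfl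
    · simp only [resFun, a]
      split_ifs
      · exact (isLocClassFun_classInd g).2 _
      · exact zero_mem _
  have h2 := omega_sub_mem (χ := (principal K : IrrCharacter K)) (ψ := η t)
    (IsPBlock.sameBlock (isPBlock_principalBlock M) (principal_mem_principalBlock M) (hηm t)) ha
  rw [omega_principal, omega, Finset.sum_div, ← Finset.sum_sub_distrib] at h2
  convert h2 using 1
  have hsupp : ∀ x : G, x ∉ K →
      (if (x : G ⧸ N) = (t : G ⧸ N) then classInd g x - classInd g x * f x / f 1 else 0) = 0 := by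
    intro x hx
    rw [if_neg]
    intro h'
    apply hx
    have : t⁻¹ * x ∈ N := QuotientGroup.eq.1 h'.symm
    simpa using mul_mem (Subgroup.mem_sup_right (Subgroup.mem_zpowers t) : t ∈ K)
      (Subgroup.mem_sup_left this)
  rw [Finset.sum_filter, sum_eq_sum_of_support K hsupp]
  refine Finset.sum_congr rfl fun x _ => ?_
  rw [hval K (η t) le_sup_left (hηm t) (hηe t) x, hval K (η t) le_sup_left (hηm t) (hηe t) 1]
  simp only [resFun, a, OneMemClass.coe_one]
  split_ifs <;> simp

/-- Restriction is a bijection between the principal blocks. -/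
theorem restriction_bijection :
    (∀ χ ∈ principalBlock M G, ∃ θ ∈ principalBlock M N,
        ∀ n : N, (χ : G → ℂ) n = (θ : N → ℂ) n) ∧
      ∀ θ ∈ principalBlock M N, ∃! χ : IrrCharacter G, χ ∈ principalBlock M G ∧
        ∀ n : N, (χ : G → ℂ) n = (θ : N → ℂ) n := by
  classical
  haveI := Fintype.ofFinite N
  have hrep : ∀ g : G, ∃ x, g⁻¹ * x ∈ N ∧ ¬ p ∣ (Subgroup.centralizer ({x} : Set G)).index := by
    intro g
    obtain ⟨x, hx, hxN⟩ := exists_rep hsup g
    refine ⟨x, hxN, fun hd => P.not_dvd_index (hd.trans (Subgroup.index_dvd_of_le fun u hu =>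
      Subgroup.mem_centralizer_singleton_iff.2 (Subgroup.mem_centralizer_iff.1 hx u hu)))⟩
  have key : ∀ (θ : IrrCharacter N) (χ χ' : IrrCharacter G), χ ∈ principalBlock M G →
      χ' ∈ principalBlock M G → (∀ n : N, (χ : G → ℂ) n = (θ : N → ℂ) n) →
      classInner (fun n : N => (χ' : G → ℂ) n) (θ : N → ℂ) ≠ 0 → χ' = χ := by
    intro θ χ χ' hχ hχ' hres hover
    have e : (fun n : N => (χ : G → ℂ) n) = (θ : N → ℂ) := funext hres
    refine eq_of_ratio hpM N hidx (e ▸ θ.2) (e.symm ▸ hover) fun g => ?_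
    obtain ⟨x, hxN, hx⟩ := hrep g
    exact ⟨x, hxN, ratio_of_mem hpM hχ hx, ratio_of_mem hpM hχ' hx, hx⟩
  refine ⟨fun χ' hχ' => ?_, fun θ hθ => ?_⟩
  · obtain ⟨θ, hover⟩ := exists_constituent_restrict N χ'
    have hθ := constituent_mem N hχ' hover
    obtain ⟨χ, hχ, hres⟩ := exists_ext hpM hidx hsup hθ
    obtain rfl := key θ χ χ' hχ hχ' hres hover
    exact ⟨θ, hθ, hres⟩
  · obtain ⟨χ, hχ, hres⟩ := exists_ext hpM hidx hsup hθ
    refine ⟨χ, ⟨hχ, hres⟩, fun χ' h' => key θ χ χ' hχ h'.1 hres ?_⟩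
    rw [show (fun n : N => (χ' : G → ℂ) n) = (θ : N → ℂ) from funext h'.2, inner_irr_self]
    exact one_ne_zero

end Ambient

end PrincExt

end CfsgLib.Blocks
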