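import Cfsg.Agent.Lib.Blocks.NormalBlocks

/-!
# Restriction of class sums, the Brauer map on class functions, and induced blocks
-/

set_option linter.unusedSectionVars false
set_option linter.style.haveILetI false

namespace CfsgLib.Blocks

open Cfsg Chars

variable {G : Type*} [Group G]

/-- The restriction of a function to a subgroup. -/
def resFun (H : Subgroup G) (a : G → ℂ) : H → ℂ := fun h => a h

/-- The Brauer map on class functions: restrict to `H` and keep the part centralizing `P`. -/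
noncomputable def brFun (P H : Subgroup G) (a : G → ℂ) : H → ℂ := fun h => by
  classical exact if (h : G) ∈ Subgroup.centralizer (P : Set G) then a h else 0

theorem brFun_of_mem {P H : Subgroup G} (a : G → ℂ) {h : H}
    (hh : (h : G) ∈ Subgroup.centralizer (P : Set G)) : brFun P H a h = a h := by
  simp [brFun, hh]

theorem brFun_of_notMem {P H : Subgroup G} (a : G → ℂ) {h : H}
    (hh : (h : G) ∉ Subgroup.centralizer (P : Set G)) : brFun P H a h = 0 := by
  simp [brFun, hh]

theorem isClassFunction_resFun (H : Subgroup G) {a : G → ℂ} (ha : IsClassFunction G a) :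
    IsClassFunction H (resFun H a) := fun g h => by
  simp only [resFun, Subgroup.coe_mul, Subgroup.coe_inv]
  exact ha g h

theorem map_conj_eq_of_mem_normalizer {P : Subgroup G} {x : G}
    (hx : x ∈ Subgroup.normalizer (P : Set G)) : P.map (MulAut.conj x).toMonoidHom = P := by
  ext u
  constructor
  · rintro ⟨v, hv, rfl⟩
    exact ((Subgroup.mem_normalizer_iff.1 hx) v).1 hv
  · intro hu
    refine ⟨x⁻¹ * u * x, ?_, by simp [mul_assoc]⟩
    have h := (Subgroup.mem_normalizer_iff.1 hx) (x⁻¹ * u * x)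
    refine h.2 ?_
    rwa [show x * (x⁻¹ * u * x) * x⁻¹ = u by group]

theorem conj_mem_centralizer_iff {P : Subgroup G} {x : G} (hx : x ∈ Subgroup.normalizer (P : Set G))
    (c : G) : x * c * x⁻¹ ∈ Subgroup.centralizer (P : Set G) ↔
      c ∈ Subgroup.centralizer (P : Set G) := by
  constructor
  · intro h
    have h1 := conj_mem_centralizer h x⁻¹
    rw [map_conj_eq_of_mem_normalizer (inv_mem hx)] at h1
    simpa [mul_assoc] using h1
  · intro h
    have h1 := conj_mem_centralizer h x
    rwa [map_conj_eq_of_mem_normalizer hx] at h1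

theorem isClassFunction_brFun {P H : Subgroup G} (hHN : H ≤ Subgroup.normalizer (P : Set G))
    {a : G → ℂ} (ha : IsClassFunction G a) : IsClassFunction H (brFun P H a) := by
  intro g h
  by_cases hg : (g : G) ∈ Subgroup.centralizer (P : Set G)
  · rw [brFun_of_mem a hg, brFun_of_mem a (by
      push_cast; exact (conj_mem_centralizer_iff (hHN h.2) _).2 hg)]
    push_cast
    exact ha g h
  · rw [brFun_of_notMem a hg, brFun_of_notMem a (by
      push_cast; exact mt (conj_mem_centralizer_iff (hHN h.2) _).1 hg)]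

variable {M : Ideal AlgInt} [M.IsPrime]

theorem isLocClassFun_resFun (H : Subgroup G) {a : G → ℂ} (ha : IsLocClassFun M a) :
    IsLocClassFun M (resFun H a) :=
  ⟨isClassFunction_resFun H ha.1, fun h => ha.2 h⟩

theorem isLocClassFun_brFun {P H : Subgroup G} (hHN : H ≤ Subgroup.normalizer (P : Set G))
    {a : G → ℂ} (ha : IsLocClassFun M a) : IsLocClassFun M (brFun P H a) :=
  ⟨isClassFunction_brFun hHN ha.1, fun h => by
    by_cases hh : (h : G) ∈ Subgroup.centralizer (P : Set G)
    · rw [brFun_of_mem a hh]; exact ha.2 h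
    · rw [brFun_of_notMem a hh]; exact zero_mem _⟩

variable [Fintype G]

theorem omega_congr {a b : G → ℂ} (ha : IsLocClassFun M a) (hb : IsLocClassFun M b)
    (h : ∀ g, MemLocalIdeal M (a g - b g)) (χ : IrrCharacter G) :
    MemLocalIdeal M (omega (χ : G → ℂ) a - omega (χ : G → ℂ) b) := by
  haveI := Fintype.ofFinite (ConjClasses G)
  rw [omega_eq_sum_centralChar χ ha.1, omega_eq_sum_centralChar χ hb.1, ← Finset.sum_sub_distrib]
  refine MemLocalIdeal.sum' fun C _ => ?_
  rw [← sub_mul]
  exact MemLocalIdeal.mul_right' (h _) (centralChar_mem_loc χ _)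

theorem inducedCentralChar_eq (H : Subgroup G) [Fintype H] (ξ : H → ℂ) (g : G) :
    inducedCentralChar H ξ g = omega ξ (resFun H (classInd g)) := by
  classical
  rw [inducedCentralChar, omega, Finset.sum_div,
    finsum_mem_eq_sum_of_inter_support_eq (t := Finset.univ.filter fun h : H => IsConj g (h : G)) _
      (by ext; simp), Finset.sum_filter]
  refine Finset.sum_congr rfl fun h _ => ?_
  simp only [resFun, classInd_apply]
  by_cases hc : IsConj g (h : G)
  · rw [if_pos hc, if_pos hc, one_mul]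
  · rw [if_neg hc, if_neg hc, zero_mul, zero_div]

theorem brauerCentralChar_eq (P H : Subgroup G) [Fintype H] (ξ : H → ℂ) (g : G) :
    brauerCentralChar P H ξ g = omega ξ (brFun P H (classInd g)) := by
  classical
  rw [brauerCentralChar, omega, Finset.sum_div,
    finsum_mem_eq_sum_of_inter_support_eq (t := Finset.univ.filter fun h : H =>
      IsConj g (h : G) ∧ (h : G) ∈ Subgroup.centralizer (P : Set G)) _
      (by ext; simp), Finset.sum_filter]
  refine Finset.sum_congr rfl fun h _ => ?_
  by_cases hh : (h : G) ∈ Subgroup.centralizer (P : Set G)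
  · rw [brFun_of_mem _ hh]
    by_cases hc : IsConj g (h : G)
    · rw [if_pos ⟨hc, hh⟩, classInd_apply, if_pos hc, one_mul]
    · rw [if_neg (fun h' => hc h'.1), classInd_apply, if_neg hc, zero_mul, zero_div]
  · rw [brFun_of_notMem _ hh, if_neg (fun h' => hh h'.2), zero_mul, zero_div]

/-! ## Homomorphisms modulo `M` -/

variable (M) in
/-- A map on locally integral class functions which is an algebra homomorphism modulo `M`. -/
structure IsModHom (Λ : (G → ℂ) → ℂ) : Prop where
  mem : ∀ {a : G → ℂ}, IsLocClassFun M a → Λ a ∈ loc M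
  one : Λ (classInd 1) = 1
  add : ∀ a b, Λ (a + b) = Λ a + Λ b
  smul : ∀ (c : ℂ) a, Λ (c • a) = c * Λ a
  mul : ∀ {a b : G → ℂ}, IsLocClassFun M a → IsLocClassFun M b →
    MemLocalIdeal M (Λ (conv a b) - Λ a * Λ b)

theorem IsModHom.exists_mem {Λ : (G → ℂ) → ℂ} (hΛ : IsModHom M Λ) (a : IrrCharacter G → G → ℂ)
    (ha : ∀ χ, IsLocClassFun M (a χ)) (h : ∀ χ : IrrCharacter G, omega (χ : G → ℂ) (a χ) = 0) :
    ∃ χ, MemLocalIdeal M (Λ (a χ)) := by
  classical
  haveI := irrFintype G
  by_contra hcon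
  rw [not_exists] at hcon
  have : ∀ s : Finset (IrrCharacter G), ∃ b, IsLocClassFun M b ∧ ¬ MemLocalIdeal M (Λ b) ∧
      ∀ ψ ∈ s, omega (ψ : G → ℂ) b = 0 := by
    intro s
    induction s using Finset.induction with
    | empty => exact ⟨classInd 1, isLocClassFun_classInd 1, hΛ.one ▸ not_memLocalIdeal_one,
        fun ψ hψ => absurd hψ (Finset.notMem_empty ψ)⟩
    | insert χ s _ ih =>
      obtain ⟨b, hb, hbn, hbz⟩ := ih
      refine ⟨conv (a χ) b, (ha χ).conv hb, fun hm => ?_, fun ψ hψ => ?_⟩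
      · have h1 := MemLocalIdeal.sub' hm (hΛ.mul (ha χ) hb)
        rw [sub_sub_cancel] at h1
        exact (MemLocalIdeal.mem_or_mem (hΛ.mem (ha χ)) (hΛ.mem hb) h1).elim (hcon χ) hbn
      · rw [omega_conv ψ (ha χ).1]
        rcases Finset.mem_insert.1 hψ with rfl | hψ
        · rw [h, zero_mul]
        · rw [hbz ψ hψ, mul_zero]
  obtain ⟨b, hb, hbn, hbz⟩ := this Finset.univ
  have hb0 : b = 0 := classFun_ext_omega hb.1 isClassFunction_zero fun ψ => by
    rw [hbz ψ (Finset.mem_univ _)]; simp [omega]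
  apply hbn
  rw [hb0, show (0 : G → ℂ) = (0 : ℂ) • classInd 1 by simp, hΛ.smul, zero_mul]
  exact MemLocalIdeal.zero'

theorem IsModHom.exists_congr {Λ : (G → ℂ) → ℂ} (hΛ : IsModHom M Λ) {a : G → ℂ}
    (ha : IsLocClassFun M a) :
    ∃ χ : IrrCharacter G, MemLocalIdeal M (Λ a - omega (χ : G → ℂ) a) := by
  have hloc : ∀ χ : IrrCharacter G, IsLocClassFun M (a + (-omega (χ : G → ℂ) a) • classInd 1) :=
    fun χ => ha.add ((isLocClassFun_classInd 1).smul (neg_mem (omega_mem_loc χ ha)))
  obtain ⟨χ, hχ⟩ := hΛ.exists_mem _ hloc fun χ => by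
    rw [omega_add, omega_smul, omega_classInd, centralChar_one, mul_one, add_neg_cancel]
  rw [hΛ.add, hΛ.smul, hΛ.one, mul_one, ← sub_eq_add_neg] at hχ
  exact ⟨χ, hχ⟩

/-- A homomorphism modulo `M` is the central character of a block modulo `M`. -/
theorem IsModHom.exists_block {Λ : (G → ℂ) → ℂ} (hΛ : IsModHom M Λ) :
    ∃ B : Set (IrrCharacter G), IsPBlock M B ∧ ∀ χ ∈ B, ∀ a : G → ℂ, IsLocClassFun M a →
      MemLocalIdeal M (Λ a - omega (χ : G → ℂ) a) := by
  classical
  obtain ⟨χ₀, hχ₀⟩ : ∃ χ₀ : IrrCharacter G,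
      ¬ MemLocalIdeal M (Λ (blockCoeff (blockOf M (χ₀ : G → ℂ)))) := by
    by_contra hcon
    simp only [not_exists, not_not] at hcon
    have hloc : ∀ χ : IrrCharacter G, IsLocClassFun M
        (classInd 1 + (-1 : ℂ) • blockCoeff (blockOf M (χ : G → ℂ))) := fun χ =>
      (isLocClassFun_classInd 1).add
        ((isLocClassFun_blockCoeff (isPBlock_blockOf χ)).smul (neg_mem (one_mem _)))
    obtain ⟨χ, hχ⟩ := hΛ.exists_mem _ hloc fun χ => by
      rw [omega_add, omega_smul, omega_classInd, centralChar_one, omega_blockCoeff,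
        if_pos (mem_blockOf_self χ)]
      ring
    rw [hΛ.add, hΛ.smul, hΛ.one] at hχ
    have h1 := MemLocalIdeal.add' hχ (hcon χ)
    rw [neg_one_mul, neg_add_cancel_right] at h1
    exact not_memLocalIdeal_one h1
  have hB := isPBlock_blockOf (M := M) χ₀
  refine ⟨_, hB, fun χ hχ a ha => ?_⟩
  set e := blockCoeff (blockOf M (χ₀ : G → ℂ)) with he
  have hel : IsLocClassFun M e := isLocClassFun_blockCoeff hB
  obtain ⟨ψ, hψ⟩ := hΛ.exists_congr hel
  rw [he, omega_blockCoeff] at hψ
  by_cases hψB : ψ ∈ blockOf M (χ₀ : G → ℂ)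
  swap
  · rw [if_neg hψB, sub_zero] at hψ
    exact absurd hψ hχ₀
  rw [if_pos hψB] at hψ
  set a' := a + (-omega (χ : G → ℂ) a) • classInd 1 with ha'
  have hal : IsLocClassFun M a' :=
    ha.add ((isLocClassFun_classInd 1).smul (neg_mem (omega_mem_loc χ ha)))
  obtain ⟨φ, hφ⟩ := hΛ.exists_congr (hel.conv hal)
  have hz : MemLocalIdeal M (omega (φ : G → ℂ) (conv e a')) := by
    rw [omega_conv φ hel.1, he, omega_blockCoeff]
    by_cases hφB : φ ∈ blockOf M (χ₀ : G → ℂ)
    · rw [if_pos hφB, one_mul, ha', omega_add, omega_smul, omega_classInd, centralChar_one, mul_one,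
        ← sub_eq_add_neg]
      exact omega_sub_mem (IsPBlock.sameBlock hB hφB hχ) ha
    · rw [if_neg hφB, zero_mul]; exact MemLocalIdeal.zero'
  have h1 : MemLocalIdeal M (Λ e * Λ a') := by
    have h2 := MemLocalIdeal.sub' (MemLocalIdeal.add' hφ hz) (hΛ.mul hel hal)
    rwa [sub_add_cancel, sub_sub_cancel] at h2
  have h2 := (MemLocalIdeal.mem_or_mem (hΛ.mem hel) (hΛ.mem hal) h1).resolve_left hχ₀
  rwa [ha', hΛ.add, hΛ.smul, hΛ.one, mul_one, ← sub_eq_add_neg] at h2

variable {p : ℕ} [Fact p.Prime]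

/-- The Brauer map is multiplicative modulo `M`. -/
theorem brFun_conv (hpM : (p : AlgInt) ∈ M) {P H : Subgroup G} [Fintype H] (hP : IsPGroup p P)
    (hCH : Subgroup.centralizer (P : Set G) ≤ H) {a b : G → ℂ} (ha : IsLocClassFun M a)
    (hb : IsLocClassFun M b) (c : H) :
    MemLocalIdeal M (brFun P H (conv a b) c - conv (brFun P H a) (brFun P H b) c) := by
  classical
  haveI := charP_resField (M := M) (Fact.out (p := p.Prime)) hpM
  set C := Subgroup.centralizer (P : Set G) with hC
  have hcut := cut_mul (k := ResField M) p hP (isFixedBy_redFun ha P) (isFixedBy_redFun hb P)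
  have hl : ∀ (f : G → ℂ), IsLocClassFun M f → ∀ h : H, brFun P H f h ∈ loc M := fun f hf h => by
    by_cases hh : (h : G) ∈ C
    · rw [brFun_of_mem f hh]; exact hf.2 h
    · rw [brFun_of_notMem f hh]; exact zero_mem _
  have hredfun : ∀ (f : G → ℂ) (hf : IsLocClassFun M f) (h : H),
      (cut (C : Set G) (redFun f hf.2)).coeff h = red ⟨brFun P H f h, hl f hf h⟩ := by
    intro f hf h
    by_cases hh : (h : G) ∈ C
    · rw [coeff_cut_of_mem _ hh, coeff_redFun]
      exact congrArg red (Subtype.ext (brFun_of_mem f hh).symm)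
    · rw [coeff_cut_of_notMem _ hh]
      exact (map_zero red).symm.trans (congrArg red (Subtype.ext (brFun_of_notMem f hh).symm))
  have h1 := congrArg (fun e => MonoidAlgebra.coeff e (c : G)) hcut
  have hmul : redFun a ha.2 * redFun b hb.2 = redFun (conv a b) (ha.conv hb).2 := by
    rw [redFun, redFun, ← map_mul, toAlg_conv ha.2 hb.2 (ha.conv hb).2]; rfl
  rw [hmul, hredfun _ (ha.conv hb), coeff_mul_eq_sum] at h1
  have hsub : ∑ y : G, (cut (C : Set G) (redFun a ha.2)).coeff y *
      (cut (C : Set G) (redFun b hb.2)).coeff (y⁻¹ * (c : G)) =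
      red ⟨conv (brFun P H a) (brFun P H b) c,
        sum_mem fun _ _ => mul_mem (hl a ha _) (hl b hb _)⟩ := by
    have e2 : (⟨conv (brFun P H a) (brFun P H b) c,
        sum_mem fun _ _ => mul_mem (hl a ha _) (hl b hb _)⟩ : loc M) =
        ∑ y : H, (⟨brFun P H a y, hl a ha y⟩ : loc M) * ⟨brFun P H b (y⁻¹ * c), hl b hb _⟩ := by
      apply Subtype.ext
      simp [Blocks.conv]
    rw [e2, map_sum]
    rw [Finset.sum_congr rfl (g := fun y : H => (cut (C : Set G) (redFun a ha.2)).coeff (y : G) *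
      (cut (C : Set G) (redFun b hb.2)).coeff ((y : G)⁻¹ * (c : G))) fun y _ => by
        rw [map_mul, ← hredfun a ha y, ← hredfun b hb (y⁻¹ * c)]; simp]
    symm
    refine Finset.sum_bij_ne_zero (fun y _ _ => (y : G)) (by simp) (by simp) (fun y _ hy => ?_) (by simp)
    have hyH : y ∈ H := hCH (by
      by_contra hyC
      exact hy (by rw [coeff_cut_of_notMem _ hyC, zero_mul]))
    exact ⟨⟨y, hyH⟩, Finset.mem_univ _, by simpa using hy, rfl⟩
  rw [hsub, ← sub_eq_zero, ← map_sub, red_eq_zero_iff] at h1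
  simpa using h1

/-- The central character of an irreducible character of `H` composed with the Brauer map is a
homomorphism modulo `M`. -/
theorem isModHom_brauer (hpM : (p : AlgInt) ∈ M) {P H : Subgroup G} [Fintype H] (hP : IsPGroup p P)
    (hCH : Subgroup.centralizer (P : Set G) ≤ H) (hHN : H ≤ Subgroup.normalizer (P : Set G))
    (ξ : IrrCharacter H) : IsModHom M (fun a => omega (ξ : H → ℂ) (brFun P H a)) where
  mem := fun ha => omega_mem_loc ξ (isLocClassFun_brFun hHN ha)
  one := by
    have : brFun P H (classInd (1 : G)) = classInd (1 : H) := by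
      funext h
      by_cases hh : h = 1
      · subst hh
        rw [brFun_of_mem _ (by exact (Subgroup.centralizer (P : Set G)).one_mem), classInd_apply,
          classInd_apply, if_pos (by exact IsConj.refl 1), if_pos (IsConj.refl 1)]
      · have h1 : ¬ IsConj (1 : G) (h : G) := fun h' => hh (Subtype.ext (isConj_one_right.1 h'))
        have h2 : ¬ IsConj (1 : H) h := fun h' => hh (isConj_one_right.1 h')
        by_cases hc : (h : G) ∈ Subgroup.centralizer (P : Set G)
        · rw [brFun_of_mem _ hc, classInd_apply, classInd_apply, if_neg h1, if_neg h2]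
        · rw [brFun_of_notMem _ hc, classInd_apply, if_neg h2]
    rw [this, omega_classInd, centralChar_one]
  add := fun a b => by
    rw [← omega_add]; congr 1; funext h
    by_cases hc : (h : G) ∈ Subgroup.centralizer (P : Set G) <;>
      simp [brFun_of_mem, brFun_of_notMem, hc]
  smul := fun c a => by
    rw [← omega_smul]; congr 1; funext h
    by_cases hc : (h : G) ∈ Subgroup.centralizer (P : Set G) <;>
      simp [brFun_of_mem, brFun_of_notMem, hc]
  mul := fun {a b} ha hb => by
    rw [← omega_conv ξ (isClassFunction_brFun hHN ha.1)]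
    exact omega_congr (isLocClassFun_brFun hHN (ha.conv hb))
      ((isLocClassFun_brFun hHN ha).conv (isLocClassFun_brFun hHN hb))
      (brFun_conv hpM hP hCH ha hb) ξ

theorem omega_res_sub_br_mem (hpM : (p : AlgInt) ∈ M) {P H : Subgroup G} [Fintype H]
    (hP : IsPGroup p P) (hPH : P ≤ H) (hHN : H ≤ Subgroup.normalizer (P : Set G))
    {a : G → ℂ} (ha : IsLocClassFun M a) (ξ : IrrCharacter H) :
    MemLocalIdeal M (omega (ξ : H → ℂ) (resFun H a) - omega (ξ : H → ℂ) (brFun P H a)) := by
  haveI : (P.subgroupOf H).Normal := Subgroup.normal_subgroupOf_iff_le_normalizer hPH |>.2 hHN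
  have hd := (isLocClassFun_resFun H ha).add
    ((isLocClassFun_brFun hHN ha).smul (neg_mem (one_mem _)))
  have h1 := omega_mem_of_vanish hpM (hP.of_equiv (Subgroup.subgroupOfEquivOfLe hPH).symm) hd
    (fun c hc => by
      have hc' : (c : G) ∈ Subgroup.centralizer (P : Set G) := by
        rw [Subgroup.mem_centralizer_iff] at hc ⊢
        intro u hu
        exact congrArg Subtype.val (hc ⟨u, hPH hu⟩ (Subgroup.mem_subgroupOf.2 hu))
      rw [Pi.add_apply, Pi.smul_apply, brFun_of_mem a hc']
      simpa [resFun] using MemLocalIdeal.zero' (M := M)) ξ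
  rwa [omega_add, omega_smul, neg_one_mul, ← sub_eq_add_neg] at h1

/-- The induced block, on every class function. -/
theorem IsInducedBlock.omega_sub {H : Subgroup G} [Fintype H] {b : Set (IrrCharacter H)}
    {B : Set (IrrCharacter G)} (h : IsInducedBlock M H b B) {ξ : IrrCharacter H} (hξ : ξ ∈ b)
    {χ : IrrCharacter G} (hχ : χ ∈ B) {a : G → ℂ} (ha : IsLocClassFun M a) :
    MemLocalIdeal M (omega (ξ : H → ℂ) (resFun H a) - omega (χ : G → ℂ) a) := by
  haveI := Fintype.ofFinite (ConjClasses G)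
  have e : resFun H a =
      ∑ C : ConjClasses G, a (classRep C) • resFun H (classInd (classRep C)) := by
    funext x
    simp only [resFun, Finset.sum_apply, Pi.smul_apply]
    conv_lhs => rw [classFun_eq_sum_classInd ha.1]
    simp
  rw [e, omega_sum, omega_eq_sum_centralChar χ ha.1, ← Finset.sum_sub_distrib]
  refine MemLocalIdeal.sum' fun C _ => ?_
  rw [omega_smul, ← mul_sub, ← inducedCentralChar_eq]
  exact MemLocalIdeal.mul_left' (ha.2 _) (h.2.2 ξ hξ χ hχ _)

theorem IsInducedBlock.unique {H : Subgroup G} {b : Set (IrrCharacter H)}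
    {B B' : Set (IrrCharacter G)} (h : IsInducedBlock M H b B) (h' : IsInducedBlock M H b B') :
    B = B' := by
  obtain ⟨ξ, hξ⟩ := IsPBlock.nonempty h.1
  obtain ⟨χ, hχ⟩ := IsPBlock.nonempty h.2.1
  obtain ⟨χ', hχ'⟩ := IsPBlock.nonempty h'.2.1
  refine IsPBlock.eq_of_mem h.2.1 h'.2.1 hχ (IsPBlock.mem_of_sameBlock h'.2.1 hχ' fun g => ?_)
  have h1 := MemLocalIdeal.sub' (h.2.2 ξ hξ χ hχ g) (h'.2.2 ξ hξ χ' hχ' g)
  rwa [sub_sub_sub_cancel_left] at h1

/-- Blocks of `H` with `P C(P) ≤ H ≤ N(P)` induce blocks of `G`. -/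
theorem exists_isInducedBlock (hpM : (p : AlgInt) ∈ M) {P H : Subgroup G} (hP : IsPGroup p P)
    (hPH : P ≤ H) (hCH : Subgroup.centralizer (P : Set G) ≤ H)
    (hHN : H ≤ Subgroup.normalizer (P : Set G)) {b : Set (IrrCharacter H)} (hb : IsPBlock M b) :
    InducedBlockDefined M H b := by
  haveI := Fintype.ofFinite H
  obtain ⟨ξ, hξ⟩ := IsPBlock.nonempty hb
  obtain ⟨B, hB, hcongr⟩ := (isModHom_brauer hpM hP hCH hHN ξ).exists_block
  refine ⟨B, hb, hB, fun ξ' hξ' χ hχ g => ?_⟩
  have ha : IsLocClassFun M (classInd g) := isLocClassFun_classInd g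
  rw [inducedCentralChar_eq, ← omega_classInd]
  have h1 := omega_sub_mem (IsPBlock.sameBlock hb hξ' hξ) (isLocClassFun_resFun H ha)
  have h2 := omega_res_sub_br_mem hpM hP hPH hHN ha ξ
  have h3 := hcongr χ hχ _ ha
  have := MemLocalIdeal.add' (MemLocalIdeal.add' h1 h2) h3
  rwa [sub_add_sub_cancel, sub_add_sub_cancel] at this

end CfsgLib.Blocks
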