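import Cfsg.Agent.Lib.Blocks.NormalPPrime
import Cfsg.Agent.Lib.Blocks.Induced
import Cfsg.Agent.Lib.Chars.Quotient

/-!
# Blocks covering blocks of normal subgroups
-/

set_option linter.unusedSectionVars false
set_option linter.style.haveILetI false

namespace CfsgLib.Blocks

open Cfsg Chars
open scoped ComplexConjugate

variable {G : Type*} [Group G] [Fintype G] (N : Subgroup G) [N.Normal] [Fintype N]

/-- The conjugate of an irreducible character of a normal subgroup. -/
def conjIrr (g : G) (θ : IrrCharacter N) : IrrCharacter N :=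
  ⟨CharsMore.conjFn N g (θ : N → ℂ), CharsMore.isIrr_conjFn N g θ.2⟩

theorem coe_conjIrr (g : G) (θ : IrrCharacter N) :
    (conjIrr N g θ : N → ℂ) = CharsMore.conjFn N g (θ : N → ℂ) := rfl

theorem conjIrr_mul (g h : G) (θ : IrrCharacter N) :
    conjIrr N (g * h) θ = conjIrr N h (conjIrr N g θ) :=
  Subtype.ext (CharsMore.conjFn_mul N g h (θ : N → ℂ))

theorem conjIrr_one (θ : IrrCharacter N) : conjIrr N 1 θ = θ :=
  Subtype.ext (CharsMore.conjFn_one N (θ : N → ℂ))

theorem bijective_conjBy (g : G) : Function.Bijective (CharsMore.conjBy N g) :=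
  (Finite.injective_iff_bijective).1 ((Finite.injective_iff_surjective).2
    (CharsMore.conjBy_surjective N g))

theorem omega_conjIrr (g : G) (θ : IrrCharacter N) (a : N → ℂ) :
    omega (conjIrr N g θ : N → ℂ) a =
      omega (θ : N → ℂ) (fun n => a (CharsMore.conjBy N g⁻¹ n)) := by
  rw [omega, omega]
  congr 1
  · refine Fintype.sum_bijective _ (bijective_conjBy N g) _ _ fun m => ?_
    rw [coe_conjIrr, CharsMore.conjFn]
    congr 2
    exact Subtype.ext (by simp [mul_assoc])
  · simp only [coe_conjIrr, CharsMore.conjFn, map_one]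

theorem centralChar_conjIrr (g : G) (θ : IrrCharacter N) (n : N) :
    centralChar (conjIrr N g θ : N → ℂ) n =
      centralChar (θ : N → ℂ) (CharsMore.conjBy N g n) := by
  classical
  rw [← omega_classInd, ← omega_classInd, omega_conjIrr]
  congr 1
  funext m
  rw [classInd_apply, classInd_apply]
  have h : IsConj n (CharsMore.conjBy N g⁻¹ m) ↔ IsConj (CharsMore.conjBy N g n) m := by
    have e : ∀ (x : G) (k : N), CharsMore.conjBy N x (CharsMore.conjBy N x⁻¹ k) = k := fun x k =>
      Subtype.ext (by simp [mul_assoc])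
    constructor
    · intro h
      have := MonoidHom.map_isConj (CharsMore.conjBy N g) h
      rwa [e] at this
    · intro h
      have := MonoidHom.map_isConj (CharsMore.conjBy N g⁻¹) h
      have e2 : CharsMore.conjBy N g⁻¹ (CharsMore.conjBy N g n) = n := by
        simpa using e g⁻¹ n
      rwa [e2] at this
  by_cases hc : IsConj (CharsMore.conjBy N g n) m
  · rw [if_pos hc, if_pos (h.2 hc)]
  · rw [if_neg hc, if_neg (h.not.2 hc)]

/-- All conjugates of a set of characters of a normal subgroup. -/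
def conjSet (b : Set (IrrCharacter N)) : Set (IrrCharacter N) :=
  {ψ | ∃ g : G, ∃ θ ∈ b, ψ = conjIrr N g θ}

theorem subset_conjSet (b : Set (IrrCharacter N)) : b ⊆ conjSet N b := fun θ hθ =>
  ⟨1, θ, hθ, (conjIrr_one N θ).symm⟩

theorem conjIrr_mem_conjSet {b : Set (IrrCharacter N)} (g : G) (θ : IrrCharacter N) :
    conjIrr N g θ ∈ conjSet N b ↔ θ ∈ conjSet N b := by
  constructor
  · rintro ⟨h, φ, hφ, he⟩
    refine ⟨h * g⁻¹, φ, hφ, ?_⟩
    rw [conjIrr_mul, ← he, ← conjIrr_mul, mul_inv_cancel, conjIrr_one]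
  · rintro ⟨h, φ, hφ, rfl⟩
    exact ⟨h * g, φ, hφ, (conjIrr_mul N h g φ).symm⟩

/-- The element of the group ring of `G` given by a set of characters of `N`. -/
noncomputable def liftIdem (O : Set (IrrCharacter N)) : G → ℂ := extendByZero N (blockCoeff O)

theorem liftIdem_eq_zero (O : Set (IrrCharacter N)) {g : G} (hg : g ∉ N) : liftIdem N O g = 0 :=
  extendByZero_of_not_mem N _ hg

theorem resFun_liftIdem (O : Set (IrrCharacter N)) : resFun N (liftIdem N O) = blockCoeff O :=
  funext fun n => extendByZero_coe N _ n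

theorem isClassFunction_liftIdem {O : Set (IrrCharacter N)}
    (hO : ∀ g θ, conjIrr N g θ ∈ O ↔ θ ∈ O) : IsClassFunction G (liftIdem N O) := by
  classical
  intro x y
  by_cases hx : x ∈ N
  · have hx' : y * x * y⁻¹ ∈ N := Subgroup.Normal.conj_mem inferInstance x hx y
    rw [liftIdem, extendByZero_of_mem N _ hx, extendByZero_of_mem N _ hx']
    have hc : IsClassFunction N (fun n => blockCoeff O (CharsMore.conjBy N y n)) := fun u v => by
      show blockCoeff O (CharsMore.conjBy N y (v * u * v⁻¹)) = _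
      rw [map_mul, map_mul, map_inv, isClassFunction_blockCoeff O]
    have h := congrFun (classFun_ext_omega hc (isClassFunction_blockCoeff O) fun φ => by
      have e := omega_conjIrr N y⁻¹ φ (blockCoeff O)
      rw [inv_inv] at e
      rw [← e, omega_blockCoeff, omega_blockCoeff]
      exact if_congr (hO _ _) rfl rfl) ⟨x, hx⟩
    rw [← h]
    exact congrArg _ (Subtype.ext (by simp))
  · have hx' : y * x * y⁻¹ ∉ N := fun h' => hx (by
      simpa [mul_assoc] using Subgroup.Normal.conj_mem inferInstance _ h' y⁻¹)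
    rw [liftIdem_eq_zero N O hx, liftIdem_eq_zero N O hx']

open scoped Classical in
theorem omega_liftIdem {O : Set (IrrCharacter N)}
    (hO : ∀ g θ, conjIrr N g θ ∈ O ↔ θ ∈ O) (χ : IrrCharacter G)
    {θ : IrrCharacter N} (hθ : classInner (fun n : N => (χ : G → ℂ) n) (θ : N → ℂ) ≠ 0) :
    omega (χ : G → ℂ) (liftIdem N O) = if θ ∈ O then 1 else 0 := by
  rw [← omega_eq_omega_constituent N (isClassFunction_liftIdem N hO)
    (fun g hg => liftIdem_eq_zero N O hg) χ θ hθ, resFun_liftIdem, omega_blockCoeff]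

theorem constituent_iff_centralChar (χ : IrrCharacter G) (θ : IrrCharacter N) :
    classInner (fun n : N => (χ : G → ℂ) n) (θ : N → ℂ) ≠ 0 ↔
      ∀ n : N, centralChar (χ : G → ℂ) (n : G) = inducedCentralChar N (θ : N → ℂ) (n : G) := by
  classical
  have hsupp : ∀ n : N, ∀ g : G, g ∉ N → classInd (n : G) g = 0 := fun n g hg => by
    rw [classInd_apply, if_neg]
    intro h
    obtain ⟨c, rfl⟩ := isConj_iff.1 h
    exact hg (Subgroup.Normal.conj_mem inferInstance _ n.2 c)
  constructor
  · intro h n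
    rw [inducedCentralChar_eq, omega_eq_omega_constituent N (isClassFunction_classInd _) (hsupp n)
      χ θ h, omega_classInd]
  · intro h
    obtain ⟨θ', hθ'⟩ := exists_constituent_restrict N χ
    obtain ⟨O, hO⟩ : ∃ O : Set (IrrCharacter N), O = {φ : IrrCharacter N |
        classInner (fun n : N => (χ : G → ℂ) n) (φ : N → ℂ) ≠ 0} := ⟨_, rfl⟩
    have hst : ∀ g φ, conjIrr N g φ ∈ O ↔ φ ∈ O := fun g φ => by
      rw [hO, Set.mem_ofPred_eq, Set.mem_ofPred_eq, coe_conjIrr,
        inner_conjFn N (isClassFunction_irr χ)]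
    have hcl := isClassFunction_liftIdem N hst
    haveI := Fintype.ofFinite (ConjClasses G)
    have e : omega (θ : N → ℂ) (resFun N (liftIdem N O)) = omega (χ : G → ℂ) (liftIdem N O) := by
      have e1 : omega (θ : N → ℂ) (resFun N (liftIdem N O)) =
          ∑ C : ConjClasses G, liftIdem N O (classRep C) *
            inducedCentralChar N (θ : N → ℂ) (classRep C) := by
        have : resFun N (liftIdem N O) = ∑ C : ConjClasses G,
            liftIdem N O (classRep C) • resFun N (classInd (classRep C)) := by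
          funext x
          conv_lhs => rw [resFun, classFun_eq_sum_classInd hcl]
          simp [resFun, Finset.sum_apply]
        rw [this, omega_sum]
        exact Finset.sum_congr rfl fun C _ => by rw [omega_smul, inducedCentralChar_eq]
      rw [e1, omega_eq_sum_centralChar χ hcl]
      refine Finset.sum_congr rfl fun C _ => ?_
      by_cases hC : classRep C ∈ N
      · rw [h ⟨classRep C, hC⟩]
      · rw [liftIdem_eq_zero N O hC, zero_mul, zero_mul]
    rw [resFun_liftIdem, omega_blockCoeff, omega_liftIdem N hst χ hθ',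
      if_pos (show θ' ∈ O by rw [hO]; exact hθ')] at e
    by_contra hne
    rw [if_neg (show θ ∉ O by rw [hO]; exact fun h' => h' hne)] at e
    exact zero_ne_one e

variable {M : Ideal AlgInt} [M.IsPrime] {p : ℕ} [Fact p.Prime]

theorem sameBlock_conjIrr (g : G) {θ φ : IrrCharacter N}
    (h : SameBlock M (θ : N → ℂ) (φ : N → ℂ)) :
    SameBlock M (conjIrr N g θ : N → ℂ) (conjIrr N g φ : N → ℂ) := fun n => by
  rw [centralChar_conjIrr, centralChar_conjIrr]
  exact h _

theorem conjSet_saturated {b : Set (IrrCharacter N)} (hb : IsPBlock M b) {θ φ : IrrCharacter N}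
    (hθ : θ ∈ conjSet N b) (h : SameBlock M (θ : N → ℂ) (φ : N → ℂ)) : φ ∈ conjSet N b := by
  obtain ⟨g, θ₀, h0, rfl⟩ := hθ
  refine ⟨g, conjIrr N g⁻¹ φ, IsPBlock.mem_of_sameBlock hb h0 ?_, ?_⟩
  · have h1 := sameBlock_conjIrr N g⁻¹ h
    rwa [← conjIrr_mul, mul_inv_cancel, conjIrr_one] at h1
  · rw [← conjIrr_mul, inv_mul_cancel, conjIrr_one]

/-- The idempotent of a union of blocks is locally integral. -/
theorem isLocClassFun_blockCoeff_saturated {H : Type*} [Group H] [Fintype H]
    {O : Set (IrrCharacter H)}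
    (hO : ∀ θ φ : IrrCharacter H, θ ∈ O → SameBlock M (θ : H → ℂ) (φ : H → ℂ) → φ ∈ O) :
    IsLocClassFun M (blockCoeff O) := by
  classical
  haveI := irrFintype H
  have h : (fun χ : IrrCharacter H => if χ ∈ O then (1 : ℂ) else 0) ∈ Realised H M := by
    have e : (fun χ : IrrCharacter H => if χ ∈ O then (1 : ℂ) else 0) =
        ∏ φ ∈ Finset.univ.filter (fun φ : IrrCharacter H => φ ∉ O),
          (1 - fun χ : IrrCharacter H => if χ ∈ blockOf M (φ : H → ℂ) then (1 : ℂ) else 0) := by
      funext χ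
      rw [Finset.prod_apply]
      split_ifs with hχ
      · symm
        refine Finset.prod_eq_one fun φ hφ => ?_
        simp only [Pi.sub_apply, Pi.one_apply]
        rw [if_neg (show χ ∉ blockOf M (φ : H → ℂ) from
          fun hm => (Finset.mem_filter.1 hφ).2 (hO χ φ hχ (SameBlock.symm hm))), sub_zero]
      · symm
        refine Finset.prod_eq_zero (i := χ) (Finset.mem_filter.2 ⟨Finset.mem_univ _, hχ⟩) ?_
        simp only [Pi.sub_apply, Pi.one_apply]
        rw [if_pos (mem_blockOf_self χ), sub_self]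
    rw [e]
    exact prod_mem fun φ _ => sub_mem (one_mem _) (blockInd_mem_realised (isPBlock_blockOf φ))
  obtain ⟨a, ha, ha'⟩ := h
  rwa [eq_blockCoeff ha.1 ha'] at ha

theorem isLocClassFun_liftIdem {b : Set (IrrCharacter N)} (hb : IsPBlock M b) :
    IsLocClassFun M (liftIdem N (conjSet N b)) := by
  refine ⟨isClassFunction_liftIdem N fun g θ => conjIrr_mem_conjSet N g θ, fun x => ?_⟩
  by_cases hx : x ∈ N
  · rw [liftIdem, extendByZero_of_mem N _ hx]
    exact (isLocClassFun_blockCoeff_saturated fun θ φ hθ h => conjSet_saturated N hb hθ h).2 _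
  · rw [liftIdem_eq_zero N _ hx]
    exact zero_mem _

/-- The blocks of `N` below one block of `G` are conjugate. -/
theorem mem_conjSet_of_sameBlock {b : Set (IrrCharacter N)} (hb : IsPBlock M b)
    {χ χ' : IrrCharacter G} (h : SameBlock M (χ : G → ℂ) (χ' : G → ℂ)) {θ ψ : IrrCharacter N}
    (hθb : θ ∈ b) (hθ : classInner (fun n : N => (χ : G → ℂ) n) (θ : N → ℂ) ≠ 0)
    (hψ : classInner (fun n : N => (χ' : G → ℂ) n) (ψ : N → ℂ) ≠ 0) : ψ ∈ conjSet N b := by
  classical
  have hst := fun g θ => conjIrr_mem_conjSet (N := N) (b := b) g θ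
  have h1 := omega_sub_mem h (isLocClassFun_liftIdem N hb)
  rw [omega_liftIdem N hst χ hθ, omega_liftIdem N hst χ' hψ, if_pos (subset_conjSet N b hθb)] at h1
  by_contra hne
  rw [if_neg hne, sub_zero] at h1
  exact not_memLocalIdeal_one h1

/-- Passman's covering criterion. -/
theorem covering_iff {B : Set (IrrCharacter G)} (hB : IsPBlock M B) {b : Set (IrrCharacter N)}
    (hb : IsPBlock M b) :
    (∃ χ ∈ B, ∃ θ ∈ b, classInner (fun n : N => (χ : G → ℂ) n) (θ : N → ℂ) ≠ 0) ↔
      ∀ χ ∈ B, ∀ θ ∈ b, ∀ n : N, MemLocalIdeal M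
        (centralChar (χ : G → ℂ) (n : G) - inducedCentralChar N (θ : N → ℂ) (n : G)) := by
  classical
  constructor
  · rintro ⟨χ₀, hχ₀, θ₀, hθ₀, h0⟩ χ hχ θ hθ n
    have h1 := (IsPBlock.sameBlock hB hχ hχ₀) (n : G)
    have h2 := omega_sub_mem (IsPBlock.sameBlock hb hθ₀ hθ)
      (isLocClassFun_resFun N (isLocClassFun_classInd (M := M) (n : G)))
    rw [← inducedCentralChar_eq, ← inducedCentralChar_eq,
      ← (constituent_iff_centralChar N χ₀ θ₀).1 h0 n] at h2
    have h3 := MemLocalIdeal.add' h1 h2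
    rwa [sub_add_sub_cancel] at h3
  · intro h
    obtain ⟨χ, hχ⟩ := IsPBlock.nonempty hB
    obtain ⟨θ, hθ⟩ := IsPBlock.nonempty hb
    obtain ⟨θ', hθ'⟩ := exists_constituent_restrict N χ
    have hst := fun g θ => conjIrr_mem_conjSet (N := N) (b := b) g θ
    have hloc := isLocClassFun_liftIdem N hb (M := M)
    haveI := Fintype.ofFinite (ConjClasses G)
    have e1 : omega (θ : N → ℂ) (resFun N (liftIdem N (conjSet N b))) =
        ∑ C : ConjClasses G, liftIdem N (conjSet N b) (classRep C) *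
          inducedCentralChar N (θ : N → ℂ) (classRep C) := by
      have : resFun N (liftIdem N (conjSet N b)) = ∑ C : ConjClasses G,
          liftIdem N (conjSet N b) (classRep C) • resFun N (classInd (classRep C)) := by
        funext x
        conv_lhs => rw [resFun, classFun_eq_sum_classInd hloc.1]
        simp [resFun, Finset.sum_apply]
      rw [this, omega_sum]
      exact Finset.sum_congr rfl fun C _ => by rw [omega_smul, inducedCentralChar_eq]
    have h1 : MemLocalIdeal M (omega (χ : G → ℂ) (liftIdem N (conjSet N b)) -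
        omega (θ : N → ℂ) (resFun N (liftIdem N (conjSet N b)))) := by
      rw [e1, omega_eq_sum_centralChar χ hloc.1, ← Finset.sum_sub_distrib]
      refine MemLocalIdeal.sum' fun C _ => ?_
      rw [← mul_sub]
      by_cases hC : classRep C ∈ N
      · exact MemLocalIdeal.mul_left' (hloc.2 _) (h χ hχ θ hθ ⟨_, hC⟩)
      · rw [liftIdem_eq_zero N _ hC, zero_mul]
        exact MemLocalIdeal.zero'
    rw [resFun_liftIdem, omega_blockCoeff, omega_liftIdem N hst χ hθ',
      if_pos (subset_conjSet N b hθ)] at h1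
    by_cases hm : θ' ∈ conjSet N b
    · obtain ⟨g, θ'', h'', rfl⟩ := hm
      refine ⟨χ, hχ, θ'', h'', ?_⟩
      rwa [coe_conjIrr, inner_conjFn N (isClassFunction_irr χ)] at hθ'
    · rw [if_neg hm, zero_sub] at h1
      exact absurd (by simpa using MemLocalIdeal.neg' h1) (not_memLocalIdeal_one (M := M))

/-- Over a normal subgroup of `p`-power index a block is covered only once. -/
theorem sameBlock_of_covering_pow_index (hpM : (p : AlgInt) ∈ M) {k : ℕ} (hk : N.index = p ^ k)
    {χ χ' : IrrCharacter G} {θ θ' : IrrCharacter N} (h : SameBlock M (θ : N → ℂ) (θ' : N → ℂ))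
    (hθ : classInner (fun n : N => (χ : G → ℂ) n) (θ : N → ℂ) ≠ 0)
    (hθ' : classInner (fun n : N => (χ' : G → ℂ) n) (θ' : N → ℂ) ≠ 0) :
    SameBlock M (χ : G → ℂ) (χ' : G → ℂ) := by
  classical
  have hB := isPBlock_blockOf (M := M) χ
  have hsupp : ∀ g, g ∉ N → blockCoeff (blockOf M (χ : G → ℂ)) g = 0 := fun g hg =>
    blockCoeff_eq_zero_of_dvd Fact.out hpM hB
      (by by_contra hd; exact hg (index_eq_pow_mem_of_regular hk hd))
  have h1 := omega_sub_mem h (isLocClassFun_resFun N (isLocClassFun_blockCoeff hB))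
  rw [omega_eq_omega_constituent N (isClassFunction_blockCoeff _) hsupp χ θ hθ,
    omega_eq_omega_constituent N (isClassFunction_blockCoeff _) hsupp χ' θ' hθ',
    omega_blockCoeff, omega_blockCoeff, if_pos (mem_blockOf_self χ)] at h1
  by_contra hne
  rw [if_neg fun hm => hne (mem_blockOf.1 hm), sub_zero] at h1
  exact not_memLocalIdeal_one h1

theorem exists_character_over (θ : IrrCharacter N) :
    ∃ χ : IrrCharacter G, classInner (fun n : N => (χ : G → ℂ) n) (θ : N → ℂ) ≠ 0 := by
  have hind := isCharacter_indFun N (isCharacter_of_irr θ.2)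
  obtain ⟨χ, hχ⟩ := exists_constituent hind fun h => by
    have h1 := congrFun h 1
    rw [indFun_one_apply, Pi.zero_apply, mul_eq_zero] at h1
    exact h1.elim (Nat.cast_ne_zero.2 Subgroup.index_ne_zero_of_finite) (irr_degree_ne_zero θ.2)
  refine ⟨χ, fun h => hχ ?_⟩
  rw [inner_indFun N _ (isClassFunction_irr χ), ← inner_conj, h, map_zero]

/-- Blocks of `G ⧸ N` for a normal `p'`-subgroup `N`. -/
theorem exists_deflate_sameBlock (hpM : (p : AlgInt) ∈ M) (hN : ¬ p ∣ Nat.card N)
    (χ : IrrCharacter (G ⧸ N)) (ψ : IrrCharacter G)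
    (h : SameBlock M ((χ : G ⧸ N → ℂ) ∘ QuotientGroup.mk) (ψ : G → ℂ)) :
    ∃ ψ' : IrrCharacter (G ⧸ N), (ψ : G → ℂ) = (ψ' : G ⧸ N → ℂ) ∘ QuotientGroup.mk ∧
      SameBlock M (χ : G ⧸ N → ℂ) (ψ' : G ⧸ N → ℂ) := by
  classical
  haveI := Fintype.ofFinite (G ⧸ N)
  let χ₀ : IrrCharacter G := ⟨fun g => (χ : G ⧸ N → ℂ) g, isIrrCharacter_inflate N χ.2⟩
  have h0 : ∀ n ∈ N, (χ₀ : G → ℂ) n = (χ₀ : G → ℂ) 1 := fun n hn => by
    show (χ : G ⧸ N → ℂ) n = (χ : G ⧸ N → ℂ) ((1 : G) : G ⧸ N)
    rw [(QuotientGroup.eq_one_iff n).2 hn, QuotientGroup.mk_one]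
  have hψ : ∀ n ∈ N, (ψ : G → ℂ) n = (ψ : G → ℂ) 1 := fun n hn =>
    kernel_of_sameBlock hpM N hN (χ := χ₀) h h0 hn
  obtain ⟨f, hf, hfe⟩ := exists_deflate_irr N ψ.2 hψ
  refine ⟨⟨f, hf⟩, hfe, fun q => ?_⟩
  obtain ⟨a, ha0⟩ : ∃ a : G → ℂ,
      a = fun x => (Nat.card N : ℂ)⁻¹ * classInd q (QuotientGroup.mk x) := ⟨_, rfl⟩
  have ha : IsLocClassFun M a := by
    refine ⟨fun x y => ?_, fun x => ?_⟩
    · rw [ha0]
      simp only [QuotientGroup.mk_mul, QuotientGroup.mk_inv]
      rw [isClassFunction_classInd q]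
    · rw [ha0]
      exact mul_mem (inv_natCast_mem_loc Fact.out hpM hN) ((isLocClassFun_classInd q).2 _)
  have key : ∀ (φ : IrrCharacter (G ⧸ N)) (φ₀ : G → ℂ),
      φ₀ = (φ : G ⧸ N → ℂ) ∘ QuotientGroup.mk →
      omega φ₀ a = centralChar (φ : G ⧸ N → ℂ) q := by
    rintro φ φ₀ rfl
    rw [← omega_classInd φ q, omega, omega, ha0]
    congr 1
    rw [← Finset.sum_fiberwise Finset.univ (fun x : G => (QuotientGroup.mk x : G ⧸ N))]
    refine Finset.sum_congr rfl fun t _ => ?_
    rw [Finset.sum_congr rfl (g := fun _ => (Nat.card N : ℂ)⁻¹ * classInd q t * (φ : G ⧸ N → ℂ) t)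
      fun x hx => by simp only [Function.comp_apply, (Finset.mem_filter.1 hx).2],
      Finset.sum_const, nsmul_eq_mul]
    have hc : (Finset.univ.filter fun x : G => (QuotientGroup.mk x : G ⧸ N) = t).card = Nat.card N := by
      obtain ⟨t, rfl⟩ := QuotientGroup.mk_surjective t
      rw [← Fintype.card_subtype, ← Nat.card_eq_fintype_card]
      refine Nat.card_congr
        { toFun := fun x => ⟨t⁻¹ * x.1, by
            have := QuotientGroup.eq.1 x.2.symm
            exact this⟩
          invFun := fun n => ⟨t * n.1, by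
            rw [QuotientGroup.mk_mul, (QuotientGroup.eq_one_iff _).2 n.2, mul_one]⟩
          left_inv := fun x => Subtype.ext (by simp)
          right_inv := fun n => Subtype.ext (by simp) }
    rw [hc, ← mul_assoc, ← mul_assoc, mul_inv_cancel₀ (Nat.cast_ne_zero.2 Nat.card_pos.ne'), one_mul]
  have h1 := omega_sub_mem (χ := χ₀) h ha
  rwa [key χ (χ₀ : G → ℂ) rfl, key ⟨f, hf⟩ _ hfe] at h1

end CfsgLib.Blocks
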