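import Cfsg.Agent.Lib.Blocks.Counting
import Cfsg.Agent.Lib.Blocks.Covering

/-!
# Fong's theorem on defect groups of covering blocks
-/

set_option linter.unusedSectionVars false
set_option linter.style.haveILetI false

namespace CfsgLib.Blocks

open Cfsg Chars BlockOrth

variable {G : Type*} [Group G] [Fintype G] (N : Subgroup G) [N.Normal] [Fintype N]
  {M : Ideal AlgInt} [M.IsPrime] {p : ℕ} [Fact p.Prime]

theorem centralizer_subgroupOf_eq (g : N) :
    (Subgroup.centralizer ({(g : G)} : Set G)).subgroupOf N = Subgroup.centralizer ({g} : Set N) := by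
  ext x
  simp only [Subgroup.mem_subgroupOf, Subgroup.mem_centralizer_singleton_iff]
  exact ⟨fun h => Subtype.ext h, fun h => congrArg Subtype.val h⟩

theorem index_centralizer_conj (g : N) (x : G) :
    (Subgroup.centralizer ({CharsMore.conjBy N x g} : Set N)).index =
      (Subgroup.centralizer ({g} : Set N)).index := by
  rw [index_centralizer_eq, index_centralizer_eq]
  have e : ∀ (y : G) (n : N), CharsMore.conjBy N y (CharsMore.conjBy N y⁻¹ n) = n := fun y n =>
    Subtype.ext (by simp [mul_assoc])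
  refine Nat.card_congr
    { toFun := fun n => ⟨CharsMore.conjBy N x⁻¹ n.1, ?_⟩
      invFun := fun n => ⟨CharsMore.conjBy N x n.1, (CharsMore.conjBy N x).map_isConj n.2⟩
      left_inv := fun n => Subtype.ext (e x n.1)
      right_inv := fun n => Subtype.ext (by simpa using e x⁻¹ n.1) }
  have := (CharsMore.conjBy N x⁻¹).map_isConj n.2
  rwa [show CharsMore.conjBy N x⁻¹ (CharsMore.conjBy N x g) = g by simpa using e x⁻¹ g] at this

variable {b : Set (IrrCharacter N)}

theorem conjIrr_mem_of_invariant (hinv : ∀ x θ, θ ∈ b → conjIrr N x θ ∈ b) (x : G)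
    (θ : IrrCharacter N) : conjIrr N x θ ∈ b ↔ θ ∈ b := by
  refine ⟨fun h => ?_, hinv x θ⟩
  have := hinv x⁻¹ _ h
  rwa [← conjIrr_mul, mul_inv_cancel, conjIrr_one] at this

/-- The class giving the defect of the blocks covering an invariant block. -/
theorem exists_fong_class (hpM : (p : AlgInt) ∈ M) (hb : IsPBlock M b)
    (hinv : ∀ x θ, θ ∈ b → conjIrr N x θ ∈ b) :
    ∃ g : N, ¬ MemLocalIdeal M (blockCoeff b g) ∧
      (∀ θ ∈ b, ¬ MemLocalIdeal M (centralChar (θ : N → ℂ) g)) ∧
      (∀ θ ∈ b, ¬ MemLocalIdeal M (inducedCentralChar N (θ : N → ℂ) (g : G))) ∧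
      (Nat.card (Subgroup.centralizer ({(g : G)} : Set G))).factorization p =
        blockDefect p b + N.index.factorization p := by
  classical
  have hst := conjIrr_mem_of_invariant N hinv
  haveI := Fintype.ofFinite (ConjClasses G)
  haveI := Fintype.ofFinite (ConjClasses N)
  obtain ⟨θ₀, hθ₀⟩ := IsPBlock.nonempty hb
  have hcl := isClassFunction_liftIdem N hst
  have hbl := isLocClassFun_blockCoeff hb
  have h1 : omega (θ₀ : N → ℂ) (resFun N (liftIdem N b)) = 1 := by
    rw [resFun_liftIdem, omega_blockCoeff, if_pos hθ₀]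
  have e : resFun N (liftIdem N b) =
      ∑ C : ConjClasses G, liftIdem N b (classRep C) • resFun N (classInd (classRep C)) := by
    funext x
    conv_lhs => rw [resFun, classFun_eq_sum_classInd hcl]
    simp [resFun, Finset.sum_apply]
  rw [e, omega_sum] at h1
  obtain ⟨C, hC⟩ : ∃ C : ConjClasses G, ¬ MemLocalIdeal M (omega (θ₀ : N → ℂ)
      (liftIdem N b (classRep C) • resFun N (classInd (classRep C)))) := by
    by_contra hcon
    simp only [not_exists, not_not] at hcon
    exact not_memLocalIdeal_one (h1 ▸ MemLocalIdeal.sum' fun C _ => hcon C)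
  rw [omega_smul, ← inducedCentralChar_eq] at hC
  have hgN : classRep C ∈ N := by
    by_contra hn
    rw [liftIdem_eq_zero N b hn, zero_mul] at hC
    exact hC MemLocalIdeal.zero'
  set g : N := ⟨classRep C, hgN⟩ with hg
  have hT0 : inducedCentralChar N (θ₀ : N → ℂ) (g : G) ∈ loc M := by
    rw [inducedCentralChar_eq]
    exact omega_mem_loc θ₀ (isLocClassFun_resFun N (isLocClassFun_classInd _))
  have hval : liftIdem N b (classRep C) = blockCoeff b g := congrFun (resFun_liftIdem N b) g
  rw [hval] at hC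
  have hcoef : ¬ MemLocalIdeal M (blockCoeff b g) := fun h => hC (MemLocalIdeal.mul_right' h hT0)
  -- the `N`-classes inside the `G`-class
  set Ds := Finset.univ.filter fun D : ConjClasses N => IsConj (g : G) ((classRep D : N) : G) with hDs
  have hsum : ∀ φ : IrrCharacter N, inducedCentralChar N (φ : N → ℂ) (g : G) =
      ∑ D ∈ Ds, centralChar (φ : N → ℂ) (classRep D) := by
    intro φ
    rw [inducedCentralChar_eq, omega_eq_sum_centralChar φ
      (isClassFunction_resFun N (isClassFunction_classInd _)), hDs, Finset.sum_filter]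
    refine Finset.sum_congr rfl fun D _ => ?_
    simp only [resFun, classInd_apply]
    split_ifs <;> simp
  have hconj : ∀ D ∈ Ds, ∃ x : G, classRep D = CharsMore.conjBy N x g := fun D hD => by
    obtain ⟨x, hx⟩ := isConj_iff.1 (Finset.mem_filter.1 hD).2
    exact ⟨x, Subtype.ext (by rw [CharsMore.coe_conjBy]; exact hx.symm)⟩
  have hcong : ∀ θ ∈ b, MemLocalIdeal M (inducedCentralChar N (θ : N → ℂ) (g : G) -
      (Ds.card : ℂ) * centralChar (θ : N → ℂ) g) := by
    intro θ hθ
    rw [hsum, ← nsmul_eq_mul, ← Finset.sum_const, ← Finset.sum_sub_distrib]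
    refine MemLocalIdeal.sum' fun D hD => ?_
    obtain ⟨x, hx⟩ := hconj D hD
    rw [hx, ← centralChar_conjIrr]
    exact (IsPBlock.sameBlock hb ((hst x θ).2 hθ) hθ) g
  have hunit : ∀ θ ∈ b, ¬ MemLocalIdeal M (inducedCentralChar N (θ : N → ℂ) (g : G)) := by
    intro θ hθ hm
    refine hC (MemLocalIdeal.mul_left' (hbl.2 g) ?_)
    have h2 : MemLocalIdeal M (inducedCentralChar N (θ₀ : N → ℂ) (g : G) -
        inducedCentralChar N (θ : N → ℂ) (g : G)) := by
      rw [inducedCentralChar_eq, inducedCentralChar_eq]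
      exact omega_sub_mem (IsPBlock.sameBlock hb hθ₀ hθ)
        (isLocClassFun_resFun N (isLocClassFun_classInd _))
    have h3 := MemLocalIdeal.add' h2 hm
    rwa [sub_add_cancel] at h3
  have hcc : ∀ θ ∈ b, ¬ MemLocalIdeal M (centralChar (θ : N → ℂ) g) := by
    intro θ hθ hm
    refine hunit θ hθ ?_
    have h2 := MemLocalIdeal.add' (hcong θ hθ)
      (MemLocalIdeal.mul_left' (natCast_mem_loc (M := M) Ds.card) hm)
    rwa [sub_add_cancel] at h2
  have hm : ¬ p ∣ Ds.card := by
    intro hd
    refine hunit θ₀ hθ₀ ?_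
    have h2 := MemLocalIdeal.add' (hcong θ₀ hθ₀) (MemLocalIdeal.mul_right'
      ((memLocalIdeal_natCast_iff Fact.out hpM _).2 hd) (centralChar_mem_loc θ₀ g))
    rwa [sub_add_cancel] at h2
  refine ⟨g, hcoef, hcc, hunit, ?_⟩
  -- compare indices
  have hindex : (Subgroup.centralizer ({(g : G)} : Set G)).index =
      Ds.card * (Subgroup.centralizer ({g} : Set N)).index := by
    have h2 := hsum (principal N)
    rw [(constituent_iff_centralChar N (principal G) (principal N)).1
      (by
        rw [show (fun n : N => (principal G : G → ℂ) n) = (principal N : N → ℂ) from rfl,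
          inner_irr_self]
        exact one_ne_zero) g |>.symm] at h2
    simp only [centralChar, principal_apply, mul_one, div_one] at h2
    have h3 : ∀ D ∈ Ds, (Subgroup.centralizer ({classRep D} : Set N)).index =
        (Subgroup.centralizer ({g} : Set N)).index := fun D hD => by
      obtain ⟨x, hx⟩ := hconj D hD
      rw [hx, index_centralizer_conj]
    rw [← Nat.cast_sum, Finset.sum_congr rfl h3, Finset.sum_const, smul_eq_mul] at h2
    exact_mod_cast h2
  have hb2 := factorization_index_defectClass hpM hb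
    (g := g) ⟨hbl.2 g, hcoef, hcc⟩
  have hb3 := blockMin_add_blockDefect (p := p) (IsPBlock.nonempty hb)
  have h4 := congrArg (fun n : ℕ => n.factorization p) hindex
  have hDs0 : Ds.card ≠ 0 := fun h0 => hm (h0 ▸ dvd_zero p)
  simp only [Nat.factorization_mul hDs0 Subgroup.index_ne_zero_of_finite, Finsupp.add_apply,
    Nat.factorization_eq_zero_of_not_dvd hm, zero_add] at h4
  have h5 := congrArg (fun n : ℕ => n.factorization p)
    (Subgroup.centralizer ({(g : G)} : Set G)).card_mul_index
  have h6 := congrArg (fun n : ℕ => n.factorization p) N.card_mul_index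
  simp only [Nat.factorization_mul Nat.card_pos.ne' Subgroup.index_ne_zero_of_finite,
    Finsupp.add_apply] at h5 h6
  omega

theorem covering_centralChar_unit {g : N} (hb : IsPBlock M b) {B : Set (IrrCharacter G)}
    (hB : IsPBlock M B)
    (hcov : ∃ χ ∈ B, ∃ θ ∈ b, classInner (fun n : N => (χ : G → ℂ) n) (θ : N → ℂ) ≠ 0)
    (hu : ∀ θ ∈ b, ¬ MemLocalIdeal M (inducedCentralChar N (θ : N → ℂ) (g : G)))
    {χ : IrrCharacter G} (hχ : χ ∈ B) : ¬ MemLocalIdeal M (centralChar (χ : G → ℂ) (g : G)) := by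
  obtain ⟨θ, hθ⟩ := IsPBlock.nonempty hb
  intro hm
  apply hu θ hθ
  have := MemLocalIdeal.sub' hm ((covering_iff N hB hb).1 hcov χ hχ θ hθ g)
  rwa [sub_sub_cancel] at this

/-- Fong's theorem. -/
theorem fong_defect (hpM : (p : AlgInt) ∈ M) (hb : IsPBlock M b)
    (hinv : ∀ x θ, θ ∈ b → conjIrr N x θ ∈ b) {B : Set (IrrCharacter G)} (hB : IsPBlock M B)
    (hcov : ∃ χ ∈ B, ∃ θ ∈ b, classInner (fun n : N => (χ : G → ℂ) n) (θ : N → ℂ) ≠ 0)
    (hmax : ∀ B' : Set (IrrCharacter G), IsPBlock M B' →
      (∃ χ ∈ B', ∃ θ ∈ b, classInner (fun n : N => (χ : G → ℂ) n) (θ : N → ℂ) ≠ 0) →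
        blockDefect p B' ≤ blockDefect p B)
    {P : Subgroup G} (hP : IsDefectGroup p M B P) :
    ¬ p ∣ (P ⊔ N).index ∧ IsDefectGroup p M b ((P ⊓ N).subgroupOf N) ∧
      blockDefect p B = blockDefect p b + N.index.factorization p := by
  classical
  haveI := irrFintype G
  have hp : p.Prime := Fact.out
  have hst := conjIrr_mem_of_invariant N hinv
  obtain ⟨g, hcoef, hcc, hunit, hdef⟩ := exists_fong_class N hpM hb hinv
  -- a covering block of that defect
  have hsumB : ∃ χ : IrrCharacter G, (∃ θ ∈ b,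
      classInner (fun n : N => (χ : G → ℂ) n) (θ : N → ℂ) ≠ 0) ∧
      ¬ MemLocalIdeal M (blockCoeff (blockOf M (χ : G → ℂ)) (g : G)) := by
    by_contra hcon
    apply hcoef
    set T := (Finset.univ.filter fun χ : IrrCharacter G => ∃ θ ∈ b,
      classInner (fun n : N => (χ : G → ℂ) n) (θ : N → ℂ) ≠ 0).image
        fun χ : IrrCharacter G => blockOf M (χ : G → ℂ) with hT
    have hmemT : ∀ {B' : Set (IrrCharacter G)}, B' ∈ T → ∃ χ : IrrCharacter G, (∃ θ ∈ b,
        classInner (fun n : N => (χ : G → ℂ) n) (θ : N → ℂ) ≠ 0) ∧ blockOf M (χ : G → ℂ) = B' := by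
      intro B' h
      obtain ⟨χ, hχ, rfl⟩ := Finset.mem_image.1 h
      exact ⟨χ, (Finset.mem_filter.1 hχ).2, rfl⟩
    have e : liftIdem N b = ∑ B' ∈ T, blockCoeff B' := by
      refine classFun_ext_omega (isClassFunction_liftIdem N hst)
        (isClassFunction_sum _ fun B' _ => isClassFunction_blockCoeff B') fun χ => ?_
      obtain ⟨θ, hθ⟩ := exists_constituent_restrict N χ
      rw [omega_liftIdem N hst χ hθ, omega_sum]
      simp only [omega_blockCoeff]
      by_cases hθb : θ ∈ b
      · rw [if_pos hθb, Finset.sum_eq_single (blockOf M (χ : G → ℂ))]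
        · rw [if_pos (mem_blockOf_self χ)]
        · intro B' hB' hne
          rw [if_neg]
          intro hm
          obtain ⟨χ', -, rfl⟩ := hmemT hB'
          exact hne (IsPBlock.eq_blockOf (isPBlock_blockOf χ') hm)
        · intro h
          exact absurd (Finset.mem_image.2
            ⟨χ, Finset.mem_filter.2 ⟨Finset.mem_univ _, θ, hθb, hθ⟩, rfl⟩) h
      · rw [if_neg hθb, Finset.sum_eq_zero]
        intro B' hB'
        rw [if_neg]
        intro hm
        obtain ⟨χ', ⟨θ', hθ', hc⟩, rfl⟩ := hmemT hB'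
        obtain ⟨x, θ'', h'', rfl⟩ := mem_conjSet_of_sameBlock N hb (mem_blockOf.1 hm) hθ' hc hθ
        exact hθb ((hst x θ'').2 h'')
    rw [← congrFun (resFun_liftIdem N b) g, resFun, e, Finset.sum_apply]
    refine MemLocalIdeal.sum' fun B' hB' => ?_
    obtain ⟨χ, hχ, rfl⟩ := hmemT hB'
    by_contra hne
    exact hcon ⟨χ, hχ, hne⟩
  obtain ⟨χ₁, ⟨θ₁, hθ₁, hc₁⟩, hu₁⟩ := hsumB
  have hB₁ := isPBlock_blockOf (M := M) χ₁
  have hcov₁ : ∃ χ ∈ blockOf M (χ₁ : G → ℂ), ∃ θ ∈ b,
      classInner (fun n : N => (χ : G → ℂ) n) (θ : N → ℂ) ≠ 0 :=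
    ⟨χ₁, mem_blockOf_self χ₁, θ₁, hθ₁, hc₁⟩
  have hcl₁ : IsDefectClass M (blockOf M (χ₁ : G → ℂ)) (g : G) :=
    ⟨blockCoeff_mem_loc hB₁ _, hu₁, fun χ hχ => covering_centralChar_unit N hb hB₁ hcov₁ hunit hχ⟩
  have hd₁ : blockDefect p (blockOf M (χ₁ : G → ℂ)) =
      blockDefect p b + N.index.factorization p := by
    have h1 := factorization_index_defectClass hpM hB₁ hcl₁
    have h2 := blockMin_add_blockDefect (p := p) (IsPBlock.nonempty hB₁)
    have h3 := congrArg (fun n : ℕ => n.factorization p)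
      (Subgroup.centralizer ({(g : G)} : Set G)).card_mul_index
    simp only [Nat.factorization_mul Nat.card_pos.ne' Subgroup.index_ne_zero_of_finite,
      Finsupp.add_apply] at h3
    omega
  have hdB : blockDefect p B = blockDefect p b + N.index.factorization p := by
    refine le_antisymm ?_ (hd₁ ▸ hmax _ hB₁ hcov₁)
    obtain ⟨χ, hχ⟩ := IsPBlock.nonempty hB
    by_contra hlt
    exact covering_centralChar_unit N hb hB hcov hunit hχ
      (centralChar_mem_of_small_defect hpM hB (by omega) hχ)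
  -- move the class so that `P` is a Sylow subgroup of its centralizer
  obtain ⟨h, hh, S, hS⟩ := id hP
  obtain ⟨χ, hχ⟩ := IsPBlock.nonempty hB
  obtain ⟨T⟩ : Nonempty (Sylow p (Subgroup.centralizer ({(g : G)} : Set G))) := inferInstance
  obtain ⟨x, hx⟩ := exists_conj_sylow_le hpM hB hh.2.1 hχ
    (covering_centralChar_unit N hb hB hcov hunit hχ) S T
  rw [← hS] at hx
  have hPc : Nat.card P = p ^ blockDefect p B := card_defectGroup hpM hB hP
  set g' : N := CharsMore.conjBy N x⁻¹ g with hg'
  have hPg : P ≤ Subgroup.centralizer ({(g' : G)} : Set G) := by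
    intro u hu
    have h1 := (Subgroup.map_subtype_le _) (hx ⟨u, hu, rfl⟩)
    rw [Subgroup.mem_centralizer_singleton_iff] at h1 ⊢
    simp only [MulEquiv.coe_toMonoidHom, MulAut.conj_apply] at h1
    rw [hg', CharsMore.coe_conjBy, inv_inv]
    calc u * (x⁻¹ * g * x) = x⁻¹ * ((x * u * x⁻¹) * g) * x := by group
      _ = x⁻¹ * (g * (x * u * x⁻¹)) * x := by rw [h1]
      _ = _ := by group
  have hcoef' : ¬ MemLocalIdeal M (blockCoeff b g') := by
    have h1 : blockCoeff b g' = blockCoeff b g := by
      have h2 := isClassFunction_liftIdem N hst (g : G) x⁻¹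
      rw [← congrFun (resFun_liftIdem N b) g', ← congrFun (resFun_liftIdem N b) g, resFun, resFun,
        hg', CharsMore.coe_conjBy]
      exact h2
    rwa [h1]
  have hcc' : ∀ θ ∈ b, ¬ MemLocalIdeal M (centralChar (θ : N → ℂ) g') := by
    intro θ hθ
    rw [hg', ← centralChar_conjIrr]
    exact hcc _ ((hst x⁻¹ θ).2 hθ)
  have hdef' : IsDefectClass M b g' := ⟨blockCoeff_mem_loc hb _, hcoef', hcc'⟩
  have hQ : IsPGroup p ((P ⊓ N).subgroupOf N) :=
    ((IsDefectGroup.isPGroup hP).to_le inf_le_left).of_equiv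
      (Subgroup.subgroupOfEquivOfLe inf_le_right).symm
  have hQle : (P ⊓ N).subgroupOf N ≤ Subgroup.centralizer ({g'} : Set N) := by
    rw [← centralizer_subgroupOf_eq]
    exact fun u hu => hPg (Subgroup.mem_subgroupOf.1 hu).1
  obtain ⟨S', hS'⟩ : ∃ S' : Sylow p (Subgroup.centralizer ({g'} : Set N)),
      ((P ⊓ N).subgroupOf N).subgroupOf (Subgroup.centralizer ({g'} : Set N)) ≤ S' :=
    (hQ.of_equiv (Subgroup.subgroupOfEquivOfLe hQle).symm).exists_le_sylow
  have hD' : IsDefectGroup p M b ((S' : Subgroup (Subgroup.centralizer ({g'} : Set N))).map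
      (Subgroup.centralizer ({g'} : Set N)).subtype) := ⟨g', hdef', S', rfl⟩
  -- orders
  have hle' : (P ⊓ N).subgroupOf N ≤ (S' : Subgroup (Subgroup.centralizer ({g'} : Set N))).map
      (Subgroup.centralizer ({g'} : Set N)).subtype := fun u hu =>
    ⟨⟨u, hQle hu⟩, hS' (Subgroup.mem_subgroupOf.2 hu), rfl⟩
  obtain ⟨i, hi⟩ := ((IsDefectGroup.isPGroup hP).to_le (inf_le_left : P ⊓ N ≤ P)).exists_card_eq
  obtain ⟨j, hj⟩ := (IsDefectGroup.isPGroup hP).exists_card_eq
  have hcardD := card_defectGroup hpM hb hD'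
  have hi' : i ≤ blockDefect p b := by
    have h1 := Subgroup.card_le_of_le hle'
    rw [Base.card_subgroupOf inf_le_right, hi, hcardD] at h1
    exact (Nat.pow_le_pow_iff_right hp.one_lt).1 h1
  -- the second isomorphism theorem
  have hrel : N.relIndex P * Nat.card (P ⊓ N : Subgroup G) = Nat.card P := by
    have h1 := ((N.subgroupOf P)).index_mul_card
    rw [← Subgroup.relIndex] at h1
    rw [show Nat.card (P ⊓ N : Subgroup G) = Nat.card (N.subgroupOf P) by
      rw [inf_comm, ← Subgroup.subgroupOf_map_subtype N P, Subgroup.card_map_of_injective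
        (Subgroup.subtype_injective _)]]
    exact h1
  have hsup : N.relIndex P * (P ⊔ N).index = N.index := by
    rw [← Subgroup.relIndex_sup_right (H := P) (K := N)]
    exact Subgroup.relIndex_mul_index le_sup_right
  have hr0 : N.relIndex P ≠ 0 := fun h0 => by
    rw [h0, zero_mul] at hrel; exact Nat.card_pos.ne' hrel.symm
  rw [hi, hPc] at hrel
  have hv1 := congrArg (fun n : ℕ => n.factorization p) hrel
  have hv2 := congrArg (fun n : ℕ => n.factorization p) hsup
  simp only [Nat.factorization_mul hr0 (pow_ne_zero i hp.ne_zero), Finsupp.add_apply,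
    hp.factorization_pow, Finsupp.single_eq_same] at hv1
  simp only [Nat.factorization_mul hr0 Subgroup.index_ne_zero_of_finite, Finsupp.add_apply] at hv2
  have heq : i = blockDefect p b := by omega
  refine ⟨fun hd => ?_, ?_, hdB⟩
  · have := hp.factorization_pos_of_dvd Subgroup.index_ne_zero_of_finite hd
    omega
  · rwa [Subgroup.eq_of_le_of_card_ge hle'
      (by rw [Base.card_subgroupOf inf_le_right, hi, hcardD, heq])]

end CfsgLib.Blocks
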