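import Cfsg.Agent.Lib.Blocks.Green
import Cfsg.Agent.Lib.Blocks.Covering

/-!
# Blocks and quotients by normal `p`-subgroups
-/

set_option linter.unusedSectionVars false
set_option linter.style.haveILetI false

namespace CfsgLib.Blocks

open Cfsg Chars BlockOrth

variable {G : Type*} [Group G] [Fintype G] {M : Ideal AlgInt} [M.IsPrime] {p : ℕ} [Fact p.Prime]

/-- Every block contains a character trivial on a given normal `p`-subgroup. -/
theorem exists_trivial_on_normal_pSubgroup (hpM : (p : AlgInt) ∈ M) {P : Subgroup G} [P.Normal]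
    (hP : IsPGroup p P) {B : Set (IrrCharacter G)} (hB : IsPBlock M B) :
    ∃ χ ∈ B, ∀ u ∈ P, (χ : G → ℂ) u = (χ : G → ℂ) 1 := by
  classical
  haveI := charP_resField (M := M) (Fact.out (p := p.Prime)) hpM
  haveI : Fintype P := Fintype.ofFinite P
  by_contra hcon
  have h0 : conv (blockCoeff B) (avgInd P) = 0 :=
    classFun_ext_omega (isClassFunction_conv (isClassFunction_blockCoeff B) (isClassFunction_avgInd P))
      isClassFunction_zero fun χ => by
      rw [omega_conv χ (isClassFunction_blockCoeff B), omega_blockCoeff]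
      have : omega (χ : G → ℂ) (0 : G → ℂ) = 0 := by simp [omega]
      rw [this]
      by_cases hχ : χ ∈ B
      · rcases omega_avgInd_eq_zero_or_one P χ with h | h
        · rw [h, mul_zero]
        · exact absurd ⟨χ, hχ, (omega_avgInd_eq_one_iff P χ).1 h⟩ hcon
      · rw [if_neg hχ, zero_mul]
  have hcos : ∀ g : G, ∑ u : P, blockCoeff B (g * u) = 0 := fun g => by
    have h1 : conv (blockCoeff B) (avgInd P) g =
        (Nat.card P : ℂ)⁻¹ * ∑ u : P, blockCoeff B (g * u) := by
      rw [conv, ← Equiv.sum_comp (Equiv.mulLeft g), Finset.mul_sum,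
        sum_eq_sum_of_support P (f := fun y => blockCoeff B (Equiv.mulLeft g y) *
          avgInd P ((Equiv.mulLeft g y)⁻¹ * g))]
      · refine Finset.sum_congr rfl fun u _ => ?_
        rw [avgInd_apply, if_pos (by simp [P.inv_mem u.2]), mul_comm]
        rfl
      · intro y hy
        rw [avgInd_apply, if_neg (by simpa using hy), mul_zero]
    rw [h0, Pi.zero_apply] at h1
    rcases mul_eq_zero.1 h1.symm with h | h
    · exact absurd h (inv_ne_zero (Nat.cast_ne_zero.2 Nat.card_pos.ne'))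
    · exact h
  refine mul_sumSubgroup_ne_zero (C := ⊤) (b := blockIdem hB) hP le_top (blockIdem_mul_self hB)
    (fun h => ?_) (fun g hg => absurd (Subgroup.mem_top g) hg) (isFixedBy_blockIdem hB ⊤) ?_
  · obtain ⟨g, hg⟩ := exists_isDefectClass hB
    exact hg.2.1 ((coeff_blockIdem_eq_zero_iff hB g).1 (by rw [h]; simp))
  · apply MonoidAlgebra.ext
    ext g
    rw [coeff_mul_sumSubgroup]
    simp only [MonoidAlgebra.coeff_zero, Finsupp.coe_zero, Pi.zero_apply]
    have : ∑ u : P, (⟨blockCoeff B (g * u), blockCoeff_mem_loc hB _⟩ : loc M) = 0 :=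
      Subtype.ext (by push_cast; exact hcos g)
    have h2 := congrArg (red (M := M)) this
    rw [map_sum, map_zero] at h2
    rw [← h2]
    exact Finset.sum_congr rfl fun u _ => coeff_redFun _ _ _

/-- Blocks are determined by the central characters at `p`-regular elements. -/
theorem sameBlock_of_regular (hpM : (p : AlgInt) ∈ M) {χ ψ : IrrCharacter G}
    (h : ∀ y, ¬ p ∣ orderOf y →
      MemLocalIdeal M (centralChar (χ : G → ℂ) y - centralChar (ψ : G → ℂ) y)) :
    SameBlock M (χ : G → ℂ) (ψ : G → ℂ) := by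
  classical
  haveI := Fintype.ofFinite (ConjClasses G)
  have hB := isPBlock_blockOf (M := M) χ
  have he := isLocClassFun_blockCoeff hB
  have h1 : MemLocalIdeal M (omega (χ : G → ℂ) (blockCoeff (blockOf M (χ : G → ℂ))) -
      omega (ψ : G → ℂ) (blockCoeff (blockOf M (χ : G → ℂ)))) := by
    rw [omega_eq_sum_centralChar χ he.1, omega_eq_sum_centralChar ψ he.1, ← Finset.sum_sub_distrib]
    refine MemLocalIdeal.sum' fun C _ => ?_
    by_cases hr : p ∣ orderOf (classRep C)
    · rw [blockCoeff_eq_zero_of_dvd Fact.out hpM hB hr, zero_mul, zero_mul, sub_zero]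
      exact MemLocalIdeal.zero'
    · rw [← mul_sub]
      exact MemLocalIdeal.mul_left' (he.2 _) (h _ hr)
  rw [omega_blockCoeff, omega_blockCoeff, if_pos (mem_blockOf_self χ)] at h1
  by_contra hne
  rw [if_neg fun hm => hne (mem_blockOf.1 hm), sub_zero] at h1
  exact not_memLocalIdeal_one h1

theorem centralChar_inflate {P : Subgroup G} [P.Normal] (hP : IsPGroup p P) (f : G ⧸ P → ℂ) {y : G}
    (hy : ¬ p ∣ orderOf y) (hyC : y ∈ Subgroup.centralizer (P : Set G)) :
    centralChar (f ∘ QuotientGroup.mk) y = centralChar f (QuotientGroup.mk y) := by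
  classical
  haveI := Fintype.ofFinite (G ⧸ P)
  haveI : (Subgroup.centralizer (P : Set G)).Normal := ⟨fun c hc g =>
    (conj_mem_centralizer_iff (by rw [Subgroup.normalizer_eq_top]; exact Subgroup.mem_top g) c).2 hc⟩
  have hcen : ∀ x : G, IsConj y x → x ∈ Subgroup.centralizer (P : Set G) ∧ ¬ p ∣ orderOf x := by
    intro x hx
    have hox : orderOf x = orderOf y := by
      obtain ⟨c, rfl⟩ := isConj_iff.1 hx
      have := orderOf_injective (MulAut.conj c).toMonoidHom (MulAut.conj c).injective y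
      simpa using this
    have hxr : ¬ p ∣ orderOf x := by rwa [hox]
    refine ⟨?_, hxr⟩
    obtain ⟨c, rfl⟩ := isConj_iff.1 hx
    exact Subgroup.Normal.conj_mem inferInstance y hyC c
  have e : (Subgroup.centralizer ({y} : Set G)).index =
      (Subgroup.centralizer ({(QuotientGroup.mk y : G ⧸ P)} : Set (G ⧸ P))).index := by
    rw [index_centralizer_eq, index_centralizer_eq]
    refine Nat.card_congr (Equiv.ofBijective
      (fun x => (⟨QuotientGroup.mk x.1, (QuotientGroup.mk' P).map_isConj x.2⟩ :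
        {q : G ⧸ P // IsConj (QuotientGroup.mk y) q})) ⟨fun a b hab => ?_, fun q => ?_⟩)
    · have h1 : (a.1)⁻¹ * b.1 ∈ P := QuotientGroup.eq.1 (congrArg Subtype.val hab)
      obtain ⟨hac, hao⟩ := hcen a.1 a.2
      obtain ⟨-, hbo⟩ := hcen b.1 b.2
      obtain ⟨i, hi⟩ := IsPGroup.iff_orderOf.1 hP ⟨_, h1⟩
      have hcomm : Commute ((a.1)⁻¹ * b.1) a.1 := Subgroup.mem_centralizer_iff.1 hac _ h1
      have e1 : IsPPrimePart p b.1 a.1 :=
        ⟨(a.1)⁻¹ * b.1, by rw [hcomm.eq, mul_inv_cancel_left], hcomm,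
          ⟨i, by rw [← hi, ← Subgroup.orderOf_coe]⟩, hao⟩
      exact Subtype.ext (e1.unique ⟨1, one_mul _, Commute.one_left _, ⟨0, by simp⟩, hbo⟩)
    · obtain ⟨c, hc⟩ := isConj_iff.1 q.2
      obtain ⟨c, rfl⟩ := QuotientGroup.mk_surjective c
      exact ⟨⟨c * y * c⁻¹, isConj_iff.2 ⟨c, rfl⟩⟩, Subtype.ext (by rw [← hc]; rfl)⟩
  rw [centralChar, centralChar, e]
  rfl

theorem mem_centralizer_of_regular {P : Subgroup G} [P.Normal] {k : ℕ}
    (hk : (Subgroup.centralizer (P : Set G)).index = p ^ k) {y : G} (hy : ¬ p ∣ orderOf y) :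
    y ∈ Subgroup.centralizer (P : Set G) := by
  haveI : (Subgroup.centralizer (P : Set G)).Normal := ⟨fun c hc g =>
    (conj_mem_centralizer_iff (by rw [Subgroup.normalizer_eq_top]; exact Subgroup.mem_top g) c).2 hc⟩
  exact index_eq_pow_mem_of_regular hk hy

theorem exists_regular_lift {P : Subgroup G} [P.Normal] (q : G ⧸ P) (hq : ¬ p ∣ orderOf q) :
    ∃ y : G, ¬ p ∣ orderOf y ∧ (QuotientGroup.mk y : G ⧸ P) = q := by
  obtain ⟨g, rfl⟩ := QuotientGroup.mk_surjective q
  obtain ⟨y, hy⟩ := exists_isPPrimePart (p := p) g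
  obtain ⟨u, h1, h2, ⟨k, h3⟩, h4⟩ := hy
  refine ⟨y, h4, ?_⟩
  obtain ⟨i, -, hi⟩ := (Nat.dvd_prime_pow (Fact.out : p.Prime)).1
    (h3 ▸ orderOf_map_dvd (QuotientGroup.mk' P) u)
  have e : IsPPrimePart p (QuotientGroup.mk g : G ⧸ P) (QuotientGroup.mk y) :=
    ⟨QuotientGroup.mk u, by rw [← h1]; rfl, h2.map (QuotientGroup.mk' P), ⟨i, hi⟩,
      fun h => h4 (h.trans (orderOf_map_dvd (QuotientGroup.mk' P) y))⟩
  exact e.unique ⟨1, one_mul _, Commute.one_left _, ⟨0, by simp⟩, hq⟩

theorem sameBlock_inflate_iff (hpM : (p : AlgInt) ∈ M) {P : Subgroup G} [P.Normal]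
    (hP : IsPGroup p P) {k : ℕ} (hk : (Subgroup.centralizer (P : Set G)).index = p ^ k)
    [Fintype (G ⧸ P)] (χ ψ : IrrCharacter (G ⧸ P)) :
    SameBlock M (χ : G ⧸ P → ℂ) (ψ : G ⧸ P → ℂ) ↔
      SameBlock M ((χ : G ⧸ P → ℂ) ∘ QuotientGroup.mk) ((ψ : G ⧸ P → ℂ) ∘ QuotientGroup.mk) := by
  constructor
  · intro h
    refine sameBlock_of_regular (χ := ⟨_, isIrrCharacter_inflate P χ.2⟩)
      (ψ := ⟨_, isIrrCharacter_inflate P ψ.2⟩) hpM fun y hy => ?_
    show MemLocalIdeal M (centralChar ((χ : G ⧸ P → ℂ) ∘ QuotientGroup.mk) y -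
      centralChar ((ψ : G ⧸ P → ℂ) ∘ QuotientGroup.mk) y)
    rw [centralChar_inflate hP _ hy (mem_centralizer_of_regular hk hy),
      centralChar_inflate hP _ hy (mem_centralizer_of_regular hk hy)]
    exact h _
  · intro h
    refine sameBlock_of_regular hpM fun q hq => ?_
    obtain ⟨y, hy, rfl⟩ := exists_regular_lift q hq
    rw [← centralChar_inflate hP _ hy (mem_centralizer_of_regular hk hy),
      ← centralChar_inflate hP _ hy (mem_centralizer_of_regular hk hy)]
    exact h y

end CfsgLib.Blocks
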