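import Cfsg.Prelude.Def_BrauerPairs
import Cfsg.Prelude.Def_BlockFusion
import Cfsg.Agent.Lib.Blocks.Correspondence
import Cfsg.Agent.Lib.Blocks.ExtendedFirstMain

/-!
# Block idempotents of subgroups inside the group ring modulo `M`, and their transport
by conjugation
-/

set_option linter.unusedSectionVars false
set_option linter.style.haveILetI false

namespace CfsgLib.Blocks

open Cfsg Chars

variable {G : Type*} [Group G] [Fintype G] {M : Ideal AlgInt} [M.IsPrime] {p : ℕ}

/-! ## A block against a central idempotent -/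

theorem omega_one_congr_iff {B : Set (IrrCharacter G)} (hB : IsPBlock M B) {a : G → ℂ}
    (ha : IsLocClassFun M a) {χ ψ : IrrCharacter G} (hχ : χ ∈ B) (hψ : ψ ∈ B) :
    MemLocalIdeal M (omega (χ : G → ℂ) a - 1) ↔ MemLocalIdeal M (omega (ψ : G → ℂ) a - 1) := by
  constructor <;> intro h
  · have := MemLocalIdeal.add' (omega_sub_mem (IsPBlock.sameBlock hB hψ hχ) ha) h
    rwa [sub_add_sub_cancel] at this
  · have := MemLocalIdeal.add' (omega_sub_mem (IsPBlock.sameBlock hB hχ hψ) ha) h
    rwa [sub_add_sub_cancel] at this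

theorem blockIdem_ne_zero {B : Set (IrrCharacter G)} (hB : IsPBlock M B) : blockIdem hB ≠ 0 := by
  intro h0
  obtain ⟨g, hg⟩ := exists_isDefectClass hB
  apply hg.2.1
  rw [← coeff_blockIdem_eq_zero_iff hB, h0]
  simp

/-- A block idempotent times a central idempotent is the idempotent or zero. -/
theorem blockIdem_mul_dichotomy {B : Set (IrrCharacter G)} (hB : IsPBlock M B) {a : G → ℂ}
    (ha : IsLocClassFun M a) (hidem : redFun a ha.2 * redFun a ha.2 = redFun a ha.2)
    {χ : IrrCharacter G} (hχ : χ ∈ B) :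
    (MemLocalIdeal M (omega (χ : G → ℂ) a - 1) ∧ blockIdem hB * redFun a ha.2 = blockIdem hB) ∨
      (MemLocalIdeal M (omega (χ : G → ℂ) a) ∧ blockIdem hB * redFun a ha.2 = 0) := by
  have hE := blockIdem_mul_self hB
  have hcc := (ha.conv ha)
  have h1 : ∀ g, MemLocalIdeal M (conv a a g - a g) := by
    intro g
    have e : redFun (conv a a) hcc.2 = redFun a ha.2 := by
      conv_rhs => rw [← hidem]
      rw [redFun, redFun, ← map_mul, toAlg_conv ha.2 ha.2 hcc.2]
    have h := congrArg (fun f => MonoidAlgebra.coeff f g) e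
    simp only [coeff_redFun] at h
    have h' : red (⟨conv a a g, hcc.2 g⟩ - ⟨a g, ha.2 g⟩ : loc M) = 0 := by
      rw [map_sub, h, sub_self]
    exact red_eq_zero_iff.1 h'
  have h2 := omega_congr hcc ha h1 χ
  rw [omega_conv χ ha.1,
    show omega (χ : G → ℂ) a * omega (χ : G → ℂ) a - omega (χ : G → ℂ) a =
      omega (χ : G → ℂ) a * (omega (χ : G → ℂ) a - 1) by ring] at h2
  rcases MemLocalIdeal.mem_or_mem (omega_mem_loc χ ha) (sub_mem (omega_mem_loc χ ha) (one_mem _)) h2
    with h3 | h3
  · refine Or.inr ⟨h3, ?_⟩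
    have hn := (isLocClassFun_blockCoeff hB).conv ha
    have hnil := isNilpotent_redFun hn (fun ψ => by
      rw [omega_conv ψ (isClassFunction_blockCoeff B), omega_blockCoeff]
      by_cases hψ : ψ ∈ B
      · rw [if_pos hψ, one_mul]
        have h4 := omega_sub_mem (IsPBlock.sameBlock hB hψ hχ) ha
        have := MemLocalIdeal.add' h4 h3
        rwa [sub_add_cancel] at this
      · rw [if_neg hψ, zero_mul]; exact MemLocalIdeal.zero')
    have e : redFun (conv (blockCoeff B) a) hn.2 = blockIdem hB * redFun a ha.2 := by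
      rw [blockIdem, redFun, redFun, redFun, ← map_mul,
        toAlg_conv (blockCoeff_mem_loc hB) ha.2 hn.2]
    rw [e] at hnil
    obtain ⟨n, hn0⟩ := hnil
    have hi : IsIdempotentElem (blockIdem hB * redFun a ha.2) :=
      IsIdempotentElem.mul_of_commute (commute_blockIdem hB _) hE hidem
    rw [← hi.pow_succ_eq n, pow_succ, hn0, zero_mul]
  · refine Or.inl ⟨h3, ?_⟩
    have hu : ¬ MemLocalIdeal M (omega (χ : G → ℂ) a) := fun h => by
      have := MemLocalIdeal.sub' h h3
      rw [sub_sub_cancel] at this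
      exact not_memLocalIdeal_one this
    obtain ⟨w, hw, hEw⟩ := exists_blockIdem_eq_mul hB ha hχ hu
    conv_lhs => rw [hEw]
    rw [mul_assoc, (hw _).eq, ← mul_assoc, mul_assoc (blockIdem hB), hidem, ← hEw]

theorem eq_of_blockCoeff_eq {B B' : Set (IrrCharacter G)} (h : blockCoeff B = blockCoeff B') :
    B = B' := by
  classical
  ext χ
  have e := omega_blockCoeff B χ
  rw [h, omega_blockCoeff B' χ] at e
  by_cases h1 : χ ∈ B <;> by_cases h2 : χ ∈ B' <;> simp [h1, h2] at e ⊢

open scoped Classical in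
variable (M) in
/-- The blocks of a group, as a finite set. -/
noncomputable def blockFinset (H : Type*) [Group H] [Finite H] : Finset (Set (IrrCharacter H)) :=
  haveI := Fintype.ofFinite H
  haveI := irrFintype H
  Finset.univ.image fun χ : IrrCharacter H => blockOf M (χ : H → ℂ)

theorem mem_blockFinset {H : Type*} [Group H] [Finite H] {f : Set (IrrCharacter H)} :
    f ∈ blockFinset M H ↔ IsPBlock M f := by
  classical
  simp only [blockFinset, Finset.mem_image, Finset.mem_univ, true_and]
  exact ⟨fun ⟨χ, h⟩ => ⟨χ, h.symm⟩, fun ⟨χ, h⟩ => ⟨χ, h.symm⟩⟩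

theorem sum_blockFinset_blockCoeff :
    ∑ B ∈ blockFinset M G, blockCoeff B = classInd (1 : G) := by
  classical
  refine classFun_ext_omega (isClassFunction_sum _ fun B _ => isClassFunction_blockCoeff B)
    (isClassFunction_classInd 1) fun χ => ?_
  rw [omega_sum, omega_classInd, centralChar_one,
    Finset.sum_eq_single (blockOf M (χ : G → ℂ))]
  · rw [omega_blockCoeff, if_pos (mem_blockOf_self χ)]
  · intro B hB hne
    rw [omega_blockCoeff, if_neg]
    exact fun hm => hne (IsPBlock.eq_blockOf (mem_blockFinset.1 hB) hm)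
  · intro h
    exact absurd (mem_blockFinset.2 (isPBlock_blockOf χ)) h

theorem blockIdem_mul_blockIdem_of_ne {B B' : Set (IrrCharacter G)} (hB : IsPBlock M B)
    (hB' : IsPBlock M B') (hne : B ≠ B') : blockIdem hB * blockIdem hB' = 0 := by
  classical
  obtain ⟨χ, hχ⟩ := IsPBlock.nonempty hB
  rcases blockIdem_mul_dichotomy hB (isLocClassFun_blockCoeff hB') (blockIdem_mul_self hB') hχ with
    ⟨h, -⟩ | ⟨-, h⟩
  · rw [omega_blockCoeff, if_neg (fun hm => hne (IsPBlock.eq_of_mem hB hB' hχ hm)),
      zero_sub] at h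
    exact absurd (by simpa using MemLocalIdeal.neg' h) not_memLocalIdeal_one
  · exact h

/-! ## Inclusion of group rings -/

variable {H : Subgroup G}

variable (M) in
/-- The group ring of a subgroup inside the group ring. -/
noncomputable def incl (H : Subgroup G) :
    MonoidAlgebra (ResField M) H →+* MonoidAlgebra (ResField M) G :=
  MonoidAlgebra.mapDomainRingHom (ResField M) H.subtype

theorem coeff_incl (f : MonoidAlgebra (ResField M) H) (h : H) :
    (incl M H f).coeff (h : G) = f.coeff h := by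
  have : (incl M H f).coeff = Finsupp.mapDomain H.subtype f.coeff := by simp [incl]
  rw [this]
  exact Finsupp.mapDomain_apply (Subgroup.subtype_injective H) _ h

theorem coeff_incl_of_notMem (f : MonoidAlgebra (ResField M) H) {g : G} (hg : g ∉ H) :
    (incl M H f).coeff g = 0 := by
  have : (incl M H f).coeff = Finsupp.mapDomain H.subtype f.coeff := by simp [incl]
  rw [this]
  exact Finsupp.mapDomain_notin_range f.coeff g (by rintro ⟨h, rfl⟩; exact hg h.2)

theorem incl_injective : Function.Injective (incl M H) := by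
  intro f f' h
  apply MonoidAlgebra.ext
  ext x
  rw [← coeff_incl (M := M) f x, h, coeff_incl]

theorem subgroupBlockCoeff_coe (e : Set (IrrCharacter H)) (h : H) :
    subgroupBlockCoeff H e (h : G) = blockCoeff e h := by
  rw [subgroupBlockCoeff, dif_pos h.2]

theorem subgroupBlockCoeff_of_notMem (e : Set (IrrCharacter H)) {g : G} (hg : g ∉ H) :
    subgroupBlockCoeff H e g = 0 := by
  rw [subgroupBlockCoeff, dif_neg hg]

theorem subgroupBlockCoeff_mem_loc {e : Set (IrrCharacter H)} (he : IsPBlock M e) (g : G) :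
    subgroupBlockCoeff H e g ∈ loc M := by
  haveI := Fintype.ofFinite H
  by_cases hg : g ∈ H
  · rw [show g = ((⟨g, hg⟩ : H) : G) from rfl, subgroupBlockCoeff_coe]
    exact blockCoeff_mem_loc he _
  · rw [subgroupBlockCoeff_of_notMem e hg]
    exact zero_mem _

theorem eq_of_subgroupBlockCoeff_eq {e e' : Set (IrrCharacter H)}
    (h : subgroupBlockCoeff H e = subgroupBlockCoeff H e') : e = e' := by
  haveI := Fintype.ofFinite H
  refine eq_of_blockCoeff_eq (funext fun x => ?_)
  rw [← subgroupBlockCoeff_coe e x, h, subgroupBlockCoeff_coe]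

/-- The idempotent of a block of a subgroup in the group ring modulo `M`. -/
noncomputable def pairIdem {e : Set (IrrCharacter H)} (he : IsPBlock M e) :
    MonoidAlgebra (ResField M) G :=
  redFun (subgroupBlockCoeff H e) (subgroupBlockCoeff_mem_loc he)

theorem coeff_pairIdem_eq_zero_iff {e : Set (IrrCharacter H)} (he : IsPBlock M e) (g : G) :
    (pairIdem he).coeff g = 0 ↔ MemLocalIdeal M (subgroupBlockCoeff H e g) :=
  coeff_redFun_eq_zero_iff _ _ g

theorem pairIdem_eq_incl [Fintype H] {e : Set (IrrCharacter H)} (he : IsPBlock M e) :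
    pairIdem he = incl M H (blockIdem he) := by
  apply MonoidAlgebra.ext
  ext g
  by_cases hg : g ∈ H
  · obtain ⟨h, rfl⟩ : ∃ h : H, (h : G) = g := ⟨⟨g, hg⟩, rfl⟩
    rw [pairIdem, coeff_redFun, coeff_incl, blockIdem, coeff_redFun]
    exact congrArg red (Subtype.ext (subgroupBlockCoeff_coe e h))
  · rw [coeff_incl_of_notMem _ hg, coeff_pairIdem_eq_zero_iff, subgroupBlockCoeff_of_notMem e hg]
    exact MemLocalIdeal.zero'

theorem pairIdem_mul_self {e : Set (IrrCharacter H)} (he : IsPBlock M e) :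
    pairIdem he * pairIdem he = pairIdem he := by
  haveI := Fintype.ofFinite H
  rw [pairIdem_eq_incl, ← map_mul, blockIdem_mul_self]

theorem pairIdem_ne_zero {e : Set (IrrCharacter H)} (he : IsPBlock M e) : pairIdem he ≠ 0 := by
  haveI := Fintype.ofFinite H
  rw [pairIdem_eq_incl, Ne, map_eq_zero_iff _ incl_injective]
  exact blockIdem_ne_zero he

theorem pairIdem_mul_of_ne {e e' : Set (IrrCharacter H)} (he : IsPBlock M e)
    (he' : IsPBlock M e') (hne : e ≠ e') : pairIdem he * pairIdem he' = 0 := by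
  haveI := Fintype.ofFinite H
  rw [pairIdem_eq_incl, pairIdem_eq_incl, ← map_mul, blockIdem_mul_blockIdem_of_ne he he' hne,
    map_zero]

theorem isFixedBy_pairIdem {e : Set (IrrCharacter H)} (he : IsPBlock M e) {P : Subgroup G}
    (h : ∀ u ∈ P, ∀ g, subgroupBlockCoeff H e (u * g * u⁻¹) = subgroupBlockCoeff H e g) :
    IsFixedBy P (pairIdem he) := fun u hu g => by
  rw [pairIdem, coeff_redFun, coeff_redFun]
  exact congrArg red (Subtype.ext (h u hu g))

theorem cut_redFun_eq_incl [Fintype H] {β : G → ℂ} (hβ : ∀ g, β g ∈ loc M) :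
    cut (H : Set G) (redFun β hβ) = incl M H (redFun (resFun H β) fun h => hβ h) := by
  apply MonoidAlgebra.ext
  ext g
  by_cases hg : g ∈ H
  · obtain ⟨h, rfl⟩ : ∃ h : H, (h : G) = g := ⟨⟨g, hg⟩, rfl⟩
    rw [coeff_cut_of_mem _ (show (h : G) ∈ (H : Set G) from h.2), coeff_incl, coeff_redFun]
    exact (coeff_redFun (resFun H β) (fun h => hβ h) h).symm
  · rw [coeff_incl_of_notMem _ hg, coeff_cut_of_notMem _ hg]

theorem cut_pairIdem {e : Set (IrrCharacter H)} (he : IsPBlock M e) :
    cut (H : Set G) (pairIdem he) = pairIdem he := by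
  rw [cut_eq_self_iff]
  intro g hg
  rw [coeff_pairIdem_eq_zero_iff, subgroupBlockCoeff_of_notMem e hg]
  exact MemLocalIdeal.zero'

/-- A block of a subgroup against the truncation of an invariant element. -/
theorem pairIdem_mul_dichotomy [Fintype H] {e : Set (IrrCharacter H)} (he : IsPBlock M e)
    {β : G → ℂ} (hβ : ∀ g, β g ∈ loc M) (hcl : IsClassFunction H (resFun H β))
    (hidem : cut (H : Set G) (redFun β hβ) * cut (H : Set G) (redFun β hβ) =
      cut (H : Set G) (redFun β hβ)) {ξ : IrrCharacter H} (hξ : ξ ∈ e) :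
    (MemLocalIdeal M (omega (ξ : H → ℂ) (resFun H β) - 1) ∧
        pairIdem he * cut (H : Set G) (redFun β hβ) = pairIdem he) ∨
      (MemLocalIdeal M (omega (ξ : H → ℂ) (resFun H β)) ∧
        pairIdem he * cut (H : Set G) (redFun β hβ) = 0) := by
  rw [cut_redFun_eq_incl hβ] at hidem ⊢
  rw [← map_mul] at hidem
  rw [pairIdem_eq_incl, ← map_mul]
  rcases blockIdem_mul_dichotomy he (a := resFun H β) ⟨hcl, fun h => hβ h⟩
    (incl_injective hidem) hξ with ⟨h1, h2⟩ | ⟨h1, h2⟩
  · exact Or.inl ⟨h1, by rw [h2]⟩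
  · exact Or.inr ⟨h1, by rw [h2, map_zero]⟩

theorem sum_pairIdem (s : Finset (Set (IrrCharacter H))) (hs : s = blockFinset M H)
    (F : Set (IrrCharacter H) → MonoidAlgebra (ResField M) G)
    (hF : ∀ f (hf : IsPBlock M f), F f = pairIdem hf) : ∑ f ∈ s, F f = 1 := by
  classical
  haveI := Fintype.ofFinite H
  subst hs
  apply MonoidAlgebra.ext
  ext g
  rw [MonoidAlgebra.coeff_sum, Finsupp.finsetSum_apply]
  by_cases hg : g ∈ H
  · obtain ⟨h, rfl⟩ : ∃ h : H, (h : G) = g := ⟨⟨g, hg⟩, rfl⟩
    let z : Set (IrrCharacter H) → loc M := fun f =>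
      if hf : IsPBlock M f then ⟨blockCoeff f h, blockCoeff_mem_loc hf h⟩ else 0
    have e1 : ∀ f ∈ blockFinset M H, (F f).coeff (h : G) = red (z f) := by
      intro f hf
      have hf' := mem_blockFinset.1 hf
      rw [hF f hf', pairIdem, coeff_redFun]
      simp only [z, dif_pos hf']
      exact congrArg red (Subtype.ext (subgroupBlockCoeff_coe f h))
    rw [Finset.sum_congr rfl e1, ← map_sum]
    have e2 : ∑ f ∈ blockFinset M H, z f = if h = 1 then 1 else 0 := by
      apply Subtype.ext
      have e3 := congrFun (sum_blockFinset_blockCoeff (G := H) (M := M)) h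
      rw [Finset.sum_apply, classInd_apply] at e3
      rw [AddSubmonoidClass.coe_finsetSum, Finset.sum_congr rfl (g := fun f => blockCoeff f h)
        fun f hf => by simp [z, dif_pos (mem_blockFinset.1 hf)], e3]
      by_cases h1 : h = 1
      · subst h1; simp [IsConj.refl]
      · rw [if_neg h1, if_neg fun hc => h1 (isConj_one_right.1 hc)]; rfl
    rw [e2, MonoidAlgebra.one_def, MonoidAlgebra.coeff_single]
    by_cases h1 : h = 1
    · subst h1; simp
    · rw [if_neg h1, map_zero, Finsupp.single_eq_of_ne (fun h' : (h : G) = 1 => h1 (Subtype.ext h'))]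
  · rw [MonoidAlgebra.one_def, MonoidAlgebra.coeff_single,
      Finsupp.single_eq_of_ne (fun h' : g = 1 => hg (h' ▸ H.one_mem))]
    refine Finset.sum_eq_zero fun f hf => ?_
    rw [hF f (mem_blockFinset.1 hf), coeff_pairIdem_eq_zero_iff,
      subgroupBlockCoeff_of_notMem f hg]
    exact MemLocalIdeal.zero'

/-! ## Transport by conjugation -/

/-- Conjugation by `x` as an isomorphism of subgroups. -/
def conjIso {H H' : Subgroup G} (x : G) (h : ∀ g, x * g * x⁻¹ ∈ H' ↔ g ∈ H) : H ≃* H' where
  toFun u := ⟨x * u * x⁻¹, (h u).2 u.2⟩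
  invFun v := ⟨x⁻¹ * v * x, (h _).1 (by
    rw [show x * (x⁻¹ * (v : G) * x) * x⁻¹ = v by group]; exact v.2)⟩
  left_inv u := Subtype.ext (by simp [mul_assoc])
  right_inv v := Subtype.ext (by simp [mul_assoc])
  map_mul' u v := Subtype.ext (by simp [mul_assoc])

theorem coe_conjIso {H H' : Subgroup G} (x : G) (h : ∀ g, x * g * x⁻¹ ∈ H' ↔ g ∈ H) (u : H) :
    ((conjIso x h u : H') : G) = x * u * x⁻¹ := rfl

/-- The conjugate of a set of characters of a subgroup. -/
def conjImage {H H' : Subgroup G} (x : G) (h : ∀ g, x * g * x⁻¹ ∈ H' ↔ g ∈ H)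
    (e : Set (IrrCharacter H)) : Set (IrrCharacter H') :=
  pullIrr (conjIso x h).symm '' e

theorem isPBlock_conjImage {H H' : Subgroup G} (x : G) (h : ∀ g, x * g * x⁻¹ ∈ H' ↔ g ∈ H)
    {e : Set (IrrCharacter H)} (he : IsPBlock M e) : IsPBlock M (conjImage x h e) := by
  haveI := Fintype.ofFinite H
  haveI := Fintype.ofFinite H'
  exact isPBlock_image_pullIrr _ he

theorem blockCoeff_image_pullIrr {K H : Type*} [Group K] [Group H] [Finite H] (φ : K ≃* H)
    (e : Set (IrrCharacter H)) (k : K) :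
    blockCoeff (pullIrr φ '' e) k = blockCoeff e (φ k) := by
  have hinj : Function.Injective (pullIrr φ : IrrCharacter H → IrrCharacter K) := fun a b hab =>
    Subtype.ext (funext fun v => by
      have := congrArg (fun ξ : IrrCharacter K => (ξ : K → ℂ) (φ.symm v)) hab
      simpa [pullIrr_apply] using this)
  rw [blockCoeff, blockCoeff, Nat.card_congr φ.toEquiv, finsum_mem_image hinj.injOn]
  simp only [pullIrr_apply, map_one]

theorem subgroupBlockCoeff_conjImage {H H' : Subgroup G} (x : G)
    (h : ∀ g, x * g * x⁻¹ ∈ H' ↔ g ∈ H) (e : Set (IrrCharacter H)) (g : G) :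
    subgroupBlockCoeff H' (conjImage x h e) (x * g * x⁻¹) = subgroupBlockCoeff H e g := by
  haveI := Fintype.ofFinite H
  by_cases hg : g ∈ H
  · have e1 : x * g * x⁻¹ = ((conjIso x h ⟨g, hg⟩ : H') : G) := rfl
    rw [e1, subgroupBlockCoeff_coe, conjImage, blockCoeff_image_pullIrr,
      MulEquiv.symm_apply_apply, ← subgroupBlockCoeff_coe]
  · rw [subgroupBlockCoeff_of_notMem e hg, subgroupBlockCoeff_of_notMem _ fun h' => hg ((h g).1 h')]

theorem conj_mem_iff_of_mem_normalizer {H : Subgroup G} {x : G}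
    (hx : x ∈ Subgroup.normalizer (H : Set G)) (g : G) : x * g * x⁻¹ ∈ H ↔ g ∈ H :=
  ((Subgroup.mem_normalizer_iff.1 hx) g).symm

theorem stabilizesBlock_iff_conjImage {e : Set (IrrCharacter H)} (he : IsPBlock M e) {x : G}
    (hx : x ∈ Subgroup.normalizer (H : Set G)) :
    StabilizesBlock H e x ↔ conjImage x (conj_mem_iff_of_mem_normalizer hx) e = e := by
  have hkey : ∀ ξ ξ' : IrrCharacter H, IsConjCharOf H x (ξ : H → ℂ) (ξ' : H → ℂ) ↔
      ξ' = pullIrr (conjIso x (conj_mem_iff_of_mem_normalizer hx)).symm ξ := by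
    intro ξ ξ'
    constructor
    · intro h
      refine Subtype.ext (funext fun k' => ?_)
      rw [pullIrr_apply]
      refine h _ k' ?_
      rw [← coe_conjIso x (conj_mem_iff_of_mem_normalizer hx), MulEquiv.apply_symm_apply]
    · rintro rfl k k' hk
      have : k' = conjIso x (conj_mem_iff_of_mem_normalizer hx) k := Subtype.ext hk
      rw [this, pullIrr_apply, MulEquiv.symm_apply_apply]
  constructor
  · rintro ⟨-, h⟩
    obtain ⟨ξ, hξ⟩ := IsPBlock.nonempty he
    obtain ⟨ξ', hξ', hc⟩ := h ξ hξ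
    refine IsPBlock.eq_of_mem (isPBlock_conjImage x _ he) he ?_ hξ'
    exact ⟨ξ, hξ, ((hkey ξ ξ').1 hc).symm⟩
  · intro h
    refine ⟨hx, fun ξ hξ => ⟨_, ?_, (hkey ξ _).2 rfl⟩⟩
    have h2 : pullIrr (conjIso x (conj_mem_iff_of_mem_normalizer hx)).symm ξ ∈
        conjImage x (conj_mem_iff_of_mem_normalizer hx) e := ⟨ξ, hξ, rfl⟩
    rwa [h] at h2

theorem stabilizesBlock_iff {e : Set (IrrCharacter H)} (he : IsPBlock M e) {x : G} :
    StabilizesBlock H e x ↔ x ∈ Subgroup.normalizer (H : Set G) ∧
      ∀ g, subgroupBlockCoeff H e (x * g * x⁻¹) = subgroupBlockCoeff H e g := by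
  constructor
  · intro h
    refine ⟨h.1, fun g => ?_⟩
    have e1 := (stabilizesBlock_iff_conjImage he h.1).1 h
    conv_lhs => rw [← e1]
    exact subgroupBlockCoeff_conjImage x _ e g
  · rintro ⟨hx, h⟩
    rw [stabilizesBlock_iff_conjImage he hx]
    refine eq_of_subgroupBlockCoeff_eq (funext fun g => ?_)
    have hg : g = x * (x⁻¹ * g * x) * x⁻¹ := by group
    rw [hg, subgroupBlockCoeff_conjImage, h]

end CfsgLib.Blocks
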