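import Cfsg.Agent.Lib.Blocks.FongDefect
import Cfsg.Agent.Lib.Blocks.QuotientP
import Cfsg.Agent.Lib.Blocks.SubRed

/-!
# Stable blocks of normal subgroups of `p`-power index
-/

set_option linter.unusedSectionVars false
set_option linter.style.haveILetI false

namespace CfsgLib.Blocks

open Cfsg Chars

variable {G : Type*} [Group G] [Fintype G] (N : Subgroup G) [N.Normal] [Fintype N]
  {M : Ideal AlgInt} [M.IsPrime] {p : ℕ} [Fact p.Prime] {c : Set (IrrCharacter N)}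

theorem conjIrr_mem_of_stabilizes (hst : ∀ x : G, StabilizesBlock N c x) (x : G) (θ : IrrCharacter N)
    (hθ : θ ∈ c) : conjIrr N x θ ∈ c := by
  obtain ⟨θ', hθ', h⟩ := (hst x⁻¹).2 θ hθ
  have : conjIrr N x θ = θ' := Subtype.ext (funext fun n => by
    rw [coe_conjIrr]
    exact (h (CharsMore.conjBy N x n) n (by simp [mul_assoc])).symm)
  exact this ▸ hθ'

theorem mem_of_regular_of_index {k : ℕ} (hk : N.index = p ^ k) {y : G} (hy : ¬ p ∣ orderOf y) :
    y ∈ N := by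
  rw [← QuotientGroup.eq_one_iff, ← orderOf_eq_one_iff]
  refine Nat.eq_one_of_dvd_coprimes (k := orderOf (y : G ⧸ N))
    (Nat.Coprime.pow_left k (((Fact.out : p.Prime).coprime_iff_not_dvd).2 hy)) ?_
    (orderOf_map_dvd (QuotientGroup.mk' N) y)
  rw [← hk]
  exact orderOf_dvd_natCard _

theorem subgroupBlockCoeff_eq_liftIdem : subgroupBlockCoeff N c = liftIdem N c := by
  funext g
  by_cases hg : g ∈ N
  · exact (subgroupBlockCoeff_coe c ⟨g, hg⟩).trans (congrFun (resFun_liftIdem N c) ⟨g, hg⟩).symm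
  · rw [subgroupBlockCoeff_of_notMem c hg, liftIdem_eq_zero N c hg]

/-- Over a stable block of a normal subgroup of `p`-power index lies one block. -/
theorem covering_unique (hpM : (p : AlgInt) ∈ M) {k : ℕ} (hk : N.index = p ^ k)
    (hc : IsPBlock M c) {B B' : Set (IrrCharacter G)} (hB : IsPBlock M B) (hB' : IsPBlock M B')
    (h : ∃ χ ∈ B, ∃ θ ∈ c, classInner (fun n : N => (χ : G → ℂ) n) (θ : N → ℂ) ≠ 0)
    (h' : ∃ χ ∈ B', ∃ θ ∈ c, classInner (fun n : N => (χ : G → ℂ) n) (θ : N → ℂ) ≠ 0) :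
    B = B' := by
  obtain ⟨χ, hχ⟩ := IsPBlock.nonempty hB
  obtain ⟨χ', hχ'⟩ := IsPBlock.nonempty hB'
  obtain ⟨θ, hθ⟩ := IsPBlock.nonempty hc
  refine IsPBlock.eq_of_mem hB hB' (IsPBlock.mem_of_sameBlock hB hχ (sameBlock_of_regular hpM
    fun y hy => ?_)) hχ'
  have hyN := mem_of_regular_of_index N hk hy
  have e1 := (covering_iff N hB hc).1 h χ hχ θ hθ ⟨y, hyN⟩
  have e2 := (covering_iff N hB' hc).1 h' χ' hχ' θ hθ ⟨y, hyN⟩
  have := MemLocalIdeal.sub' e1 e2
  rwa [sub_sub_sub_cancel_right] at this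

/-- The idempotent of the stable block is a block idempotent. -/
theorem exists_block_lift (hpM : (p : AlgInt) ∈ M) {k : ℕ} (hk : N.index = p ^ k)
    (hc : IsPBlock M c) (hst : ∀ x : G, StabilizesBlock N c x) :
    ∃ B : Set (IrrCharacter G), IsPBlock M B ∧ blockCoeff B = subgroupBlockCoeff N c := by
  classical
  have hinv := conjIrr_mem_of_invariant N (conjIrr_mem_of_stabilizes N hst)
  obtain ⟨θ₀, hθ₀⟩ := IsPBlock.nonempty hc
  haveI := irrFintype G
  obtain ⟨χ₀, hχ₀⟩ := exists_character_over N θ₀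
  refine ⟨blockOf M (χ₀ : G → ℂ), isPBlock_blockOf χ₀, ?_⟩
  rw [subgroupBlockCoeff_eq_liftIdem]
  refine classFun_ext_omega (isClassFunction_blockCoeff _) (isClassFunction_liftIdem N hinv)
    fun χ => ?_
  obtain ⟨θ, hθ⟩ := exists_constituent_restrict N χ
  rw [omega_blockCoeff, omega_liftIdem N hinv χ hθ]
  refine if_congr ⟨fun hm => ?_, fun hm => ?_⟩ rfl rfl
  · obtain ⟨x, θ', hθ', rfl⟩ := mem_conjSet_of_sameBlock N hc (mem_blockOf.1 hm) hθ₀ hχ₀ hθ
    exact (hinv x θ').2 hθ'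
  · rw [covering_unique N hpM hk hc (isPBlock_blockOf χ₀) (isPBlock_blockOf χ)
      ⟨χ₀, mem_blockOf_self χ₀, θ₀, hθ₀, hχ₀⟩ ⟨χ, mem_blockOf_self χ, θ, hm, hθ⟩]
    exact mem_blockOf_self χ

theorem covers_of_coeff (hc : IsPBlock M c) (hst : ∀ x : G, StabilizesBlock N c x)
    {B : Set (IrrCharacter G)} (hB : IsPBlock M B)
    (hBc : blockCoeff B = subgroupBlockCoeff N c) :
    ∃ χ ∈ B, ∃ θ ∈ c, classInner (fun n : N => (χ : G → ℂ) n) (θ : N → ℂ) ≠ 0 := by
  classical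
  have hinv := conjIrr_mem_of_invariant N (conjIrr_mem_of_stabilizes N hst)
  obtain ⟨χ, hχ⟩ := IsPBlock.nonempty hB
  obtain ⟨θ, hθ⟩ := exists_constituent_restrict N χ
  have h := omega_blockCoeff B χ
  rw [hBc, subgroupBlockCoeff_eq_liftIdem, omega_liftIdem N hinv χ hθ, if_pos hχ] at h
  refine ⟨χ, hχ, θ, ?_, hθ⟩
  by_contra hne
  rw [if_neg hne] at h
  exact zero_ne_one h

theorem defect_of_lift (hpM : (p : AlgInt) ∈ M) {k : ℕ} (hk : N.index = p ^ k)
    (hc : IsPBlock M c) (hst : ∀ x : G, StabilizesBlock N c x)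
    {B : Set (IrrCharacter G)} (hB : IsPBlock M B)
    (hBc : blockCoeff B = subgroupBlockCoeff N c) {P : Subgroup G} (hP : IsDefectGroup p M B P) :
    N ⊔ P = ⊤ ∧ IsDefectGroup p M c ((P ⊓ N).subgroupOf N) ∧
      blockDefect p B = blockDefect p c + k := by
  have hcov := covers_of_coeff N hc hst hB hBc
  obtain ⟨h1, h2, h3⟩ := fong_defect N hpM hc (conjIrr_mem_of_stabilizes N hst) hB hcov
    (fun B' hB' h' => by rw [covering_unique N hpM hk hc hB' hB h' hcov]) hP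
  rw [hk, (Fact.out : p.Prime).factorization_pow, Finsupp.single_eq_same] at h3
  refine ⟨?_, h2, h3⟩
  rw [sup_comm]
  obtain ⟨j, -, hj⟩ := (Nat.dvd_prime_pow Fact.out).1
    (hk ▸ Subgroup.index_dvd_of_le (le_sup_right : N ≤ P ⊔ N))
  rcases Nat.eq_zero_or_pos j with rfl | hj0
  · exact Subgroup.index_eq_one.1 (by rw [hj, pow_zero])
  · exact absurd (hj ▸ dvd_pow_self p hj0.ne') h1

end CfsgLib.Blocks
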