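import Cfsg.Agent.Lib.Blocks.CoveringUnique
import Cfsg.Agent.Lib.Blocks.FongDefect
import Cfsg.Agent.Lib.Blocks.PIndex
import Cfsg.Agent.Lib.Blocks.NormalPPrime
import Cfsg.Agent.Lib.BlockOrth.DefectOrder
import Cfsg.Agent.Lib.Blocks.Covering

/-!
# Fong's theorem on characters over an invariant character of a normal `p'`-subgroup
-/

set_option linter.unusedSectionVars false
set_option linter.style.haveILetI false

namespace CfsgLib.Blocks

open Cfsg Chars

variable {G : Type*} [Group G] [Fintype G] {M : Ideal AlgInt} [M.IsPrime] {p : ℕ} [Fact p.Prime]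

/-- Constituents of constituents are constituents. -/
theorem constituent_trans (L : Subgroup G) [Fintype L] {K : Type*} [Group K] [Fintype K]
    (f : K →* L) {χ : IrrCharacter G} {ψ : IrrCharacter L}
    (hψ : classInner (fun l : L => (χ : G → ℂ) l) (ψ : L → ℂ) ≠ 0) {φ : IrrCharacter K}
    (hφ : classInner (fun k : K => (ψ : L → ℂ) (f k)) (φ : K → ℂ) ≠ 0) :
    classInner (fun k : K => (χ : G → ℂ) (f k : L)) (φ : K → ℂ) ≠ 0 := by
  classical
  haveI := irrFintype L
  have hχL := isCharacter_restrict L (isCharacter_of_irr χ.2)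
  choose m hm using fun η : IrrCharacter L => inner_irr_right_nat hχL η
  choose k hk using fun η : IrrCharacter L =>
    inner_irr_right_nat (isCharacter_comp f (isCharacter_of_irr η.2)) φ
  have he : (fun x : K => (χ : G → ℂ) (f x : L)) =
      ∑ η : IrrCharacter L, (m η : ℂ) • (fun x : K => (η : L → ℂ) (f x)) := by
    funext x
    have h1 := congrFun (classFun_eq_sum (isClassFunction_of_isCharacter hχL)) (f x)
    simp only [Finset.sum_apply, Pi.smul_apply, hm] at h1 ⊢
    exact h1
  rw [he, inner_sum_left]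
  simp only [Chars.inner_smul_left]
  have hk' : ∀ η : IrrCharacter L,
      classInner (fun x : K => (η : L → ℂ) (f x)) (φ : K → ℂ) = k η := hk
  simp only [hk']
  norm_cast
  have h1 : m ψ * k ψ ≠ 0 := by
    refine Nat.mul_ne_zero ?_ ?_
    · intro h0; exact hψ (by rw [hm, h0, Nat.cast_zero])
    · intro h0; exact hφ (by rw [hk', h0, Nat.cast_zero])
  intro h0
  exact h1 (Finset.sum_eq_zero_iff.1 h0 ψ (Finset.mem_univ _))

/-- An irreducible character of a `p'`-group is a block. -/
theorem isPBlock_singleton_of_pPrime (hpM : (p : AlgInt) ∈ M) {N : Type*} [Group N] [Fintype N]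
    (hN : ¬ p ∣ Nat.card N) (θ : IrrCharacter N) : IsPBlock M ({θ} : Set (IrrCharacter N)) := by
  classical
  suffices h : blockOf M (θ : N → ℂ) = {θ} from h ▸ isPBlock_blockOf θ
  refine Set.Subset.antisymm (fun ψ hψ => ?_) (Set.singleton_subset_iff.2 (mem_blockOf_self θ))
  refine union_blocks_of_mem_loc (fun g => ?_) rfl hψ
  rw [blockCoeff]
  refine mul_mem (inv_natCast_mem_loc Fact.out hpM hN) ?_
  rw [finsum_mem_singleton]
  exact mul_mem (irr_mem_loc θ 1) (conj_irr_mem_loc θ g)

/-- Fong: the characters over an invariant character of the normal `p'`-subgroup `N` form one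
block with Sylow defect groups, once a Sylow subgroup of `L`, normal with `L/N` a `p`-group, has its
centralizer inside `L`. -/
theorem fong_single_block (hpM : (p : AlgInt) ∈ M) (N : Subgroup G) [N.Normal] [Fintype N]
    (hN : ¬ p ∣ Nat.card N) (L : Subgroup G) [L.Normal] (hNL : N ≤ L) {k : ℕ}
    (hk : N.relIndex L = p ^ k) {R : Subgroup G} (hRL : R ≤ L) (hR : IsPGroup p R)
    (hRS : ¬ p ∣ R.relIndex L) (hCR : Subgroup.centralizer (R : Set G) ≤ L)
    (θ : IrrCharacter N) (hinv : ∀ (g : G) (n : N), (θ : N → ℂ) (CharsMore.conjBy N g n) =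
      (θ : N → ℂ) n) :
    IsPBlock M {χ : IrrCharacter G | classInner (fun n : N => (χ : G → ℂ) n) (θ : N → ℂ) ≠ 0} ∧
      ∀ S : Sylow p G, IsDefectGroup p M
        {χ : IrrCharacter G | classInner (fun n : N => (χ : G → ℂ) n) (θ : N → ℂ) ≠ 0}
        (S : Subgroup G) := by
  classical
  have hp : p.Prime := Fact.out
  haveI := Fintype.ofFinite L
  haveI := Fintype.ofFinite (N.subgroupOf L)
  -- only `θ` occurs on `N` in a character over `θ`
  have hconj : ∀ x : G, conjIrr N x θ = θ := fun x =>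
    Subtype.ext (funext fun n => by rw [coe_conjIrr]; exact hinv x n)
  have honly : ∀ (χ : IrrCharacter G) (φ : IrrCharacter N),
      classInner (fun n : N => (χ : G → ℂ) n) (θ : N → ℂ) ≠ 0 →
      classInner (fun n : N => (χ : G → ℂ) n) (φ : N → ℂ) ≠ 0 → φ = θ := by
    intro χ φ hθ hφ
    have hb := isPBlock_singleton_of_pPrime (M := M) hpM hN θ
    obtain ⟨x, θ', hθ', rfl⟩ := mem_conjSet_of_sameBlock N hb
      (IsPBlock.sameBlock (isPBlock_blockOf (M := M) χ) (mem_blockOf_self χ) (mem_blockOf_self χ))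
      (Set.mem_singleton θ) hθ hφ
    rw [Set.mem_singleton_iff.1 hθ', hconj]
  -- the block of `L`
  set e := Subgroup.subgroupOfEquivOfLe hNL with he
  have hN' : ¬ p ∣ Nat.card (N.subgroupOf L) := by rwa [Nat.card_congr e.toEquiv]
  have hbs := isPBlock_singleton_of_pPrime (M := M) hpM hN' (pullIrr e θ)
  have hst : ∀ x : L, StabilizesBlock (N.subgroupOf L) ({pullIrr e θ} : Set _) x := by
    intro x
    rw [stabilizesBlock_iff_conjImage hbs (by rw [Subgroup.normalizer_eq_top]; exact Subgroup.mem_top _)]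
    rw [conjImage, Set.image_singleton]
    congr 1
    refine Subtype.ext (funext fun u => ?_)
    rw [pullIrr_apply, pullIrr_apply, pullIrr_apply]
    conv_rhs => rw [← hinv (x : G)⁻¹ (e u)]
    refine congrArg (θ : N → ℂ) (Subtype.ext ?_)
    simp [he, conjIso, CharsMore.coe_conjBy, mul_assoc, Subgroup.subgroupOfEquivOfLe_apply_coe]
  obtain ⟨c, hc, hcoef⟩ := exists_block_lift (N.subgroupOf L) hpM hk hbs hst
  have hcovc := covers_of_coeff (N.subgroupOf L) hbs hst hc hcoef
  obtain ⟨D, hD⟩ := exists_isDefectGroup (p := p) hc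
  obtain ⟨-, -, hdc⟩ := defect_of_lift (N.subgroupOf L) hpM hk hbs hst hc hcoef hD
  have hb0 : ∀ {K : Type _} [Group K] [Fintype K] (φ : IrrCharacter K), ¬ p ∣ Nat.card K →
      blockDefect p ({φ} : Set (IrrCharacter K)) = 0 := by
    intro K _ _ φ hK
    have h := BlockOrth.blockMin_add_blockDefect (p := p) (B := ({φ} : Set (IrrCharacter K)))
      (Set.singleton_nonempty φ)
    rw [Nat.factorization_eq_zero_of_not_dvd hK] at h
    omega
  rw [hb0 _ hN', zero_add] at hdc
  have hRdef : IsDefectGroup p M c (R.subgroupOf L) := by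
    have hcardL : (Nat.card L).factorization p = k := by
      rw [← (N.subgroupOf L).card_mul_index, show (N.subgroupOf L).index = p ^ k from hk,
        Nat.factorization_mul Nat.card_pos.ne' (pow_ne_zero _ hp.ne_zero), Finsupp.add_apply,
        Nat.factorization_eq_zero_of_not_dvd hN', zero_add, hp.factorization_pow,
        Finsupp.single_eq_same]
    let SR : Sylow p L := (isPGroup_subgroupOf hR hRL).toSylow hRS
    have hDcard : Nat.card D = p ^ (Nat.card L).factorization p := by
      rw [BlockOrth.card_defectGroup hpM hc hD, hdc, hcardL]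
    let SD : Sylow p L := Sylow.ofCard D hDcard
    obtain ⟨x, hx⟩ := MulAction.exists_smul_eq L SD SR
    have h2 := IsDefectGroup.map_conj hD x hc
    have h3 : D.map (MulAut.conj x).toMonoidHom = R.subgroupOf L := (congrArg Sylow.toSubgroup hx :)
    rwa [h3] at h2
  -- every character over `θ` lies over `c`
  have hover : ∀ χ : IrrCharacter G, classInner (fun n : N => (χ : G → ℂ) n) (θ : N → ℂ) ≠ 0 →
      ∃ χ' ∈ blockOf M (χ : G → ℂ), ∃ ψ ∈ c,
        classInner (fun l : L => (χ' : G → ℂ) l) (ψ : L → ℂ) ≠ 0 := by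
    intro χ hχ
    obtain ⟨ψ, hψ⟩ := exists_constituent_restrict L χ
    refine ⟨χ, mem_blockOf_self χ, ψ, ?_, hψ⟩
    obtain ⟨φ, hφ⟩ := exists_constituent_restrict (N.subgroupOf L) ψ
    have hφ' : φ = pullIrr e θ := by
      have h1 := constituent_trans L (Subgroup.inclusion hNL) (φ := pullIrr e.symm φ) hψ ?_
      · rw [← honly χ _ hχ h1, pullIrr_symm]
      · intro h0
        apply hφ
        rw [Chars.inner_def] at h0 ⊢
        rw [← h0, Nat.card_congr e.toEquiv, ← Equiv.sum_comp e.toEquiv]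
        refine congrArg _ (Finset.sum_congr rfl fun u _ => ?_)
        simp [pullIrr_apply, he, Subgroup.inclusion]
    subst hφ'
    have := covering_unique (N.subgroupOf L) hpM hk hbs hc (isPBlock_blockOf ψ) hcovc
      ⟨ψ, mem_blockOf_self ψ, _, Set.mem_singleton _, hφ⟩
    exact this ▸ mem_blockOf_self ψ
  obtain ⟨χ₀, hχ₀⟩ := exists_character_over N θ
  have hB0 := isPBlock_blockOf (M := M) χ₀
  have hone : ∀ χ : IrrCharacter G, classInner (fun n : N => (χ : G → ℂ) n) (θ : N → ℂ) ≠ 0 →
      blockOf M (χ : G → ℂ) = blockOf M (χ₀ : G → ℂ) := fun χ hχ =>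
    covering_unique_of_centralizer_le hpM hc hRL hRdef hCR (isPBlock_blockOf χ) hB0 (hover χ hχ)
      (hover χ₀ hχ₀)
  have hset : {χ : IrrCharacter G | classInner (fun n : N => (χ : G → ℂ) n) (θ : N → ℂ) ≠ 0} =
      blockOf M (χ₀ : G → ℂ) := by
    ext χ
    refine ⟨fun h => hone χ h ▸ mem_blockOf_self χ, fun h => ?_⟩
    exact constituent_of_sameBlock hpM N hN
      (IsPBlock.sameBlock hB0 h (mem_blockOf_self χ₀)) hχ₀
  rw [hset]
  refine ⟨hB0, ?_⟩
  obtain ⟨P, hP⟩ := exists_isDefectGroup (p := p) hB0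
  have hbN := isPBlock_singleton_of_pPrime (M := M) hpM hN θ
  obtain ⟨-, -, hdef⟩ := fong_defect N hpM hbN
    (fun x φ hφ => by rw [Set.mem_singleton_iff.1 hφ, hconj]; rfl) hB0
    ⟨χ₀, mem_blockOf_self χ₀, θ, Set.mem_singleton θ, hχ₀⟩
    (fun B' hB' ⟨χ, hχ, φ, hφ, hne⟩ => by
      rw [Set.mem_singleton_iff.1 hφ] at hne
      rw [IsPBlock.eq_of_mem hB' (isPBlock_blockOf χ) hχ (mem_blockOf_self χ), hone χ hne]) hP
  rw [hb0 _ hN, zero_add] at hdef
  have hcard : Nat.card P = p ^ (Nat.card G).factorization p := by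
    rw [BlockOrth.card_defectGroup hpM hB0 hP, hdef, ← N.card_mul_index,
      Nat.factorization_mul Nat.card_pos.ne' Subgroup.index_ne_zero_of_finite, Finsupp.add_apply,
      Nat.factorization_eq_zero_of_not_dvd hN, zero_add]
  intro S
  obtain ⟨x, hx⟩ := MulAction.exists_smul_eq G (Sylow.ofCard P hcard) S
  have h2 := IsDefectGroup.map_conj hP x hB0
  have h3 : P.map (MulAut.conj x).toMonoidHom = (S : Subgroup G) := congrArg Sylow.toSubgroup hx
  rwa [h3] at h2

end CfsgLib.Blocks
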