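import Cfsg.Agent.Lib.Blocks.Osima
import Cfsg.Agent.Lib.Blocks.BrauerHom

/-!
# The centre of the group ring modulo `M`
-/

set_option linter.unusedSectionVars false
set_option linter.style.haveILetI false

namespace CfsgLib.Blocks

open Cfsg Chars Polynomial

variable {G : Type*} [Group G] {M : Ideal AlgInt} [M.IsPrime]

variable (M) in
/-- The residue field of the local ring at `M`. -/
abbrev ResField : Type := IsLocalRing.ResidueField (loc M)

/-- Reduction of the group ring. -/
noncomputable def redAlg : MonoidAlgebra (loc M) G →+* MonoidAlgebra (ResField M) G :=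
  MonoidAlgebra.mapRingHom G red

theorem coeff_redAlg (f : MonoidAlgebra (loc M) G) (g : G) :
    (redAlg f).coeff g = red (f.coeff g) := by
  simp [redAlg]

theorem coeff_redAlg_eq_zero_iff (f : MonoidAlgebra (loc M) G) (g : G) :
    (redAlg f).coeff g = 0 ↔ MemLocalIdeal M ((f.coeff g : loc M) : ℂ) := by
  rw [coeff_redAlg, red_eq_zero_iff]

theorem charP_resField {p : ℕ} (hp : p.Prime) (hpM : (p : AlgInt) ∈ M) : CharP (ResField M) p :=
  charP_residueField hp hpM

variable [Fintype G]

/-- A locally integral function, reduced modulo `M`, in the group ring. -/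
noncomputable def redFun (a : G → ℂ) (ha : ∀ g, a g ∈ loc M) : MonoidAlgebra (ResField M) G :=
  redAlg (toAlg a ha)

theorem coeff_redFun (a : G → ℂ) (ha : ∀ g, a g ∈ loc M) (g : G) :
    (redFun a ha).coeff g = red ⟨a g, ha g⟩ := by
  rw [redFun, coeff_redAlg]
  exact congrArg red (Subtype.ext (coeff_toAlg a ha g))

theorem coeff_redFun_eq_zero_iff (a : G → ℂ) (ha : ∀ g, a g ∈ loc M) (g : G) :
    (redFun a ha).coeff g = 0 ↔ MemLocalIdeal M (a g) := by
  rw [coeff_redFun, red_eq_zero_iff]

theorem toAlg_conv {a b : G → ℂ} (ha : ∀ g, a g ∈ loc M) (hb : ∀ g, b g ∈ loc M)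
    (hab : ∀ g, conv a b g ∈ loc M) : toAlg a ha * toAlg b hb = toAlg (conv a b) hab := by
  apply MonoidAlgebra.ext
  ext x
  rw [coeff_mul_eq_conv]
  simp

theorem commute_toAlg {a : G → ℂ} (ha : IsLocClassFun M a) (f : MonoidAlgebra (loc M) G) :
    Commute (toAlg a ha.2) f := by
  apply MonoidAlgebra.ext
  ext x
  rw [coeff_mul_eq_conv, coeff_mul_eq_conv]
  simp only [Blocks.conv, coeff_toAlg]
  rw [← Equiv.sum_comp ((Equiv.inv G).trans (Equiv.mulLeft x))]
  refine Finset.sum_congr rfl fun y _ => ?_
  simp only [Equiv.trans_apply, Equiv.inv_apply, Equiv.coe_mulLeft, mul_inv_rev, inv_inv]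
  rw [classFun_mul_comm ha.1 x y⁻¹, mul_assoc y x⁻¹ x, inv_mul_cancel, mul_one]
  ring

theorem commute_redFun {a : G → ℂ} (ha : IsLocClassFun M a) (f : MonoidAlgebra (ResField M) G) :
    Commute (redFun a ha.2) f := by
  obtain ⟨g, rfl⟩ : ∃ g : MonoidAlgebra (loc M) G, redAlg g = f := by
    choose c hc using fun g => IsLocalRing.residue_surjective (R := loc M) (f.coeff g)
    refine ⟨MonoidAlgebra.ofCoeff (Finsupp.equivFunOnFinite.symm c), ?_⟩
    apply MonoidAlgebra.ext
    ext x
    rw [coeff_redAlg]
    simpa using hc x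
  exact (commute_toAlg ha g).map redAlg

theorem isFixedBy_redFun {a : G → ℂ} (ha : IsLocClassFun M a) (P : Subgroup G) :
    IsFixedBy P (redFun a ha.2) :=
  isFixedBy_iff_commute.2 fun _ _ => commute_redFun ha _

/-- Polynomials in a central element. -/
theorem omega_aeval {a : G → ℂ} (ha : IsLocClassFun M a) (P : (loc M)[X]) :
    IsClassFunction G (fun g => (((aeval (toAlg a ha.2) P).coeff g : loc M) : ℂ)) ∧
      ∀ χ : IrrCharacter G,
        omega (χ : G → ℂ) (fun g => (((aeval (toAlg a ha.2) P).coeff g : loc M) : ℂ)) =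
          ((P.eval ⟨omega (χ : G → ℂ) a, omega_mem_loc χ ha⟩ : loc M) : ℂ) := by
  have hC : ∀ c : loc M,
      (fun g => (((aeval (toAlg a ha.2) (C c)).coeff g : loc M) : ℂ)) = (c : ℂ) • classInd 1 := by
    intro c
    funext g
    rw [aeval_C, MonoidAlgebra.coe_algebraMap, Pi.smul_apply, classInd_apply, smul_eq_mul]
    by_cases hg : g = 1
    · subst hg
      simp
    · have : ¬ IsConj 1 g := fun h => hg (isConj_one_right.1 h)
      simp [if_neg this, Finsupp.single_eq_of_ne hg]
  induction P using Polynomial.induction_on with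
  | C c =>
    rw [hC]
    refine ⟨isClassFunction_smul _ (isClassFunction_classInd 1), fun χ => ?_⟩
    rw [omega_smul, omega_classInd, centralChar_one, mul_one, eval_C]
  | add P Q hP hQ =>
    have e : (fun g => (((aeval (toAlg a ha.2) (P + Q)).coeff g : loc M) : ℂ)) =
        (fun g => (((aeval (toAlg a ha.2) P).coeff g : loc M) : ℂ)) +
          fun g => (((aeval (toAlg a ha.2) Q).coeff g : loc M) : ℂ) := by
      funext g; simp
    rw [e]
    refine ⟨isClassFunction_add hP.1 hQ.1, fun χ => ?_⟩
    rw [omega_add, hP.2, hQ.2, eval_add]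
    push_cast; rfl
  | monomial n c h =>
    have e : (fun g => (((aeval (toAlg a ha.2) (C c * X ^ (n + 1))).coeff g : loc M) : ℂ)) =
        conv (fun g => (((aeval (toAlg a ha.2) (C c * X ^ n)).coeff g : loc M) : ℂ)) a := by
      funext g
      rw [pow_succ, ← mul_assoc, map_mul, aeval_X, coeff_mul_eq_conv]
      simp
    rw [e]
    refine ⟨isClassFunction_conv h.1 ha.1, fun χ => ?_⟩
    rw [omega_conv χ h.1, h.2, pow_succ, ← mul_assoc, eval_mul (p := C c * X ^ n), eval_X]
    push_cast; rfl

/-- A central element all of whose central character values lie in `M` is nilpotent modulo `M`. -/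
theorem isNilpotent_redFun {a : G → ℂ} (ha : IsLocClassFun M a)
    (h : ∀ χ : IrrCharacter G, MemLocalIdeal M (omega (χ : G → ℂ) a)) :
    IsNilpotent (redFun a ha.2) := by
  haveI := irrFintype G
  let lam : IrrCharacter G → loc M := fun χ => ⟨omega (χ : G → ℂ) a, omega_mem_loc χ ha⟩
  let P : (loc M)[X] := ∏ χ, (X - C (lam χ))
  have hcl := omega_aeval ha P
  have hzero : aeval (toAlg a ha.2) P = 0 := by
    have h0 : (fun g => (((aeval (toAlg a ha.2) P).coeff g : loc M) : ℂ)) = 0 := by
      refine classFun_ext_omega hcl.1 isClassFunction_zero fun χ => ?_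
      rw [hcl.2 χ]
      have : P.eval (lam χ) = 0 := by
        simp only [P, eval_prod]
        exact Finset.prod_eq_zero (Finset.mem_univ χ) (by simp)
      rw [show P.eval ⟨omega (χ : G → ℂ) a, omega_mem_loc χ ha⟩ = P.eval (lam χ) from rfl, this]
      simp [omega]
    apply MonoidAlgebra.ext
    ext g
    simpa using congrFun h0 g
  have hP : P.map red = X ^ Fintype.card (IrrCharacter G) := by
    have hl : ∀ χ, red (lam χ) = 0 := fun χ => red_eq_zero_iff.2 (h χ)
    simp only [P, Polynomial.map_prod, Polynomial.map_sub, map_X, map_C, hl, C_0, sub_zero,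
      Finset.prod_const, Finset.card_univ]
  refine ⟨Fintype.card (IrrCharacter G), ?_⟩
  have h1 := congrArg (redAlg (M := M) (G := G)) hzero
  rw [map_zero, aeval_def, hom_eval₂] at h1
  have h2 : (redAlg (M := M) (G := G)).comp (algebraMap (loc M) (MonoidAlgebra (loc M) G)) =
      (algebraMap (ResField M) (MonoidAlgebra (ResField M) G)).comp red := by
    ext c : 1
    apply MonoidAlgebra.ext
    ext g
    simp only [RingHom.comp_apply, coeff_redAlg, MonoidAlgebra.coe_algebraMap, Function.comp_apply,
      MonoidAlgebra.coeff_single]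
    by_cases hg : g = 1
    · subst hg; simp
    · simp [Finsupp.single_eq_of_ne hg]
  rw [h2, ← eval₂_map, hP, eval₂_X_pow] at h1
  exact h1

/-! ## The idempotent of a block modulo `M` -/

variable {B : Set (IrrCharacter G)}

/-- The block idempotent modulo `M`. -/
noncomputable def blockIdem (hB : IsPBlock M B) : MonoidAlgebra (ResField M) G :=
  redFun (blockCoeff B) (blockCoeff_mem_loc hB)

theorem coeff_blockIdem_eq_zero_iff (hB : IsPBlock M B) (g : G) :
    (blockIdem hB).coeff g = 0 ↔ MemLocalIdeal M (blockCoeff B g) :=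
  coeff_redFun_eq_zero_iff _ _ g

theorem commute_blockIdem (hB : IsPBlock M B) (f : MonoidAlgebra (ResField M) G) :
    Commute (blockIdem hB) f :=
  commute_redFun (isLocClassFun_blockCoeff hB) f

theorem isFixedBy_blockIdem (hB : IsPBlock M B) (P : Subgroup G) :
    IsFixedBy P (blockIdem hB) :=
  isFixedBy_redFun (isLocClassFun_blockCoeff hB) P

theorem blockIdem_mul_self (hB : IsPBlock M B) : blockIdem hB * blockIdem hB = blockIdem hB := by
  rw [blockIdem, redFun, ← map_mul, toAlg_mul_self (blockCoeff_mem_loc hB) (conv_blockCoeff_self B)]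

/-- A central element whose value at the block is a unit is invertible in the block algebra. -/
theorem exists_blockIdem_eq_mul (hB : IsPBlock M B) {a : G → ℂ} (ha : IsLocClassFun M a)
    {χ₀ : IrrCharacter G} (hχ₀ : χ₀ ∈ B) (hu : ¬ MemLocalIdeal M (omega (χ₀ : G → ℂ) a)) :
    ∃ w : MonoidAlgebra (ResField M) G, (∀ f, Commute w f) ∧
      blockIdem hB = blockIdem hB * redFun a ha.2 * w := by
  classical
  set E := blockIdem hB with hE
  set c := (omega (χ₀ : G → ℂ) a)⁻¹ with hc
  have hcl : c ∈ loc M := inv_mem_loc (omega_mem_loc χ₀ ha) hu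
  have hne : omega (χ₀ : G → ℂ) a ≠ 0 := fun h0 => hu (by rw [h0]; exact MemLocalIdeal.zero')
  have hd : IsLocClassFun M (classInd 1 + (-c) • a) :=
    (isLocClassFun_classInd 1).add (ha.smul (neg_mem hcl))
  have hn : IsLocClassFun M (conv (blockCoeff B) (classInd 1 + (-c) • a)) :=
    (isLocClassFun_blockCoeff hB).conv hd
  have hnil := isNilpotent_redFun hn (fun χ => by
    rw [omega_conv χ (isClassFunction_blockCoeff B), omega_blockCoeff]
    by_cases hχ : χ ∈ B
    · rw [if_pos hχ, one_mul, omega_add, omega_smul, omega_classInd, centralChar_one]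
      have h1 := MemLocalIdeal.mul_left' hcl (omega_sub_mem (IsPBlock.sameBlock hB hχ₀ hχ) ha)
      rw [mul_sub, hc, inv_mul_cancel₀ hne] at h1
      rwa [neg_mul, ← sub_eq_add_neg]
    · rw [if_neg hχ, zero_mul]; exact MemLocalIdeal.zero')
  set N := redFun (conv (blockCoeff B) (classInd 1 + (-c) • a)) hn.2 with hN
  -- `E = E * (c • a) + N`
  have hone : toAlg (classInd (1 : G)) (isLocClassFun_classInd (M := M) 1).2 = 1 := by
    apply MonoidAlgebra.ext
    ext g
    rw [coeff_toAlg, MonoidAlgebra.one_def, MonoidAlgebra.coeff_single, classInd_apply]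
    by_cases hg : g = 1
    · subst hg; simp
    · have : ¬ IsConj 1 g := fun h => hg (isConj_one_right.1 h)
      rw [if_neg this, Finsupp.single_eq_of_ne hg]
      rfl
  have hca : redFun ((-c) • a) (ha.smul (neg_mem hcl)).2 =
      red (⟨-c, neg_mem hcl⟩ : loc M) • redFun a ha.2 := by
    apply MonoidAlgebra.ext
    ext g
    rw [MonoidAlgebra.coeff_smul, Finsupp.smul_apply, coeff_redFun, coeff_redFun, smul_eq_mul, ← map_mul]
    congr 1
  have hNeq : N = E * (1 + red (⟨-c, neg_mem hcl⟩ : loc M) • redFun a ha.2) := by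
    rw [hN, redFun, ← toAlg_conv (blockCoeff_mem_loc hB) hd.2 hn.2, map_mul, ← hca]
    congr 1
    rw [← map_one (redAlg (M := M) (G := G)), ← hone, redFun, ← map_add]
    congr 1
    apply MonoidAlgebra.ext
    ext g
    simp
  set A := redFun a ha.2 with hA
  set r := red (⟨-c, neg_mem hcl⟩ : loc M) with hr
  obtain ⟨n, hn0⟩ := hnil
  set S := ∑ i ∈ Finset.range n, N ^ i with hS
  have hNS : (1 - N) * S = 1 := by
    rw [hS, mul_neg_geom_sum, hn0, sub_zero]
  have hEE : E * E = E := blockIdem_mul_self hB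
  have hEN : E * (1 - N) = E * A * algebraMap (ResField M) _ (-r) := by
    rw [hNeq, mul_sub, mul_one, ← mul_assoc, hEE, mul_add, mul_one, mul_smul_comm, map_neg, mul_neg,
      ← Algebra.commutes, ← Algebra.smul_def, sub_add_cancel_left]
  refine ⟨algebraMap (ResField M) _ (-r) * S, fun f => ?_, ?_⟩
  · have h1 : Commute (algebraMap (ResField M) (MonoidAlgebra (ResField M) G) (-r)) f :=
      Algebra.commutes _ f
    exact h1.mul_left (Commute.sum_left _ _ _ fun i _ => (commute_redFun hn f).pow_left i)
  · rw [← mul_assoc, ← hEN, mul_assoc, hNS, mul_one]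

end CfsgLib.Blocks
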