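import Cfsg.Agent.Lib.Blocks.RegularTwist
import Cfsg.Agent.Lib.Blocks.Center

/-!
# Idempotents whose Brauer image at a `p`-element vanishes
-/

set_option linter.unusedSectionVars false
set_option linter.style.haveILetI false

namespace CfsgLib.Blocks

open Cfsg Chars

variable {M : Ideal AlgInt} [M.IsPrime] {p : ℕ}

/-- Every element of the local ideal has a power divisible by `p`. -/
theorem exists_pow_dvd_of_mem_locIdeal (hp : p.Prime) (hpM : (p : AlgInt) ∈ M) {x : loc M}
    (hx : MemLocalIdeal M (x : ℂ)) : ∃ m : ℕ, (p : loc M) ∣ x ^ m := by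
  suffices x ∈ (Ideal.span {(p : loc M)}).radical by
    obtain ⟨m, hm⟩ := this
    exact ⟨m, Ideal.mem_span_singleton.1 hm⟩
  rw [Ideal.radical_eq_sInf, Ideal.mem_sInf]
  rintro Q ⟨hQp, hQ⟩
  obtain ⟨a, b, ha, hb, hab⟩ := hx
  let ι : AlgInt →+* loc M :=
    { toFun := fun a => ⟨a, algInt_mem_loc a⟩
      map_one' := Subtype.ext rfl
      map_mul' := fun _ _ => Subtype.ext rfl
      map_zero' := Subtype.ext rfl
      map_add' := fun _ _ => Subtype.ext rfl }
  haveI := hQ
  set q := Q.comap ι with hq
  haveI : q.IsPrime := Ideal.comap_isPrime ι Q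
  have hpq : (p : AlgInt) ∈ q := by
    rw [hq, Ideal.mem_comap, map_natCast]
    exact hQp (Ideal.mem_span_singleton_self _)
  have hqmax : q.IsMaximal := by
    refine Ideal.isMaximal_of_isIntegral_of_isMaximal_comap (R := ℤ) q ?_
    have hne : q.comap (algebraMap ℤ AlgInt) ≠ ⊥ := by
      intro h0
      have : (p : ℤ) ∈ q.comap (algebraMap ℤ AlgInt) := by simpa using hpq
      rw [h0, Ideal.mem_bot, Int.natCast_eq_zero] at this
      exact hp.ne_zero this
    exact (Ideal.comap_isPrime (algebraMap ℤ AlgInt) q).isMaximal hne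
  have hqM : q = M := by
    refine hqmax.eq_of_le (‹M.IsPrime›.ne_top) fun c hc => ?_
    by_contra hcM
    have hu : IsUnit (ι c) := isUnit_of_notMem_locIdeal (by
      rw [mem_locIdeal]; exact (memLocalIdeal_algInt_iff c).not.2 hcM)
    exact hQ.ne_top (Ideal.eq_top_of_isUnit_mem _ hc hu)
  have haQ : ι a ∈ Q := by
    have : a ∈ q := hqM ▸ ha
    exact this
  have heq : x * ι b = ι a := Subtype.ext (by
    show (x : ℂ) * (b : ℂ) = a
    rw [← hab, div_mul_cancel₀ _ (coe_ne_zero_of_notMem hb)])
  rw [← heq] at haQ
  refine (hQ.mem_or_mem haQ).resolve_right fun hbQ => hb ?_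
  have : b ∈ q := hbQ
  rwa [hqM] at this

variable {G : Type*} [Group G] [Fintype G]

theorem commute_single_pow_span {s : G} {z : G} (hsz : Commute s z) {ε : MonoidAlgebra (loc M) G}
    (hε : ε ∈ Submodule.span (loc M)
      (Set.range fun j : ℕ => (MonoidAlgebra.single s (1 : loc M)) ^ j)) :
    Commute ε (MonoidAlgebra.single z 1) := by
  induction hε using Submodule.span_induction with
  | mem x hx =>
    obtain ⟨j, rfl⟩ := hx
    refine Commute.pow_left ?_ j
    show _ * _ = _ * _
    rw [MonoidAlgebra.single_mul_single, MonoidAlgebra.single_mul_single, hsz.eq]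
  | zero => exact Commute.zero_left _
  | add x y _ _ hx hy => exact hx.add_left hy
  | smul c x _ hx => exact hx.smul_left c

/-- **Twisted vanishing.** Let the locally integral idempotent function `f` be invariant under the
`p`-element `z` and the `p`-regular `y` commuting with it, and congruent to zero on `C(z)`.
Then every class function vanishes on `f * z * y`. -/
theorem sum_twisted_eq_zero (hp : p.Prime) (hpM : (p : AlgInt) ∈ M) {f : G → ℂ}
    (hf : ∀ g, f g ∈ loc M) (hidem : conv f f = f) {z y : G} (hz : ∃ k : ℕ, z ^ p ^ k = 1)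
    (hy : ¬ p ∣ orderOf y) (hzy : Commute y z)
    (hzinv : ∀ g, f (z * g * z⁻¹) = f g) (hyinv : ∀ g, f (y * g * y⁻¹) = f g)
    (hnil : ∀ c, z * c = c * z → MemLocalIdeal M (f c))
    {θ : G → ℂ} (hθ : IsClassFunction G θ) : ∑ g, f g * θ (g * (z * y)) = 0 := by
  classical
  haveI := Fact.mk hp
  haveI := charP_resField (M := M) hp hpM
  have key : ∀ w : G, ∑ g, f g * classInd w (g * (z * y)) = 0 := by
    intro w
    have hc : IsClassFunction G (classInd w) := isClassFunction_classInd w
    have hwl : ∀ g, classInd w g ∈ loc M := (isLocClassFun_classInd w).2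
    obtain ⟨ζ, hζ⟩ := exists_primitiveRoot_loc (M := M) (orderOf_pos y)
    have h := map_mul_eq_zero_of_idempotents (orderOf_pos y) hζ (isUnit_natCast_loc hp hpM hy)
      (toAlg_mul_self hf hidem) (single_pow_orderOf (loc M) y) (toAlg_commute_single hf hyinv)
      (evalFun fun g => ⟨classInd w (z * g), hwl _⟩) (fun ε hεs hε => ?_)
    · rw [evalFun_mul_single] at h
      have h2 := congrArg Subtype.val h
      push_cast at h2
      simp only [coeff_toAlg] at h2
      rw [← h2]
      refine Finset.sum_congr rfl fun g _ => ?_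
      rw [mul_comm, classFun_mul_comm hc z (g * y), mul_assoc g y z, hzy.eq]
    · rw [evalFun_apply]
      have hcomm : Commute (toAlg f hf * ε) (MonoidAlgebra.single z 1) :=
        (toAlg_commute_single hf hzinv).mul_left (commute_single_pow_span hzy hεs)
      have hinv : ∀ g, (toAlg f hf * ε).coeff (z * g * z⁻¹) = (toAlg f hf * ε).coeff g := fun g => by
        have h1 := congrArg (fun e => MonoidAlgebra.coeff e (z * g)) hcomm.eq
        simpa using h1
      refine trace_twisted_idempotent_eq_zero (θ := fun g => (⟨classInd w g, hwl g⟩ : loc M)) hp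
        (loc_eq_zero_of_forall_dvd hp hpM) hε hz hinv (fun c hc' => ?_)
        (fun g h => Subtype.ext (hc g h))
      refine exists_pow_dvd_of_mem_locIdeal hp hpM ?_
      rw [← coeff_redAlg_eq_zero_iff, map_mul]
      have hP : IsPGroup p (Subgroup.zpowers z) := by
        obtain ⟨k, hk⟩ := hz
        obtain ⟨i, -, hi⟩ := (Nat.dvd_prime_pow hp).1 (orderOf_dvd_of_pow_eq_one hk)
        exact IsPGroup.of_card (n := i) (by rw [Nat.card_zpowers, hi])
      have hfix : ∀ e : MonoidAlgebra (loc M) G, Commute e (MonoidAlgebra.single z 1) →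
          IsFixedBy (Subgroup.zpowers z) (redAlg e) := by
        intro e he
        rw [isFixedBy_iff_commute]
        intro u hu
        obtain ⟨j, rfl⟩ := (mem_powers_iff_mem_zpowers).2 hu
        have h1 := (he.pow_right j).map (redAlg (M := M) (G := G))
        have h2 : redAlg ((MonoidAlgebra.single z (1 : loc M)) ^ j) =
            MonoidAlgebra.single (z ^ j) (1 : ResField M) := by
          rw [MonoidAlgebra.single_pow, one_pow]
          simp [redAlg]
        rwa [h2] at h1
      have hcC : c ∈ Subgroup.centralizer (Subgroup.zpowers z : Set G) := by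
        rw [Subgroup.mem_centralizer_iff]
        intro u hu
        obtain ⟨j, rfl⟩ := (mem_powers_iff_mem_zpowers).2 hu
        exact (Commute.pow_left (show Commute z c from hc') j).eq
      rw [← coeff_cut_of_mem (S := (Subgroup.centralizer (Subgroup.zpowers z : Set G) : Set G)) _ hcC,
        cut_mul p hP (hfix _ (toAlg_commute_single hf hzinv))
          (hfix _ (commute_single_pow_span hzy hεs))]
      have h0 : cut (Subgroup.centralizer (Subgroup.zpowers z : Set G) : Set G)
          (redAlg (toAlg f hf)) = 0 := by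
        apply MonoidAlgebra.ext
        ext d
        by_cases hd : d ∈ Subgroup.centralizer (Subgroup.zpowers z : Set G)
        · rw [coeff_cut_of_mem _ hd]
          have := hnil d (Subgroup.mem_centralizer_iff.1 hd z (Subgroup.mem_zpowers z))
          rw [← coeff_redFun_eq_zero_iff f hf d, redFun] at this
          simpa using this
        · rw [coeff_cut_of_notMem _ hd]; simp
      rw [h0, zero_mul]; simp
  haveI := Fintype.ofFinite (ConjClasses G)
  rw [classFun_eq_sum_classInd hθ]
  simp only [Finset.sum_apply, Pi.smul_apply, smul_eq_mul, Finset.mul_sum]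
  rw [Finset.sum_comm]
  refine Finset.sum_eq_zero fun C _ => ?_
  rw [← mul_zero (θ (classRep C)), ← key (classRep C), Finset.mul_sum]
  exact Finset.sum_congr rfl fun g _ => by ring

end CfsgLib.Blocks
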