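import Cfsg.Agent.Lib.Blocks.Induced
import Cfsg.Agent.Lib.Blocks.TwistedTrace

/-!
# The second main theorem
-/

set_option linter.unusedSectionVars false
set_option linter.style.haveILetI false

namespace CfsgLib.Blocks

open Cfsg Chars

variable {G : Type*} [Group G]

/-- Extension by zero of a function on a subgroup. -/
noncomputable def extFun (H : Subgroup G) (e : H → ℂ) : G → ℂ := fun g => by
  classical exact if h : g ∈ H then e ⟨g, h⟩ else 0

theorem extFun_coe (H : Subgroup G) (e : H → ℂ) (h : H) : extFun H e h = e h := by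
  simp [extFun, h.2]

theorem extFun_of_notMem {H : Subgroup G} (e : H → ℂ) {g : G} (hg : g ∉ H) : extFun H e g = 0 := by
  simp [extFun, hg]

theorem extFun_conj {H : Subgroup G} {e : H → ℂ} (he : IsClassFunction H e) {h : G} (hh : h ∈ H)
    (g : G) : extFun H e (h * g * h⁻¹) = extFun H e g := by
  by_cases hg : g ∈ H
  · calc extFun H e (h * g * h⁻¹) = e (⟨h, hh⟩ * ⟨g, hg⟩ * ⟨h, hh⟩⁻¹) :=
          extFun_coe H e (⟨h, hh⟩ * ⟨g, hg⟩ * ⟨h, hh⟩⁻¹)
      _ = e ⟨g, hg⟩ := he ⟨g, hg⟩ ⟨h, hh⟩
      _ = extFun H e g := (extFun_coe H e ⟨g, hg⟩).symm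
  · rw [extFun_of_notMem e hg, extFun_of_notMem e]
    intro h'
    apply hg
    have := H.mul_mem (H.mul_mem (H.inv_mem hh) h') hh
    simpa [mul_assoc] using this

variable [Fintype G]

theorem sum_extFun_mul (H : Subgroup G) [Fintype H] (e : H → ℂ) (φ : G → ℂ) :
    ∑ g, extFun H e g * φ g = ∑ k : H, e k * φ k := by
  symm
  refine Finset.sum_bij_ne_zero (fun k _ _ => (k : G)) (by simp) (by simp) (fun g _ hg => ?_)
    (fun k _ _ => by rw [extFun_coe])
  have hgH : g ∈ H := by
    by_contra hc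
    exact hg (by rw [extFun_of_notMem e hc, zero_mul])
  exact ⟨⟨g, hgH⟩, Finset.mem_univ _, by simpa [extFun, hgH] using hg, rfl⟩

theorem conv_extFun (H : Subgroup G) [Fintype H] (e e' : H → ℂ) :
    conv (extFun H e) (extFun H e') = extFun H (conv e e') := by
  funext x
  rw [Blocks.conv, sum_extFun_mul H e (fun y => extFun H e' (y⁻¹ * x))]
  by_cases hx : x ∈ H
  · obtain ⟨x, rfl⟩ : ∃ x' : H, (x' : G) = x := ⟨⟨x, hx⟩, rfl⟩
    rw [extFun_coe, Blocks.conv]
    refine Finset.sum_congr rfl fun k _ => ?_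
    rw [← extFun_coe H e' (k⁻¹ * x)]
    simp
  · rw [extFun_of_notMem _ hx]
    refine Finset.sum_eq_zero fun k _ => ?_
    rw [extFun_of_notMem, mul_zero]
    exact fun h => hx (by simpa using H.mul_mem k.2 h)

theorem conv_extFun_coe (H : Subgroup G) [Fintype H] (a : G → ℂ) (e : H → ℂ) (h : H) :
    conv a (extFun H e) h = conv (resFun H a) e h := by
  rw [Blocks.conv, Blocks.conv]
  symm
  refine Finset.sum_bij_ne_zero (fun k _ _ => (k : G)) (by simp) (by simp) (fun g _ hg => ?_)
    (fun k _ _ => ?_)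
  · have hgH : g ∈ H := by
      by_contra hc
      refine hg (mul_eq_zero_of_right _ (extFun_of_notMem e fun h' => hc ?_))
      simpa using H.mul_mem h.2 (H.inv_mem h')
    refine ⟨⟨g, hgH⟩, Finset.mem_univ _, ?_, rfl⟩
    have he : extFun H e (g⁻¹ * h) = e (⟨g, hgH⟩⁻¹ * h) := by
      rw [← extFun_coe H e (⟨g, hgH⟩⁻¹ * h)]; simp
    rw [he] at hg
    exact hg
  · rw [← extFun_coe H e (k⁻¹ * h)]
    simp [resFun]

variable {M : Ideal AlgInt} [M.IsPrime] {p : ℕ} [Fact p.Prime]

theorem isFixedBy_zpowers {k : Type*} [CommRing k] {z : G} {F : MonoidAlgebra k G}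
    (h : ∀ g, F.coeff (z * g * z⁻¹) = F.coeff g) : IsFixedBy (Subgroup.zpowers z) F := by
  intro u hu
  obtain ⟨j, rfl⟩ := mem_powers_iff_mem_zpowers.2 hu
  induction j with
  | zero => intro g; simp
  | succ j ih =>
    intro g
    have : z ^ (j + 1) * g * (z ^ (j + 1))⁻¹ = z * (z ^ j * g * (z ^ j)⁻¹) * z⁻¹ := by
      rw [pow_succ']; group
    simp only at this ⊢
    rw [this, h]
    exact ih (mem_powers_iff_mem_zpowers.1 ⟨j, rfl⟩) g

/-- **Second main theorem, general form.** Let `a` be an idempotent locally integral class function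
of `G` whose restriction to `H` is congruent to `0` at the block `b` of `H`, and `h = z * y` with
`C(z) ≤ H`. Then every class function vanishes on `a * e_b * h`. -/
theorem second_main_core (hpM : (p : AlgInt) ∈ M) {H : Subgroup G} [Fintype H]
    {b : Set (IrrCharacter H)} (hb : IsPBlock M b) {a : G → ℂ} (ha : IsLocClassFun M a)
    (hidem : conv a a = a)
    (hω : ∀ ξ ∈ b, MemLocalIdeal M (omega (ξ : H → ℂ) (resFun H a)))
    {z y : G} (hz : ∃ k : ℕ, z ^ p ^ k = 1) (hy : ¬ p ∣ orderOf y) (hzy : Commute y z) (hzH : z ∈ H)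
    (hC : Subgroup.centralizer ({z} : Set G) ≤ H) {θ : G → ℂ} (hθ : IsClassFunction G θ) :
    ∑ k : H, blockCoeff b k * ∑ g, a g * θ (g * ((k : G) * (z * y))) = 0 := by
  classical
  have hp : p.Prime := Fact.out
  haveI := charP_resField (M := M) hp hpM
  have hyH : y ∈ H := hC (Subgroup.mem_centralizer_singleton_iff.2 hzy.eq)
  set e := blockCoeff b with he
  have hel : IsLocClassFun M e := isLocClassFun_blockCoeff hb
  have hext : ∀ g, extFun H e g ∈ loc M := fun g => by
    by_cases hg : g ∈ H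
    · obtain ⟨g, rfl⟩ : ∃ g' : H, (g' : G) = g := ⟨⟨g, hg⟩, rfl⟩
      rw [extFun_coe]; exact hel.2 g
    · rw [extFun_of_notMem e hg]; exact zero_mem _
  set f := conv a (extFun H e) with hf
  have hfl : ∀ g, f g ∈ loc M := fun g => sum_mem fun y _ => mul_mem (ha.2 _) (hext _)
  have hEE : toAlg (extFun H e) hext * toAlg (extFun H e) hext = toAlg (extFun H e) hext :=
    toAlg_mul_self hext (by rw [conv_extFun, conv_blockCoeff_self])
  have hAA : toAlg a ha.2 * toAlg a ha.2 = toAlg a ha.2 := toAlg_mul_self ha.2 hidem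
  have hfAE : toAlg f hfl = toAlg a ha.2 * toAlg (extFun H e) hext := (toAlg_conv ha.2 hext hfl).symm
  have hfid : toAlg f hfl * toAlg f hfl = toAlg f hfl := by
    rw [hfAE, mul_assoc, ← mul_assoc (toAlg (extFun H e) hext),
      ← (commute_toAlg ha (toAlg (extFun H e) hext)).eq, mul_assoc (toAlg a ha.2), hEE,
      ← mul_assoc, hAA]
  have hff : conv f f = f := by
    funext x
    have h1 : ((toAlg f hfl * toAlg f hfl).coeff x : ℂ) = ((toAlg f hfl).coeff x : ℂ) := by rw [hfid]
    rw [coeff_mul_eq_conv] at h1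
    simpa using h1
  have hinv : ∀ h ∈ H, ∀ g, f (h * g * h⁻¹) = f g := by
    intro h hh g
    rw [hf, Blocks.conv, Blocks.conv, ← Equiv.sum_comp (MulAut.conj h).toEquiv]
    refine Finset.sum_congr rfl fun y _ => ?_
    show a (h * y * h⁻¹) * extFun H e ((h * y * h⁻¹)⁻¹ * (h * g * h⁻¹)) = _
    rw [ha.1, ← extFun_conj hel.1 hh (y⁻¹ * g)]
    congr 2
    group
  -- the restriction to `H` is nilpotent modulo `M`
  have hconvH : IsLocClassFun M (conv (resFun H a) e) := (isLocClassFun_resFun H ha).conv hel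
  obtain ⟨n, hn⟩ := isNilpotent_redFun hconvH fun ξ => by
    rw [omega_conv ξ (isClassFunction_resFun H ha.1), he, omega_blockCoeff]
    by_cases hξ : ξ ∈ b
    · rw [if_pos hξ, mul_one]; exact hω ξ hξ
    · rw [if_neg hξ, mul_zero]; exact MemLocalIdeal.zero'
  have hnil : ∀ c, z * c = c * z → MemLocalIdeal M (f c) := by
    intro c hc
    set C := Subgroup.centralizer (Subgroup.zpowers z : Set G) with hCdef
    have hP : IsPGroup p (Subgroup.zpowers z) := by
      obtain ⟨k, hk⟩ := hz
      obtain ⟨i, -, hi⟩ := (Nat.dvd_prime_pow hp).1 (orderOf_dvd_of_pow_eq_one hk)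
      exact IsPGroup.of_card (n := i) (by rw [Nat.card_zpowers, hi])
    have hCH : C ≤ H := fun u hu => hC (Subgroup.mem_centralizer_singleton_iff.2
      (Subgroup.mem_centralizer_iff.1 hu z (Subgroup.mem_zpowers z)).symm)
    have hcC : c ∈ C := by
      rw [hCdef, Subgroup.mem_centralizer_iff]
      intro u hu
      obtain ⟨j, rfl⟩ := mem_powers_iff_mem_zpowers.2 hu
      exact (Commute.pow_left (show Commute z c from hc) j).eq
    let ι : MonoidAlgebra (ResField M) H →+* MonoidAlgebra (ResField M) G :=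
      MonoidAlgebra.mapDomainRingHom (ResField M) H.subtype
    set A := redFun (conv (resFun H a) e) hconvH.2
    have hιcoe : ∀ (x : MonoidAlgebra (ResField M) H) (u : H), (ι x).coeff (u : G) = x.coeff u := by
      intro x u
      simp [ι, Finsupp.mapDomain_apply Subtype.val_injective]
    have hFA : ∀ u ∈ C, (redFun f hfl).coeff u = (ι A).coeff u := by
      intro u hu
      rw [coeff_redFun, show u = ((⟨u, hCH hu⟩ : H) : G) from rfl, hιcoe, coeff_redFun]
      exact congrArg red (Subtype.ext (conv_extFun_coe H a e ⟨u, hCH hu⟩))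
    have hcutEq : cut (C : Set G) (redFun f hfl) = cut (C : Set G) (ι A) := by
      apply MonoidAlgebra.ext
      ext u
      by_cases hu : u ∈ C
      · rw [coeff_cut_of_mem _ hu, coeff_cut_of_mem _ hu, hFA u hu]
      · rw [coeff_cut_of_notMem _ hu, coeff_cut_of_notMem _ hu]
    have hFfix : IsFixedBy (Subgroup.zpowers z) (redFun f hfl) := isFixedBy_zpowers fun g => by
      rw [coeff_redFun, coeff_redFun]
      exact congrArg red (Subtype.ext (hinv z hzH g))
    have hAfix : IsFixedBy (Subgroup.zpowers z) (ι A) := by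
      rw [isFixedBy_iff_commute]
      intro u hu
      have huH : u ∈ H := (Subgroup.zpowers_le.2 hzH) hu
      have h1 := (commute_redFun hconvH (MonoidAlgebra.single (⟨u, huH⟩ : H) 1)).map ι
      simpa [ι] using h1
    have hFF : ∀ m, redFun f hfl ^ (m + 1) = redFun f hfl := by
      intro m
      induction m with
      | zero => simp
      | succ m ih => rw [pow_succ, ih, redFun, ← map_mul, hfid]
    have h0 : cut (C : Set G) (redFun f hfl) = 0 := by
      have h1 := cut_pow (p := p) hP hFfix (n + 1)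
      rw [hFF, hcutEq, ← cut_pow p hP hAfix, pow_succ, ← map_pow, hn, map_zero, zero_mul,
        cut_zero] at h1
      rw [hcutEq]; exact h1
    rw [← coeff_redFun_eq_zero_iff f hfl, ← coeff_cut_of_mem (S := (C : Set G)) _ hcC, h0]
    simp
  have h := sum_twisted_eq_zero hp hpM hfl hff hz hy hzy (hinv z hzH) (hinv y hyH) hnil hθ
  rw [hf, sum_conv_mul, Finset.sum_comm] at h
  rw [← h]
  have hR : ∀ v : G, ∑ u, a u * extFun H e v * θ (u * v * (z * y)) =
      extFun H e v * ∑ u, a u * θ (u * (v * (z * y))) := fun v => by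
    rw [Finset.mul_sum]
    exact Finset.sum_congr rfl fun u _ => by rw [mul_assoc u v (z * y)]; ring
  simp only [hR, sum_extFun_mul H e (fun v => ∑ u, a u * θ (u * (v * (z * y))))]

end CfsgLib.Blocks
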