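import Cfsg.Agent.Lib.Chars.Induction

/-!
# Values of induced class functions
-/

set_option autoImplicit false
set_option linter.style.haveILetI false
set_option linter.unusedSectionVars false

namespace CfsgLib.Blocks

open Cfsg CfsgLib.Chars

universe u

variable {G : Type u} [Group G] [Fintype G] {H : Subgroup G} [Fintype H]

/-- The value of an induced class function is a sum of values of the function. -/
theorem indFun_mem_subring {F : H → ℂ} (hF : IsClassFunction H F) (R : Subring ℂ)
    (hint : ∀ h, F h ∈ R) (g : G) : indFun H F g ∈ R := by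
  classical
  set f : G → ℂ := extendByZero H F with hf
  have hfH : ∀ (h : H) (y : G), f ((h : G)⁻¹ * y * h) = f y := by
    intro h y
    by_cases hy : y ∈ H
    · rw [hf, extendByZero_of_mem H F (H.mul_mem (H.mul_mem (H.inv_mem h.2) hy) h.2),
        extendByZero_of_mem H F hy]
      exact (congrArg F (Subtype.ext (by simp))).trans (hF ⟨y, hy⟩ h⁻¹)
    · rw [hf, extendByZero_of_not_mem H F hy, extendByZero_of_not_mem H F]
      intro hm
      refine hy ?_
      have := H.mul_mem (H.mul_mem h.2 hm) (H.inv_mem h.2)
      simpa [mul_assoc] using this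
  haveI := Fintype.ofFinite (G ⧸ H)
  have hsum : ∑ y : G, f (y⁻¹ * g * y) =
      (Nat.card H : ℂ) * ∑ q : G ⧸ H, f (q.out⁻¹ * g * q.out) := by
    rw [← (Subgroup.groupEquivQuotientProdSubgroup (s := H)).symm.sum_comp, Fintype.sum_prod_type,
      Finset.mul_sum]
    refine Finset.sum_congr rfl fun q _ => ?_
    have : ∀ h : H, f ((Subgroup.groupEquivQuotientProdSubgroup.symm (q, h))⁻¹ * g *
        (Subgroup.groupEquivQuotientProdSubgroup.symm (q, h))) = f (q.out⁻¹ * g * q.out) := by
      intro h
      obtain ⟨k, hk⟩ : ∃ k : H, Subgroup.groupEquivQuotientProdSubgroup.symm (q, h) = q.out * (k : G) := by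
        set y := Subgroup.groupEquivQuotientProdSubgroup.symm (q, h) with hy
        have hq : Subgroup.groupEquivQuotientProdSubgroup y = (q, h) := by
          rw [hy, Equiv.apply_symm_apply]
        have hmk : (QuotientGroup.mk y : G ⧸ H) = q := congrArg Prod.fst hq
        refine ⟨⟨q.out⁻¹ * y, ?_⟩, by simp⟩
        rw [← QuotientGroup.eq, QuotientGroup.out_eq', hmk]
      rw [hk, mul_inv_rev, ← hfH k (q.out⁻¹ * g * q.out)]
      simp only [mul_assoc]
    rw [Finset.sum_congr rfl fun h _ => this h, Finset.sum_const, Finset.card_univ, nsmul_eq_mul,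
      Nat.card_eq_fintype_card]
  rw [indFun, ← hf, hsum, ← mul_assoc, inv_mul_cancel₀ (Nat.cast_ne_zero.2 Nat.card_pos.ne'),
    one_mul]
  refine sum_mem fun q _ => ?_
  by_cases hy : q.out⁻¹ * g * q.out ∈ H
  · rw [hf, extendByZero_of_mem H F hy]
    exact hint _
  · rw [hf, extendByZero_of_not_mem H F hy]
    exact zero_mem _

end CfsgLib.Blocks
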