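import Cfsg.Agent.Lib.Blocks.NormalBlocks
import Cfsg.Agent.Lib.Blocks.Center
import Cfsg.Agent.Lib.BlockOrth.DefectOrder

/-!
# Counting blocks of large defect, and characters of relative defect zero
-/

set_option linter.unusedSectionVars false
set_option linter.style.haveILetI false

namespace CfsgLib.Blocks

open Cfsg Chars BlockOrth
open scoped ComplexConjugate

variable {G : Type*} [Group G] [Fintype G] {M : Ideal AlgInt} [M.IsPrime] {p : ℕ} [Fact p.Prime]

theorem centralChar_mem_of_small_defect (hpM : (p : AlgInt) ∈ M) {B : Set (IrrCharacter G)}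
    (hB : IsPBlock M B) {g : G}
    (h : (Nat.card (Subgroup.centralizer ({g} : Set G))).factorization p < blockDefect p B)
    {χ : IrrCharacter G} (hχ : χ ∈ B) : MemLocalIdeal M (centralChar (χ : G → ℂ) g) := by
  obtain ⟨χ₀, h0, hmin⟩ := exists_degVal_eq_blockMin (p := p) (IsPBlock.nonempty hB)
  have h2 := (Subgroup.centralizer ({g} : Set G)).card_mul_index
  have h3 := congrArg (fun n : ℕ => n.factorization p) h2
  simp only [Nat.factorization_mul Nat.card_pos.ne' Subgroup.index_ne_zero_of_finite,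
    Finsupp.add_apply] at h3
  have h4 := blockMin_add_blockDefect (p := p) (IsPBlock.nonempty hB)
  have hlt : degVal p χ₀ < (Subgroup.centralizer ({g} : Set G)).index.factorization p := by omega
  have h1 : MemLocalIdeal M (centralChar (χ₀ : G → ℂ) g) := by
    rw [centralChar, irr_apply_one χ₀, mul_div_right_comm]
    exact MemLocalIdeal.mul_right'
      (memLocalIdeal_natDiv hpM (irr_charDegree_ne_zero χ₀) hlt) (irr_mem_loc χ₀ g)
  have := MemLocalIdeal.add' (IsPBlock.sameBlock hB hχ h0 g) h1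
  rwa [sub_add_cancel] at this

/-- There are no more blocks of defect at least `d` than regular classes of defect at least `d`. -/
theorem card_blocks_defect_le (hpM : (p : AlgInt) ∈ M) (d : ℕ) :
    Nat.card {B : Set (IrrCharacter G) // IsPBlock M B ∧ d ≤ blockDefect p B} ≤
      Nat.card {C : ConjClasses G // ∃ g : G, ConjClasses.mk g = C ∧ IsPRegular p g ∧
        d ≤ (Nat.card (Subgroup.centralizer ({g} : Set G))).factorization p} := by
  classical
  haveI := irrFintype G
  haveI := Fintype.ofFinite (ConjClasses G)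
  haveI : Finite (Set (IrrCharacter G)) := inferInstance
  haveI := Fintype.ofFinite {B : Set (IrrCharacter G) // IsPBlock M B ∧ d ≤ blockDefect p B}
  set I := {B : Set (IrrCharacter G) // IsPBlock M B ∧ d ≤ blockDefect p B}
  set J := {C : ConjClasses G // ∃ g : G, ConjClasses.mk g = C ∧ IsPRegular p g ∧
    d ≤ (Nat.card (Subgroup.centralizer ({g} : Set G))).factorization p}
  haveI := Fintype.ofFinite J
  choose χ hχ using fun B : I => IsPBlock.nonempty B.2.1
  let W : I → J → ResField M := fun B C =>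
    red ⟨_, centralChar_mem_loc (M := M) (χ B) (classRep C.1)⟩
  have hW : LinearIndependent (ResField M) W := by
    rw [Fintype.linearIndependent_iff]
    intro c hc B
    let E : J → ResField M := fun C =>
      red ⟨_, blockCoeff_mem_loc (M := M) B.2.1 (classRep C.1)⟩
    have hδ : ∀ B' : I, ∑ C : J, E C * W B' C = if B' = B then 1 else 0 := by
      intro B'
      have hval : omega (χ B' : G → ℂ) (blockCoeff B.1) = if B' = B then 1 else 0 := by
        rw [omega_blockCoeff]
        refine if_congr ⟨fun h => Subtype.ext ?_, fun h => h ▸ hχ B'⟩ rfl rfl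
        exact IsPBlock.eq_of_mem B'.2.1 B.2.1 (hχ B') h
      have hcong : MemLocalIdeal M (omega (χ B' : G → ℂ) (blockCoeff B.1) -
          ∑ C : J, blockCoeff B.1 (classRep C.1) * centralChar (χ B' : G → ℂ) (classRep C.1)) := by
        rw [omega_eq_sum_centralChar _ (isClassFunction_blockCoeff B.1),
          ← Finset.sum_subtype (p := fun C : ConjClasses G => ∃ g : G, ConjClasses.mk g = C ∧
            IsPRegular p g ∧ d ≤ (Nat.card (Subgroup.centralizer ({g} : Set G))).factorization p)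
            (Finset.univ.filter fun C : ConjClasses G => ∃ g : G, ConjClasses.mk g = C ∧
              IsPRegular p g ∧ d ≤ (Nat.card (Subgroup.centralizer ({g} : Set G))).factorization p)
            (by simp) (fun C => blockCoeff B.1 (classRep C) * centralChar (χ B' : G → ℂ) (classRep C)),
          ← Finset.sum_sdiff (Finset.filter_subset (fun C : ConjClasses G => ∃ g : G,
            ConjClasses.mk g = C ∧ IsPRegular p g ∧
            d ≤ (Nat.card (Subgroup.centralizer ({g} : Set G))).factorization p) Finset.univ),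
          add_sub_cancel_right]
        refine MemLocalIdeal.sum' fun C hC => ?_
        by_cases hr : p ∣ orderOf (classRep C)
        · rw [blockCoeff_eq_zero_of_dvd Fact.out hpM B.2.1 hr, zero_mul]
          exact MemLocalIdeal.zero'
        · refine MemLocalIdeal.mul_left' (blockCoeff_mem_loc B.2.1 _)
            (centralChar_mem_of_small_defect hpM B'.2.1 ?_ (hχ B'))
          by_contra hd
          exact (Finset.mem_sdiff.1 hC).2 (Finset.mem_filter.2 ⟨Finset.mem_univ _, classRep C,
            mk_classRep C, hr, le_trans B'.2.2 (not_lt.1 hd)⟩)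
      rw [hval] at hcong
      have hsum : ∑ C : J, E C * W B' C =
          red (∑ C : J, (⟨_, blockCoeff_mem_loc (M := M) B.2.1 (classRep C.1)⟩ : loc M) *
            ⟨_, centralChar_mem_loc (M := M) (χ B') (classRep C.1)⟩) := by
        rw [map_sum]
        exact Finset.sum_congr rfl fun C _ => (map_mul _ _ _).symm
      rw [hsum]
      have h1 : (if B' = B then (1 : ResField M) else 0) =
          red (if B' = B then (1 : loc M) else 0) := by split_ifs <;> simp
      rw [h1, eq_comm, ← sub_eq_zero, ← map_sub, red_eq_zero_iff]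
      by_cases hBB : B' = B
      · rw [if_pos hBB] at hcong ⊢
        push_cast
        simpa using hcong
      · rw [if_neg hBB] at hcong ⊢
        push_cast
        simpa using hcong
    have h2 : ∑ C : J, E C * (∑ B' : I, c B' • W B') C = 0 := by rw [hc]; simp
    simp only [Finset.sum_apply, Pi.smul_apply, smul_eq_mul, Finset.mul_sum] at h2
    rw [Finset.sum_comm] at h2
    have h3 : ∀ B' : I, ∑ C : J, E C * (c B' * W B' C) = c B' * ∑ C : J, E C * W B' C := by
      intro B'
      rw [Finset.mul_sum]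
      exact Finset.sum_congr rfl fun C _ => by ring
    rw [Finset.sum_eq_single B] at h2
    · rwa [h3, hδ, if_pos rfl, mul_one] at h2
    · intro B' _ hne
      rw [h3, hδ, if_neg hne, mul_zero]
    · simp
  have := hW.fintype_card_le_finrank
  rwa [Module.finrank_pi, ← Nat.card_eq_fintype_card, ← Nat.card_eq_fintype_card] at this

theorem exists_centralScalar (χ : IrrCharacter G) {z : G} (hz : z ∈ Subgroup.center G) :
    ∃ c : ℂ, ‖c‖ = 1 ∧ ∀ x, (χ : G → ℂ) (z * x) = c * (χ : G → ℂ) x := by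
  classical
  have h : ∀ x, (χ : G → ℂ) (z * x) = omega (χ : G → ℂ) (classInd z) * (χ : G → ℂ) x := by
    intro x
    rw [← sum_mul_irr χ (isClassFunction_classInd z) x, Finset.sum_eq_single z]
    · rw [classInd_apply, if_pos (IsConj.refl z), one_mul]
    · intro g _ hg
      rw [classInd_apply, if_neg, zero_mul]
      intro h1
      obtain ⟨c, rfl⟩ := isConj_iff.1 h1
      exact hg (by rw [Subgroup.mem_center_iff.1 hz c, mul_inv_cancel_right])
    · simp
  refine ⟨_, ?_, h⟩
  have hn : ∀ n : ℕ, (χ : G → ℂ) (z ^ n) =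
      omega (χ : G → ℂ) (classInd z) ^ n * (χ : G → ℂ) 1 := by
    intro n
    induction n with
    | zero => simp
    | succ n ih => rw [pow_succ', h, ih, pow_succ']; ring
  have h1 := hn (orderOf z)
  rw [pow_orderOf_eq_one] at h1
  exact Complex.norm_eq_one_of_pow_eq_one
    (mul_right_cancel₀ (irr_degree_ne_zero χ.2) (h1.symm.trans (one_mul _).symm)) (orderOf_pos z).ne'

/-- Characters of relative defect zero over a central `p`-subgroup. -/
theorem relative_defect_zero (hpM : (p : AlgInt) ∈ M) {D : Subgroup G} (hD : IsPGroup p D)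
    (hDZ : D ≤ Subgroup.center G) (χ : IrrCharacter G)
    (hdeg : degVal p χ = D.index.factorization p) :
    IsDefectGroup p M (blockOf M (χ : G → ℂ)) D ∧
      ∀ g x : G, IsPPart p g x → x ∉ D → (χ : G → ℂ) g = 0 := by
  classical
  haveI : Fintype D := Fintype.ofFinite D
  have hp : p.Prime := Fact.out
  obtain ⟨d, hd⟩ := hD.exists_card_eq
  obtain ⟨a, ha⟩ : ∃ a, a = (Nat.card G).factorization p := ⟨_, rfl⟩
  have had : D.index.factorization p + d = a := by
    rw [ha, ← D.card_mul_index, Nat.factorization_mul Nat.card_pos.ne'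
      Subgroup.index_ne_zero_of_finite, Finsupp.add_apply, hd, hp.factorization_pow,
      Finsupp.single_eq_same, add_comm]
  set R := Finset.univ.filter fun y : G => ¬ p ∣ orderOf y with hR
  set S : ℝ := ∑ y ∈ R, ‖(χ : G → ℂ) y‖ ^ 2 with hS
  have hG : (∑ g : G, ‖(χ : G → ℂ) g‖ ^ 2 : ℝ) = Nat.card G := by
    have h := inner_irr_self χ
    rw [inner_def, inv_mul_eq_iff_eq_mul₀ (Nat.cast_ne_zero.2 Nat.card_pos.ne'), mul_one] at h
    have h2 : ((∑ g : G, ‖(χ : G → ℂ) g‖ ^ 2 : ℝ) : ℂ) = ((Nat.card G : ℝ) : ℂ) := by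
      push_cast
      rw [← h]
      exact Finset.sum_congr rfl fun g _ => (Complex.mul_conj' _).symm
    exact_mod_cast h2
  have hpInt : ((pInt p χ χ : ℤ) : ℝ) * Nat.card G = (p : ℝ) ^ a * S := by
    have h : ((pInt p χ χ : ℤ) : ℂ) * Nat.card G = ((p : ℂ) ^ a) * (S : ℂ) := by
      rw [← pInt_spec, pInner, inner_def, hS, hR, ha]
      push_cast
      rw [mul_assoc, mul_right_comm (Nat.card G : ℂ)⁻¹, inv_mul_cancel₀
        (Nat.cast_ne_zero.2 Nat.card_pos.ne'), one_mul, Finset.sum_filter]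
      congr 1
      refine Finset.sum_congr rfl fun y _ => ?_
      rw [pRegularPart_apply]
      split_ifs <;> simp [Complex.mul_conj']
    have h' : (((pInt p χ χ : ℤ) : ℝ) * Nat.card G : ℂ) = (((p : ℝ) ^ a * S : ℝ) : ℂ) := by
      push_cast; exact h
    exact_mod_cast h'
  have hS0 : 0 < S := by
    refine Finset.sum_pos' (fun y _ => sq_nonneg _) ⟨1, Finset.mem_filter.2 ⟨Finset.mem_univ _,
      by rw [orderOf_one]; exact hp.not_dvd_one⟩, ?_⟩
    exact pow_pos (norm_pos_iff.2 (irr_degree_ne_zero χ.2)) 2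
  set U := (Finset.univ (α := D) ×ˢ R).image fun zy => (zy.1 : G) * zy.2 with hU
  have hT : ∑ g ∈ U, ‖(χ : G → ℂ) g‖ ^ 2 = Nat.card D * S := by
    rw [hU, Finset.sum_image, Finset.sum_product, Nat.card_eq_fintype_card]
    · rw [Finset.sum_congr rfl (g := fun _ => S) fun z _ => ?_, Finset.sum_const, nsmul_eq_mul,
        Finset.card_univ]
      refine Finset.sum_congr rfl fun y _ => ?_
      obtain ⟨c, hc, hcx⟩ := exists_centralScalar χ (hDZ z.2)
      rw [hcx, norm_mul, hc, one_mul]
    · rintro ⟨z, y⟩ h1 ⟨z', y'⟩ h2 he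
      have hy := (Finset.mem_filter.1 (Finset.mem_product.1 h1).2).2
      have hy' := (Finset.mem_filter.1 (Finset.mem_product.1 h2).2).2
      have hpp : ∀ (w : D) (v : G), ¬ p ∣ orderOf v → IsPPrimePart p ((w : G) * v) v := by
        intro w v hv
        obtain ⟨k, hk⟩ := (IsPGroup.iff_orderOf.1 hD) w
        exact ⟨w, rfl, (Subgroup.mem_center_iff.1 (hDZ w.2) v).symm,
          ⟨k, by rwa [Subgroup.orderOf_coe]⟩, hv⟩
      have h3 : y = y' := IsPPrimePart.unique (hpp z y hy) (by
        have : (z : G) * y = (z' : G) * y' := he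
        rw [this]; exact hpp z' y' hy')
      subst h3
      have : z = z' := Subtype.ext (mul_right_cancel he)
      rw [this]
  have hpk : (p : ℤ) ^ degVal p χ ∣ pInt p χ χ := pow_degVal_dvd_pInt hpM χ χ
  have hpos : 0 < pInt p χ χ := by
    have h1 : (0 : ℝ) < ((pInt p χ χ : ℤ) : ℝ) := by
      refine pos_of_mul_pos_left ?_ (Nat.cast_nonneg (Nat.card G))
      rw [hpInt]
      exact mul_pos (pow_pos (Nat.cast_pos.2 hp.pos) a) hS0
    exact_mod_cast h1
  have hle : (p : ℝ) ^ degVal p χ ≤ ((pInt p χ χ : ℤ) : ℝ) := by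
    exact_mod_cast Int.le_of_dvd hpos hpk
  have hUle : ∑ g ∈ U, ‖(χ : G → ℂ) g‖ ^ 2 ≤ Nat.card G := hG ▸
    Finset.sum_le_univ_sum_of_nonneg (fun g => sq_nonneg _)
  have hpow : (p : ℝ) ^ a = (p : ℝ) ^ degVal p χ * Nat.card D := by
    rw [hd, Nat.cast_pow, ← pow_add, hdeg, had]
  have heq : Nat.card D * S = (Nat.card G : ℝ) := by
    refine le_antisymm (hT ▸ hUle) ?_
    have h1 : (p : ℝ) ^ degVal p χ * Nat.card G ≤ (p : ℝ) ^ degVal p χ * (Nat.card D * S) := by
      rw [← mul_assoc, ← hpow, ← hpInt]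
      exact mul_le_mul_of_nonneg_right hle (Nat.cast_nonneg _)
    exact le_of_mul_le_mul_left h1 (pow_pos (Nat.cast_pos.2 hp.pos) _)
  refine ⟨?_, fun g x hg hx => ?_⟩
  · have hm : pInt p χ χ = (p : ℤ) ^ degVal p χ := by
      have h1 : ((pInt p χ χ : ℤ) : ℝ) = (p : ℝ) ^ degVal p χ := by
        refine mul_right_cancel₀ (Nat.cast_ne_zero.2 Nat.card_pos.ne' : (Nat.card G : ℝ) ≠ 0) ?_
        rw [hpInt, hpow, mul_assoc, heq]
      exact_mod_cast h1
    have hB := isPBlock_blockOf (M := M) χ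
    have hmin : degVal p χ = blockMin p (blockOf M (χ : G → ℂ)) := by
      refine degVal_eq_of_exact hpM hB (mem_blockOf_self χ) (mem_blockOf_self χ) ?_
      rw [hm]
      intro h
      have h1 : (p : ℕ) ^ (degVal p χ + 1) ∣ p ^ degVal p χ := by exact_mod_cast h
      have := (Nat.pow_dvd_pow_iff_le_right hp.one_lt).1 h1
      omega
    obtain ⟨E, hE⟩ := exists_isDefectGroup (p := p) hB
    haveI : D.Normal := ⟨fun n hn g => by
      have h1 : g * n * g⁻¹ = n := by rw [Subgroup.mem_center_iff.1 (hDZ hn) g, mul_inv_cancel_right]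
      rw [h1]; exact hn⟩
    have h1 := IsDefectGroup.normal_le hpM hB hE hD
    have h2 := blockMin_add_blockDefect (p := p) (IsPBlock.nonempty hB)
    have h3 : Nat.card E = Nat.card D := by
      rw [card_defectGroup hpM hB hE, hd]
      congr 1
      omega
    rwa [Subgroup.eq_of_le_of_card_ge h1 h3.le]
  · by_contra hne
    have hgU : g ∉ U := by
      intro hgU
      rw [hU, Finset.mem_image] at hgU
      obtain ⟨⟨z, y⟩, hzy, rfl⟩ := hgU
      obtain ⟨k, hk⟩ := (IsPGroup.iff_orderOf.1 hD) z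
      obtain ⟨y', h1, h2, h3, h4⟩ := hg
      have e1 : IsPPrimePart p ((z : G) * y) y :=
        ⟨z, rfl, (Subgroup.mem_center_iff.1 (hDZ z.2) y).symm, ⟨k, by rwa [Subgroup.orderOf_coe]⟩,
          (Finset.mem_filter.1 (Finset.mem_product.1 hzy).2).2⟩
      have e3 : y = y' := e1.unique ⟨x, h1, h2, h3, h4⟩
      subst e3
      exact hx (mul_right_cancel h1 ▸ z.2)
    have h1 : ∑ g' ∈ insert g U, ‖(χ : G → ℂ) g'‖ ^ 2 ≤ Nat.card G := hG ▸
      Finset.sum_le_univ_sum_of_nonneg (fun g' => sq_nonneg _)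
    rw [Finset.sum_insert hgU, hT, heq] at h1
    have : 0 < ‖(χ : G → ℂ) g‖ ^ 2 := pow_pos (norm_pos_iff.2 hne) 2
    linarith

/-- The regular part of the norm of a character is small over a central `p`-subgroup. -/
theorem card_mul_sum_regular_le {D : Subgroup G} (hD : IsPGroup p D) (hDZ : D ≤ Subgroup.center G)
    (χ : IrrCharacter G) :
    (Nat.card D : ℝ) * ∑ y ∈ Finset.univ.filter (fun y : G => ¬ p ∣ orderOf y),
      ‖(χ : G → ℂ) y‖ ^ 2 ≤ Nat.card G := by
  classical
  haveI : Fintype D := Fintype.ofFinite D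
  set R := Finset.univ.filter fun y : G => ¬ p ∣ orderOf y with hR
  set U := (Finset.univ (α := D) ×ˢ R).image fun zy => (zy.1 : G) * zy.2 with hU
  have hG : (∑ g : G, ‖(χ : G → ℂ) g‖ ^ 2 : ℝ) = Nat.card G := by
    have h := inner_irr_self χ
    rw [inner_def, inv_mul_eq_iff_eq_mul₀ (Nat.cast_ne_zero.2 Nat.card_pos.ne'), mul_one] at h
    have h2 : ((∑ g : G, ‖(χ : G → ℂ) g‖ ^ 2 : ℝ) : ℂ) = ((Nat.card G : ℝ) : ℂ) := by
      push_cast
      rw [← h]
      exact Finset.sum_congr rfl fun g _ => (Complex.mul_conj' _).symm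
    exact_mod_cast h2
  have hT : ∑ g ∈ U, ‖(χ : G → ℂ) g‖ ^ 2 =
      Nat.card D * ∑ y ∈ R, ‖(χ : G → ℂ) y‖ ^ 2 := by
    rw [hU, Finset.sum_image, Finset.sum_product, Nat.card_eq_fintype_card]
    · rw [Finset.sum_congr rfl (g := fun _ => ∑ y ∈ R, ‖(χ : G → ℂ) y‖ ^ 2) fun z _ => ?_,
        Finset.sum_const, nsmul_eq_mul, Finset.card_univ]
      refine Finset.sum_congr rfl fun y _ => ?_
      obtain ⟨c, hc, hcx⟩ := exists_centralScalar χ (hDZ z.2)
      rw [hcx, norm_mul, hc, one_mul]
    · rintro ⟨z, y⟩ h1 ⟨z', y'⟩ h2 he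
      have hpp : ∀ (w : D) (v : G), v ∈ R → IsPPrimePart p ((w : G) * v) v := by
        intro w v hv
        obtain ⟨k, hk⟩ := (IsPGroup.iff_orderOf.1 hD) w
        exact ⟨w, rfl, (Subgroup.mem_center_iff.1 (hDZ w.2) v).symm,
          ⟨k, by rwa [Subgroup.orderOf_coe]⟩, (Finset.mem_filter.1 hv).2⟩
      have he' : (z : G) * y = (z' : G) * y' := he
      have h3 : y = y' := (hpp z y (Finset.mem_product.1 h1).2).unique
        (he' ▸ hpp z' y' (Finset.mem_product.1 h2).2)
      subst h3
      rw [show z = z' from Subtype.ext (mul_right_cancel he')]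
  rw [← hT, ← hG]
  exact Finset.sum_le_univ_sum_of_nonneg fun g => sq_nonneg _

/-- In a block of relative defect zero all characters agree on the regular elements. -/
theorem eq_on_regular_of_relative_defect_zero (hpM : (p : AlgInt) ∈ M) {D : Subgroup G}
    (hD : IsPGroup p D) (hDZ : D ≤ Subgroup.center G) {χ : IrrCharacter G}
    (hdeg : degVal p χ = D.index.factorization p) {ψ : IrrCharacter G}
    (hψ : SameBlock M (χ : G → ℂ) (ψ : G → ℂ)) {y : G} (hy : ¬ p ∣ orderOf y) :
    (ψ : G → ℂ) y = (χ : G → ℂ) y := by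
  classical
  have hp : p.Prime := Fact.out
  obtain ⟨hdef, -⟩ := relative_defect_zero hpM hD hDZ χ hdeg
  have hB := isPBlock_blockOf (M := M) χ
  have hψB : ψ ∈ blockOf M (χ : G → ℂ) := hψ
  have hcardD := card_defectGroup hpM hB hdef
  have h2 := blockMin_add_blockDefect (p := p) (IsPBlock.nonempty hB)
  have hidx : D.index.factorization p + blockDefect p (blockOf M (χ : G → ℂ)) =
      (Nat.card G).factorization p := by
    rw [← D.card_mul_index, Nat.factorization_mul Nat.card_pos.ne'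
      Subgroup.index_ne_zero_of_finite, Finsupp.add_apply, hcardD, hp.factorization_pow,
      Finsupp.single_eq_same, add_comm]
  have hmin : degVal p χ = blockMin p (blockOf M (χ : G → ℂ)) := by omega
  set m := pInt p χ ψ with hm
  have hm0 : m ≠ 0 := fun h0 =>
    pInt_exact_of_height_zero hpM hB (mem_blockOf_self χ) hψB hmin
      (by rw [← hm, h0]; exact dvd_zero _)
  have hdvd : (p : ℤ) ^ degVal p χ ∣ m := pow_degVal_dvd_pInt' hpM χ ψ
  set R := Finset.univ.filter fun y : G => ¬ p ∣ orderOf y with hR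
  have hX : ((m : ℤ) : ℂ) * Nat.card G = ((p : ℂ) ^ (Nat.card G).factorization p) *
      ∑ y ∈ R, (χ : G → ℂ) y * conj ((ψ : G → ℂ) y) := by
    rw [hm, ← pInt_spec, pInner, inner_def, hR]
    push_cast
    rw [mul_assoc, mul_right_comm (Nat.card G : ℂ)⁻¹, inv_mul_cancel₀
      (Nat.cast_ne_zero.2 Nat.card_pos.ne'), one_mul, Finset.sum_filter]
    congr 1
    refine Finset.sum_congr rfl fun y _ => ?_
    rw [pRegularPart_apply]
    split_ifs <;> simp
  obtain ⟨s, hs, hsm⟩ : ∃ s : ℝ, (s = 1 ∨ s = -1) ∧ s * (m : ℝ) = |(m : ℝ)| := by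
    rcases le_total 0 (m : ℝ) with h | h
    · exact ⟨1, Or.inl rfl, by rw [one_mul, abs_of_nonneg h]⟩
    · exact ⟨-1, Or.inr rfl, by rw [neg_one_mul, abs_of_nonpos h]⟩
  have hre : (m : ℝ) * Nat.card G = (p : ℝ) ^ (Nat.card G).factorization p *
      ∑ y ∈ R, ((χ : G → ℂ) y * conj ((ψ : G → ℂ) y)).re := by
    have := congrArg Complex.re hX
    rw [show ((p : ℂ) ^ (Nat.card G).factorization p) =
      (((p : ℝ) ^ (Nat.card G).factorization p : ℝ) : ℂ) by push_cast; rfl,
      Complex.re_ofReal_mul, Complex.re_sum] at this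
    simpa using this
  have hexp : ∑ y ∈ R, ‖(ψ : G → ℂ) y - (s : ℂ) * (χ : G → ℂ) y‖ ^ 2 =
      (∑ y ∈ R, ‖(ψ : G → ℂ) y‖ ^ 2) + (∑ y ∈ R, ‖(χ : G → ℂ) y‖ ^ 2) -
        2 * (s * ∑ y ∈ R, ((χ : G → ℂ) y * conj ((ψ : G → ℂ) y)).re) := by
    rw [Finset.mul_sum, Finset.mul_sum, ← Finset.sum_add_distrib, ← Finset.sum_sub_distrib]
    refine Finset.sum_congr rfl fun y _ => ?_
    simp only [Complex.sq_norm, Complex.normSq_apply, Complex.sub_re, Complex.sub_im,
      Complex.mul_re, Complex.mul_im, Complex.ofReal_re, Complex.ofReal_im, Complex.conj_re,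
      Complex.conj_im]
    rcases hs with rfl | rfl <;> ring
  have hp0 : (0 : ℝ) < (p : ℝ) ^ degVal p χ := pow_pos (Nat.cast_pos.2 hp.pos) _
  have hpow : (p : ℝ) ^ (Nat.card G).factorization p = (p : ℝ) ^ degVal p χ * Nat.card D := by
    rw [hcardD, Nat.cast_pow, ← pow_add, hdeg, hidx]
  have hlow : (Nat.card G : ℝ) ≤
      Nat.card D * (s * ∑ y ∈ R, ((χ : G → ℂ) y * conj ((ψ : G → ℂ) y)).re) := by
    have h1 : (p : ℝ) ^ degVal p χ ≤ |(m : ℝ)| := by
      have h3 : (p : ℤ) ^ degVal p χ ≤ |m| :=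
        Int.le_of_dvd (abs_pos.2 hm0) ((dvd_abs _ _).2 hdvd)
      exact_mod_cast h3
    refine le_of_mul_le_mul_left ?_ hp0
    rw [← mul_assoc, ← hpow, mul_left_comm, ← hre, ← mul_assoc, hsm]
    exact mul_le_mul_of_nonneg_right h1 (Nat.cast_nonneg _)
  have hle1 := card_mul_sum_regular_le hD hDZ χ (p := p)
  have hle2 := card_mul_sum_regular_le hD hDZ ψ (p := p)
  have hzero : ∑ y ∈ R, ‖(ψ : G → ℂ) y - (s : ℂ) * (χ : G → ℂ) y‖ ^ 2 = 0 := by
    refine le_antisymm ?_ (Finset.sum_nonneg fun y _ => sq_nonneg _)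
    refine nonpos_of_mul_nonpos_right ?_ (Nat.cast_pos.2 (Nat.card_pos (α := D)))
    rw [hexp, mul_sub, mul_add, mul_left_comm _ (2 : ℝ)]
    linarith
  have heq : ∀ y ∈ R, (ψ : G → ℂ) y = (s : ℂ) * (χ : G → ℂ) y := fun y hy => by
    have := (Finset.sum_eq_zero_iff_of_nonneg fun y _ => sq_nonneg _).1 hzero y hy
    exact sub_eq_zero.1 (norm_eq_zero.1 (pow_eq_zero_iff two_ne_zero |>.1 this))
  have h1 := heq 1 (Finset.mem_filter.2 ⟨Finset.mem_univ _,
    by rw [orderOf_one]; exact hp.not_dvd_one⟩)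
  have hs1 : s = 1 := by
    rcases hs with h | h
    · exact h
    · exfalso
      rw [irr_apply_one, irr_apply_one, h] at h1
      push_cast at h1
      have h3 : ((charDegree (ψ : G → ℂ) + charDegree (χ : G → ℂ) : ℕ) : ℂ) = 0 := by
        push_cast; rw [h1]; ring
      have h4 := irr_charDegree_ne_zero χ
      have h5 : charDegree (ψ : G → ℂ) + charDegree (χ : G → ℂ) = 0 := by exact_mod_cast h3
      omega
  rw [heq y (Finset.mem_filter.2 ⟨Finset.mem_univ _, hy⟩), hs1]
  simp

end CfsgLib.Blocks
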