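import Cfsg.Agent.Lib.Blocks.StarNonzero

/-!
# The pairs of a nilpotent block on cyclic groups correspond to the classes of the defect group
-/

set_option linter.unusedSectionVars false
set_option linter.style.haveILetI false

namespace CfsgLib.Blocks

open Cfsg Chars BlockOrth

variable {G : Type*} [Group G] [Fintype G] {M : Ideal AlgInt} [M.IsPrime] {p : ℕ} [Fact p.Prime]

open scoped Classical in
/-- The pair below `c` on the cyclic group of an element. -/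
noncomputable def pairBelow (p : ℕ) (M : Ideal AlgInt) (c : BrauerPairIdx G) (u : G) :
    BrauerPairIdx G :=
  if h : ∃ b, Below p M ⟨Subgroup.zpowers u, b⟩ c then ⟨Subgroup.zpowers u, h.choose⟩
  else ⟨Subgroup.zpowers u, ∅⟩

theorem pairBelow_fst (c : BrauerPairIdx G) (u : G) : (pairBelow p M c u).1 = Subgroup.zpowers u := by
  rw [pairBelow]
  split_ifs <;> rfl

variable {c : BrauerPairIdx G}

theorem pairBelow_below (hpM : (p : AlgInt) ∈ M) (hc : IsBrauerPair p M c.1 c.2) {u : G}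
    (hu : u ∈ c.1) : Below p M (pairBelow p M c u) c := by
  have h : ∃ b, Below p M ⟨Subgroup.zpowers u, b⟩ c :=
    exists_below hpM hc _ (Subgroup.zpowers_le.2 hu)
  rw [pairBelow, dif_pos h]
  exact h.choose_spec

theorem eq_pairBelow (hpM : (p : AlgInt) ∈ M) (hc : IsBrauerPair p M c.1 c.2) {u : G}
    {a : BrauerPairIdx G} (ha : Below p M a c) (ha1 : a.1 = Subgroup.zpowers u) :
    a = pairBelow p M c u := by
  obtain ⟨Q, b⟩ := a
  change Q = _ at ha1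
  subst ha1
  have h : ∃ b, Below p M ⟨Subgroup.zpowers u, b⟩ c := ⟨b, ha⟩
  rw [pairBelow, dif_pos h, below_unique hpM hc ha h.choose_spec]

theorem pairBelow_mem (hpM : (p : AlgInt) ∈ M) (hc : IsBrauerPair p M c.1 c.2) {u : G}
    (hu : u ∈ c.1) : pairBelow p M c u ∈ pairsAt M u :=
  mem_pairsAt.2 ⟨pairBelow_fst c u, (below_isBrauerPair (pairBelow_below hpM hc hu) hc).2⟩

theorem pairBelow_congr {u u' : G} (h : Subgroup.zpowers u = Subgroup.zpowers u')
    (hpM : (p : AlgInt) ∈ M) (hc : IsBrauerPair p M c.1 c.2) (hu : u ∈ c.1) :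
    pairBelow p M c u = pairBelow p M c u' :=
  eq_pairBelow hpM hc (pairBelow_below hpM hc hu) ((pairBelow_fst c u).trans h)

theorem pairBelow_conj (hpM : (p : AlgInt) ∈ M) (hc : IsBrauerPair p M c.1 c.2) {u v : G}
    (hu : u ∈ c.1) (hv : v ∈ c.1) :
    conjPair v (pairBelow p M c u) = pairBelow p M c (v * u * v⁻¹) := by
  refine eq_pairBelow hpM hc ?_ ?_
  · have := below_conj (pairBelow_below hpM hc hu) v
    rwa [show conjPair v c = c from subgroup_le_stabPair hpM hc hv] at this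
  · show (pairBelow p M c u).1.map _ = _
    rw [pairBelow_fst, map_zpowers_conj]

variable {B : Set (IrrCharacter G)} {P : Subgroup G}
  {e : Set (IrrCharacter (Subgroup.centralizer (P : Set G)))}

/-- The `G`-classes of the pairs of a nilpotent block on cyclic groups are the classes of the
defect group. -/
theorem card_fibre_pairs (hpM : (p : AlgInt) ∈ M) (hmax : IsMaximalBrauerPair p M B P e)
    (hnil : IsNilpotentBlock p M B) [Fintype P] [DecidableEq G] [DecidableEq (BrauerPairIdx G)]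
    (g₀ : G) (u₀ : P) :
    (Finset.univ.filter fun q : G × P => q.1 * (q.2 : G) * q.1⁻¹ = g₀ * (u₀ : G) * g₀⁻¹ ∧
      conjPair q.1 (pairBelow p M ⟨P, e⟩ (q.2 : G)) =
        conjPair g₀ (pairBelow p M ⟨P, e⟩ (u₀ : G))).card *
      Nat.card (P ⊓ Subgroup.centralizer (Subgroup.zpowers (u₀ : G) : Set G) : Subgroup G) =
    Nat.card P * Nat.card (Subgroup.centralizer (Subgroup.zpowers (u₀ : G) : Set G)) := by
  classical
  have hc : IsBrauerPair p M (⟨P, e⟩ : BrauerPairIdx G).1 (⟨P, e⟩ : BrauerPairIdx G).2 := hmax.1.1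
  haveI := Fintype.ofFinite (Subgroup.centralizer (Subgroup.zpowers (u₀ : G) : Set G))
  haveI := Fintype.ofFinite
    (P ⊓ Subgroup.centralizer (Subgroup.zpowers (u₀ : G) : Set G) : Subgroup G)
  set C := Subgroup.centralizer (Subgroup.zpowers (u₀ : G) : Set G) with hC
  set a₀ := pairBelow p M ⟨P, e⟩ (u₀ : G) with ha₀
  have ha₀b : Below p M a₀ ⟨P, e⟩ := pairBelow_below hpM hc u₀.2
  have ha₀1 : a₀.1 = Subgroup.zpowers (u₀ : G) := pairBelow_fst _ _
  have hfixa : ∀ k ∈ C, conjPair k a₀ = a₀ := fun k hk =>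
    centralizer_le_stabPair (below_isBrauerPair ha₀b hc).2 (by rw [ha₀1]; exact hk)
  have hcom : ∀ k ∈ C, k * (u₀ : G) * k⁻¹ = u₀ := fun k hk => by
    rw [(mem_centralizer_zpowers_iff _ k).1 hk, mul_inv_cancel_right]
  let Ψ : P × C → G × P := fun w => (g₀ * (w.2 : G) * (w.1 : G), w.1⁻¹ * u₀ * w.1)
  set T := Finset.univ.filter fun q : G × P => q.1 * (q.2 : G) * q.1⁻¹ = g₀ * (u₀ : G) * g₀⁻¹ ∧
    conjPair q.1 (pairBelow p M ⟨P, e⟩ (q.2 : G)) = conjPair g₀ a₀ with hT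
  have hmaps : ∀ w ∈ (Finset.univ : Finset (P × C)), Ψ w ∈ T := by
    rintro ⟨v, k⟩ -
    refine Finset.mem_filter.2 ⟨Finset.mem_univ _, ?_, ?_⟩
    · show g₀ * (k : G) * (v : G) * ((v⁻¹ * u₀ * v : P) : G) * (g₀ * (k : G) * (v : G))⁻¹ = _
      conv_rhs => rw [← hcom k k.2]
      push_cast
      group
    · show conjPair (g₀ * (k : G) * (v : G)) _ = _
      rw [← conjPair_mul, pairBelow_conj hpM hc (v⁻¹ * u₀ * v : P).2 v.2, ← conjPair_mul]
      rw [show (v : G) * ((v⁻¹ * u₀ * v : P) : G) * (v : G)⁻¹ = u₀ by push_cast; group,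
        ← ha₀, hfixa k k.2]
  have hfib : ∀ q ∈ T, (Finset.univ.filter fun w : P × C => Ψ w = q).card =
      Nat.card (P ⊓ C : Subgroup G) := by
    intro q hq
    obtain ⟨-, hq1, hq2⟩ := Finset.mem_filter.1 hq
    obtain ⟨g, u⟩ := q
    simp only at hq1 hq2
    have hF := isBlockFusionSystemOn_blockFusion hpM hmax
    obtain ⟨b, hb⟩ : ∃ b, pairBelow p M ⟨P, e⟩ (u : G) = ⟨Subgroup.zpowers (u : G), b⟩ := by
      unfold pairBelow
      split_ifs <;> exact ⟨_, rfl⟩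
    have hub : Below p M ⟨Subgroup.zpowers (u : G), b⟩ ⟨P, e⟩ := hb ▸ pairBelow_below hpM hc u.2
    have hh : Below p M (conjPair (g₀⁻¹ * g) ⟨Subgroup.zpowers (u : G), b⟩) ⟨P, e⟩ := by
      rw [← conjPair_mul, ← hb, hq2, conjPair_mul, inv_mul_cancel, conjPair_one]
      exact ha₀b
    obtain ⟨v, hv, hact⟩ := act_eq_of_inner hF (inner_of_nilpotent hpM hF hnil)
      (Q := Subgroup.zpowers (u : G)) (g := g₀⁻¹ * g) ⟨b, hub, hh⟩
    have hv2 : (g₀⁻¹ * g) * (u : G) * (g₀⁻¹ * g)⁻¹ = u₀ := by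
      calc _ = g₀⁻¹ * (g * u * g⁻¹) * g₀ := by group
        _ = u₀ := by rw [hq1]; group
    have hvu : v * (u : G) * v⁻¹ = u₀ := by rw [← hact _ (Subgroup.mem_zpowers _), hv2]
    have hk : g₀⁻¹ * g * v⁻¹ ∈ C := by
      rw [hC, mem_centralizer_zpowers_iff, ← mul_inv_eq_iff_eq_mul]
      calc _ = (g₀⁻¹ * g) * (v⁻¹ * u₀ * v) * (g₀⁻¹ * g)⁻¹ := by group
        _ = (g₀⁻¹ * g) * (u : G) * (g₀⁻¹ * g)⁻¹ := by rw [← hvu]; group
        _ = _ := hv2
    rw [Nat.card_eq_fintype_card, ← Finset.card_univ]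
    symm
    refine Finset.card_bij (fun w _ => ((⟨(w : G), w.2.1⟩ * ⟨v, hv⟩ : P),
      (⟨g₀⁻¹ * g * v⁻¹, hk⟩ * (⟨(w : G), w.2.2⟩)⁻¹ : C))) (fun w _ => ?_) (fun w _ w' _ h => ?_)
      (fun w' hw' => ?_)
    · refine Finset.mem_filter.2 ⟨Finset.mem_univ _, Prod.ext ?_ (Subtype.ext ?_)⟩
      · show g₀ * (g₀⁻¹ * g * v⁻¹ * (w : G)⁻¹) * ((w : G) * v) = g
        group
      · show ((w : G) * v)⁻¹ * (u₀ : G) * ((w : G) * v) = u
        calc _ = v⁻¹ * ((w : G)⁻¹ * (u₀ : G) * ((w : G)⁻¹)⁻¹) * v := by group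
          _ = v⁻¹ * u₀ * v := by rw [hcom _ (inv_mem w.2.2)]
          _ = u := by rw [← hvu]; group
    · have := congrArg (fun z : P × C => ((z.1 : P) : G)) h
      exact Subtype.ext (mul_right_cancel (b := v) this)
    · obtain ⟨v', k'⟩ := w'
      have he := (Finset.mem_filter.1 hw').2
      have e1 : g₀ * (k' : G) * (v' : G) = g := congrArg Prod.fst he
      have hkk : (v' : G) * v⁻¹ = (k' : G)⁻¹ * (g₀⁻¹ * g * v⁻¹) := by rw [← e1]; group
      refine ⟨⟨(v' : G) * v⁻¹, P.mul_mem v'.2 (P.inv_mem hv),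
        hkk ▸ C.mul_mem (C.inv_mem k'.2) hk⟩, Finset.mem_univ _,
        Prod.ext (Subtype.ext ?_) (Subtype.ext ?_)⟩
      · show (v' : G) * v⁻¹ * v = v'
        group
      · show g₀⁻¹ * g * v⁻¹ * ((v' : G) * v⁻¹)⁻¹ = k'
        rw [← e1]; group
  have h := Finset.card_eq_sum_card_fiberwise hmaps
  rw [Finset.sum_congr rfl hfib, Finset.sum_const, smul_eq_mul, Finset.card_univ, Fintype.card_prod]
    at h
  rw [← h, Nat.card_eq_fintype_card, Nat.card_eq_fintype_card]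

open scoped Classical in
/-- A sum over the pairs of a nilpotent block on cyclic groups as a sum over the defect group. -/
theorem sum_pairs_eq (hpM : (p : AlgInt) ∈ M) (hmax : IsMaximalBrauerPair p M B P e)
    (hnil : IsNilpotentBlock p M B) [Fintype P] {F : G → BrauerPairIdx G → ℂ}
    (hinv : ∀ u ∈ P, ∀ g, F (g * u * g⁻¹) (conjPair g (pairBelow p M ⟨P, e⟩ u)) =
      F u (pairBelow p M ⟨P, e⟩ u))
    (hzero : ∀ x a, (¬ ∃ y : G, Below p M (conjPair y a) ⟨P, e⟩) → F x a = 0) :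
    ∑ x ∈ Finset.univ.filter (fun x : G => ∃ k : ℕ, x ^ p ^ k = 1), ∑ a ∈ pairsAt M x, F x a =
      (Nat.card G : ℂ) * (Nat.card P : ℂ)⁻¹ * ∑ u : P,
        (Nat.card (P ⊓ Subgroup.centralizer (Subgroup.zpowers (u : G) : Set G) : Subgroup G) : ℂ) /
          (Nat.card (Subgroup.centralizer (Subgroup.zpowers (u : G) : Set G)) : ℂ) *
            F (u : G) (pairBelow p M ⟨P, e⟩ (u : G)) := by
  have hc : IsBrauerPair p M (⟨P, e⟩ : BrauerPairIdx G).1 (⟨P, e⟩ : BrauerPairIdx G).2 := hmax.1.1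
  set S : Finset (G × BrauerPairIdx G) :=
    (Finset.univ : Finset (G × P)).image (fun q => (q.1 * (q.2 : G) * q.1⁻¹,
      conjPair q.1 (pairBelow p M ⟨P, e⟩ (q.2 : G)))) with hS
  set k : P → ℂ := fun u =>
    (Nat.card (P ⊓ Subgroup.centralizer (Subgroup.zpowers (u : G) : Set G) : Subgroup G) : ℂ) /
      (Nat.card (Subgroup.centralizer (Subgroup.zpowers (u : G) : Set G)) : ℂ) with hk
  have hsum : ∑ x ∈ Finset.univ.filter (fun x : G => ∃ k : ℕ, x ^ p ^ k = 1),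
      ∑ a ∈ pairsAt M x, F x a = ∑ s ∈ S, F s.1 s.2 := by
    rw [Finset.sum_sigma']
    refine Finset.sum_bij_ne_zero (fun s _ _ => (s.1, s.2)) (fun s hs hne => ?_)
      (fun s _ _ s' _ _ h => ?_) (fun s hs hne => ?_) fun _ _ _ => rfl
    · obtain ⟨x, a⟩ := s
      obtain ⟨-, ha⟩ := Finset.mem_sigma.1 hs
      have hy : ∃ y : G, Below p M (conjPair y a) ⟨P, e⟩ := by
        by_contra h
        exact hne (hzero x a h)
      obtain ⟨y, hy⟩ := hy
      have hu : y * x * y⁻¹ ∈ P := below_le hy ⟨x, by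
        show x ∈ a.1
        rw [(mem_pairsAt.1 ha).1]; exact Subgroup.mem_zpowers x, rfl⟩
      refine Finset.mem_image.2 ⟨(y⁻¹, ⟨_, hu⟩), Finset.mem_univ _, Prod.ext ?_ ?_⟩
      · show y⁻¹ * (y * x * y⁻¹) * y⁻¹⁻¹ = x
        group
      · show conjPair y⁻¹ (pairBelow p M ⟨P, e⟩ (y * x * y⁻¹)) = a
        rw [← eq_pairBelow hpM hc hy (by
          show a.1.map _ = _
          rw [(mem_pairsAt.1 ha).1, map_zpowers_conj]), conjPair_mul, inv_mul_cancel, conjPair_one]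
    · obtain ⟨x, a⟩ := s
      obtain ⟨x', a'⟩ := s'
      obtain ⟨rfl, rfl⟩ := Prod.mk.injEq .. ▸ h
      rfl
    · obtain ⟨⟨g, u⟩, -, rfl⟩ := Finset.mem_image.1 hs
      obtain ⟨i, hi⟩ := hc.1 u
      refine ⟨⟨g * (u : G) * g⁻¹, conjPair g (pairBelow p M ⟨P, e⟩ (u : G))⟩,
        Finset.mem_sigma.2 ⟨Finset.mem_filter.2 ⟨Finset.mem_univ _, i, ?_⟩, ?_⟩, hne, rfl⟩
      · rw [conj_pow, show ((u : G) ^ p ^ i) = 1 from congrArg Subtype.val hi, mul_one, mul_inv_cancel]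
      · refine mem_pairsAt.2 ⟨?_, isPBlock_conjBlock (mem_pairsAt.1 (pairBelow_mem hpM hc u.2)).2 _⟩
        show (pairBelow p M ⟨P, e⟩ (u : G)).1.map _ = _
        rw [pairBelow_fst, map_zpowers_conj]
  have hdom : ∑ q : G × P, k q.2 * F (q.2 : G) (pairBelow p M ⟨P, e⟩ (q.2 : G)) =
      (Nat.card P : ℂ) * ∑ s ∈ S, F s.1 s.2 := by
    rw [← Finset.sum_fiberwise_of_maps_to (g := fun q : G × P => (q.1 * (q.2 : G) * q.1⁻¹,
      conjPair q.1 (pairBelow p M ⟨P, e⟩ (q.2 : G)))) (t := S)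
      fun q _ => Finset.mem_image_of_mem _ (Finset.mem_univ q), Finset.mul_sum]
    refine Finset.sum_congr rfl fun s hs => ?_
    obtain ⟨⟨g₀, u₀⟩, -, rfl⟩ := Finset.mem_image.1 hs
    simp only [Prod.mk.injEq]
    have hF : F (g₀ * (u₀ : G) * g₀⁻¹) (conjPair g₀ (pairBelow p M ⟨P, e⟩ (u₀ : G))) =
        F (u₀ : G) (pairBelow p M ⟨P, e⟩ (u₀ : G)) := hinv _ u₀.2 _
    set T := Finset.univ.filter fun q : G × P => q.1 * (q.2 : G) * q.1⁻¹ = g₀ * (u₀ : G) * g₀⁻¹ ∧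
      conjPair q.1 (pairBelow p M ⟨P, e⟩ (q.2 : G)) =
        conjPair g₀ (pairBelow p M ⟨P, e⟩ (u₀ : G)) with hT
    have hconst : ∀ q ∈ T, k q.2 * F (q.2 : G) (pairBelow p M ⟨P, e⟩ (q.2 : G)) =
        (Nat.card P : ℂ) / (T.card : ℂ) * F (g₀ * (u₀ : G) * g₀⁻¹)
          (conjPair g₀ (pairBelow p M ⟨P, e⟩ (u₀ : G))) := by
      intro q hq
      obtain ⟨-, h1, h2⟩ := Finset.mem_filter.1 hq
      have hfib := card_fibre_pairs (e := e) hpM hmax hnil q.1 q.2
      rw [h1, h2] at hfib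
      rw [← hinv _ q.2.2 q.1, h1, h2, hk]
      congr 1
      rw [div_eq_div_iff (Nat.cast_ne_zero.2 Nat.card_pos.ne')
        (Nat.cast_ne_zero.2 (Finset.card_pos.2 ⟨q, hq⟩).ne'), ← Nat.cast_mul, ← Nat.cast_mul,
        mul_comm _ T.card, hfib]
    rw [Finset.sum_congr rfl hconst, Finset.sum_const, nsmul_eq_mul, ← mul_assoc]
    congr 1
    rw [mul_div_cancel₀ _ (Nat.cast_ne_zero.2 (Finset.card_pos.2
      ⟨(g₀, u₀), Finset.mem_filter.2 ⟨Finset.mem_univ _, rfl, rfl⟩⟩).ne')]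
  rw [Fintype.sum_prod_type] at hdom
  simp only [hk, Finset.sum_const, Finset.card_univ, nsmul_eq_mul] at hdom
  rw [← Nat.card_eq_fintype_card (α := G)] at hdom
  rw [hsum]
  rw [mul_comm (Nat.card G : ℂ), mul_assoc, hdom, ← mul_assoc,
    inv_mul_cancel₀ (Nat.cast_ne_zero.2 Nat.card_pos.ne'), one_mul]

end CfsgLib.Blocks
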