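import Cfsg.Agent.Lib.Blocks.NormalBlocks
import Cfsg.Agent.Lib.Blocks.QuotientP
import Cfsg.Agent.Lib.Blocks.MinMax
import Cfsg.Agent.Lib.Coprime.Hall

/-!
# Defect groups of blocks of quotients
-/

set_option linter.unusedSectionVars false
set_option linter.style.haveILetI false

namespace CfsgLib.Blocks

open Cfsg Chars BlockOrth

variable {G : Type*} [Group G] [Fintype G] (N : Subgroup G) [N.Normal] [Fintype (G ⧸ N)]
  {M : Ideal AlgInt} [M.IsPrime] {p : ℕ} [Fact p.Prime]

/-- The inflation of a character of a quotient. -/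
def inflIrr (ψ : IrrCharacter (G ⧸ N)) : IrrCharacter G :=
  ⟨(ψ : G ⧸ N → ℂ) ∘ QuotientGroup.mk, isIrrCharacter_inflate N ψ.2⟩

/-- The index by which a class size drops in the quotient. -/
noncomputable def classDrop (g : G) : ℕ :=
  (Subgroup.centralizer ({g} : Set G)).relIndex
    ((Subgroup.centralizer ({(g : G ⧸ N)} : Set (G ⧸ N))).comap (QuotientGroup.mk' N))

theorem centralizer_le_comap (g : G) : Subgroup.centralizer ({g} : Set G) ≤
    (Subgroup.centralizer ({(g : G ⧸ N)} : Set (G ⧸ N))).comap (QuotientGroup.mk' N) := fun x hx => by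
  rw [Subgroup.mem_comap, Subgroup.mem_centralizer_singleton_iff]
  show (x : G ⧸ N) * (g : G ⧸ N) = (g : G ⧸ N) * (x : G ⧸ N)
  rw [← QuotientGroup.mk_mul, ← QuotientGroup.mk_mul, Subgroup.mem_centralizer_singleton_iff.1 hx]

theorem centralChar_inflIrr (ψ : IrrCharacter (G ⧸ N)) (g : G) :
    centralChar (inflIrr N ψ : G → ℂ) g =
      (classDrop N g : ℂ) * centralChar (ψ : G ⧸ N → ℂ) (g : G ⧸ N) := by
  have h := Subgroup.relIndex_mul_index (centralizer_le_comap N g)
  rw [Subgroup.index_comap_of_surjective _ (QuotientGroup.mk'_surjective N)] at h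
  simp only [centralChar, inflIrr, Function.comp_apply, QuotientGroup.mk_one]
  rw [← h, classDrop, Nat.cast_mul]
  ring

theorem not_dvd_classDrop (hpM : (p : AlgInt) ∈ M) {ψ : IrrCharacter (G ⧸ N)} {g : G}
    (hg : ¬ MemLocalIdeal M (centralChar (inflIrr N ψ : G → ℂ) g)) :
    ¬ p ∣ classDrop N g ∧ ¬ MemLocalIdeal M (centralChar (ψ : G ⧸ N → ℂ) (g : G ⧸ N)) := by
  rw [centralChar_inflIrr] at hg
  have hl : centralChar (ψ : G ⧸ N → ℂ) (g : G ⧸ N) ∈ loc M := centralChar_mem_loc ψ _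
  refine ⟨fun hd => hg ?_, fun h => hg (MemLocalIdeal.mul_left' (natCast_mem_loc _) h)⟩
  exact MemLocalIdeal.mul_right' ((memLocalIdeal_natCast_iff Fact.out hpM _).2 hd) hl

/-- The image of a Sylow subgroup of a centralizer is a Sylow subgroup of the centralizer of the
image when the class drops by a `p'`-index. -/
theorem exists_sylow_eq_map {g : G} (hd : ¬ p ∣ classDrop N g)
    (S : Sylow p (Subgroup.centralizer ({g} : Set G))) :
    ∃ T : Sylow p (Subgroup.centralizer ({(g : G ⧸ N)} : Set (G ⧸ N))),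
      (T : Subgroup (Subgroup.centralizer ({(g : G ⧸ N)} : Set (G ⧸ N)))).map
          (Subgroup.centralizer ({(g : G ⧸ N)} : Set (G ⧸ N))).subtype =
        ((S : Subgroup (Subgroup.centralizer ({g} : Set G))).map
          (Subgroup.centralizer ({g} : Set G)).subtype).map (QuotientGroup.mk' N) := by
  have hgen : ∀ (C : Subgroup G) (Cb : Subgroup (G ⧸ N)), C ≤ Cb.comap (QuotientGroup.mk' N) →
      ¬ p ∣ C.relIndex (Cb.comap (QuotientGroup.mk' N)) → ∀ S : Sylow p C,
      ∃ T : Sylow p Cb, (T : Subgroup Cb).map Cb.subtype =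
        ((S : Subgroup C).map C.subtype).map (QuotientGroup.mk' N) := by
    intro C Cb hC hCd S
    have hle : ((S : Subgroup C).map C.subtype).map (QuotientGroup.mk' N) ≤ Cb := by
      rintro _ ⟨x, hx, rfl⟩
      exact hC (Subgroup.map_subtype_le _ hx)
    have hp' : IsPGroup p ((((S : Subgroup C).map C.subtype).map (QuotientGroup.mk' N)).subgroupOf Cb) :=
      ((isPGroup_sylow_map C S).map _).comap_subtype
    have hidx : ¬ p ∣
        ((((S : Subgroup C).map C.subtype).map (QuotientGroup.mk' N)).subgroupOf Cb).index := by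
      intro h
      have h1 := CfsgLib.Coprime.relIndex_map_dvd (QuotientGroup.mk' N) ((S : Subgroup C).map C.subtype)
        (Cb.comap (QuotientGroup.mk' N))
      rw [Subgroup.map_comap_eq_self_of_surjective (QuotientGroup.mk'_surjective N)] at h1
      have h2 := h.trans h1
      rw [← Subgroup.relIndex_mul_relIndex _ C (Cb.comap (QuotientGroup.mk' N))
        (Subgroup.map_subtype_le _) hC, (Fact.out : p.Prime).dvd_mul] at h2
      rcases h2 with h2 | h2
      · apply S.not_dvd_index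
        have e : ((S : Subgroup C).map C.subtype).subgroupOf C = (S : Subgroup C) :=
          Subgroup.comap_map_eq_self_of_injective C.subtype_injective _
        rwa [Subgroup.relIndex, e] at h2
      · exact hCd h2
    exact ⟨hp'.toSylow hidx, Subgroup.map_subgroupOf_eq_of_le hle⟩
  exact hgen _ _ (centralizer_le_comap N g) hd S

/-- The defect groups of a block of a quotient lie in the images of defect groups of the block
containing it. -/
theorem exists_defectGroup_map_ge (hpM : (p : AlgInt) ∈ M) {Bbar : Set (IrrCharacter (G ⧸ N))}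
    (hBbar : IsPBlock M Bbar) {B : Set (IrrCharacter G)} (hB : IsPBlock M B)
    (hsub : ∀ χ ∈ Bbar, inflIrr N χ ∈ B) {Dbar : Subgroup (G ⧸ N)}
    (hD : IsDefectGroup p M Bbar Dbar) :
    ∃ P : Subgroup G, IsDefectGroup p M B P ∧ Dbar ≤ P.map (QuotientGroup.mk' N) := by
  obtain ⟨h, hh, T, rfl⟩ := hD
  obtain ⟨g, hg⟩ := exists_isDefectClass hB
  obtain ⟨ψ, hψ⟩ := IsPBlock.nonempty hBbar
  obtain ⟨hd, hu⟩ := not_dvd_classDrop N hpM (hg.2.2 _ (hsub ψ hψ))
  obtain ⟨S⟩ : Nonempty (Sylow p (Subgroup.centralizer ({g} : Set G))) := inferInstance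
  obtain ⟨T', hT'⟩ := exists_sylow_eq_map N hd S
  obtain ⟨x, hx⟩ := exists_conj_sylow_le hpM hBbar hh.2.1 hψ hu T T'
  rw [hT'] at hx
  obtain ⟨y, rfl⟩ := QuotientGroup.mk_surjective x
  set P := (S : Subgroup (Subgroup.centralizer ({g} : Set G))).map
    (Subgroup.centralizer ({g} : Set G)).subtype
  refine ⟨P.map (MulAut.conj y⁻¹).toMonoidHom, IsDefectGroup.map_conj ⟨g, hg, S, rfl⟩ y⁻¹ hB, ?_⟩
  intro z hz
  obtain ⟨q, hq, hqe⟩ := hx ⟨z, hz, rfl⟩
  refine ⟨y⁻¹ * q * y, ⟨q, hq, by simp⟩, ?_⟩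
  have e : (q : G ⧸ N) = (y : G ⧸ N) * z * (y : G ⧸ N)⁻¹ := hqe
  show ((y⁻¹ * q * y : G) : G ⧸ N) = z
  rw [QuotientGroup.mk_mul, QuotientGroup.mk_mul, QuotientGroup.mk_inv, e]
  group

open scoped Classical in
/-- Push a function forward to the quotient by summing over cosets. -/
noncomputable def pushSum (a : G → ℂ) (q : G ⧸ N) : ℂ :=
  ∑ x ∈ Finset.univ.filter (fun x : G => (x : G ⧸ N) = q), a x

theorem omega_pushSum (a : G → ℂ) (ψ : IrrCharacter (G ⧸ N)) :
    omega (ψ : G ⧸ N → ℂ) (pushSum N a) = omega (inflIrr N ψ : G → ℂ) a := by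
  classical
  simp only [omega, inflIrr, Function.comp_apply, QuotientGroup.mk_one, pushSum, Finset.sum_mul]
  congr 1
  rw [← Finset.sum_fiberwise Finset.univ (fun x : G => (x : G ⧸ N))
    (fun x => a x * (ψ : G ⧸ N → ℂ) (x : G ⧸ N))]
  refine Finset.sum_congr rfl fun q _ => ?_
  exact Finset.sum_congr rfl fun x hx => by rw [(Finset.mem_filter.1 hx).2]

theorem isClassFunction_pushSum {a : G → ℂ} (ha : IsClassFunction G a) :
    IsClassFunction (G ⧸ N) (pushSum N a) := by
  classical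
  intro q r
  obtain ⟨h, rfl⟩ := QuotientGroup.mk_surjective r
  simp only [pushSum]
  refine (Finset.sum_bij' (fun x _ => h * x * h⁻¹) (fun x _ => h⁻¹ * x * h) ?_ ?_ ?_ ?_ ?_).symm
  · intro x hx
    refine Finset.mem_filter.2 ⟨Finset.mem_univ _, ?_⟩
    rw [QuotientGroup.mk_mul, QuotientGroup.mk_mul, QuotientGroup.mk_inv, (Finset.mem_filter.1 hx).2]
  · intro x hx
    refine Finset.mem_filter.2 ⟨Finset.mem_univ _, ?_⟩
    rw [QuotientGroup.mk_mul, QuotientGroup.mk_mul, QuotientGroup.mk_inv, (Finset.mem_filter.1 hx).2]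
    group
  · intro x _; group
  · intro x _; group
  · intro x _; exact (ha x h).symm

/-- A saturated set has idempotent coefficient in the maximal ideal if all of its blocks do. -/
theorem blockCoeff_mem_of_blocks {H : Type*} [Group H] [Fintype H] {T : Set (IrrCharacter H)}
    (hsat : ∀ ψ ψ' : IrrCharacter H, SameBlock M (ψ : H → ℂ) (ψ' : H → ℂ) → ψ ∈ T → ψ' ∈ T) (x : H)
    (h : ∀ ψ ∈ T, MemLocalIdeal M (blockCoeff (blockOf M (ψ : H → ℂ)) x)) :
    MemLocalIdeal M (blockCoeff T x) := by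
  classical
  haveI := irrFintype H
  set t : IrrCharacter H → ℂ := fun φ =>
    (φ : H → ℂ) 1 * (starRingEnd ℂ) ((φ : H → ℂ) x) / (Nat.card H : ℂ) with ht
  have hsum : ∀ S : Set (IrrCharacter H),
      blockCoeff S x = ∑ φ ∈ Finset.univ.filter (· ∈ S), t φ := by
    intro S
    rw [blockCoeff, finsum_mem_eq_sum_of_inter_support_eq (t := Finset.univ.filter (· ∈ S)) _
      (by ext; simp), Finset.mul_sum]
    exact Finset.sum_congr rfl fun φ _ => by simp only [ht]; ring
  rw [hsum, ← Finset.sum_fiberwise_of_maps_to (g := fun ψ : IrrCharacter H => blockOf M (ψ : H → ℂ))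
    (t := (Finset.univ.filter (· ∈ T)).image fun ψ : IrrCharacter H => blockOf M (ψ : H → ℂ))
    (fun ψ hψ => Finset.mem_image_of_mem _ hψ)]
  refine MemLocalIdeal.sum' fun c hc => ?_
  obtain ⟨ψ, hψ, rfl⟩ := Finset.mem_image.1 hc
  have h' := h ψ (Finset.mem_filter.1 hψ).2
  rw [hsum] at h'
  convert h' using 2
  ext φ
  simp only [Finset.mem_filter, Finset.mem_univ, true_and]
  refine ⟨fun hh => hh.2 ▸ mem_blockOf_self φ,
    fun hφ => ⟨hsat ψ φ hφ (Finset.mem_filter.1 hψ).2, ?_⟩⟩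
  exact (IsPBlock.eq_blockOf (isPBlock_blockOf ψ) hφ).symm

/-- Over a normal `p`-subgroup every block contains a block of the quotient with the image defect
group. -/
theorem exists_quotient_block (hpM : (p : AlgInt) ∈ M) (hN : IsPGroup p N)
    {B : Set (IrrCharacter G)} (hB : IsPBlock M B) :
    ∃ Bbar : Set (IrrCharacter (G ⧸ N)), IsPBlock M Bbar ∧ (∀ χ ∈ Bbar, inflIrr N χ ∈ B) ∧
      ∀ Dbar : Subgroup (G ⧸ N), IsDefectGroup p M Bbar Dbar ↔
        ∃ P : Subgroup G, IsDefectGroup p M B P ∧ Dbar = P.map (QuotientGroup.mk' N) := by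
  classical
  haveI := irrFintype (G ⧸ N)
  obtain ⟨g, hg⟩ := exists_isDefectClass hB
  obtain ⟨S⟩ : Nonempty (Sylow p (Subgroup.centralizer ({g} : Set G))) := inferInstance
  set D := (S : Subgroup (Subgroup.centralizer ({g} : Set G))).map
    (Subgroup.centralizer ({g} : Set G)).subtype with hD
  have hDG : IsDefectGroup p M B D := ⟨g, hg, S, rfl⟩
  have hND : N ≤ D := IsDefectGroup.normal_le hpM hB hDG hN
  have hgr := IsDefectClass.regular hpM hB hg
  set a := pushSum N (blockCoeff B) with ha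
  have hacl : IsClassFunction (G ⧸ N) a := isClassFunction_pushSum N (isClassFunction_blockCoeff B)
  have haloc : IsLocClassFun M a :=
    ⟨hacl, fun q => sum_mem fun x _ => blockCoeff_mem_loc hB x⟩
  set T : Set (IrrCharacter (G ⧸ N)) := {ψ | inflIrr N ψ ∈ B} with hT
  have haT : ∀ ψ : IrrCharacter (G ⧸ N), omega (ψ : G ⧸ N → ℂ) a = if ψ ∈ T then 1 else 0 := by
    intro ψ
    rw [ha, omega_pushSum, omega_blockCoeff]
    rfl
  have hsat : ∀ ψ ψ' : IrrCharacter (G ⧸ N),
      SameBlock M (ψ : G ⧸ N → ℂ) (ψ' : G ⧸ N → ℂ) → ψ ∈ T → ψ' ∈ T := by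
    intro ψ ψ' h hψ
    have h1 := omega_sub_mem h haloc
    rw [haT, haT, if_pos hψ] at h1
    by_contra hne
    rw [if_neg hne, sub_zero] at h1
    exact not_memLocalIdeal_one h1
  have hga : a (g : G ⧸ N) = blockCoeff B g := by
    rw [ha, pushSum, Finset.sum_eq_single g]
    · intro x hx hne
      refine blockCoeff_eq_zero_of_dvd Fact.out hpM hB ?_
      by_contra hxr
      apply hne
      have h1 : g⁻¹ * x ∈ N := QuotientGroup.eq.1 (Finset.mem_filter.1 hx).2.symm
      obtain ⟨i, hi⟩ := IsPGroup.iff_orderOf.1 hN ⟨_, h1⟩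
      have hcomm : Commute (g⁻¹ * x) g := by
        have h2 : g⁻¹ * x ∈ Subgroup.centralizer ({g} : Set G) := Subgroup.map_subtype_le _ (hND h1)
        exact Subgroup.mem_centralizer_singleton_iff.1 h2
      have e1 : IsPPrimePart p x g :=
        ⟨g⁻¹ * x, by rw [hcomm.eq, mul_inv_cancel_left], hcomm,
          ⟨i, by rw [← hi, ← Subgroup.orderOf_coe]⟩, hgr⟩
      have e2 : IsPPrimePart p x x :=
        ⟨1, one_mul x, Commute.one_left x, ⟨0, by rw [orderOf_one, pow_zero]⟩, hxr⟩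
      exact (IsPPrimePart.unique e1 e2).symm
    · exact fun h => absurd (Finset.mem_filter.2
        ⟨Finset.mem_univ g, (rfl : (g : G ⧸ N) = (g : G ⧸ N))⟩) h
  obtain ⟨ψ, hψT, hunit⟩ : ∃ ψ ∈ T, ¬ MemLocalIdeal M
      (blockCoeff (blockOf M (ψ : G ⧸ N → ℂ)) (g : G ⧸ N)) := by
    by_contra hcon
    push Not at hcon
    apply hg.2.1
    rw [← hga, eq_blockCoeff hacl haT]
    exact blockCoeff_mem_of_blocks (fun ψ ψ' h hψ => hsat ψ ψ' h hψ) (g : G ⧸ N) hcon
  set Bb := blockOf M (ψ : G ⧸ N → ℂ)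
  have hBb : IsPBlock M Bb := isPBlock_blockOf ψ
  have hsub : ∀ χ ∈ Bb, inflIrr N χ ∈ B := fun χ hχ => hsat ψ χ hχ hψT
  obtain ⟨hd, -⟩ := not_dvd_classDrop N hpM (hg.2.2 _ (hsub ψ (mem_blockOf_self ψ)))
  obtain ⟨T', hT'⟩ := exists_sylow_eq_map N hd S
  have hclass : IsDefectClass M Bb (g : G ⧸ N) :=
    ⟨blockCoeff_mem_loc hBb _, hunit, fun χ hχ =>
      (not_dvd_classDrop N hpM (hg.2.2 _ (hsub χ hχ))).2⟩
  have hDb : IsDefectGroup p M Bb (D.map (QuotientGroup.mk' N)) := ⟨_, hclass, T', hT'.symm⟩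
  have hmapc : ∀ (P : Subgroup G) (y : G), (P.map (MulAut.conj y).toMonoidHom).map (QuotientGroup.mk' N) =
      (P.map (QuotientGroup.mk' N)).map (MulAut.conj (y : G ⧸ N)).toMonoidHom := by
    intro P y
    rw [Subgroup.map_map, Subgroup.map_map]
    congr 1
  refine ⟨Bb, hBb, hsub, fun Dbar => ⟨fun hDbar => ?_, ?_⟩⟩
  · obtain ⟨x, hx⟩ := IsDefectGroup.exists_conj_eq hpM hBb hDb hDbar
    obtain ⟨y, rfl⟩ := QuotientGroup.mk_surjective x
    exact ⟨D.map (MulAut.conj y).toMonoidHom, IsDefectGroup.map_conj hDG y hB, by rw [hmapc, hx]⟩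
  · rintro ⟨P, hP, rfl⟩
    obtain ⟨y, rfl⟩ := IsDefectGroup.exists_conj_eq hpM hB hDG hP
    rw [hmapc]
    exact IsDefectGroup.map_conj hDb _ hBb

end CfsgLib.Blocks
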