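import Cfsg.Agent.Lib.Blocks.RelPairs
import Cfsg.Agent.Lib.Blocks.FongDefect

/-!
# Inertial quotients of blocks with abelian defect groups
-/

set_option linter.unusedSectionVars false
set_option linter.style.haveILetI false

namespace CfsgLib.Blocks

open Cfsg Chars

variable {G : Type*} [Group G] [Fintype G] {M : Ideal AlgInt} [M.IsPrime] {p : ℕ} [Fact p.Prime]
  {B : Set (IrrCharacter G)} {P : Subgroup G}
  {e : Set (IrrCharacter (Subgroup.centralizer (P : Set G)))}

theorem centralizer_le_normalizer' (P : Subgroup G) :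
    Subgroup.centralizer (P : Set G) ≤ Subgroup.normalizer (P : Set G) := fun c hc => by
  rw [Subgroup.mem_normalizer_iff]
  intro g
  constructor
  · intro hg
    rwa [← Subgroup.mem_centralizer_iff.1 hc g hg, mul_inv_cancel_right]
  · intro hg
    have h2 := Subgroup.mem_centralizer_iff.1 (inv_mem hc) _ hg
    have h3 : g = c * g * c⁻¹ := by
      calc g = c⁻¹ * (c * g * c⁻¹) * c := by group
        _ = _ := by rw [← h2]; group
    rwa [h3]

theorem le_centralizer_of_abelian {P Q : Subgroup G} (hQ : Q ≤ P)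
    (hab : ∀ x ∈ P, ∀ y ∈ P, x * y = y * x) : P ≤ Subgroup.centralizer (Q : Set G) :=
  fun x hx => Subgroup.mem_centralizer_iff.2 fun y hy => hab y (hQ hy) x hx

/-- Two maximal pairs over the same pair are conjugate by its centralizer. -/
theorem exists_centralizer_conj_of_below (hpM : (p : AlgInt) ∈ M)
    (hmax : IsMaximalBrauerPair p M B P e)
    (hab : ∀ x ∈ P, ∀ y ∈ P, x * y = y * x) {Q : Subgroup G}
    {f : Set (IrrCharacter (Subgroup.centralizer (Q : Set G)))}
    (hle : Relation.ReflTransGen (NormalSubpairRel p M) (⟨Q, f⟩ : BrauerPairIdx G) ⟨P, e⟩)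
    {x : G} (hle' : Relation.ReflTransGen (NormalSubpairRel p M) (⟨Q, f⟩ : BrauerPairIdx G)
      (conjPair x ⟨P, e⟩)) :
    ∃ c ∈ Subgroup.centralizer (Q : Set G), c * x ∈ stabPair ⟨P, e⟩ := by
  haveI := Fintype.ofFinite (Subgroup.centralizer (Q : Set G))
  have hQP : Q ≤ P := below_le hle
  have hQf := below_isBrauerPair hle hmax.1.1
  have hPC : P ≤ (Subgroup.centralizer (Q : Set G)) := le_centralizer_of_abelian hQP hab
  have hCP : Subgroup.centralizer (P : Set G) ≤ (Subgroup.centralizer (Q : Set G)) := centralizer_antitone hQP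
  have hpair' : IsBrauerPairOf p M B (conjPair x ⟨P, e⟩).1 (conjPair x ⟨P, e⟩).2 :=
    isBrauerPairOf_conj (a := ⟨P, e⟩) hmax.1 x
  have hQP' : Q ≤ P.map (MulAut.conj x).toMonoidHom := below_le hle'
  have hab' : ∀ u ∈ P.map (MulAut.conj x).toMonoidHom, ∀ v ∈ P.map (MulAut.conj x).toMonoidHom,
      u * v = v * u := by
    rintro _ ⟨u, hu, rfl⟩ _ ⟨v, hv, rfl⟩
    rw [← map_mul, ← map_mul, hab u hu v hv]
  have hPC' : P.map (MulAut.conj x).toMonoidHom ≤ (Subgroup.centralizer (Q : Set G)) := le_centralizer_of_abelian hQP' hab'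
  have hCP' : Subgroup.centralizer
      ((P.map (MulAut.conj x).toMonoidHom : Subgroup G) : Set G) ≤ (Subgroup.centralizer (Q : Set G)) :=
    centralizer_antitone hQP'
  -- the defect of `f`
  have hsub : (Subgroup.centralizer (Q : Set G)) ≤ stabPair ⟨Q, f⟩ := centralizer_le_stabPair hQf.2
  obtain ⟨y, -, hy⟩ := exists_conj_defect (b := ⟨P, e⟩) hpM hmax hle le_rfl hsub hQf.2 rfl
  have hd : p ^ blockDefect p f ≤ Nat.card P := by
    haveI := Fintype.ofFinite
      (Subgroup.centralizer ((Q.map (MulAut.conj y).toMonoidHom : Subgroup G) : Set G))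
    have h1 := hy _ (centralizer_conj_iff Q y) _ (isPBlock_conjBlock hQf.2 y) rfl
    have h2 := BlockOrth.card_defectGroup hpM (isPBlock_conjBlock hQf.2 y) h1
    rw [Base.card_subgroupOf inf_le_right, conjBlock_eq, blockDefect_conjImage] at h2
    rw [← h2]
    exact Subgroup.card_le_of_le inf_le_left
  have hdef : ∀ (b : BrauerPairIdx G), IsBrauerPair p M b.1 b.2 →
      Relation.ReflTransGen (NormalSubpairRel p M) ⟨Q, f⟩ b → ∀ hbC : b.1 ≤ (Subgroup.centralizer (Q : Set G)),
        Nat.card P ≤ Nat.card b.1 → IsDefectGroup p M f (b.1.subgroupOf (Subgroup.centralizer (Q : Set G))) := by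
    intro b hb hbl hbC hcard
    obtain ⟨D, hD, hle₁⟩ := exists_defect_ge hpM hb hbl le_rfl hsub hQf.2 rfl (S := b.1) le_rfl hbC
    rwa [Subgroup.eq_of_le_of_card_ge hle₁ (by
      rw [BlockOrth.card_defectGroup hpM hQf.2 hD, Base.card_subgroupOf hbC]
      exact hd.trans hcard)]
  have hd1 := hdef ⟨P, e⟩ hmax.1.1 hle hPC le_rfl
  have hd2 := hdef _ hpair'.1 hle' hPC' (Base.card_map_conj x P).symm.le
  -- both pairs are pairs of `f` in `(Subgroup.centralizer (Q : Set G))`
  have hp1 : IsBrauerPairOf p M f (P.subgroupOf (Subgroup.centralizer (Q : Set G))) (relBlock hPC hCP e) :=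
    (isBrauerPairOf_rel_iff hpM hPC hCP hmax.1.1.1 hmax.1.1.2 hQf.2).2
      (IsNormalSubpair.mul_cut hpM (isNormalSubpair_of_below (b := ⟨P, e⟩) hpM hmax.1.1 hle
        Relation.ReflTransGen.refl hQP (hPC.trans (centralizer_le_normalizer' Q))))
  have hp2 : IsBrauerPairOf p M f ((P.map (MulAut.conj x).toMonoidHom).subgroupOf (Subgroup.centralizer (Q : Set G)))
      (relBlock hPC' hCP' (conjBlock P x e)) :=
    (isBrauerPairOf_rel_iff hpM hPC' hCP' hpair'.1.1 hpair'.1.2 hQf.2).2
      (IsNormalSubpair.mul_cut hpM (isNormalSubpair_of_below (b := conjPair x ⟨P, e⟩) hpM hpair'.1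
        hle' Relation.ReflTransGen.refl hQP' (hPC'.trans (centralizer_le_normalizer' Q))))
  obtain ⟨c, hc⟩ := exists_conj_maximal (G := (Subgroup.centralizer (Q : Set G))) hpM (a := ⟨_, relBlock hPC hCP e⟩)
    (c := ⟨_, relBlock hPC' hCP' (conjBlock P x e)⟩) (isMaximal_of_defectGroup hpM hd1 hp1)
    (isMaximal_of_defectGroup hpM hd2 hp2)
  refine ⟨(c : G), c.2, ?_⟩
  have h1 := (conjPair_rel_iff hPC' hCP' hPC hCP (conjBlock P x e) e c).1 hc
  show conjPair ((c : G) * x) ⟨P, e⟩ = ⟨P, e⟩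
  rw [← conjPair_mul]
  exact h1

/-- An element fixing a pair below a maximal pair lies in `C(Q) · stab`. -/
theorem exists_centralizer_conj (hpM : (p : AlgInt) ∈ M) (hmax : IsMaximalBrauerPair p M B P e)
    (hab : ∀ x ∈ P, ∀ y ∈ P, x * y = y * x) {Q : Subgroup G}
    {f : Set (IrrCharacter (Subgroup.centralizer (Q : Set G)))}
    (hle : Relation.ReflTransGen (NormalSubpairRel p M) (⟨Q, f⟩ : BrauerPairIdx G) ⟨P, e⟩)
    {x : G} (hx : x ∈ stabPair ⟨Q, f⟩) :
    ∃ c ∈ Subgroup.centralizer (Q : Set G), c * x ∈ stabPair ⟨P, e⟩ :=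
  exists_centralizer_conj_of_below hpM hmax hab hle (by
    have h1 := below_conj hle x
    rwa [show conjPair x ⟨Q, f⟩ = ⟨Q, f⟩ from hx] at h1)

/-- The stabilizer of a maximal pair meets `N(Q)` in the stabilizer of the pair below. -/
theorem inf_normalizer_le_stabPair (hpM : (p : AlgInt) ∈ M) (hPe : IsBrauerPair p M P e)
    {Q : Subgroup G} {f : Set (IrrCharacter (Subgroup.centralizer (Q : Set G)))}
    (hle : Relation.ReflTransGen (NormalSubpairRel p M) (⟨Q, f⟩ : BrauerPairIdx G) ⟨P, e⟩) :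
    stabPair ⟨P, e⟩ ⊓ Subgroup.normalizer (Q : Set G) ≤ stabPair ⟨Q, f⟩ := by
  intro y hy
  have hQf := below_isBrauerPair hle hPe
  have h1 := below_conj hle y
  rw [show conjPair y ⟨P, e⟩ = ⟨P, e⟩ from hy.1] at h1
  show conjPair y ⟨Q, f⟩ = ⟨Q, f⟩
  have hQeq : (conjPair y ⟨Q, f⟩).1 = Q := map_conj_eq_of_mem_normalizer hy.2
  generalize conjPair y ⟨Q, f⟩ = a at h1 hQeq
  obtain ⟨Q', f'⟩ := a
  obtain rfl : Q' = Q := hQeq
  obtain rfl := below_unique (b := ⟨P, e⟩) hpM hPe h1 hle
  rfl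

/-- For abelian defect groups, the inertial quotient has order prime to `p`. -/
theorem not_dvd_index_centralizer_stab (hpM : (p : AlgInt) ∈ M)
    (hmax : IsMaximalBrauerPair p M B P e) (hab : ∀ x ∈ P, ∀ y ∈ P, x * y = y * x) :
    ¬ p ∣ ((Subgroup.centralizer (P : Set G)).subgroupOf (stabPair ⟨P, e⟩)).index := by
  classical
  have hPe : IsBrauerPair p M P e := hmax.1.1
  have hPC : P ≤ Subgroup.centralizer (P : Set G) := le_centralizer_of_abelian le_rfl hab
  obtain ⟨T, hT⟩ : ∃ T, T = stabPair (⟨P, e⟩ : BrauerPairIdx G) := ⟨_, rfl⟩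
  rw [← hT]
  haveI := Fintype.ofFinite T
  haveI := Fintype.ofFinite (Subgroup.centralizer (P : Set G))
  have hCT : (Subgroup.centralizer (P : Set G)) ≤ T := hT ▸ centralizer_le_stabPair hPe.2
  set N := (Subgroup.centralizer (P : Set G)).subgroupOf T with hN
  haveI : N.Normal := (Subgroup.normal_subgroupOf_iff_le_normalizer hCT).2 fun u hu =>
    mem_normalizer_centralizer (stabPair_le_normalizer _ (hT ▸ hu))
  haveI := Fintype.ofFinite N
  set φ := Subgroup.subgroupOfEquivOfLe hCT with hφ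
  set b := pullIrr φ '' e with hb'
  have hb : IsPBlock M b := isPBlock_image_pullIrr φ hPe.2
  have hinv : ∀ (x : T) θ, θ ∈ b → conjIrr N x θ ∈ b := by
    rintro x _ ⟨ξ, hξ, rfl⟩
    have hst := ((mem_stabPair_iff hPe.2).1 (hT.le (inv_mem x.2))).2
    obtain ⟨ξ', hξ', hc⟩ := hst.2 ξ hξ
    refine ⟨ξ', hξ', Subtype.ext (funext fun n => ?_)⟩
    rw [coe_conjIrr, pullIrr_apply]
    refine hc (φ (CharsMore.conjBy N x n)) (φ n) ?_
    simp [hφ, mul_assoc]
  obtain ⟨g, hcoef, -, -, hval⟩ := exists_fong_class N hpM hb hinv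
  -- a Sylow subgroup of the centralizer of `g` in `T`
  rw [hb', blockCoeff_image_pullIrr] at hcoef
  have hgC : ((g : T) : G) ∈ (Subgroup.centralizer (P : Set G)) := (φ g).2
  have hne : ¬ MemLocalIdeal M (subgroupBlockCoeff (Subgroup.centralizer (P : Set G)) e ((g : T) : G)) := by
    rw [show ((g : T) : G) = ((φ g : (Subgroup.centralizer (P : Set G))) : G) from rfl, subgroupBlockCoeff_coe]
    exact hcoef
  set Z := Subgroup.centralizer ({(g : T)} : Set T) with hZ
  have hPT : P ≤ T := hT ▸ subgroup_le_stabPair hpM hPe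
  have hPZ : P.subgroupOf T ≤ Z := by
    intro u hu
    rw [hZ, Subgroup.mem_centralizer_singleton_iff]
    exact Subtype.ext (Subgroup.mem_centralizer_iff.1 hgC _ (Subgroup.mem_subgroupOf.1 hu))
  obtain ⟨S, hS⟩ := ((isPGroup_subgroupOf hPe.1 hPT).of_equiv
    (Subgroup.subgroupOfEquivOfLe hPZ).symm).exists_le_sylow
  set R := ((S : Subgroup Z).map Z.subtype).map T.subtype with hR
  have hRp : IsPGroup p R := isPGroup_map_subtype (isPGroup_map_subtype S.2)
  have hPR : P ≤ R := fun u hu => by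
    refine ⟨⟨u, hPT hu⟩, ⟨⟨⟨u, hPT hu⟩, hPZ (Subgroup.mem_subgroupOf.2 hu)⟩, ?_, rfl⟩, rfl⟩
    exact hS (Subgroup.mem_subgroupOf.2 (Subgroup.mem_subgroupOf.2 hu))
  have hRT : R ≤ T := Subgroup.map_subtype_le _
  have hgR : ((g : T) : G) ∈ Subgroup.centralizer (R : Set G) := by
    rw [Subgroup.mem_centralizer_iff]
    rintro _ ⟨_, ⟨u, -, rfl⟩, rfl⟩
    exact congrArg Subtype.val (Subgroup.mem_centralizer_singleton_iff.1 u.2)
  have hst : ∀ u ∈ R, StabilizesBlock (Subgroup.centralizer (P : Set G)) e u := fun u hu =>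
    ((mem_stabPair_iff hPe.2).1 (hT ▸ hRT hu)).2
  obtain ⟨h, hh, hmul⟩ := exists_pair_of_coeff hpM hRp (subgroupBlockCoeff_mem_loc hPe.2)
    (fun u hu y => ((stabilizesBlock_iff hPe.2).1 (hst u hu)).2 y)
    (fun u hu y => subgroupBlockCoeff_conj_of_mem e (centralizer_antitone hPR hu) y)
    (pairIdem_mul_self hPe.2) hgR hne
  have hn : IsNormalSubpair p M P e R h := isNormalSubpair_of_ne_zero hpM ⟨hRp, hh⟩ hPR
    (hRT.trans (hT ▸ stabPair_le_normalizer _)) hPe.2 hst
    (fun h0 => pairIdem_ne_zero hh (hmul.symm.trans h0))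
  have hRP : R = P := hmax.2 R h ((isBrauerPairOf_of_normal hpM hn B).1 hmax.1)
    (Relation.ReflTransGen.single hn)
  -- compare orders
  have hcardR : Nat.card R = p ^ (Nat.card Z).factorization p := by
    rw [hR, Subgroup.card_map_of_injective T.subtype_injective,
      Subgroup.card_map_of_injective Z.subtype_injective, S.card_eq_multiplicity]
  have hcardP : Nat.card P ≤ p ^ blockDefect p b := by
    obtain ⟨D, hD, hle₁⟩ := exists_defect_ge (b := ⟨P, e⟩) hpM hPe Relation.ReflTransGen.refl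
      le_rfl (hT ▸ hCT) hPe.2 rfl (S := P) le_rfl hPC
    have h1 := Subgroup.card_le_of_le hle₁
    rw [Base.card_subgroupOf hPC, BlockOrth.card_defectGroup hpM hPe.2 hD] at h1
    refine h1.trans (le_of_eq ?_)
    rw [hb', blockDefect, blockDefect, Set.image_image, Nat.card_congr φ.toEquiv]
    simp only [charDegree, pullIrr_apply, map_one]
  have h5 : Nat.card R = Nat.card P := by rw [hRP]
  rw [← h5, hcardR, hval] at hcardP
  have h3 := (Nat.pow_le_pow_iff_right (Fact.out : p.Prime).one_lt).1 hcardP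
  intro hd
  have h4 := (Fact.out : p.Prime).factorization_pos_of_dvd Subgroup.index_ne_zero_of_finite hd
  omega

end CfsgLib.Blocks
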