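import Cfsg.Agent.Lib.Blocks.NilpotentFusion
import Cfsg.Agent.Lib.Blocks.InertialQuotient

/-!
# The block of `Q C(Q)` at a centric pair
-/

set_option linter.unusedSectionVars false
set_option linter.style.haveILetI false

namespace CfsgLib.Blocks

open Cfsg Chars
open scoped Pointwise

variable {G : Type*} [Group G] [Fintype G] {M : Ideal AlgInt} [M.IsPrime] {p : ℕ} [Fact p.Prime]
  {b : BrauerPairIdx G} {Q : Subgroup G}
  {f : Set (IrrCharacter (Subgroup.centralizer (Q : Set G)))}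

/-- A block of `G` with the idempotent of a `G`-stable pair. -/
theorem exists_block_of_stable_top (hpM : (p : AlgInt) ∈ M) (hQf : IsBrauerPair p M Q f)
    (hG : ∀ x : G, x ∈ stabPair ⟨Q, f⟩) :
    ∃ B₀ : Set (IrrCharacter G), IsBrauerPairOf p M B₀ Q f ∧
      blockCoeff B₀ = subgroupBlockCoeff (Subgroup.centralizer (Q : Set G)) f := by
  obtain ⟨b', hb', hcoef⟩ := exists_block_eq_of_stable hpM hQf.1 (H := ⊤) le_top le_top
    (fun x _ => stabPair_le_normalizer _ (hG x)) hQf.2
    (fun x _ => ((mem_stabPair_iff hQf.2).1 (hG x)).2)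
  haveI := Fintype.ofFinite (⊤ : Subgroup G)
  have hB₀ : IsPBlock M (pullIrr (Subgroup.topEquiv (G := G)).symm '' b') :=
    isPBlock_image_pullIrr _ hb'
  have hc : blockCoeff (pullIrr (Subgroup.topEquiv (G := G)).symm '' b') =
      subgroupBlockCoeff (Subgroup.centralizer (Q : Set G)) f := by
    funext g
    rw [blockCoeff_image_pullIrr, ← subgroupBlockCoeff_coe, hcoef]
    rfl
  refine ⟨_, (isBrauerPairOf_iff hpM hQf hB₀).1.2 ?_, hc⟩
  have : blockIdem hB₀ = pairIdem hQf.2 := by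
    apply MonoidAlgebra.ext
    ext g
    rw [blockIdem, pairIdem, coeff_redFun, coeff_redFun]
    exact congrArg red (Subtype.ext (congrFun hc g))
  rw [this, cut_pairIdem, pairIdem_mul_self]

/-- At a centric pair, `Q` is the defect group of the block of `Q C(Q)`. -/
theorem isDefectGroup_self_centralizer (hpM : (p : AlgInt) ∈ M) (hb : IsBrauerPair p M b.1 b.2)
    (hle : Relation.ReflTransGen (NormalSubpairRel p M) ⟨Q, f⟩ b)
    (hZ : Nat.card (Q ⊓ Subgroup.centralizer (Q : Set G) : Subgroup G) = p ^ blockDefect p f)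
    {F' : Set (IrrCharacter (Q ⊔ Subgroup.centralizer (Q : Set G) : Subgroup G))}
    (hF' : IsPBlock M F')
    (hFf : subgroupBlockCoeff (Q ⊔ Subgroup.centralizer (Q : Set G)) F' =
      subgroupBlockCoeff (Subgroup.centralizer (Q : Set G)) f) :
    IsDefectGroup p M F' (Q.subgroupOf (Q ⊔ Subgroup.centralizer (Q : Set G))) := by
  classical
  have hQf := below_isBrauerPair hle hb
  generalize hLdef : Q ⊔ Subgroup.centralizer (Q : Set G) = L at F' hF' hFf ⊢
  haveI := Fintype.ofFinite L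
  have hQL : Q ≤ L := hLdef ▸ le_sup_left
  have hCL : Subgroup.centralizer (Q : Set G) ≤ L := hLdef ▸ le_sup_right
  have hLT : L ≤ stabPair ⟨Q, f⟩ :=
    hLdef ▸ sup_le (subgroup_le_stabPair hpM hQf) (centralizer_le_stabPair hQf.2)
  obtain ⟨D, hD, hD'⟩ := exists_defect_ge (S := Q) hpM hb hle hCL hLT hF' hFf (below_le hle) hQL
  obtain ⟨-, -, hd⟩ := fong_local hpM hQf hCL hLT hF' hFf (Subgroup.map_subtype_le D)
    (by rwa [Subgroup.subgroupOf, Subgroup.comap_map_eq_self_of_injective L.subtype_injective])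
  rwa [Subgroup.eq_of_le_of_card_ge hD' ?_]
  rw [BlockOrth.card_defectGroup hpM hF' hD, Base.card_subgroupOf hQL, hd]
  haveI : ((Subgroup.centralizer (Q : Set G)).subgroupOf L).Normal :=
    (Subgroup.normal_subgroupOf_iff_le_normalizer hCL).2 fun u hu =>
      mem_normalizer_centralizer (stabPair_le_normalizer _ (hLT hu))
  have htop : Q.subgroupOf L ⊔ (Subgroup.centralizer (Q : Set G)).subgroupOf L = ⊤ := by
    rw [← Subgroup.subgroupOf_sup hQL hCL, hLdef, Subgroup.subgroupOf_self]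
  have h1 : ((Subgroup.centralizer (Q : Set G)).subgroupOf L).index *
      Nat.card (Q ⊓ Subgroup.centralizer (Q : Set G) : Subgroup G) = Nat.card Q := by
    rw [← Subgroup.relIndex_top_right, ← htop, Subgroup.relIndex_sup_right,
      Subgroup.relIndex_subgroupOf hQL, Subgroup.relIndex,
      ← (Subgroup.centralizer (Q : Set G)).subgroupOf Q |>.index_mul_card]
    congr 1
    rw [inf_comm, ← Subgroup.subgroupOf_map_subtype,
      Subgroup.card_map_of_injective Q.subtype_injective]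
  rw [hZ] at h1
  obtain ⟨i, hi⟩ := hQf.1.exists_card_eq
  rw [← h1]
  refine le_of_eq ?_
  rw [pow_add, mul_comm]
  congr 1
  have h4 : ((Subgroup.centralizer (Q : Set G)).subgroupOf L).index ∣ p ^ i :=
    ⟨_, (h1.trans hi).symm⟩
  obtain ⟨j, -, hj⟩ := (Nat.dvd_prime_pow Fact.out).1 h4
  rw [hj, (Fact.out : p.Prime).factorization_pow, Finsupp.single_eq_same]

/-- A block of `Q C(Q)` with defect group `Q` is nilpotent. -/
theorem isNilpotentBlock_self_centralizer (hpM : (p : AlgInt) ∈ M) (hQ : IsPGroup p Q)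
    {F' : Set (IrrCharacter (Q ⊔ Subgroup.centralizer (Q : Set G) : Subgroup G))}
    (hF' : IsPBlock M F')
    (hD : IsDefectGroup p M F' (Q.subgroupOf (Q ⊔ Subgroup.centralizer (Q : Set G)))) :
    IsNilpotentBlock p M F' := by
  classical
  have hCN : Subgroup.centralizer (Q : Set G) ≤ Subgroup.normalizer (Q : Set G) :=
    centralizer_le_normalizer' Q
  generalize hLdef : Q ⊔ Subgroup.centralizer (Q : Set G) = L at F' hF' hD ⊢
  have hQL : Q ≤ L := hLdef ▸ le_sup_left
  haveI : (Q.subgroupOf L).Normal :=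
    (Subgroup.normal_subgroupOf_iff_le_normalizer hQL).2
      (hLdef ▸ sup_le Subgroup.le_normalizer hCN)
  haveI := Fintype.ofFinite L
  refine ⟨hF', fun R r hR x hxN _ hreg => ?_⟩
  obtain ⟨e₀, he₀⟩ := exists_pair_on_defectGroup hpM hF' hD
  obtain ⟨y, hy⟩ := exists_conj_below (b := ⟨Q.subgroupOf L, e₀⟩) (a := ⟨R, r⟩) hpM
    (isMaximal_of_defectGroup hpM hD he₀) hR
  have hRQ : R ≤ Q.subgroupOf L := fun v hv => by
    have h1 : y * v * y⁻¹ ∈ Q.subgroupOf L := below_le hy ⟨v, hv, rfl⟩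
    have h2 := Subgroup.Normal.conj_mem (H := Q.subgroupOf L) inferInstance _ h1 y⁻¹
    simpa [mul_assoc] using h2
  have hxm : (x : G) ∈ (Q : Set G) * (Subgroup.centralizer (Q : Set G) : Set G) := by
    rw [← Subgroup.coe_mul_of_left_le_normalizer_right _ _
      (fun u hu => mem_normalizer_centralizer (Subgroup.le_normalizer hu)), hLdef]
    exact x.2
  obtain ⟨q, hq, c, hc, hqc⟩ := hxm
  obtain ⟨i, hi⟩ := hQ ⟨q, hq⟩
  refine mem_centralizer_of_act_eq hxN hreg (u := ⟨q, hQL hq⟩)
    ⟨i, Subtype.ext (congrArg Subtype.val hi :)⟩ fun v hv => Subtype.ext ?_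
  have hvQ : (v : G) ∈ Q := hRQ hv
  have hcv : c * (v : G) * c⁻¹ = v := by
    rw [← Subgroup.mem_centralizer_iff.1 hc v hvQ, mul_inv_cancel_right]
  simp only [Subgroup.coe_mul, Subgroup.coe_inv]
  rw [← hqc]
  show q * c * (v : G) * (q * c)⁻¹ = q * v * q⁻¹
  conv_rhs => rw [← hcv]
  group

end CfsgLib.Blocks
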