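import Cfsg.Agent.Lib.Blocks.PairInduced
import Cfsg.Agent.Lib.Blocks.InertialQuotient
import Cfsg.Agent.Lib.Blocks.CentricNilpotent
import Cfsg.Agent.Lib.BlockOrth.SubsectionCount
import Cfsg.Agent.Lib.BlockOrth.RankOne
import Cfsg.Agent.Lib.BlockOrth.RankTwo
import Cfsg.Agent.Lib.BlockOrth.CentralDefect

/-!
# Blocks with abelian defect group and trivial inertia have one Brauer character
-/

set_option linter.unusedSectionVars false
set_option linter.style.haveILetI false

namespace CfsgLib.Blocks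

open Cfsg Chars

universe u

variable {G : Type u} [Group G] [Fintype G] {M : Ideal AlgInt} [M.IsPrime] {p : ℕ} [Fact p.Prime]

/-- The rank of a block is positive. -/
theorem one_le_blockRank {B : Set (IrrCharacter G)} (hB : IsPBlock M B) : 1 ≤ blockRank p B := by
  obtain ⟨χ, hχ⟩ := IsPBlock.nonempty hB
  haveI := irrFintype G
  rw [Nat.one_le_iff_ne_zero, blockRank]
  intro hr
  have hmem : pRegularPart p (χ : G → ℂ) = 0 :=
    Submodule.span_eq_bot.mp (Submodule.finrank_eq_zero.mp hr) _ ⟨χ, hχ, rfl⟩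
  have h1 := congrFun hmem 1
  rw [BlockOrth.pRegularPart_apply_one] at h1
  exact irr_degree_ne_zero χ.2 h1

theorem blockRank_image_pullIrr {K H : Type*} [Group K] [Finite K] [Group H] [Finite H]
    (φ : K ≃* H) (b : Set (IrrCharacter H)) : blockRank p (pullIrr φ '' b) = blockRank p b := by
  have h : ∀ χ : IrrCharacter H, pRegularPart p (pullIrr φ χ : K → ℂ) =
      LinearEquiv.funCongrLeft ℂ ℂ φ.toEquiv (pRegularPart p (χ : H → ℂ)) := by
    intro χ
    classical
    funext k
    have hreg : IsPRegular p k ↔ IsPRegular p (φ k) := by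
      unfold IsPRegular; rw [φ.orderOf_eq]
    simp only [pRegularPart, LinearEquiv.funCongrLeft_apply, LinearMap.funLeft_apply,
      MulEquiv.toEquiv_eq_coe, MulEquiv.coe_toEquiv, pullIrr_apply]
    exact if_congr hreg rfl rfl
  rw [blockRank, blockRank, Set.image_image]
  rw [show (fun χ : IrrCharacter H => pRegularPart p (pullIrr φ χ : K → ℂ)) = _ from funext h]
  rw [← LinearEquiv.finrank_map_eq (LinearEquiv.funCongrLeft ℂ ℂ φ.toEquiv)
    (Submodule.span ℂ ((fun χ : IrrCharacter H => pRegularPart p (χ : H → ℂ)) '' b)),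
    Submodule.map_span, Set.image_image]
  rfl

theorem blockRank_eq_of_blockCoeff_top {H : Subgroup G} (hH : H = ⊤) {b : Set (IrrCharacter H)}
    (hb : IsPBlock M b) {B : Set (IrrCharacter G)} (hB : IsPBlock M B)
    (h : blockCoeff B = subgroupBlockCoeff H b) : blockRank p b = blockRank p B := by
  subst hH
  haveI := Fintype.ofFinite (⊤ : Subgroup G)
  have hb' := isPBlock_image_pullIrr (Subgroup.topEquiv (G := G)).symm hb
  have hc : blockCoeff (pullIrr (Subgroup.topEquiv (G := G)).symm '' b) = blockCoeff B := by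
    funext g
    rw [blockCoeff_image_pullIrr, h, ← subgroupBlockCoeff_coe]
    rfl
  obtain ⟨χ, hχ⟩ := IsPBlock.nonempty hB
  have h1 := omega_blockCoeff B χ
  rw [← hc, omega_blockCoeff, if_pos hχ] at h1
  have h2 : χ ∈ pullIrr (Subgroup.topEquiv (G := G)).symm '' b := by
    by_contra h3
    simp [h3] at h1
  rw [← IsPBlock.eq_of_mem hb' hB h2 hχ, blockRank_image_pullIrr]

theorem centralizer_zpowers_eq (x : G) :
    Subgroup.centralizer ((Subgroup.zpowers x : Subgroup G) : Set G) =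
      Subgroup.centralizer ({x} : Set G) := by
  rw [Subgroup.zpowers_eq_closure, Subgroup.centralizer_closure]

/-- A maximal pair stays maximal inside a subgroup containing its centralizer. -/
theorem isMaximal_rel_of_maximal {H P : Subgroup G} [Fintype H] (hpM : (p : AlgInt) ∈ M)
    (hPH : P ≤ H) (hC : Subgroup.centralizer (P : Set G) ≤ H) {B : Set (IrrCharacter G)}
    {e : Set (IrrCharacter (Subgroup.centralizer (P : Set G)))}
    (hmax : IsMaximalBrauerPair p M B P e) {c : Set (IrrCharacter H)}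
    (hc : IsBrauerPairOf p M c (P.subgroupOf H) (relBlock hPH hC e)) :
    IsMaximalBrauerPair p M c (P.subgroupOf H) (relBlock hPH hC e) := by
  rw [isMaximal_iff_no_normal_step hpM hc]
  intro R' g' hn
  obtain ⟨R, hRH, rfl⟩ : ∃ R : Subgroup G, R ≤ H ∧ R' = R.subgroupOf H :=
    ⟨R'.map H.subtype, Subgroup.map_subtype_le R', by
      rw [Subgroup.subgroupOf, Subgroup.comap_map_eq_self_of_injective H.subtype_injective]⟩
  have hPR : P ≤ R := fun u hu =>
    (hn.2.2.1 (show (⟨u, hPH hu⟩ : H) ∈ P.subgroupOf H from hu) :)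
  have hCR : Subgroup.centralizer (R : Set G) ≤ H := (centralizer_antitone hPR).trans hC
  have hRN : R ≤ Subgroup.normalizer (P : Set G) := by
    intro x hx
    have h1 := Subgroup.mem_normalizer_iff.1
      (hn.2.2.2.1 (show (⟨x, hRH hx⟩ : H) ∈ R.subgroupOf H from hx))
    rw [Subgroup.mem_normalizer_iff]
    intro u
    constructor
    · intro hu
      exact ((h1 ⟨u, hPH hu⟩).1 hu :)
    · intro hu
      have huH : u ∈ H := by
        have h2 := H.mul_mem (H.mul_mem (H.inv_mem (hRH hx)) (hPH hu)) (hRH hx)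
        simpa [mul_assoc] using h2
      exact ((h1 ⟨u, huH⟩).2 hu :)
  obtain ⟨g, hg, rfl⟩ := exists_relBlock hRH hCR hn.2.1.2
  have hRp : IsPGroup p R := hn.2.1.1.of_equiv (Subgroup.subgroupOfEquivOfLe hRH)
  rw [((isMaximal_iff_no_normal_step hpM hmax.1).1 hmax) R g
    ((isNormalSubpair_rel_iff hpM hPH hC hRH hCR hRp hPR hRN hmax.1.1.2 hg).1 hn)]

/-- The local situation below a maximal pair with trivial inertia. -/
theorem exists_maximal_local {B : Set (IrrCharacter G)} (hpM : (p : AlgInt) ∈ M)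
    {a c : BrauerPairIdx G} (hmax : IsMaximalBrauerPair p M B c.1 c.2)
    (hab : ∀ x ∈ c.1, ∀ y ∈ c.1, x * y = y * x)
    (htriv : stabPair c ⊓ Subgroup.centralizer (a.1 : Set G) ≤ Subgroup.centralizer (c.1 : Set G))
    (hle : Relation.ReflTransGen (NormalSubpairRel p M) a c)
    [Fintype (Subgroup.centralizer (a.1 : Set G))] :
    ∃ e' : Set (IrrCharacter (Subgroup.centralizer
        (c.1.subgroupOf (Subgroup.centralizer (a.1 : Set G)) :
          Set (Subgroup.centralizer (a.1 : Set G))))),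
      c.1 ≤ Subgroup.centralizer (a.1 : Set G) ∧
      IsMaximalBrauerPair p M a.2 (c.1.subgroupOf (Subgroup.centralizer (a.1 : Set G))) e' ∧
      stabPair (⟨c.1.subgroupOf (Subgroup.centralizer (a.1 : Set G)), e'⟩ :
          BrauerPairIdx (Subgroup.centralizer (a.1 : Set G))) ≤
        Subgroup.centralizer (c.1.subgroupOf (Subgroup.centralizer (a.1 : Set G)) :
          Set (Subgroup.centralizer (a.1 : Set G))) := by
  obtain ⟨Q, f⟩ := a
  obtain ⟨P, e⟩ := c
  have hQP : Q ≤ P := below_le hle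
  have hQf := below_isBrauerPair hle hmax.1.1
  have hPC : P ≤ Subgroup.centralizer (Q : Set G) := le_centralizer_of_abelian hQP hab
  have hCP : Subgroup.centralizer (P : Set G) ≤ Subgroup.centralizer (Q : Set G) :=
    centralizer_antitone hQP
  have hp : IsBrauerPairOf p M f (P.subgroupOf (Subgroup.centralizer (Q : Set G)))
      (relBlock hPC hCP e) :=
    (isBrauerPairOf_rel_iff hpM hPC hCP hmax.1.1.1 hmax.1.1.2 hQf.2).2
      (IsNormalSubpair.mul_cut hpM (isNormalSubpair_of_below (b := ⟨P, e⟩) hpM hmax.1.1 hle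
        Relation.ReflTransGen.refl hQP (hPC.trans (centralizer_le_normalizer' Q))))
  refine ⟨_, hPC, isMaximal_rel_of_maximal hpM hPC hCP hmax hp, fun g hg => ?_⟩
  have h1 : conjPair (g : G) ⟨P, e⟩ = ⟨P, e⟩ := (conjPair_rel_iff hPC hCP hPC hCP e e g).1 hg
  exact (mem_centralizer_subgroupOf_iff hPC g).2 (htriv ⟨h1, g.2⟩)

/-- Trivial inertia is invariant under conjugation. -/
theorem trivial_inertia_conj {a : BrauerPairIdx G}
    (htriv : stabPair a ≤ Subgroup.centralizer (a.1 : Set G)) (z : G) :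
    stabPair (conjPair z a) ≤ Subgroup.centralizer (((conjPair z a).1 : Subgroup G) : Set G) := by
  intro g hg
  have h1 : z⁻¹ * g * z ∈ stabPair a := by
    rw [← conj_mem_stabPair_iff a z]
    simpa [mul_assoc] using hg
  rw [Subgroup.mem_centralizer_iff]
  intro v hv
  obtain ⟨w, hw, rfl⟩ := hv
  have h2 := Subgroup.mem_centralizer_iff.1 (htriv h1) w hw
  show z * w * z⁻¹ * g = g * (z * w * z⁻¹)
  calc z * w * z⁻¹ * g = z * (w * (z⁻¹ * g * z)) * z⁻¹ := by group
    _ = _ := by rw [h2]; group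

theorem blockRank_eq_one_of_trivial_inertia_aux (hM : IsPModular p M) : ∀ n : ℕ,
    ∀ {G : Type u} [Group G] [Fintype G] {B : Set (IrrCharacter G)} {P : Subgroup G}
      {e : Set (IrrCharacter (Subgroup.centralizer (P : Set G)))},
      Nat.card G = n → IsMaximalBrauerPair p M B P e → (∀ x ∈ P, ∀ y ∈ P, x * y = y * x) →
      stabPair ⟨P, e⟩ ≤ Subgroup.centralizer (P : Set G) → blockRank p B = 1 := by
  intro n
  induction n using Nat.strong_induction_on with
  | _ n ih =>
  intro G _ _ B P e hn hmax hab htriv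
  classical
  have hpM := hM.2.2
  have hB : IsPBlock M B := hmax.1.2.1
  have hP : IsPGroup p P := hmax.1.1.1
  have hD := isDefectGroup_of_maximal hpM hmax
  by_cases hPZ : P ≤ Subgroup.center G
  · exact BlockOrth.blockRank_eq_one_of_central hM hB hD hPZ
  obtain ⟨u, huP, huZ⟩ := SetLike.not_le_iff_exists.1 hPZ
  have hord : ∀ x ∈ P, ∃ k, orderOf x = p ^ k := fun x hx =>
    BlockOrth.exists_orderOf_of_mem_defectGroup hD hx
  -- the sections outside the centre
  have hlocal : ∀ a : BrauerPairIdx G, IsBrauerPairOf p M B a.1 a.2 →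
      Subgroup.centralizer (a.1 : Set G) ≠ ⊤ → blockRank p a.2 = 1 := by
    intro a ha hne
    obtain ⟨c, hc, hmaxc⟩ := exists_maximal_above hpM a ha
    obtain ⟨z, rfl⟩ := exists_conj_maximal hpM (a := c) (c := ⟨P, e⟩) hmaxc hmax
    haveI := Fintype.ofFinite (Subgroup.centralizer (a.1 : Set G))
    have hab' : ∀ x ∈ (conjPair z ⟨P, e⟩).1, ∀ y ∈ (conjPair z ⟨P, e⟩).1, x * y = y * x := by
      rintro _ ⟨x, hx, rfl⟩ _ ⟨y, hy, rfl⟩
      rw [← map_mul, ← map_mul, hab x hx y hy]
    obtain ⟨e', hPC, hmax', htriv'⟩ := exists_maximal_local hpM hmaxc hab'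
      (inf_le_left.trans (trivial_inertia_conj htriv z)) hc
    have hlt : Nat.card (Subgroup.centralizer (a.1 : Set G)) < n := by
      rw [← hn]
      exact lt_of_le_of_ne (Subgroup.card_le_card_group _)
        fun h => hne ((Subgroup.card_eq_iff_eq_top _).1 h)
    exact ih _ hlt rfl hmax' (fun x hx y hy => Subtype.ext (hab' _ hx _ hy)) htriv'
  -- representatives of the sections
  let X : Finset G := (Finset.univ.filter fun g : G => ∃ k, orderOf g = p ^ k).image
    fun g => (ConjClasses.mk g).out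
  have hout : ∀ g : G, IsConj g (ConjClasses.mk g).out := fun g =>
    ConjClasses.mk_eq_mk_iff_isConj.1 (Quotient.out_eq (ConjClasses.mk g)).symm
  have hX : ∀ x ∈ X, ∃ k, orderOf x = p ^ k := by
    intro x hx
    obtain ⟨g, hg, rfl⟩ := Finset.mem_image.1 hx
    obtain ⟨c, hc⟩ := isConj_iff.1 (hout g)
    obtain ⟨k, hk⟩ := (Finset.mem_filter.1 hg).2
    exact ⟨k, by rw [← hc, ← hk]; exact (MulAut.conj c).orderOf_eq g⟩
  have hrep : ∀ g : G, (∃ k, orderOf g = p ^ k) → ∃! x, x ∈ X ∧ IsConj g x := by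
    intro g hg
    refine ⟨_, ⟨Finset.mem_image.2 ⟨g, Finset.mem_filter.2 ⟨Finset.mem_univ _, hg⟩, rfl⟩, hout g⟩,
      ?_⟩
    rintro x ⟨hx, hgx⟩
    obtain ⟨g', -, rfl⟩ := Finset.mem_image.1 hx
    rw [ConjClasses.mk_eq_mk_iff_isConj.2 (hgx.trans (hout g').symm)]
  haveI := irrFintype G
  haveI := fun H : Subgroup G => Fintype.ofFinite H
  haveI := fun H : Subgroup G => irrFintype H
  let T : ∀ x : G, Finset (Set (IrrCharacter
      (Subgroup.centralizer ((Subgroup.zpowers x : Subgroup G) : Set G)))) := fun x =>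
    Finset.univ.filter fun b => IsInducedBlock M _ b B
  let S := X.sigma T
  have hk : Nat.card B = ∑ s ∈ S, blockRank p s.2 := by
    rw [Finset.sum_sigma, BlockOrth.card_block_eq_sum_ranks hM hB hX hrep]
    refine Finset.sum_congr rfl fun x _ => ?_
    have key : ∀ H K : Subgroup G, H = K →
        (∑ᶠ b ∈ {b : Set (IrrCharacter H) | IsInducedBlock M H b B}, blockRank p b) =
          ∑ᶠ b ∈ {b : Set (IrrCharacter K) | IsInducedBlock M K b B}, blockRank p b := by
      rintro H K rfl; rfl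
    rw [key _ _ (centralizer_zpowers_eq x).symm]
    exact finsum_mem_eq_sum_of_inter_support_eq _ (by ext; simp [T])
  have hmemS : ∀ x ∈ X, ∀ b, IsBrauerPairOf p M B (Subgroup.zpowers x) b →
      (⟨x, b⟩ : Σ x : G, Set (IrrCharacter
        (Subgroup.centralizer ((Subgroup.zpowers x : Subgroup G) : Set G)))) ∈ S :=
    fun x hx b hb => Finset.mem_sigma.2 ⟨hx, Finset.mem_filter.2 ⟨Finset.mem_univ _,
      isInducedBlock_centralizer_of_pair hpM hb⟩⟩
  -- one section for each element of `P`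
  have hdata : ∀ v : P, ∃ s ∈ S, ∃ g : G, ∃ f, Relation.ReflTransGen (NormalSubpairRel p M)
      (⟨Subgroup.zpowers (v : G), f⟩ : BrauerPairIdx G) ⟨P, e⟩ ∧ g * (v : G) * g⁻¹ = s.1 ∧
      conjPair g ⟨Subgroup.zpowers (v : G), f⟩ = (⟨Subgroup.zpowers s.1, s.2⟩ : BrauerPairIdx G) := by
    intro v
    obtain ⟨x, ⟨hx, hvx⟩, -⟩ := hrep _ (hord _ v.2)
    obtain ⟨g, hg⟩ := isConj_iff.1 hvx
    obtain ⟨f, hf⟩ := exists_below (b := ⟨P, e⟩) hpM hmax.1.1 (Subgroup.zpowers (v : G))
      (Subgroup.zpowers_le.2 v.2)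
    have hpair := isBrauerPairOf_conj (a := ⟨_, f⟩)
      ((isBrauerPairOf_iff_of_below hpM hf B).2 hmax.1) g
    have hfst : (conjPair g ⟨Subgroup.zpowers (v : G), f⟩).1 = Subgroup.zpowers x := by
      show (Subgroup.zpowers (v : G)).map (MulAut.conj g).toMonoidHom = _
      rw [MonoidHom.map_zpowers]
      exact congrArg Subgroup.zpowers hg
    obtain ⟨b, hb⟩ : ∃ b, conjPair g ⟨Subgroup.zpowers (v : G), f⟩ =
        (⟨Subgroup.zpowers x, b⟩ : BrauerPairIdx G) := by
      generalize conjPair g ⟨Subgroup.zpowers (v : G), f⟩ = a at hfst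
      obtain ⟨Q', b⟩ := a
      obtain rfl : Q' = Subgroup.zpowers x := hfst
      exact ⟨b, rfl⟩
    rw [hb] at hpair
    exact ⟨⟨x, b⟩, hmemS x hx b hpair, g, f, hf, hg, hb⟩
  choose Φ hΦS g f hf hgv hgf using hdata
  have hinj : Function.Injective Φ := by
    intro v w hvw
    have hchain : conjPair ((g w)⁻¹ * g v) ⟨Subgroup.zpowers (v : G), f v⟩ =
        (⟨Subgroup.zpowers (w : G), f w⟩ : BrauerPairIdx G) := by
      rw [← conjPair_mul, hgf v, hvw, ← hgf w, conjPair_mul, inv_mul_cancel, conjPair_one]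
    have h2 : ((g w)⁻¹ * g v) * (v : G) * ((g w)⁻¹ * g v)⁻¹ = (w : G) := by
      have h3 := hgv v
      rw [hvw, ← hgv w] at h3
      calc ((g w)⁻¹ * g v) * (v : G) * ((g w)⁻¹ * g v)⁻¹
          = (g w)⁻¹ * (g v * (v : G) * (g v)⁻¹) * g w := by group
        _ = _ := by rw [h3]; group
    have h4 := below_conj (hf v) ((g w)⁻¹ * g v)
    rw [hchain] at h4
    obtain ⟨c, hc, hcs⟩ := exists_centralizer_conj_of_below hpM hmax hab (hf w) h4
    have h5 := Subgroup.mem_centralizer_iff.1 (htriv hcs) v v.2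
    have h6 := Subgroup.mem_centralizer_iff.1 hc w (Subgroup.mem_zpowers _)
    apply Subtype.ext
    calc (v : G) = c * ((g w)⁻¹ * g v) * (v : G) * (c * ((g w)⁻¹ * g v))⁻¹ := by
          rw [← h5, mul_inv_cancel_right]
      _ = c * ((g w)⁻¹ * g v * (v : G) * ((g w)⁻¹ * g v)⁻¹) * c⁻¹ := by group
      _ = (w : G) := by rw [h2, ← h6, mul_inv_cancel_right]
  have hcard : Nat.card P ≤ S.card := by
    rw [Nat.card_eq_fintype_card, ← Finset.card_univ]
    exact Finset.card_le_card_of_injOn Φ (fun v _ => hΦS v) hinj.injOn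
  -- the section of the identity
  obtain ⟨b₁, hb₁⟩ := exists_below (b := ⟨P, e⟩) hpM hmax.1.1 (Subgroup.zpowers (1 : G))
    (Subgroup.zpowers_le.2 P.one_mem)
  have hp₁ := (isBrauerPairOf_iff_of_below hpM hb₁ B).2 hmax.1
  have h1X : (1 : G) ∈ X := by
    obtain ⟨x, ⟨hx, h1x⟩, -⟩ := hrep 1 ⟨0, by simp⟩
    rwa [isConj_one_right.1 h1x] at hx
  have htop : Subgroup.centralizer ((Subgroup.zpowers (1 : G) : Subgroup G) : Set G) = ⊤ :=
    eq_top_iff.2 fun x _ => Subgroup.mem_centralizer_iff.2 fun y hy => by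
      obtain ⟨i, rfl⟩ := Subgroup.mem_zpowers_iff.1 hy
      simp
  have hrank₁ : blockRank p b₁ = blockRank p B := by
    obtain ⟨B₀, hB₀, hcoef⟩ := exists_block_of_stable_top hpM hp₁.1 fun x =>
      centralizer_le_stabPair hp₁.1.2 (htop ▸ Subgroup.mem_top x)
    rw [(existsUnique_block_of_pair hpM hp₁.1).unique hp₁ hB₀]
    exact blockRank_eq_of_blockCoeff_top htop hp₁.1.2 hB₀.2.1 hcoef
  have hS1 := hmemS 1 h1X b₁ hp₁
  have hlow : blockRank p B + (S.card - 1) ≤ Nat.card B := by
    rw [hk, ← Finset.add_sum_erase S _ hS1, hrank₁, ← Finset.card_erase_of_mem hS1,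
      Finset.card_eq_sum_ones]
    refine Nat.add_le_add_left (Finset.sum_le_sum fun s hs => one_le_blockRank (M := M) ?_) _
    exact (Finset.mem_filter.1 (Finset.mem_sigma.1 (Finset.mem_erase.1 hs).2).2).2.1
  -- a major subsection of rank one
  obtain ⟨bu, hbu⟩ := exists_below (b := ⟨P, e⟩) hpM hmax.1.1 (Subgroup.zpowers u)
    (Subgroup.zpowers_le.2 huP)
  have hpu := (isBrauerPairOf_iff_of_below hpM hbu B).2 hmax.1
  have hCne : Subgroup.centralizer ((Subgroup.zpowers u : Subgroup G) : Set G) ≠ ⊤ := fun h =>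
    huZ (Subgroup.mem_center_iff.2 fun x =>
      (Subgroup.mem_centralizer_iff.1 (h ▸ Subgroup.mem_top x) u (Subgroup.mem_zpowers u)).symm)
  obtain ⟨e', hPC, hmax', -⟩ := exists_maximal_local hpM (a := ⟨_, bu⟩) (c := ⟨P, e⟩)
    hmax hab (inf_le_left.trans htriv) hbu
  obtain ⟨j, hj⟩ := hord u huP
  have hH : ∀ c : G, c ∈ Subgroup.centralizer ((Subgroup.zpowers u : Subgroup G) : Set G) ↔
      c * u = u * c := fun c => by
    rw [centralizer_zpowers_eq]; exact Subgroup.mem_centralizer_singleton_iff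
  have hmaj := BlockOrth.blockDefect_eq_of_major hpM hB hpu.1.2 hD hPC
    (isDefectGroup_of_maximal hpM hmax')
  have hup := BlockOrth.card_le_of_rank_le_two hM hH hj (isInducedBlock_centralizer_of_pair hpM hpu)
    hmaj (by rw [hlocal ⟨_, bu⟩ hpu hCne]; omega)
  rw [← BlockOrth.card_defectGroup hpM hB hD] at hup
  have := one_le_blockRank (p := p) (M := M) hB
  have := Finset.card_pos.2 ⟨_, hS1⟩
  omega

/-- A block with abelian defect group and trivial inertia has one Brauer character. -/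
theorem blockRank_eq_one_of_trivial_inertia (hM : IsPModular p M) {B : Set (IrrCharacter G)}
    {P : Subgroup G} {e : Set (IrrCharacter (Subgroup.centralizer (P : Set G)))}
    (hmax : IsMaximalBrauerPair p M B P e) (hab : ∀ x ∈ P, ∀ y ∈ P, x * y = y * x)
    (htriv : stabPair ⟨P, e⟩ ≤ Subgroup.centralizer (P : Set G)) : blockRank p B = 1 :=
  blockRank_eq_one_of_trivial_inertia_aux hM _ rfl hmax hab htriv

end CfsgLib.Blocks
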