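import Cfsg.Agent.Lib.Blocks.CentralRows
import Cfsg.Agent.Lib.Blocks.TrivialInertia
import Cfsg.Agent.Lib.Blocks.QuotientP
import Cfsg.Agent.Lib.Blocks.QuotientDefect
import Cfsg.Agent.Lib.Blocks.NilpotentPairs
import Cfsg.Agent.Lib.BlockOrth.MajorSubsection
import Cfsg.Agent.Lib.CharApps.Galois
import Cfsg.Agent.Lib.CharApps.Inflation

/-!
# The number of characters of a block against its defect
-/

set_option linter.unusedSectionVars false
set_option linter.style.haveILetI false

namespace CfsgLib.Blocks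

open Cfsg Chars BlockOrth Finset
open scoped ComplexConjugate Matrix IntermediateField

universe u

variable {G : Type u} [Group G] [Fintype G] {M : Ideal AlgInt} [M.IsPrime] {p : ℕ}
  [hp : Fact p.Prime] {B : Set (IrrCharacter G)} {H : Subgroup G} {b : Set (IrrCharacter H)}
  {x : G}

open scoped Classical in
/-- At a major subsection of an element of order `p` the contributions of a character of a block
of defect at most two average at least the rank. -/
theorem card_mul_rank_le_sum_contrib [Fintype H] [Fintype (IrrCharacter H)]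
    (hM : IsPModular p M) (hH : ∀ c : G, c ∈ H ↔ c * x = x * c) (hx : orderOf x = p)
    (hind : IsInducedBlock M H b B) (hmaj : blockDefect p b = blockDefect p B) {e : ℕ}
    (hd : blockDefect p B = e + 1) (he : e ≤ 1) {χ : IrrCharacter G} (hχ : χ ∈ B) :
    (((univ.filter fun u : Subgroup.zpowers x => u ≠ 1).card * blockRank p b : ℕ) : ℝ) ≤
      ∑ u ∈ univ.filter (fun u : Subgroup.zpowers x => u ≠ 1), (contrib p b (u : G) χ χ).re := by
  haveI := irrFintype G
  have hpM := hM.2.2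
  have hb : IsPBlock M b := hind.1
  obtain ⟨F⟩ := exists_dMat_factor (p := p) hpM hb
  set S := univ.filter (fun u : Subgroup.zpowers x => u ≠ 1) with hS
  have hd' : blockDefect p b = e + 1 := hmaj.trans hd
  have hxp : ∃ k, orderOf x = p ^ k := ⟨1, by rw [pow_one, hx]⟩
  -- all heights vanish
  have h0 : ∀ θ ∈ b, blockHeight p b (θ : H → ℂ) = 0 := fun θ hθ => by
    by_contra h
    have := height_add_two_le hpM hb hθ (Nat.pos_of_ne_zero h)
    omega
  -- the central element
  obtain ⟨z, hzx⟩ : ∃ z : H, (z : G) = x := ⟨⟨x, (hH x).2 rfl⟩, rfl⟩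
  have hzZ : z ∈ Subgroup.center H := by
    rw [Subgroup.mem_center_iff]
    exact fun c => Subtype.ext (by rw [Subgroup.coe_mul, Subgroup.coe_mul, hzx]; exact (hH c).1 c.2)
  have hz : orderOf z = p := by rw [← Subgroup.orderOf_coe, hzx, hx]
  haveI := Fintype.ofFinite (trivialRows b z)
  obtain ⟨Z, hZ⟩ : ∃ Z : Matrix (trivialRows b z) (Fin (blockRank p b)) ℤ, Z = rowsAt F z :=
    ⟨_, rfl⟩
  have hdet : (Zᵀ * Z).det ≠ 0 := hZ ▸ det_gram_rowsAt_ne_zero F hpM hb hzZ hz
  have hAC : F.A * (Zᵀ * Z) = ((p ^ e : ℕ) : ℤ) • (1 : Matrix _ _ ℤ) :=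
    hZ ▸ A_mul_gram_rowsAt F hpM hb hzZ hz hd'
  have hr : 0 < blockRank p b := one_le_blockRank hb
  have hdetle : (Zᵀ * Z).det ≤ ((p ^ e : ℕ) : ℤ) := by
    refine det_le_of_mul_eq ?_ hr (fun i j k m => ?_) hAC
    · rcases Nat.le_one_iff_eq_zero_or_eq_one.1 he with rfl | rfl
      · exact Or.inl (pow_zero p)
      · exact Or.inr ((pow_one p).symm ▸ hp.out)
    · refine dvd_trans ?_ (dvd_minor_A F hpM hb h0 i j k m)
      rcases Nat.le_one_iff_eq_zero_or_eq_one.1 he with rfl | rfl <;> simp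
  -- every member of `S` generates
  have hgen : ∀ u ∈ S, ∃ k : ℕ, k.Coprime p ∧ (u : G) = x ^ k := by
    intro u hu
    obtain ⟨k, hk⟩ := (isOfFinOrder_of_finite x).mem_powers_iff_mem_zpowers.2 u.2
    change x ^ k = (u : G) at hk
    refine ⟨k, Nat.coprime_comm.1 (hp.out.coprime_iff_not_dvd.2 fun hpk => (mem_filter.1 hu).2
      (Subtype.ext ?_)), hk.symm⟩
    obtain ⟨j, rfl⟩ := hpk
    rw [Subgroup.coe_one, ← hk, pow_mul, ← hx, pow_orderOf_eq_one, one_pow]
  have hHu : ∀ u ∈ S, (∀ c : G, c ∈ H ↔ c * (u : G) = (u : G) * c) := by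
    intro u hu c
    obtain ⟨k, hk, hku⟩ := hgen u hu
    rw [hku]
    exact centralizer_pow_of_coprime hH (hx.symm ▸ hk) c
  have hpowu : ∀ u : Subgroup.zpowers x, (u : G) ^ p = 1 := fun u => by
    obtain ⟨i, hi⟩ := Subgroup.mem_zpowers_iff.1 u.2
    rw [← hi, ← zpow_natCast, ← zpow_mul, mul_comm, zpow_mul, zpow_natCast, ← hx, pow_orderOf_eq_one,
      one_zpow]
  -- the coordinates
  obtain ⟨u₀, hu₀⟩ : ∃ u : Subgroup.zpowers x, (u : G) = x :=
    ⟨⟨x, Subgroup.mem_zpowers x⟩, rfl⟩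
  have hu₀S : u₀ ∈ S := mem_filter.2 ⟨mem_univ _, fun h => by
    rw [h, Subgroup.coe_one] at hu₀
    rw [← hu₀, orderOf_one] at hx
    exact hp.out.ne_one hx.symm⟩
  let X : Subgroup.zpowers x → Fin (blockRank p b) → ℂ := fun u i => coord F (u : G) χ i
  have hform : ∀ u : Subgroup.zpowers x, contrib p b (u : G) χ χ =
      ∑ i, ∑ j, X u i * (F.A i j : ℂ) * conj (X u j) := fun u => contrib_eq_coord F hpM hb χ χ
  have hX0 : X u₀ ≠ 0 := fun h => by
    obtain ⟨ψ, hψ, hψ0⟩ := exists_blockHeight_eq_zero (p := p) hind.2.1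
    have h1 := sum_norm_sq_contrib_row hM hH hxp hind χ
    have h2 : contrib p b x χ χ = 0 := by
      rw [← hu₀, hform]
      simp [h]
    rw [h2, Complex.zero_re, mul_zero,
      Finset.sum_eq_zero_iff_of_nonneg fun _ _ => sq_nonneg _] at h1
    exact contrib_ne_zero_of_height_zero hpM hH hxp hind hmaj hχ hψ hψ0
      (norm_eq_zero.1 (pow_eq_zero_iff (n := 2) two_ne_zero |>.1
        (h1 ψ (mem_filter.2 ⟨mem_univ _, hψ⟩))))
  haveI : NeZero p := ⟨hp.out.ne_zero⟩
  have hint : ∀ a : Fin (blockRank p b) → ℤ, ∑ j, (a j : ℂ) * X u₀ j ≠ 0 →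
      (S.card : ℝ) ≤ ∑ u ∈ S, Complex.normSq (∑ j, (a j : ℂ) * X u j) := by
    intro a ha
    let v : Subgroup.zpowers x → ℂ := fun u => ∑ j, (a j : ℂ) * X u j
    have hgal : ∀ (k : ℕ) (σ : ℂ ≃+* ℂ), k.Coprime p → (∀ w : ℂ, w ^ p = 1 → σ w = w ^ k) →
        ∀ u ∈ S, σ (v u) = v (u ^ k) := by
      intro k σ hk hσ u hu
      have hko : k.Coprime (orderOf (u : G)) :=
        Nat.Coprime.coprime_dvd_right (orderOf_dvd_of_pow_eq_one (hpowu u)) hk
      simp only [v, X, map_sum, map_mul, map_intCast,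
        coord_galois F (hHu u hu) (hpowu u) hko hσ χ, SubgroupClass.coe_pow]
    have hne : ∀ u ∈ S, v u ≠ 0 := by
      intro u hu
      obtain ⟨k, hk, hku⟩ := hgen u hu
      obtain ⟨σ, hσ⟩ := CharApps.exists_galois_pow p hk
      rw [show u = u₀ ^ k from Subtype.ext (by rw [SubgroupClass.coe_pow, hu₀, hku]),
        ← hgal k σ hk hσ u₀ hu₀S]
      exact fun h => ha (σ.injective (h.trans (map_zero σ).symm))
    have hcop : ∀ k : ℕ, k.Coprime p → (Nat.card (Subgroup.zpowers x)).Coprime k := fun k hk => by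
      rw [Nat.card_zpowers, hx]; exact hk.symm
    obtain ⟨m, hm⟩ := CharApps.exists_int_of_rat (x := ∏ u ∈ S, v u)
      (IsIntegral.prod _ fun u hu => IsIntegral.sum _ fun j _ =>
        (isIntegral_algebraMap (R := ℤ) (A := ℂ) (x := a j)).mul (isIntegral_coord F (hHu u hu) χ j))
      (CharApps.exists_rat_of_fixed (N := p) (prod_mem fun u hu => sum_mem fun j _ =>
          mul_mem (intCast_mem _ _) (coord_mem_field F (hHu u hu) (hpowu u) χ j))
        fun k σ hk hσ => by
          rw [map_prod, Finset.prod_congr rfl (hgal k σ hk hσ)]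
          refine Finset.prod_equiv (powCoprime (hcop k hk)) (fun u => ?_)
            fun u _ => by rw [powCoprime_apply]
          simp only [hS, mem_filter, mem_univ, true_and, powCoprime_apply]
          refine not_congr ⟨fun h => by rw [h, one_pow],
            fun h => (powCoprime (hcop k hk)).injective ?_⟩
          rw [powCoprime_apply, powCoprime_apply, h, one_pow])
    refine CharApps.card_le_sum_of_one_le_prod S (fun u _ => Complex.normSq_nonneg _) ?_
    have hm0 : m ≠ 0 := by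
      rintro rfl
      rw [Int.cast_zero] at hm
      exact Finset.prod_ne_zero_iff.2 hne hm.symm
    have h5 : ∏ u ∈ S, Complex.normSq (v u) = (m : ℝ) * (m : ℝ) := by
      rw [← map_prod Complex.normSq, ← hm]
      exact Complex.normSq_intCast m
    rw [h5]
    have h6 : (1 : ℤ) ≤ m * m := Int.add_one_le_iff.2 (mul_self_pos.2 hm0)
    exact_mod_cast h6
  have key := card_mul_le_adjugate_form Z hdet
    (fun h2 θ y hy => by
      subst hZ
      exact rowsAt_deletion F hpM hb hzZ hz hd' h0 h2 θ y hy) S X hX0 hint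
  -- the adjugate against the middle matrix
  have hadj : ∀ i j, (Zᵀ * Z).det * F.A i j = ((p ^ e : ℕ) : ℤ) * (Zᵀ * Z).adjugate i j := by
    intro i j
    have h := congrArg (· * (Zᵀ * Z).adjugate) hAC
    simp only [Matrix.mul_assoc, Matrix.mul_adjugate, Matrix.mul_smul, Matrix.mul_one,
      Matrix.smul_mul, Matrix.one_mul] at h
    have h1 := congrFun (congrFun h i) j
    simpa [Matrix.smul_apply] using h1
  have hrel : ∀ u : Subgroup.zpowers x, ((Zᵀ * Z).det : ℝ) * (contrib p b (u : G) χ χ).re =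
      ((p ^ e : ℕ) : ℝ) *
        (∑ i, ∑ j, X u i * ((Zᵀ * Z).adjugate i j : ℂ) * conj (X u j)).re := by
    intro u
    obtain ⟨D, hD⟩ : ∃ D, D = (Zᵀ * Z).det := ⟨_, rfl⟩
    rw [← hD] at hadj ⊢
    rw [← Complex.re_ofReal_mul, ← Complex.re_ofReal_mul, hform, Finset.mul_sum, Finset.mul_sum]
    congr 1
    refine Finset.sum_congr rfl fun i _ => ?_
    rw [Finset.mul_sum, Finset.mul_sum]
    refine Finset.sum_congr rfl fun j _ => ?_
    have h := congrArg (fun t : ℤ => (t : ℂ)) (hadj i j)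
    push_cast at h ⊢
    linear_combination X u i * conj (X u j) * h
  have hnn : 0 ≤ ∑ u ∈ S, (contrib p b (u : G) χ χ).re := Finset.sum_nonneg fun u hu => by
    obtain ⟨t, ht, ht'⟩ := contrib_self_eq_ofReal hpM (hHu u hu) hb χ
    rw [ht', Complex.ofReal_re]
    exact ht
  refine le_of_mul_le_mul_left (a := ((p ^ e : ℕ) : ℝ)) ?_
    (Nat.cast_pos.2 (pow_pos hp.out.pos e))
  calc ((p ^ e : ℕ) : ℝ) * ((S.card * blockRank p b : ℕ) : ℝ)
      ≤ ((p ^ e : ℕ) : ℝ) *
        ∑ u ∈ S, (∑ i, ∑ j, X u i * ((Zᵀ * Z).adjugate i j : ℂ) * conj (X u j)).re :=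
        mul_le_mul_of_nonneg_left key (Nat.cast_nonneg _)
    _ = ((Zᵀ * Z).det : ℝ) * ∑ u ∈ S, (contrib p b (u : G) χ χ).re := by
        rw [Finset.mul_sum, Finset.mul_sum]
        exact Finset.sum_congr rfl fun u _ => (hrel u).symm
    _ ≤ _ := mul_le_mul_of_nonneg_right (by exact_mod_cast hdetle) hnn

open scoped Classical in
/-- A block of defect one or two has at most `p ^ d` characters. -/
theorem card_le_pow_of_subsection [Fintype H] [Fintype (IrrCharacter H)]
    (hM : IsPModular p M) (hH : ∀ c : G, c ∈ H ↔ c * x = x * c) (hx : orderOf x = p)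
    (hind : IsInducedBlock M H b B) (hmaj : blockDefect p b = blockDefect p B) {e : ℕ}
    (hd : blockDefect p B = e + 1) (he : e ≤ 1) : Nat.card B ≤ p ^ (e + 1) := by
  haveI := irrFintype G
  set S := univ.filter (fun u : Subgroup.zpowers x => u ≠ 1) with hS
  have hSpos : 0 < S.card := Finset.card_pos.2 ⟨⟨x, Subgroup.mem_zpowers x⟩,
    mem_filter.2 ⟨mem_univ _, fun h => by
      have : x = 1 := congrArg Subtype.val h
      rw [this, orderOf_one] at hx
      exact hp.out.ne_one hx.symm⟩⟩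
  have hr : 0 < blockRank p b := one_le_blockRank hind.1
  have h1 : ∑ χ ∈ univ.filter (· ∈ B), ((S.card * blockRank p b : ℕ) : ℝ) ≤
      ∑ χ ∈ univ.filter (· ∈ B), ∑ u ∈ S, (contrib p b (u : G) χ χ).re :=
    Finset.sum_le_sum fun χ hχ =>
      card_mul_rank_le_sum_contrib hM hH hx hind hmaj hd he (mem_filter.1 hχ).2
  have h2 : ∀ u ∈ S, ∑ χ ∈ univ.filter (· ∈ B), (contrib p b (u : G) χ χ).re =
      ((p ^ (e + 1) * blockRank p b : ℕ) : ℝ) := by
    intro u hu
    obtain ⟨i, hi⟩ := Subgroup.mem_zpowers_iff.1 u.2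
    have hup : (u : G) ^ p = 1 := by
      rw [← hi, ← zpow_natCast, ← zpow_mul, mul_comm, zpow_mul, zpow_natCast, ← hx,
        pow_orderOf_eq_one, one_zpow]
    have hu1 : (u : G) ≠ 1 := fun h => (mem_filter.1 hu).2 (Subtype.ext h)
    have hgen : Subgroup.zpowers (u : G) = Subgroup.zpowers x :=
      Subgroup.eq_of_le_of_card_ge (Subgroup.zpowers_le.2 u.2) (by
        rw [Nat.card_zpowers, Nat.card_zpowers, hx, orderOf_eq_prime hup hu1])
    have hHu : ∀ c : G, c ∈ H ↔ c * (u : G) = (u : G) * c := fun c => by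
      have e1 := mem_centralizer_zpowers_iff (u : G) c
      rw [SetLike.ext'_iff.1 hgen] at e1
      rw [hH c, ← mem_centralizer_zpowers_iff x]
      exact e1
    have h3 := sum_contrib_self hM hHu ⟨1, by rw [pow_one]; exact orderOf_eq_prime hup hu1⟩ hind
    rw [← Complex.re_sum, h3, hmaj.trans hd, ← Nat.cast_mul, Complex.natCast_re]
  rw [Finset.sum_comm (s := univ.filter (· ∈ B)), Finset.sum_congr rfl h2, Finset.sum_const,
    Finset.sum_const, ← Fintype.card_subtype, ← Nat.card_eq_fintype_card, nsmul_eq_mul, nsmul_eq_mul,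
    ← Nat.cast_mul, ← Nat.cast_mul, Nat.cast_le] at h1
  have h4 : Nat.card B * (S.card * blockRank p b) ≤ p ^ (e + 1) * (S.card * blockRank p b) :=
    h1.trans_eq (by ring)
  exact Nat.le_of_mul_le_mul_right h4 (Nat.mul_pos hSpos hr)

open scoped Classical in
/-- The rank of a block over a central element of order `p` is at most the number of characters
of a block of the quotient of one less defect. -/
theorem exists_quotient_rank_le (hM : IsPModular p M) (hb : IsPBlock M b) {z : H}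
    (hzZ : z ∈ Subgroup.center H) (hz : orderOf z = p) {d : ℕ} (hd : blockDefect p b = d + 1)
    [(Subgroup.zpowers z).Normal] :
    ∃ Bb : Set (IrrCharacter (H ⧸ Subgroup.zpowers z)), IsPBlock M Bb ∧
      blockDefect p Bb = d ∧ blockRank p b ≤ Nat.card Bb := by
  haveI := Fintype.ofFinite H
  haveI := irrFintype H
  set N := Subgroup.zpowers z with hN
  haveI := Fintype.ofFinite (H ⧸ N)
  haveI := irrFintype (H ⧸ N)
  have hpM := hM.2.2
  have hNp : IsPGroup p N := IsPGroup.of_card (n := 1) (by rw [Nat.card_zpowers, hz, pow_one])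
  obtain ⟨Bb, hBb, hsub, hdef⟩ := exists_quotient_block N hpM hNp hb
  refine ⟨Bb, hBb, ?_, ?_⟩
  · obtain ⟨Db, hDb⟩ := exists_isDefectGroup (p := p) hBb
    obtain ⟨P, hP, rfl⟩ := (hdef Db).1 hDb
    have h1 := card_defectGroup hpM hb hP
    have h2 := card_defectGroup hpM hBb hDb
    have hNP : N ≤ P := IsDefectGroup.normal_le hpM hb hP hNp
    have h3 := Subgroup.relIndex_mul_relIndex ⊥ N P bot_le hNP
    rw [Subgroup.relIndex_bot_left, Subgroup.relIndex_bot_left, h1, hd] at h3
    have h4 : Nat.card (P.map (QuotientGroup.mk' N)) = N.relIndex P := by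
      rw [← Subgroup.relIndex_ker, QuotientGroup.ker_mk']
    rw [h2] at h4
    rw [Nat.card_zpowers, hz, ← h4, pow_succ'] at h3
    exact (Nat.pow_right_injective hp.out.two_le (mul_left_cancel₀ hp.out.ne_zero h3))
  · obtain ⟨F⟩ := exists_dMat_factor (p := p) hpM hb
    haveI := Fintype.ofFinite (trivialRows b z)
    refine (rank_le_card_trivialRows F hpM hb hzZ hz).trans ?_
    rw [← Nat.card_eq_fintype_card]
    have hex : ∀ θ : trivialRows b z, ∃ ψ : IrrCharacter (H ⧸ N),
        inflIrr N ψ = θ.1 ∧ ψ ∈ Bb := by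
      intro θ
      have hker : ∀ v ∈ N, (θ.1 : H → ℂ) v = (θ.1 : H → ℂ) 1 := by
        intro v hv
        obtain ⟨i, rfl⟩ := (isOfFinOrder_of_finite z).mem_powers_iff_mem_zpowers.2 hv
        have h1 : centralScalar (θ.1 : H → ℂ) (z ^ i) = 1 := by
          rw [centralScalar_pow θ.1 hzZ, θ.2.2, one_pow]
        rw [centralScalar, div_eq_one_iff_eq (irr_degree_ne_zero θ.1.2)] at h1
        exact h1
      obtain ⟨f, hf, hfθ⟩ := exists_deflate_irr N θ.1.2 hker
      refine ⟨⟨f, hf⟩, Subtype.ext hfθ.symm, ?_⟩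
      obtain ⟨ψ, hψ⟩ := IsPBlock.nonempty hBb
      have hsame := IsPBlock.sameBlock hb (hsub ψ hψ) θ.2.1
      have hk : (Subgroup.centralizer (N : Set H)).index = p ^ 0 := by
        rw [pow_zero, Subgroup.index_eq_one, eq_top_iff]
        intro c _
        rw [hN, mem_centralizer_zpowers_iff]
        exact Subgroup.mem_center_iff.1 hzZ c
      have h2 : SameBlock M (ψ : H ⧸ N → ℂ) f := by
        refine (sameBlock_inflate_iff hpM hNp hk ψ ⟨f, hf⟩).2 ?_
        rw [hfθ] at hsame
        exact hsame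
      rw [IsPBlock.eq_blockOf hBb hψ]
      exact h2
    choose ψ hψ1 hψ2 using hex
    refine Nat.card_le_card_of_injective (fun θ => (⟨ψ θ, hψ2 θ⟩ : Bb)) fun θ θ' h => ?_
    have h' : ψ θ = ψ θ' := congrArg Subtype.val h
    exact Subtype.ext (by rw [← hψ1 θ, ← hψ1 θ', h'])

/-- A major subsection at a central element of order `p` of a defect group. -/
theorem exists_major_subsection (hpM : (p : AlgInt) ∈ M) (hB : IsPBlock M B)
    (hd : 0 < blockDefect p B) :
    ∃ (x : G) (b : Set (IrrCharacter (Subgroup.centralizer (Subgroup.zpowers x : Set G)))),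
      orderOf x = p ∧
      IsInducedBlock M (Subgroup.centralizer (Subgroup.zpowers x : Set G)) b B ∧
      blockDefect p b = blockDefect p B := by
  obtain ⟨D, hD⟩ := exists_isDefectGroup (p := p) hB
  obtain ⟨e, he⟩ := exists_pair_on_defectGroup hpM hB hD
  have hmax := isMaximal_of_defectGroup hpM hD he
  have hcard := card_defectGroup hpM hB hD
  haveI : Nontrivial D := Finite.one_lt_card_iff_nontrivial.1
    (hcard ▸ Nat.one_lt_pow hd.ne' hp.out.one_lt)
  haveI := (IsDefectGroup.isPGroup hD).center_nontrivial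
  obtain ⟨n, hn⟩ := IsPGroup.iff_card.1 ((IsDefectGroup.isPGroup hD).to_subgroup (Subgroup.center D))
  have hn0 : n ≠ 0 := fun h => by
    have := Finite.one_lt_card_iff_nontrivial.2 (inferInstance : Nontrivial (Subgroup.center D))
    rw [hn, h, pow_zero] at this
    omega
  haveI : Fintype (Subgroup.center D) := Fintype.ofFinite _
  obtain ⟨z, hz⟩ := exists_prime_orderOf_dvd_card' (G := Subgroup.center D) p
    (hn ▸ dvd_pow_self p hn0)
  obtain ⟨x, hxz⟩ : ∃ x : G, x = ((z : D) : G) := ⟨_, rfl⟩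
  have hxo : orderOf x = p := by
    rw [hxz, Subgroup.orderOf_coe, Subgroup.orderOf_coe, hz]
  have hxD : x ∈ D := hxz ▸ (z : D).2
  have hxC : x ∈ Subgroup.centralizer (D : Set G) := by
    rw [Subgroup.mem_centralizer_iff, hxz]
    intro u hu
    exact congrArg Subtype.val (Subgroup.mem_center_iff.1 z.2 ⟨u, hu⟩)
  obtain ⟨b, hb⟩ : ∃ b, pairBelow p M ⟨D, e⟩ x = ⟨Subgroup.zpowers x, b⟩ := by
    unfold pairBelow
    split_ifs <;> exact ⟨_, rfl⟩
  have hle : Below p M ⟨Subgroup.zpowers x, b⟩ ⟨D, e⟩ :=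
    hb ▸ pairBelow_below (c := ⟨D, e⟩) hpM hmax.1.1 hxD
  exact ⟨x, b, hxo, isInducedBlock_zpowers hpM ((isBrauerPairOf_iff_of_below hpM hle B).2 hmax.1),
    blockDefect_eq_of_central hpM hmax hxC hle⟩

open scoped Classical in
/-- **The number of characters of a block of defect `d`.** -/
theorem card_block_le_pow (hM : IsPModular p M) (d : ℕ) :
    ∀ (G : Type u) [Group G] [Fintype G] (B : Set (IrrCharacter G)), IsPBlock M B →
      blockDefect p B = d → (d ≤ 2 → Nat.card B ≤ p ^ d) ∧ (3 ≤ d → Nat.card B ≤ p ^ (2 * d - 2)) := by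
  induction d using Nat.strong_induction_on with
  | _ d ih =>
  intro G _ _ B hB hd
  have hpM := hM.2.2
  rcases Nat.eq_zero_or_pos d with hd0 | hd0
  · subst hd0
    refine ⟨fun _ => ?_, fun h => absurd h (by omega)⟩
    have h := four_mul_card_le (p := p) hpM hB
    rw [hd, mul_zero, pow_zero] at h
    rw [pow_zero]
    omega
  obtain ⟨x, b, hx, hind, hmaj⟩ := exists_major_subsection (p := p) hpM hB (hd ▸ hd0)
  haveI := Fintype.ofFinite (Subgroup.centralizer (Subgroup.zpowers x : Set G))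
  haveI := irrFintype (Subgroup.centralizer (Subgroup.zpowers x : Set G))
  have hH := mem_centralizer_zpowers_iff x
  obtain ⟨e, rfl⟩ : ∃ e, d = e + 1 := ⟨d - 1, by omega⟩
  refine ⟨fun h2 => card_le_pow_of_subsection hM hH hx hind hmaj hd (by omega), fun h3 => ?_⟩
  by_cases hpos : ∃ χ ∈ B, 0 < blockHeight p B (χ : G → ℂ)
  · obtain ⟨χ, hχ, hχp⟩ := hpos
    have := two_mul_card_le hpM hB hχ hχp
    rw [hd] at this
    omega
  push Not at hpos
  have hx' : ∃ k, orderOf x = p ^ k := ⟨1, by rw [pow_one, hx]⟩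
  have h1 := card_height_zero_sq_le hM hH hx' hind
  have hcardB : Nat.card {χ : IrrCharacter G // χ ∈ B ∧ degVal p χ = blockMin p B} = Nat.card B :=
    Nat.card_congr (Equiv.subtypeEquivRight fun χ => ⟨fun h => h.1,
      fun h => ⟨h, (blockHeight_eq_zero_iff h).1 (Nat.le_zero.1 (hpos χ h))⟩⟩)
  rw [hcardB, hmaj, hd] at h1
  obtain ⟨z, hzx⟩ : ∃ z : Subgroup.centralizer (Subgroup.zpowers x : Set G), (z : G) = x :=
    ⟨⟨x, (hH x).2 rfl⟩, rfl⟩
  have hzZ : z ∈ Subgroup.center _ := by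
    rw [Subgroup.mem_center_iff]
    exact fun c => Subtype.ext (by rw [Subgroup.coe_mul, Subgroup.coe_mul, hzx]; exact (hH c).1 c.2)
  haveI : (Subgroup.zpowers z).Normal := ⟨fun v hv c => by
    obtain ⟨i, rfl⟩ := Subgroup.mem_zpowers_iff.1 hv
    rw [Subgroup.mem_center_iff.1 (zpow_mem hzZ i) c, mul_inv_cancel_right]
    exact Subgroup.zpow_mem_zpowers z i⟩
  obtain ⟨Bb, hBb, hdb, hrank⟩ := exists_quotient_rank_le hM hind.1 hzZ
    (by rw [← Subgroup.orderOf_coe, hzx, hx]) (hmaj.trans hd)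
  haveI := Fintype.ofFinite
    (Subgroup.centralizer (Subgroup.zpowers x : Set G) ⧸ Subgroup.zpowers z)
  obtain ⟨ih1, ih2⟩ := ih e (by omega) _ Bb hBb hdb
  have hkb : Nat.card Bb ≤ p ^ (2 * e - 2) := by
    rcases Nat.lt_or_ge e 3 with he | he
    · exact (ih1 (by omega)).trans (Nat.pow_le_pow_right hp.out.pos (by omega))
    · exact ih2 he
  have h4 : Nat.card B ^ 2 ≤ (p ^ (2 * (e + 1) - 2)) ^ 2 := by
    refine h1.trans ((Nat.mul_le_mul_left _ (hrank.trans hkb)).trans_eq ?_)
    rw [← pow_add, ← pow_mul]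
    congr 1
    omega
  exact (Nat.pow_le_pow_iff_left two_ne_zero).1 h4

end CfsgLib.Blocks
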