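import Cfsg.Agent.Lib.Blocks.Induced
import Cfsg.Agent.Lib.Chars.Induction

/-!
# Induced central characters
-/

set_option linter.unusedSectionVars false
set_option linter.style.haveILetI false

namespace CfsgLib.Blocks

open Cfsg Chars
open scoped ComplexConjugate

variable {G : Type*} [Group G] [Fintype G]

theorem sum_classInd (g : G) :
    ∑ x, classInd g x = ((Subgroup.centralizer ({g} : Set G)).index : ℂ) := by
  classical
  simp only [classInd_apply]
  rw [index_centralizer_eq, Nat.card_eq_fintype_card, Fintype.card_subtype, Finset.card_filter,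
    Nat.cast_sum]
  exact Finset.sum_congr rfl fun x _ => by split_ifs <;> simp

theorem card_mul_sum_classInd_mul (g : G) (F : G → ℂ) :
    (Nat.card G : ℂ) * ∑ y, classInd g y * F y =
      ((Subgroup.centralizer ({g} : Set G)).index : ℂ) * ∑ x, F (x⁻¹ * g * x) := by
  classical
  have hT : ∀ y, IsConj g y → ∑ x, F (x⁻¹ * y * x) = ∑ x, F (x⁻¹ * g * x) := by
    intro y hy
    obtain ⟨c, rfl⟩ := isConj_iff.1 hy
    rw [← Equiv.sum_comp (Equiv.mulLeft c) (fun x => F (x⁻¹ * (c * g * c⁻¹) * x))]
    refine Finset.sum_congr rfl fun x _ => ?_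
    simp [mul_assoc]
  calc (Nat.card G : ℂ) * ∑ y, classInd g y * F y
      = ∑ _x : G, ∑ y, classInd g y * F y := by
        rw [Finset.sum_const, nsmul_eq_mul, Finset.card_univ, Nat.card_eq_fintype_card]
    _ = ∑ x : G, ∑ y, classInd g y * F (x⁻¹ * y * x) := by
        refine Finset.sum_congr rfl fun x _ => ?_
        rw [← Equiv.sum_comp (MulAut.conj x⁻¹).toEquiv (fun y => classInd g y * F y)]
        refine Finset.sum_congr rfl fun y _ => ?_
        have e : (MulAut.conj x⁻¹).toEquiv y = x⁻¹ * y * x := by simp
        have e2 : classInd g (x⁻¹ * y * x) = classInd g y := by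
          simpa using isClassFunction_classInd g y x⁻¹
        rw [e, e2]
    _ = ∑ y, classInd g y * ∑ x, F (x⁻¹ * y * x) := by
        rw [Finset.sum_comm]
        simp only [Finset.mul_sum]
    _ = ∑ y, classInd g y * ∑ x, F (x⁻¹ * g * x) := by
        refine Finset.sum_congr rfl fun y _ => ?_
        by_cases hy : IsConj g y
        · rw [hT y hy]
        · rw [classInd_apply, if_neg hy, zero_mul, zero_mul]
    _ = _ := by rw [← Finset.sum_mul, sum_classInd]

/-- The induced central character is the central character of the induced function. -/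
theorem inducedCentralChar_eq_centralChar_indFun (H : Subgroup G) [Fintype H] (ξ : H → ℂ) (g : G) :
    inducedCentralChar H ξ g = centralChar (indFun H ξ) g := by
  classical
  rw [inducedCentralChar_eq, omega, centralChar, indFun_one_apply, indFun_apply]
  have h1 := card_mul_sum_classInd_mul g (extendByZero H ξ)
  have h2 : ∑ y, classInd g y * extendByZero H ξ y = ∑ h : H, resFun H (classInd g) h * ξ h := by
    rw [Finset.sum_congr rfl fun y _ => mul_comm (classInd g y) (extendByZero H ξ y),
      sum_extendByZero_mul]
    exact Finset.sum_congr rfl fun h _ => mul_comm _ _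
  rw [h2] at h1
  have hH : (Nat.card H : ℂ) ≠ 0 := Nat.cast_ne_zero.2 Nat.card_pos.ne'
  have hi : (H.index : ℂ) ≠ 0 := Nat.cast_ne_zero.2 Subgroup.index_ne_zero_of_finite
  have hG : (Nat.card H : ℂ) * (H.index : ℂ) = (Nat.card G : ℂ) := by
    exact_mod_cast H.card_mul_index
  rcases eq_or_ne (ξ 1) 0 with h0 | h0
  · simp [h0]
  · rw [← hG] at h1
    field_simp
    linear_combination h1

end CfsgLib.Blocks
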