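import Cfsg.Agent.Lib.Blocks.Covering
import Cfsg.Agent.Lib.Blocks.Small
import Cfsg.Agent.Lib.Blocks.InductionValues
import Cfsg.Agent.Lib.CharApps.Basic

/-!
# The correspondence of blocks over the stabiliser of a block of a normal subgroup
-/

set_option autoImplicit false
set_option linter.unusedSectionVars false
set_option linter.style.haveILetI false

namespace CfsgLib.Blocks

open Cfsg CfsgLib.Chars Finset
open scoped ComplexConjugate

universe u

variable {G : Type u} [Group G] [Fintype G] {N : Subgroup G} [N.Normal] [Fintype N]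
  {T : Subgroup G} [Fintype T] {M : Ideal AlgInt} [M.IsPrime]
  {b : Set (IrrCharacter N)}

/-- The idempotent of `b` as a function on `T`. -/
noncomputable def stabIdem (b : Set (IrrCharacter N)) (T : Subgroup G) : T → ℂ :=
  fun t => liftIdem N b (t : G)

/-- `ψ` lies over the block `b`. -/
def OverBlock (hNT : N ≤ T) (b : Set (IrrCharacter N)) (ψ : T → ℂ) : Prop :=
  ∃ θ ∈ b, classInner (fun n : N => ψ ⟨(n : G), hNT n.2⟩) (θ : N → ℂ) ≠ 0

theorem sum_blockCoeff_restrict [Fintype (IrrCharacter N)] [DecidablePred (· ∈ b)] {f : N → ℂ}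
    (hf : IsClassFunction N f) :
    ∑ n : N, blockCoeff b n * f n =
      ∑ θ ∈ univ.filter (· ∈ b), classInner f (θ : N → ℂ) * (θ : N → ℂ) 1 := by
  have hexp : ∀ n, f n = ∑ θ : IrrCharacter N, classInner f (θ : N → ℂ) * (θ : N → ℂ) n := fun n => by
    conv_lhs => rw [classFun_eq_sum hf]
    simp [Finset.sum_apply]
  rw [Finset.sum_congr rfl fun n _ => by rw [hexp n, Finset.mul_sum], Finset.sum_comm,
    Finset.sum_filter]
  refine Finset.sum_congr rfl fun θ _ => ?_
  have h := omega_blockCoeff b θ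
  rw [omega, div_eq_iff (irr_degree_ne_zero θ.2)] at h
  rw [Finset.sum_congr rfl fun n _ => mul_left_comm (blockCoeff b n) _ _, ← Finset.mul_sum, h]
  split_ifs <;> ring

theorem sum_stabIdem_mul (hNT : N ≤ T) (F : T → ℂ) :
    ∑ t : T, stabIdem b T t * F t = ∑ n : N, blockCoeff b n * F ⟨(n : G), hNT n.2⟩ := by
  refine Eq.symm (Fintype.sum_of_injective (fun n : N => (⟨(n : G), hNT n.2⟩ : T))
    (fun a c h => Subtype.ext (congrArg (fun t : T => (t : G)) h)) _ _ (fun t ht => ?_) fun n => ?_)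
  · rw [stabIdem, liftIdem_eq_zero N b, zero_mul]
    exact fun hm => ht ⟨⟨_, hm⟩, rfl⟩
  · rw [stabIdem, liftIdem, extendByZero_coe N]

variable (hT : ∀ g : G, g ∈ T ↔ ∀ θ ∈ b, conjIrr N g θ ∈ b)
include hT

theorem conjIrr_mem_iff {y : G} (hy : y ∈ T) (θ : IrrCharacter N) :
    conjIrr N y θ ∈ b ↔ θ ∈ b := by
  refine ⟨fun h => ?_, (hT y).1 hy θ⟩
  have := (hT y⁻¹).1 (T.inv_mem hy) _ h
  rwa [← conjIrr_mul, mul_inv_cancel, conjIrr_one] at this

theorem isClassFunction_stabIdem : IsClassFunction T (stabIdem b T) := by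
  classical
  intro x y
  simp only [stabIdem, Subgroup.coe_mul, Subgroup.coe_inv]
  by_cases hx : (x : G) ∈ N
  · have hx' : (y : G) * x * (y : G)⁻¹ ∈ N := Subgroup.Normal.conj_mem inferInstance _ hx _
    rw [liftIdem, extendByZero_of_mem N _ hx, extendByZero_of_mem N _ hx']
    have hc : IsClassFunction N (fun n => blockCoeff b (CharsMore.conjBy N (y : G) n)) := fun u v => by
      show blockCoeff b (CharsMore.conjBy N (y : G) (v * u * v⁻¹)) = _
      rw [map_mul, map_mul, map_inv, isClassFunction_blockCoeff b]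
    have h := congrFun (classFun_ext_omega hc (isClassFunction_blockCoeff b) fun φ => by
      have e := omega_conjIrr N (y : G)⁻¹ φ (blockCoeff b)
      rw [inv_inv] at e
      rw [← e, omega_blockCoeff, omega_blockCoeff]
      exact if_congr (conjIrr_mem_iff hT (T.inv_mem y.2) φ) rfl rfl) ⟨x, hx⟩
    rw [← h]
    exact congrArg _ (Subtype.ext (by simp))
  · have hx' : (y : G) * x * (y : G)⁻¹ ∉ N := fun h' => hx (by
      simpa [mul_assoc] using Subgroup.Normal.conj_mem inferInstance _ h' (y : G)⁻¹)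
    rw [liftIdem_eq_zero N b hx, liftIdem_eq_zero N b hx']

theorem isLocClassFun_stabIdem (hb : IsPBlock M b) : IsLocClassFun M (stabIdem b T) := by
  refine ⟨isClassFunction_stabIdem hT, fun t => ?_⟩
  by_cases ht : (t : G) ∈ N
  · rw [stabIdem, liftIdem, extendByZero_of_mem N _ ht]
    exact blockCoeff_mem_loc hb _
  · rw [stabIdem, liftIdem_eq_zero N b ht]
    exact zero_mem _

theorem conv_stabIdem_self (hNT : N ≤ T) :
    conv (stabIdem b T) (stabIdem b T) = stabIdem b T := by
  funext t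
  rw [conv, sum_stabIdem_mul hNT (fun s => stabIdem b T (s⁻¹ * t))]
  by_cases ht : (t : G) ∈ N
  · conv_rhs => rw [stabIdem, liftIdem, extendByZero_of_mem N _ ht, ← conv_blockCoeff_self, conv]
    refine Finset.sum_congr rfl fun n _ => congrArg _ ?_
    rw [stabIdem, liftIdem, Subgroup.coe_mul, Subgroup.coe_inv]
    exact extendByZero_coe N _ (n⁻¹ * (⟨(t : G), ht⟩ : N))
  · rw [stabIdem, liftIdem_eq_zero N b ht]
    refine Finset.sum_eq_zero fun n _ => ?_
    rw [stabIdem, Subgroup.coe_mul, Subgroup.coe_inv, liftIdem_eq_zero N b, mul_zero]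
    exact fun hm => ht (by simpa using N.mul_mem n.2 hm)

/-- `ψ` lies over `b` exactly when the idempotent acts as the identity. -/
theorem omega_stabIdem (hNT : N ≤ T) (ψ : IrrCharacter T) :
    (OverBlock hNT b (ψ : T → ℂ) → omega (ψ : T → ℂ) (stabIdem b T) = 1) ∧
      (¬ OverBlock hNT b (ψ : T → ℂ) → omega (ψ : T → ℂ) (stabIdem b T) = 0) := by
  classical
  haveI := irrFintype N
  have hres : IsCharacter N (fun n : N => (ψ : T → ℂ) ⟨(n : G), hNT n.2⟩) :=
    isCharacter_comp (Subgroup.inclusion hNT) (isCharacter_of_irr ψ.2)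
  have hval : omega (ψ : T → ℂ) (stabIdem b T) =
      (∑ θ ∈ univ.filter (· ∈ b),
        classInner (fun n : N => (ψ : T → ℂ) ⟨(n : G), hNT n.2⟩) (θ : N → ℂ) * (θ : N → ℂ) 1) /
      (ψ : T → ℂ) 1 := by
    rw [omega, sum_stabIdem_mul hNT, sum_blockCoeff_restrict (isClassFunction_of_isCharacter hres)]
  refine ⟨fun hov => ?_, fun hov => ?_⟩
  · have hidem := omega_conv ψ (isClassFunction_stabIdem hT) (stabIdem b T)
    rw [conv_stabIdem_self hT hNT] at hidem
    refine mul_left_cancel₀ (a := omega (ψ : T → ℂ) (stabIdem b T)) ?_ (by rw [mul_one, ← hidem])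
    rw [hval, div_ne_zero_iff]
    refine ⟨?_, irr_degree_ne_zero ψ.2⟩
    choose m hm using fun θ : IrrCharacter N => inner_irr_right_nat hres θ
    choose d hd using fun θ : IrrCharacter N => character_degree_nat (isCharacter_of_irr θ.2)
    obtain ⟨θ₀, hθ₀, h0⟩ := hov
    simp only [hm, hd]
    have hpos : 0 < ∑ θ ∈ univ.filter (· ∈ b), m θ * d θ := by
      refine Finset.sum_pos' (fun _ _ => Nat.zero_le _) ⟨θ₀, mem_filter.2 ⟨mem_univ _, hθ₀⟩, ?_⟩
      refine Nat.mul_pos (Nat.pos_of_ne_zero fun h => h0 (by rw [hm, h, Nat.cast_zero])) (Nat.pos_of_ne_zero fun h => ?_)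
      exact irr_degree_ne_zero θ₀.2 (by rw [hd, h, Nat.cast_zero])
    exact_mod_cast hpos.ne'
  · rw [hval, Finset.sum_eq_zero fun θ hθ => ?_, zero_div]
    rw [show classInner (fun n : N => (ψ : T → ℂ) ⟨(n : G), hNT n.2⟩) (θ : N → ℂ) = 0 by
      by_contra h
      exact hov ⟨θ, (mem_filter.1 hθ).2, h⟩, zero_mul]

/-- Lying over `b` is constant on blocks. -/
theorem OverBlock.of_sameBlock (hb : IsPBlock M b) (hNT : N ≤ T) {ψ ψ' : IrrCharacter T}
    (h : SameBlock M (ψ : T → ℂ) (ψ' : T → ℂ)) (hov : OverBlock hNT b (ψ : T → ℂ)) :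
    OverBlock hNT b (ψ' : T → ℂ) := by
  by_contra hno
  have h1 := omega_sub_mem h (isLocClassFun_stabIdem hT hb)
  rw [(omega_stabIdem hT hNT ψ).1 hov, (omega_stabIdem hT hNT ψ').2 hno, sub_zero] at h1
  exact not_memLocalIdeal_one h1

/-- The `b`-part of an induced character is the character. -/
theorem sum_blockCoeff_indFun (hb : IsPBlock M b) (hNT : N ≤ T) {ψ : IrrCharacter T}
    (hψ : OverBlock hNT b (ψ : T → ℂ)) (t : T) :
    ∑ n : N, blockCoeff b n * indFun T (ψ : T → ℂ) ((n : G) * t) = (ψ : T → ℂ) t := by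
  classical
  set f : G → ℂ := extendByZero T (ψ : T → ℂ) with hf
  set S : G → ℂ := fun x => ∑ n : N, blockCoeff b n * f (x⁻¹ * ((n : G) * t) * x) with hS
  have hin : ∀ x ∈ T, S x = (ψ : T → ℂ) t := by
    intro x hx
    have h := sum_mul_irr ψ (isClassFunction_stabIdem hT) t
    rw [(omega_stabIdem hT hNT ψ).1 hψ, one_mul,
      sum_stabIdem_mul hNT (fun s => (ψ : T → ℂ) (s * t))] at h
    rw [← h]
    refine Finset.sum_congr rfl fun n _ => congrArg _ ?_
    rw [hf, extendByZero_of_mem T _ (T.mul_mem (T.mul_mem (T.inv_mem hx)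
      (T.mul_mem (hNT n.2) t.2)) hx)]
    exact (congrArg _ (Subtype.ext (by simp))).trans
      (isClassFunction_irr ψ (⟨(n : G), hNT n.2⟩ * t) (⟨x, hx⟩ : T)⁻¹)
  have hout : ∀ x ∉ T, S x = 0 := by
    intro x hx
    by_cases hs : x⁻¹ * (t : G) * x ∈ T
    swap
    · refine Finset.sum_eq_zero fun n _ => ?_
      rw [hf, extendByZero_of_not_mem T, mul_zero]
      intro hm
      apply hs
      have hn : x⁻¹ * (n : G) * x ∈ T :=
        hNT (by simpa using Subgroup.Normal.conj_mem (inferInstanceAs N.Normal) _ n.2 x⁻¹)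
      have := T.mul_mem (T.inv_mem hn) hm
      simpa [mul_assoc] using this
    set s₀ : T := ⟨x⁻¹ * (t : G) * x, hs⟩ with hs₀
    set e' : N → ℂ := fun m => blockCoeff b (CharsMore.conjBy N x m) with he'
    have hcl : IsClassFunction N e' := fun u v => by
      show blockCoeff b (CharsMore.conjBy N x (v * u * v⁻¹)) = _
      rw [map_mul, map_mul, map_inv, isClassFunction_blockCoeff b]
    have hzero : conv (blockCoeff b) e' = 0 := by
      refine classFun_ext_omega (isClassFunction_conv (isClassFunction_blockCoeff b) hcl)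
        isClassFunction_zero fun φ => ?_
      have e := omega_conjIrr N x⁻¹ φ (blockCoeff b)
      rw [inv_inv] at e
      rw [omega_conv φ (isClassFunction_blockCoeff b), ← e, omega_blockCoeff, omega_blockCoeff,
        show omega (φ : N → ℂ) (0 : N → ℂ) = 0 by simp [omega]]
      by_cases hφ : φ ∈ b
      · rw [if_pos hφ, one_mul, if_neg fun hc => hx ?_]
        rw [← inv_inv x]
        refine T.inv_mem ((hT x⁻¹).2 fun θ hθ => ?_)
        exact IsPBlock.mem_of_sameBlock hb hc
          (sameBlock_conjIrr N x⁻¹ (IsPBlock.sameBlock hb hφ hθ))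
      · rw [if_neg hφ, zero_mul]
    calc S x = ∑ m : N, e' m * (ψ : T → ℂ) (⟨(m : G), hNT m.2⟩ * s₀) := by
          refine (Fintype.sum_bijective (CharsMore.conjBy N x) (bijective_conjBy N x) _ _
            fun m => ?_).symm
          refine congrArg _ ?_
          have hval : x⁻¹ * (((CharsMore.conjBy N x m : N) : G) * t) * x =
              ((⟨(m : G), hNT m.2⟩ * s₀ : T) : G) := by
            simp [hs₀, mul_assoc]
          rw [hval, hf, extendByZero_coe]
      _ = ∑ k : N, conv (blockCoeff b) e' k * (ψ : T → ℂ) (⟨(k : G), hNT k.2⟩ * s₀) := by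
          rw [sum_conv_mul, Finset.sum_comm]
          refine Finset.sum_congr rfl fun m _ => ?_
          have h := sum_mul_irr ψ (isClassFunction_stabIdem hT) (⟨(m : G), hNT m.2⟩ * s₀)
          rw [(omega_stabIdem hT hNT ψ).1 hψ, one_mul, sum_stabIdem_mul hNT
            (fun s => (ψ : T → ℂ) (s * (⟨(m : G), hNT m.2⟩ * s₀)))] at h
          rw [← h, Finset.mul_sum]
          refine Finset.sum_congr rfl fun n _ => ?_
          rw [show (⟨((n * m : N) : G), hNT (n * m).2⟩ : T) * s₀ =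
            ⟨(n : G), hNT n.2⟩ * (⟨(m : G), hNT m.2⟩ * s₀) from Subtype.ext (by simp [mul_assoc])]
          ring
      _ = 0 := by
          rw [hzero]
          simp
  calc ∑ n : N, blockCoeff b n * indFun T (ψ : T → ℂ) ((n : G) * t)
      = (Nat.card T : ℂ)⁻¹ * ∑ x : G, S x := by
        simp only [indFun_apply, hS, ← hf, Finset.mul_sum]
        rw [Finset.sum_comm]
        exact Finset.sum_congr rfl fun x _ => Finset.sum_congr rfl fun n _ => by ring
    _ = (ψ : T → ℂ) t := by
        rw [← Finset.sum_subset (Finset.subset_univ (univ.filter (· ∈ T)))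
          (fun x _ hx => hout x (by simpa using hx)),
          Finset.sum_congr rfl fun x hx => hin x (mem_filter.1 hx).2, Finset.sum_const,
          nsmul_eq_mul, ← Fintype.card_subtype, ← Nat.card_eq_fintype_card, ← mul_assoc,
          inv_mul_cancel₀ (Nat.cast_ne_zero.2 Nat.card_pos.ne'), one_mul]

/-- The multiplicities over `b` in the restriction of an induced character. -/
theorem inner_indFun_over [DecidableEq (IrrCharacter T)] (hb : IsPBlock M b) (hNT : N ≤ T)
    {ψ ψ' : IrrCharacter T} (hψ : OverBlock hNT b (ψ : T → ℂ)) (hψ' : OverBlock hNT b (ψ' : T → ℂ)) :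
    classInner (fun t : T => indFun T (ψ : T → ℂ) t) (ψ' : T → ℂ) = if ψ = ψ' then 1 else 0 := by
  classical
  haveI := irrFintype T
  have hcl := isClassFunction_restrict T (isClassFunction_indFun T (ψ : T → ℂ))
  set c : IrrCharacter T → ℂ := fun η =>
    classInner (fun t : T => indFun T (ψ : T → ℂ) t) (η : T → ℂ) with hc
  have hexp : (ψ : T → ℂ) = ∑ η : IrrCharacter T,
      (c η * omega (η : T → ℂ) (stabIdem b T)) • (η : T → ℂ) := by
    funext t
    rw [← sum_blockCoeff_indFun hT hb hNT hψ t,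
      ← sum_stabIdem_mul hNT (fun s : T => indFun T (ψ : T → ℂ) ((s : G) * t)), Finset.sum_apply]
    have hF : ∀ s : T, indFun T (ψ : T → ℂ) ((s : G) * t) =
        ∑ η : IrrCharacter T, c η * (η : T → ℂ) (s * t) := fun s => by
      have := congrFun (classFun_eq_sum hcl) (s * t)
      simpa [Finset.sum_apply, hc] using this
    simp only [hF, Finset.mul_sum, Pi.smul_apply, smul_eq_mul]
    rw [Finset.sum_comm]
    refine Finset.sum_congr rfl fun η _ => ?_
    rw [mul_assoc, ← sum_mul_irr η (isClassFunction_stabIdem hT) t, Finset.mul_sum]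
    exact Finset.sum_congr rfl fun s _ => by ring
  have h2 : classInner (ψ : T → ℂ) (ψ' : T → ℂ) = c ψ' := by
    conv_lhs => rw [hexp, Chars.inner_sum_left]
    simp only [Chars.inner_smul_left, inner_irr, mul_ite, mul_one, mul_zero]
    rw [Finset.sum_ite_eq' Finset.univ ψ', if_pos (mem_univ _), (omega_stabIdem hT hNT ψ').1 hψ',
      mul_one]
  rw [← inner_irr ψ ψ', h2]

theorem inner_indFun_indFun [DecidableEq (IrrCharacter T)] (hb : IsPBlock M b) (hNT : N ≤ T)
    {ψ ψ' : IrrCharacter T} (hψ : OverBlock hNT b (ψ : T → ℂ)) (hψ' : OverBlock hNT b (ψ' : T → ℂ)) :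
    classInner (indFun T (ψ : T → ℂ)) (indFun T (ψ' : T → ℂ)) = if ψ = ψ' then 1 else 0 := by
  rw [inner_indFun_right T _ (isClassFunction_indFun T _), inner_indFun_over hT hb hNT hψ hψ']

theorem isIrr_indFun_of_overBlock (hb : IsPBlock M b) (hNT : N ≤ T) {ψ : IrrCharacter T}
    (hψ : OverBlock hNT b (ψ : T → ℂ)) : IsIrrCharacter G (indFun T (ψ : T → ℂ)) := by
  classical
  exact CharApps.isIrr_of_inner_self (isCharacter_indFun T (isCharacter_of_irr ψ.2))
    (by rw [inner_indFun_indFun hT hb hNT hψ hψ, if_pos rfl])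

theorem indFun_injective_overBlock (hb : IsPBlock M b) (hNT : N ≤ T) {ψ ψ' : IrrCharacter T}
    (hψ : OverBlock hNT b (ψ : T → ℂ)) (hψ' : OverBlock hNT b (ψ' : T → ℂ))
    (h : indFun T (ψ : T → ℂ) = indFun T (ψ' : T → ℂ)) : ψ = ψ' := by
  classical
  have h1 := inner_indFun_indFun hT hb hNT hψ hψ'
  rw [← h, inner_indFun_indFun hT hb hNT hψ hψ, if_pos rfl] at h1
  by_contra hne
  rw [if_neg hne] at h1
  exact one_ne_zero h1

/-- The induced character lies over `b`. -/
theorem exists_constituent_indFun (hb : IsPBlock M b) (hNT : N ≤ T) {ψ : IrrCharacter T}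
    (hψ : OverBlock hNT b (ψ : T → ℂ)) :
    ∃ θ ∈ b, classInner (fun n : N => indFun T (ψ : T → ℂ) n) (θ : N → ℂ) ≠ 0 := by
  classical
  haveI := irrFintype N
  by_contra hno
  push Not at hno
  have h := sum_blockCoeff_indFun hT hb hNT hψ 1
  simp only [OneMemClass.coe_one, mul_one] at h
  rw [sum_blockCoeff_restrict (isClassFunction_restrict N (isClassFunction_indFun T _)),
    Finset.sum_eq_zero fun θ hθ => by rw [hno θ (mem_filter.1 hθ).2, zero_mul]] at h
  exact irr_degree_ne_zero ψ.2 h.symm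

/-- Every character over `b` is induced from `T`. -/
theorem exists_overBlock_indFun_eq (hb : IsPBlock M b) (hNT : N ≤ T) {χ : IrrCharacter G}
    (hχ : ∃ θ ∈ b, classInner (fun n : N => (χ : G → ℂ) n) (θ : N → ℂ) ≠ 0) :
    ∃ ψ : IrrCharacter T, OverBlock hNT b (ψ : T → ℂ) ∧ indFun T (ψ : T → ℂ) = (χ : G → ℂ) := by
  classical
  haveI := irrFintype N
  haveI := irrFintype T
  obtain ⟨θ, hθ, hne⟩ := hχ
  have hres := isCharacter_restrict T (isCharacter_of_irr χ.2)
  obtain ⟨ψ, hψ, hc⟩ : ∃ ψ : IrrCharacter T, OverBlock hNT b (ψ : T → ℂ) ∧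
      classInner (fun t : T => (χ : G → ℂ) t) (ψ : T → ℂ) ≠ 0 := by
    by_contra hno
    push Not at hno
    apply hne
    have hd : (fun n : N => (χ : G → ℂ) n) = ∑ ψ : IrrCharacter T,
        classInner (fun t : T => (χ : G → ℂ) t) (ψ : T → ℂ) •
          (fun n : N => (ψ : T → ℂ) ⟨(n : G), hNT n.2⟩) := by
      funext n
      have := congrFun (classFun_eq_sum (isClassFunction_of_isCharacter hres)) ⟨n, hNT n.2⟩
      simpa [Finset.sum_apply] using this
    rw [hd, Chars.inner_sum_left]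
    refine Finset.sum_eq_zero fun ψ _ => ?_
    rw [Chars.inner_smul_left]
    by_cases hov : OverBlock hNT b (ψ : T → ℂ)
    · rw [hno ψ hov, zero_mul]
    · rw [show classInner (fun n : N => (ψ : T → ℂ) ⟨(n : G), hNT n.2⟩) (θ : N → ℂ) = 0 by
        by_contra h
        exact hov ⟨θ, hθ, h⟩, mul_zero]
  refine ⟨ψ, hψ, ?_⟩
  let χ' : IrrCharacter G := ⟨_, isIrr_indFun_of_overBlock hT hb hNT hψ⟩
  have h : classInner (χ : G → ℂ) (χ' : G → ℂ) ≠ 0 := by
    rw [inner_indFun_right T _ (isClassFunction_irr χ)]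
    exact hc
  rw [inner_irr] at h
  split_ifs at h with he
  · rw [he]
  · exact absurd rfl h

/-- Induction reflects blocks. -/
theorem sameBlock_of_indFun (hb : IsPBlock M b) (hNT : N ≤ T) {ψ ψ' : IrrCharacter T}
    (hψ : OverBlock hNT b (ψ : T → ℂ)) (hψ' : OverBlock hNT b (ψ' : T → ℂ))
    (h : SameBlock M (indFun T (ψ : T → ℂ)) (indFun T (ψ' : T → ℂ))) :
    SameBlock M (ψ : T → ℂ) (ψ' : T → ℂ) := by
  intro t
  set z : T → ℂ := conv (stabIdem b T) (classInd t) with hz
  have hzcl : IsClassFunction T z :=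
    isClassFunction_conv (isClassFunction_stabIdem hT) (isClassFunction_classInd t)
  have hzloc : ∀ s, z s ∈ loc M := fun s => sum_mem fun y _ =>
    mul_mem ((isLocClassFun_stabIdem hT hb).2 y) ((isLocClassFun_classInd t).2 _)
  have hloc : IsLocClassFun M (indFun T z) :=
    ⟨isClassFunction_indFun T z, indFun_mem_subring hzcl (loc M) hzloc⟩
  have key : ∀ η : IrrCharacter T, OverBlock hNT b (η : T → ℂ) →
      omega (indFun T (η : T → ℂ)) (indFun T z) = centralChar (η : T → ℂ) t := by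
    intro η hη
    set F := indFun T (η : T → ℂ) with hF
    have hfrob := inner_indFun T z (χ := fun g : G => conj (F g))
      fun g k => congrArg conj (isClassFunction_indFun T _ g k)
    simp only [inner_def, Complex.conj_conj] at hfrob
    have hcard : (Nat.card G : ℂ) = (T.index : ℂ) * (Nat.card T : ℂ) := by
      exact_mod_cast T.index_mul_card.symm
    have hsum : ∑ g, indFun T z g * F g = (T.index : ℂ) * ∑ s : T, z s * F s := by
      have hG : (Nat.card G : ℂ) ≠ 0 := Nat.cast_ne_zero.2 Nat.card_pos.ne'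
      have hT' : (Nat.card T : ℂ) ≠ 0 := Nat.cast_ne_zero.2 Nat.card_pos.ne'
      field_simp at hfrob
      rw [hcard] at hfrob
      exact mul_left_cancel₀ hT' (by linear_combination hfrob)
    rw [omega, hsum, hF, indFun_one_apply, mul_div_mul_left _ _
      (Nat.cast_ne_zero.2 Subgroup.index_ne_zero_of_finite), ← omega_classInd, omega]
    congr 1
    rw [hz, sum_conv_mul, Finset.sum_comm]
    refine Finset.sum_congr rfl fun s _ => ?_
    rw [← sum_blockCoeff_indFun hT hb hNT hη s, ← sum_stabIdem_mul hNT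
      (fun y : T => indFun T (η : T → ℂ) ((y : G) * s)), Finset.mul_sum]
    exact Finset.sum_congr rfl fun y _ => by rw [Subgroup.coe_mul]; ring
  have h1 := omega_sub_mem (χ := ⟨_, isIrr_indFun_of_overBlock hT hb hNT hψ⟩)
    (ψ := ⟨_, isIrr_indFun_of_overBlock hT hb hNT hψ'⟩) h hloc
  rwa [key ψ hψ, key ψ' hψ'] at h1

/-- The block of an induced character is the induced block. -/
theorem isInducedBlock_indFun (hb : IsPBlock M b) (hNT : N ≤ T) {B' : Set (IrrCharacter T)}
    (hB' : IsPBlock M B') {ψ : IrrCharacter T} (hψ : ψ ∈ B') (hov : OverBlock hNT b (ψ : T → ℂ)) :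
    IsInducedBlock M T B' (blockOf M (indFun T (ψ : T → ℂ))) := by
  refine ⟨hB', isPBlock_blockOf ⟨_, isIrr_indFun_of_overBlock hT hb hNT hov⟩, fun ξ hξ χ hχ g => ?_⟩
  have h1 := omega_sub_mem (IsPBlock.sameBlock hB' hξ hψ)
    (isLocClassFun_resFun T (isLocClassFun_classInd (M := M) g))
  rw [← inducedCentralChar_eq, ← inducedCentralChar_eq,
    inducedCentralChar_eq_centralChar_indFun T (ψ : T → ℂ)] at h1
  have h2 := MemLocalIdeal.add' h1 (hχ g)
  rwa [sub_add_sub_cancel] at h2

set_option maxHeartbeats 1000000 in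
/-- **The correspondence**: the block induced from a block over `b`. -/
theorem mem_induced_iff (hb : IsPBlock M b) (hNT : N ≤ T) {B' : Set (IrrCharacter T)}
    (hB' : IsPBlock M B') {ψ₀ : IrrCharacter T} (hψ₀ : ψ₀ ∈ B')
    (hov : OverBlock hNT b (ψ₀ : T → ℂ)) {B : Set (IrrCharacter G)} (hind : IsInducedBlock M T B' B)
    (χ : IrrCharacter G) : χ ∈ B ↔ ∃ ψ ∈ B', (χ : G → ℂ) = indFun T (ψ : T → ℂ) := by
  have hall : ∀ ψ ∈ B', ∀ χ : IrrCharacter G, (χ : G → ℂ) = indFun T (ψ : T → ℂ) → χ ∈ B := by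
    intro ψ hψ χ hχ
    obtain ⟨χ₁, hχ₁⟩ := IsPBlock.nonempty hind.2.1
    refine IsPBlock.mem_of_sameBlock hind.2.1 hχ₁ fun g => ?_
    have h := hind.2.2 ψ hψ χ₁ hχ₁ g
    rw [inducedCentralChar_eq_centralChar_indFun, ← hχ] at h
    simpa using MemLocalIdeal.neg' h
  refine ⟨fun hχ => ?_, fun ⟨ψ, hψ, he⟩ => hall ψ hψ χ he⟩
  set χ₀ : IrrCharacter G := ⟨_, isIrr_indFun_of_overBlock hT hb hNT hov⟩
  have hχ₀ : χ₀ ∈ B := hall ψ₀ hψ₀ χ₀ rfl
  obtain ⟨θ, hθ, h0⟩ := exists_constituent_indFun hT hb hNT hov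
  obtain ⟨φ, hφ⟩ := exists_constituent_restrict N χ
  obtain ⟨g, θ', hθ', rfl⟩ := mem_conjSet_of_sameBlock N hb
    (IsPBlock.sameBlock hind.2.1 hχ₀ hχ) hθ h0 hφ
  rw [coe_conjIrr, inner_conjFn N (isClassFunction_irr χ)] at hφ
  obtain ⟨ψ, hψ, he⟩ := exists_overBlock_indFun_eq hT hb hNT ⟨θ', hθ', hφ⟩
  refine ⟨ψ, IsPBlock.mem_of_sameBlock hB' hψ₀ (sameBlock_of_indFun hT hb hNT hov hψ ?_), he.symm⟩
  rw [he]
  exact IsPBlock.sameBlock hind.2.1 hχ₀ hχ

end CfsgLib.Blocks
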