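import Cfsg.Agent.Lib.Blocks.PSolvableFong
import Cfsg.Agent.Lib.Blocks.FongReynolds
import Cfsg.Agent.Lib.PLocal.Constrained
import Cfsg.Agent.Lib.Glauberman.CoprimeDegree
import Cfsg.Agent.Lib.CharsMore.CliffordDegree

/-!
# Heights in blocks of `p`-solvable groups are bounded by the central index of a defect group
-/

set_option autoImplicit false
set_option linter.style.haveILetI false
set_option linter.unusedSectionVars false

namespace CfsgLib.Blocks.PSolvableHeights

open Cfsg CfsgLib.Chars Subgroup

universe u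

/-- The degree over an invariant character of `O_{p'}`. -/
theorem factorization_degree_le {G : Type u} [Group G] [Finite G] {p : ℕ} [Fact p.Prime]
    (hsolv : IsPSolvable p G) (N : Subgroup G) [N.Normal] [Fintype N] (hN : N = pPrimeCore p G)
    (θ : IrrCharacter N)
    (hinv : ∀ (g : G) (n : N), (θ : N → ℂ) (CharsMore.conjBy N g n) = (θ : N → ℂ) n)
    (χ : IrrCharacter G) (h : classInner (fun n : N => (χ : G → ℂ) n) (θ : N → ℂ) ≠ 0)
    (P : Sylow p G) :
    (charDegree (χ : G → ℂ)).factorization p ≤
      ((Subgroup.center (P : Subgroup G)).index).factorization p := by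
  classical
  have hp : p.Prime := Fact.out
  haveI := Fintype.ofFinite G
  have hNp : ¬ p ∣ Nat.card N := hN ▸ Base.not_dvd_card_pPrimeCore p G
  set q := QuotientGroup.mk' N with hq
  have hqs : Function.Surjective q := QuotientGroup.mk'_surjective N
  set Qb := pCore p (G ⧸ N) with hQb
  haveI : ((Subgroup.center Qb).map Qb.subtype).Normal := inferInstance
  set A := ((Subgroup.center Qb).map Qb.subtype).comap q with hA
  haveI : A.Normal := Subgroup.Normal.comap inferInstance q
  have hNA : N ≤ A := fun n hn => by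
    rw [hA, Subgroup.mem_comap, hq, QuotientGroup.mk'_apply, (QuotientGroup.eq_one_iff n).mpr hn]
    exact Subgroup.one_mem _
  haveI := Fintype.ofFinite A
  set N' := N.subgroupOf A with hN'
  haveI := Fintype.ofFinite N'
  haveI := irrFintype A
  let e : N' ≃* N := Subgroup.subgroupOfEquivOfLe hNA
  -- the center of the Sylow subgroup lies in `A`
  have hZA : ∀ z : (P : Subgroup G), z ∈ Subgroup.center (P : Subgroup G) → (z : G) ∈ A := by
    intro z hz
    let Pb : Sylow p (G ⧸ N) := P.mapSurjective hqs
    have hmem : Qb ≤ (P : Subgroup G).map q := Base.pCore_le_sylow Pb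
    have hcomm : ∀ y ∈ Qb, y * q z = q z * y := fun y hy => by
      obtain ⟨x, hx, rfl⟩ := hmem hy
      have h1 := congrArg Subtype.val (Subgroup.mem_center_iff.mp hz ⟨x, hx⟩)
      rw [← map_mul, ← map_mul]
      exact congrArg q h1
    have hzQ : q z ∈ Qb := PLocal.centralizer_pCore_le (PLocal.isPSolvable_quotient hsolv _)
      (by subst hN; exact Base.pPrimeCore_quotient_pPrimeCore p G)
      (Subgroup.mem_centralizer_iff.mpr hcomm)
    exact ⟨⟨q z, hzQ⟩, Subgroup.mem_center_iff.mpr fun y => Subtype.ext (hcomm y y.2), rfl⟩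
  -- the constituents on `A` have degree prime to `p`
  obtain ⟨ψ, hψ⟩ := Blocks.exists_constituent_restrict A χ
  obtain ⟨k, -, hk, hkd⟩ := CharsMore.degree_quotient A χ.2 ψ.2 hψ
  have hψp : ¬ p ∣ charDegree (ψ : A → ℂ) := by
    obtain ⟨φ, hφ⟩ := Blocks.exists_constituent_restrict N' ψ
    have hφθ : (φ : N' → ℂ) = fun x => (θ : N → ℂ) (e x) := by
      have h1 := CharsMore.restrict_eq_mul_of_invariant N χ.2 θ.2 hinv h
      by_contra hne
      have h2 : classInner (fun x : N' => (χ : G → ℂ) ((x : A) : G)) (φ : N' → ℂ) ≠ 0 :=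
        Blocks.constituent_trans A N'.subtype hψ hφ
      apply h2
      rw [show (fun x : N' => (χ : G → ℂ) ((x : A) : G)) =
        classInner (fun n : N => (χ : G → ℂ) n) θ • fun x => (θ : N → ℂ) (e x) from
          funext fun x => by rw [Pi.smul_apply, smul_eq_mul, ← h1]; rfl, Chars.inner_smul_left]
      have h3 : classInner (fun x : N' => (θ : N → ℂ) (e x)) (φ : N' → ℂ) = 0 :=
        inner_irr_ne (χ := ⟨_, isIrrCharacter_comp e.toMonoidHom e.surjective θ.2⟩) (ψ := φ)
          fun he => hne (congrArg Subtype.val he).symm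
      rw [h3, mul_zero]
    have hcop : (Nat.card N').Coprime N'.index := by
      have h1 : N'.index = Nat.card ((Subgroup.center Qb).map Qb.subtype) := by
        rw [← Subgroup.map_comap_eq_self_of_surjective hqs ((Subgroup.center Qb).map Qb.subtype),
          ← hA, PLocal.card_map_mk'_eq_relIndex]
        rfl
      obtain ⟨j, hj⟩ := IsPGroup.iff_card.mp ((Base.isPGroup_pCore p (G ⧸ N)).to_le
        (Subgroup.map_subtype_le (Subgroup.center Qb)))
      rw [Nat.card_congr e.toEquiv, h1, hj]
      exact (Nat.Coprime.pow_right j (hp.coprime_iff_not_dvd.mpr hNp).symm)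
    have hinvA : ∀ (g : A) (x : N'), (φ : N' → ℂ) (CharsMore.conjBy N' g x) = (φ : N' → ℂ) x := by
      intro g x
      rw [hφθ]
      show (θ : N → ℂ) (e _) = (θ : N → ℂ) (e x)
      rw [← hinv (g : G) (e x)]
      congr 1
    obtain ⟨E, hE, hEres⟩ := Glauberman.exists_ext_of_coprime_card N' hcop φ hinvA
    have hEN : IsIrrCharacter N' (fun x : N' => E x) := by rw [funext hEres]; exact φ.2
    obtain ⟨β, hβ, hψβ⟩ := CharsMore.gallagher_exists N' hE hEN ψ.2
      (by rw [funext hEres]; exact hφ)
    obtain ⟨b, hb, hβb⟩ := exists_deflate_irr N' β.2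
      (fun n hn => (CharsMore.mem_quotIrr N').mp hβ hn)
    have habel : ∀ x y : A ⧸ N', x * y = y * x := by
      intro x y
      obtain ⟨x, rfl⟩ := QuotientGroup.mk_surjective x
      obtain ⟨y, rfl⟩ := QuotientGroup.mk_surjective y
      rw [← QuotientGroup.mk_mul, ← QuotientGroup.mk_mul, QuotientGroup.eq_iff_div_mem,
        hN', Subgroup.mem_subgroupOf, ← QuotientGroup.eq_one_iff, ← QuotientGroup.mk'_apply N]
      obtain ⟨a, ha, hax⟩ := x.2
      obtain ⟨c, hc, hcy⟩ := y.2
      simp only [Subgroup.coe_mul, Subgroup.coe_div, map_div, map_mul]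
      rw [← hq, ← hax, ← hcy, div_eq_one, ← map_mul, ← map_mul,
        Subgroup.mem_center_iff.mp ha c]
    obtain ⟨d, -, hd, hdvd⟩ := irr_degree_dvd_card φ.2
    have h1 : (ψ : A → ℂ) 1 = (d : ℂ) := by
      rw [hψβ, Pi.mul_apply, hβb, show (1 : A) = ((1 : N') : A) from rfl, hEres, hd]
      show b ((1 : A) : A ⧸ N') * _ = _
      rw [QuotientGroup.mk_one, irr_abelian_degree habel hb, one_mul]
    rw [CharApps.deg_eq] at h1
    rw [Nat.cast_injective h1]
    exact fun hpd => hNp (Nat.card_congr e.toEquiv ▸ hpd.trans hdvd)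
  rw [CharApps.deg_eq, CharApps.deg_eq, ← Nat.cast_mul, Nat.cast_inj] at hk
  have hk0 : k ≠ 0 := fun h0 => (charDegree_pos χ).ne' (by rw [hk, h0, zero_mul])
  rw [hk, Nat.factorization_mul hk0 (charDegree_pos ψ).ne', Finsupp.add_apply,
    Nat.factorization_eq_zero_of_not_dvd hψp, add_zero]
  refine ((Nat.factorization_le_iff_dvd hk0 Subgroup.index_ne_zero_of_finite).mpr hkd p).trans ?_
  -- compare the indices
  have hcardA := congrArg (fun n : ℕ => n.factorization p) A.index_mul_card
  have hcardP := congrArg (fun n : ℕ => n.factorization p)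
    (Subgroup.center (P : Subgroup G)).index_mul_card
  simp only [Nat.factorization_mul Subgroup.index_ne_zero_of_finite Nat.card_pos.ne',
    Finsupp.add_apply] at hcardA hcardP
  rw [P.card_eq_multiplicity, hp.factorization_pow, Finsupp.single_eq_same] at hcardP
  have hle : (Nat.card (Subgroup.center (P : Subgroup G))).factorization p ≤
      (Nat.card A).factorization p := by
    refine (Nat.factorization_le_iff_dvd Nat.card_pos.ne' Nat.card_pos.ne').mpr ?_ p
    rw [← Subgroup.card_subtype (P : Subgroup G) (Subgroup.center (P : Subgroup G))]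
    exact Subgroup.card_dvd_of_le fun _ ⟨z, hz, e'⟩ => e' ▸ hZA z hz
  omega

/-- Heights are bounded by the central index of a defect group. -/
theorem blockHeight_le {p : ℕ} [Fact p.Prime] {M : Ideal AlgInt} [M.IsPrime]
    (hpM : (p : AlgInt) ∈ M) :
    ∀ (n : ℕ) (G : Type u) [Group G] [Finite G], Nat.card G = n → IsPSolvable p G →
      ∀ (B : Set (IrrCharacter G)), IsPBlock M B → ∀ (D : Subgroup G), IsDefectGroup p M B D →
        ∀ χ : IrrCharacter G, χ ∈ B →
          blockHeight p B (χ : G → ℂ) ≤ ((Subgroup.center D).index).factorization p := by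
  intro n
  induction n using Nat.strong_induction_on with
  | _ n ih =>
  intro G _ _ hn hsolv B hB D hD χ hχ
  classical
  have hp : p.Prime := Fact.out
  haveI := Fintype.ofFinite G
  set N := pPrimeCore p G with hN
  haveI := Fintype.ofFinite N
  have hNp : ¬ p ∣ Nat.card N := Base.not_dvd_card_pPrimeCore p G
  obtain ⟨θ, hθ⟩ := Blocks.exists_constituent_restrict N χ
  set T := CharsMore.inertia N (θ : N → ℂ) with hTdef
  haveI := Fintype.ofFinite T
  have hNT : N ≤ T := CharsMore.le_inertia N (isClassFunction_irr θ)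
  by_cases hTtop : T = ⊤
  · have hinv : ∀ (g : G) (n : N), (θ : N → ℂ) (CharsMore.conjBy N g n) = (θ : N → ℂ) n :=
      fun g => (CharsMore.mem_inertia N).mp (hTdef ▸ hTtop ▸ Subgroup.mem_top g)
    haveI := PLocal.pPrimePCore_normal p G
    obtain ⟨S⟩ : Nonempty (Sylow p ↥(pPrimePCore p G)) := inferInstance
    obtain ⟨k, hk⟩ := IsPGroup.iff_card.mp (Base.isPGroup_pCore p (G ⧸ pPrimeCore p G))
    have hrel : N.relIndex (pPrimePCore p G) = p ^ k := by
      rw [hN, ← hk, ← PLocal.card_map_mk'_eq_relIndex, pPrimePCore,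
        Subgroup.map_comap_eq_self_of_surjective (QuotientGroup.mk'_surjective _)]
    have hRS : ¬ p ∣ ((S : Subgroup ↥(pPrimePCore p G)).map (pPrimePCore p G).subtype).relIndex
        (pPrimePCore p G) := by
      rw [Subgroup.relIndex, Subgroup.subgroupOf,
        Subgroup.comap_map_eq_self_of_injective (pPrimePCore p G).subtype_injective]
      exact S.not_dvd_index
    obtain ⟨hB', hS⟩ := Blocks.fong_single_block hpM N hNp (pPrimePCore p G)
      (Base.pPrimeCore_le_pPrimePCore p G) hrel
      (Subgroup.map_subtype_le _) (S.2.map _) hRS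
      ((PLocal.isPConstrained_of_isPSolvable hsolv) S) θ hinv
    have hBeq : B = {χ : IrrCharacter G |
        classInner (fun n : N => (χ : G → ℂ) n) (θ : N → ℂ) ≠ 0} :=
      IsPBlock.eq_of_mem hB hB' hχ hθ
    subst hBeq
    obtain ⟨P₀⟩ : Nonempty (Sylow p G) := inferInstance
    obtain ⟨x, hx⟩ := Blocks.IsDefectGroup.exists_conj_eq hpM hB (hS P₀) hD
    have hDS : D = ((x • P₀ : Sylow p G) : Subgroup G) := hx.symm
    subst hDS
    exact (Nat.sub_le _ _).trans (factorization_degree_le hsolv N hN θ hinv χ hθ _)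
  · have hb := Blocks.isPBlock_singleton_of_pPrime (M := M) hpM hNp θ
    have hT : ∀ g : G, g ∈ T ↔ ∀ φ ∈ ({θ} : Set (IrrCharacter N)),
        Blocks.conjIrr N g φ ∈ ({θ} : Set (IrrCharacter N)) := fun g => by
      simp only [Set.mem_singleton_iff, forall_eq]
      rw [hTdef, CharsMore.mem_inertia]
      exact ⟨fun h => Subtype.ext (funext fun m => by rw [Blocks.coe_conjIrr]; exact h m),
        fun h m => by
          have := congrFun (congrArg Subtype.val h) m
          rwa [Blocks.coe_conjIrr] at this⟩
    obtain ⟨ψ, hov, hψ⟩ := Blocks.exists_overBlock_indFun_eq hT hb hNT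
      ⟨θ, Set.mem_singleton θ, hθ⟩
    have hB' := isPBlock_blockOf (M := M) ψ
    have hmem := Blocks.mem_blockOf_self (M := M) ψ
    have hind : IsInducedBlock M T (blockOf M (ψ : T → ℂ)) B := by
      have h := Blocks.isInducedBlock_indFun hT hb hNT hB' hmem hov
      rwa [hψ, ← IsPBlock.eq_of_mem hB (isPBlock_blockOf χ) hχ (Blocks.mem_blockOf_self χ)] at h
    have hiff := Blocks.mem_induced_iff hT hb hNT hB' hmem hov hind
    -- degrees
    have hdeg : ∀ (η : IrrCharacter T) (ξ : IrrCharacter G),
        (ξ : G → ℂ) = indFun T (η : T → ℂ) →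
        (charDegree (ξ : G → ℂ)).factorization p =
          T.index.factorization p + (charDegree (η : T → ℂ)).factorization p := fun η ξ he => by
      have h1 := congrFun he 1
      rw [indFun_one_apply, CharApps.deg_eq, CharApps.deg_eq, ← Nat.cast_mul, Nat.cast_inj] at h1
      rw [h1, Nat.factorization_mul Subgroup.index_ne_zero_of_finite (charDegree_pos η).ne',
        Finsupp.add_apply]
    have hmin : BlockOrth.blockMin p B =
        T.index.factorization p + BlockOrth.blockMin p (blockOf M (ψ : T → ℂ)) := by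
      unfold BlockOrth.blockMin
      refine le_antisymm ?_ ?_
      · obtain ⟨η, hη, he⟩ := Nat.sInf_mem
          (⟨_, ψ, hmem, rfl⟩ : ((fun η : IrrCharacter T => (charDegree (η : T → ℂ)).factorization p)
            '' blockOf M (ψ : T → ℂ)).Nonempty)
        refine Nat.sInf_le ⟨⟨_, Blocks.isIrr_indFun_of_overBlock hT hb hNT
          (Blocks.OverBlock.of_sameBlock hT hb hNT (IsPBlock.sameBlock hB' hmem hη) hov)⟩,
          (hiff _).2 ⟨η, hη, rfl⟩, ?_⟩
        show Nat.factorization _ p = _
        rw [hdeg η _ rfl, ← he]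
      · refine le_csInf ⟨_, χ, hχ, rfl⟩ ?_
        rintro _ ⟨ξ, hξ, rfl⟩
        obtain ⟨η, hη, he⟩ := (hiff ξ).1 hξ
        show _ ≤ Nat.factorization _ p
        rw [hdeg η ξ he]
        exact Nat.add_le_add_left (Nat.sInf_le
          (⟨η, hη, rfl⟩ : _ ∈ (fun η : IrrCharacter T => (charDegree (η : T → ℂ)).factorization p)
            '' blockOf M (ψ : T → ℂ))) _
    -- defect groups
    obtain ⟨D', hD'⟩ := Blocks.exists_isDefectGroup (p := p) hB'
    obtain ⟨E, hE, hle⟩ := Blocks.IsInducedBlock.exists_defect_le hpM hind hD'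
    have hcardE : Nat.card (D'.map T.subtype) = Nat.card E := by
      rw [Subgroup.card_subtype, BlockOrth.card_defectGroup hpM hB' hD',
        BlockOrth.card_defectGroup hpM hB hE]
      have h1 := BlockOrth.blockMin_add_blockDefect (p := p) (B := B) ⟨χ, hχ⟩
      have h2 := BlockOrth.blockMin_add_blockDefect (p := p) (B := blockOf M (ψ : T → ℂ)) ⟨ψ, hmem⟩
      have h3 := congrArg (fun n : ℕ => n.factorization p) T.index_mul_card
      simp only [Nat.factorization_mul Subgroup.index_ne_zero_of_finite Nat.card_pos.ne',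
        Finsupp.add_apply] at h3
      congr 1
      omega
    have hEeq : D'.map T.subtype = E := Subgroup.eq_of_le_of_card_ge hle hcardE.ge
    obtain ⟨x, hx⟩ := Blocks.IsDefectGroup.exists_conj_eq hpM hB hE hD
    let iso : D' ≃* D := ((Subgroup.equivMapOfInjective D' T.subtype T.subtype_injective).trans
      (MulEquiv.subgroupCongr hEeq)).trans
      ((Subgroup.equivMapOfInjective E (MulAut.conj x).toMonoidHom (MulAut.conj x).injective).trans
        (MulEquiv.subgroupCongr hx))
    have hindex : (Subgroup.center D').index = (Subgroup.center D).index := by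
      have h1 : Nat.card (Subgroup.center D') = Nat.card (Subgroup.center D) :=
        Nat.card_congr (Subgroup.centerCongr iso).toEquiv
      have h2 := (Subgroup.center D').index_mul_card
      rw [Nat.card_congr iso.toEquiv, ← (Subgroup.center D).index_mul_card, h1] at h2
      exact Nat.eq_of_mul_eq_mul_right Nat.card_pos h2
    have hlt : Nat.card T < n := by
      rw [← hn]
      exact lt_of_le_of_ne (Subgroup.card_le_card_group T) fun h => hTtop ((T.card_eq_iff_eq_top).mp h)
    have key := ih _ hlt T rfl (PLocal.isPSolvable_subgroup hsolv T) _ hB' D' hD' ψ hmem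
    rw [hindex] at key
    have e1 : blockHeight p B (χ : G → ℂ) =
        (charDegree (χ : G → ℂ)).factorization p - BlockOrth.blockMin p B := rfl
    have e2 : blockHeight p (blockOf M (ψ : T → ℂ)) (ψ : T → ℂ) =
        (charDegree (ψ : T → ℂ)).factorization p -
          BlockOrth.blockMin p (blockOf M (ψ : T → ℂ)) := rfl
    rw [e1, hdeg ψ χ hψ.symm, hmin, Nat.add_sub_add_left]
    rwa [e2] at key

end CfsgLib.Blocks.PSolvableHeights
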