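import Cfsg.Agent.Lib.Involutions.ZStar.Main
import Cfsg.Agent.Lib.Base.Cores

/-!
# Automorphisms of two-power order fixing an abelian Sylow `2`-subgroup
-/

set_option autoImplicit false
set_option linter.style.haveILetI false
set_option linter.unusedSectionVars false

namespace CfsgLib.Blocks

open Cfsg Subgroup Involutions

universe u

/-- An element fixed by the normalizer of an abelian Sylow subgroup with prescribed image. -/
theorem exists_fixed_with_image {H : Type u} [Group H] [Finite H] {p : ℕ} [Fact p.Prime]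
    (T : Sylow p H) (hab : ∀ a b : (T : Subgroup H), a * b = b * a) {A : Type*} [CommGroup A]
    (π : H →* A) (a : (T : Subgroup H)) :
    ∃ (z : (T : Subgroup H)) (q : ℕ), ¬ p ∣ q ∧
      (∀ n ∈ normalizer ((T : Subgroup H) : Set H), n * z * n⁻¹ = (z : H)) ∧
      π z = π a ^ q := by
  classical
  set N := normalizer ((T : Subgroup H) : Set H) with hN
  set C := centralizer ((T : Subgroup H) : Set H) with hC
  haveI hCn : (C.subgroupOf N).Normal := by
    rw [← Subgroup.normalizerMonoidHom_ker]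
    exact MonoidHom.normal_ker _
  haveI : Fintype (N ⧸ C.subgroupOf N) := Fintype.ofFinite _
  letI : CommGroup (T : Subgroup H) :=
    { (inferInstance : Group (T : Subgroup H)) with mul_comm := hab }
  let f : N ⧸ C.subgroupOf N → ↥(T : Subgroup H) := fun u => Quotient.liftOn' u
    (fun n => ⟨(n : H) * a * (n : H)⁻¹, (mem_normalizer_iff.1 n.2 a).1 a.2⟩) fun n m h => by
      rw [QuotientGroup.leftRel_apply, mem_subgroupOf, Subgroup.coe_mul, Subgroup.coe_inv] at h
      have h' := mem_centralizer_iff.1 h a a.2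
      refine Subtype.ext ?_
      calc (n : H) * a * (n : H)⁻¹ = n * (a * ((n : H)⁻¹ * m)) * (m : H)⁻¹ := by group
        _ = n * ((n : H)⁻¹ * m * a) * (m : H)⁻¹ := by rw [h']
        _ = m * a * (m : H)⁻¹ := by group
  refine ⟨∏ u, f u, Fintype.card (N ⧸ C.subgroupOf N), ?_, ?_, ?_⟩
  · rw [← Nat.card_eq_fintype_card, ← Subgroup.index_eq_card]
    have hTC : (T : Subgroup H) ≤ C := fun x hx =>
      mem_centralizer_iff.2 fun y hy => congrArg Subtype.val (hab ⟨y, hy⟩ ⟨x, hx⟩)
    exact fun hd => T.not_dvd_index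
      (hd.trans ((Dvd.intro _ (relIndex_mul_index (centralizer_le_normalizer _))).trans
        (index_dvd_of_le hTC)))
  · intro n hn
    let c : ↥(T : Subgroup H) →* ↥(T : Subgroup H) :=
      { toFun := fun w => ⟨n * w * n⁻¹, (mem_normalizer_iff.1 hn w).1 w.2⟩
        map_one' := Subtype.ext (by simp)
        map_mul' := fun x y => Subtype.ext (by simp [mul_assoc]) }
    have key : c (∏ u, f u) = ∏ u, f u := by
      rw [map_prod]
      refine Fintype.prod_equiv (Equiv.mulLeft ((⟨n, hn⟩ : N) : N ⧸ C.subgroupOf N)) _ _ fun u => ?_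
      obtain ⟨m, rfl⟩ := QuotientGroup.mk_surjective u
      show c (f (m : N ⧸ C.subgroupOf N)) = f (((⟨n, hn⟩ * m : N)) : N ⧸ C.subgroupOf N)
      refine Subtype.ext ?_
      show n * ((m : H) * a * (m : H)⁻¹) * n⁻¹ = n * (m : H) * a * (n * (m : H))⁻¹
      group
    exact congrArg Subtype.val key
  · have h1 : ∀ u, π (f u : H) = π a := fun u => by
      obtain ⟨m, rfl⟩ := QuotientGroup.mk_surjective u
      show π ((m : H) * a * (m : H)⁻¹) = _
      rw [map_mul, map_mul, map_inv, mul_comm (π (m : H)), mul_inv_cancel_right]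
    show (π.comp (T : Subgroup H).subtype) (∏ u, f u) = _
    rw [map_prod]
    simp only [MonoidHom.comp_apply, Subgroup.coe_subtype, h1, Finset.prod_const, Finset.card_univ]

variable {G : Type u} [Group G] [Finite G]

theorem exists_inner_of_fix_abelian_sylow (hZ : Subgroup.center G = ⊥)
    (hcore : ∀ N : Subgroup G, N.Normal → Odd (Nat.card N) → N = ⊥)
    (P : Sylow 2 G) (hab : ∀ a b : (P : Subgroup G), a * b = b * a)
    (α : MulAut G) (h2 : ∃ j : ℕ, orderOf α = 2 ^ j) (hfix : ∀ x ∈ (P : Subgroup G), α x = x) :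
    ∃ g : G, ∀ x : G, α x = g * x * g⁻¹ := by
  classical
  haveI : Fact (Nat.Prime 2) := ⟨Nat.prime_two⟩
  haveI : Finite (MulAut G) := Finite.of_injective (fun f : MulAut G => (f : G → G))
    DFunLike.coe_injective
  set c : G →* MulAut G := MulAut.conj with hc
  have hcinj : Function.Injective c := by
    rw [injective_iff_map_eq_one]
    intro g hg
    have : g ∈ Subgroup.center G := Subgroup.mem_center_iff.2 fun x =>
      (mul_inv_eq_iff_eq_mul.1 (DFunLike.congr_fun hg x)).symm
    rwa [hZ, Subgroup.mem_bot] at this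
  set I := c.range with hI
  have hconj : ∀ (β : MulAut G) (g : G), β * c g * β⁻¹ = c (β g) := fun β g => MulEquiv.ext fun x => by
    simp [hc]
  haveI hIn : I.Normal := ⟨fun _ ⟨g, hg⟩ β => ⟨β g, by rw [← hg, hconj]⟩⟩
  obtain ⟨j, hj⟩ := h2
  set H := I ⊔ zpowers α with hH
  set Z := zpowers (α : MulAut G ⧸ I) with hZdef
  letI : CommGroup Z := IsCyclic.commGroup
  have hIH : I ≤ H := le_sup_left
  have hαH : α ∈ H := mem_sup_right (mem_zpowers α)
  have hmodI : ∀ u ∈ H, (u : MulAut G ⧸ I) ∈ Z := by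
    intro u hu
    have h1 : (u : MulAut G ⧸ I) ∈ H.map (QuotientGroup.mk' I) := ⟨u, hu, rfl⟩
    rwa [hH, Subgroup.map_sup, MonoidHom.map_zpowers, QuotientGroup.map_mk'_self, bot_sup_eq] at h1
  let π : H →* Z :=
    { toFun := fun u => ⟨((u : MulAut G) : MulAut G ⧸ I), hmodI u u.2⟩
      map_one' := rfl
      map_mul' := fun a b => rfl }
  have hπ : ∀ u : H, π u = 1 → (u : MulAut G) ∈ I := fun u h =>
    (QuotientGroup.eq_one_iff _).1 (congrArg Subtype.val h)
  have hαpow : α ^ 2 ^ j = 1 := by rw [← hj, pow_orderOf_eq_one]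
  have hcommP : ∀ x ∈ (P : Subgroup G), α * c x = c x * α := fun x hx => by
    rw [← mul_inv_eq_iff_eq_mul, hconj, hfix x hx]
  -- the Sylow subgroup
  set cP := (P : Subgroup G).map c with hcP
  have hS : IsPGroup 2 ↥(cP ⊔ zpowers α) := by
    refine IsPGroup.to_sup_of_normal_left' (P.2.map c) ?_ ?_
    · exact IsPGroup.of_card (n := j) (by rw [Nat.card_zpowers, hj])
    · rw [Subgroup.zpowers_le]
      refine Subgroup.mem_normalizer_iff.2 fun w => ⟨?_, fun hw => ?_⟩
      · rintro ⟨x, hx, rfl⟩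
        exact ⟨x, hx, by rw [hconj, hfix x hx]⟩
      · obtain ⟨x, hx, hxw⟩ := hw
        refine ⟨x, hx, mul_left_cancel (mul_right_cancel (b := α⁻¹) (?_ : α * c x * α⁻¹ = _))⟩
        rw [hconj, hfix x hx]; exact hxw
  obtain ⟨T, hT⟩ := (hS.comap_subtype (K := H)).exists_le_sylow
  have hαT : (⟨α, hαH⟩ : H) ∈ (T : Subgroup H) :=
    hT (mem_sup_right (mem_zpowers α) : α ∈ cP ⊔ zpowers α)
  have hcPT : ∀ x ∈ (P : Subgroup G), (⟨c x, hIH ⟨x, rfl⟩⟩ : H) ∈ (T : Subgroup H) := fun x hx =>
    hT (mem_sup_left ⟨x, hx, rfl⟩ : c x ∈ cP ⊔ zpowers α)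
  -- elements of `T` in `I` come from `P`
  let emb : G →* H := (inclusion hIH).comp c.rangeRestrict
  have hembinj : Function.Injective emb := fun a b h => hcinj (congrArg Subtype.val h)
  have hTI : (T : Subgroup H).comap emb = (P : Subgroup G) :=
    P.is_maximal' (T.2.comap_of_injective emb hembinj) fun x hx => hcPT x hx
  have hdec : ∀ t : (T : Subgroup H), ∃ (x : G) (k : ℤ), x ∈ (P : Subgroup G) ∧
      ((t : H) : MulAut G) = c x * α ^ k := by
    intro t
    obtain ⟨k, hk⟩ := hmodI _ (t : H).2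
    have hk' : ((α ^ k : MulAut G) : MulAut G ⧸ I) = ((t : H) : MulAut G) := by
      rw [QuotientGroup.mk_zpow]; exact hk
    have hmem : ((t : H) : MulAut G) * (α ^ k)⁻¹ ∈ I := by
      rw [← QuotientGroup.eq_one_iff, QuotientGroup.mk_mul, QuotientGroup.mk_inv, ← hk',
        mul_inv_cancel]
    obtain ⟨x, hx⟩ := hmem
    refine ⟨x, k, ?_, by rw [hx, inv_mul_cancel_right]⟩
    rw [← hTI, Subgroup.mem_comap]
    have : emb x = (t : H) * (⟨α, hαH⟩ ^ k)⁻¹ := Subtype.ext hx
    rw [this]
    exact mul_mem t.2 (inv_mem (zpow_mem hαT k))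
  have habT : ∀ a b : (T : Subgroup H), a * b = b * a := by
    intro a b
    obtain ⟨x, k, hx, ea⟩ := hdec a
    obtain ⟨y, l, hy, eb⟩ := hdec b
    refine Subtype.ext (Subtype.ext ?_)
    show ((a : H) : MulAut G) * ((b : H) : MulAut G) = ((b : H) : MulAut G) * ((a : H) : MulAut G)
    rw [ea, eb]
    have h1 : Commute (c x) (α ^ k) := (show Commute (c x) α from (hcommP x hx).symm).zpow_right k
    have h2 : Commute (c y) (α ^ l) := (show Commute (c y) α from (hcommP y hy).symm).zpow_right l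
    have h3 : Commute (c x) (α ^ l) := (show Commute (c x) α from (hcommP x hx).symm).zpow_right l
    have h4 : Commute (c y) (α ^ k) := (show Commute (c y) α from (hcommP y hy).symm).zpow_right k
    have h5 : Commute (c x) (c y) := by
      rw [Commute, SemiconjBy, ← map_mul, ← map_mul,
        show x * y = y * x from congrArg Subtype.val (hab ⟨x, hx⟩ ⟨y, hy⟩)]
    exact ((h5.mul_right h3).mul_left (h4.symm.mul_right ((Commute.refl α).zpow_zpow k l))).eq
  obtain ⟨z, q, hq, hzfix, hzπ⟩ := exists_fixed_with_image T habT π ⟨⟨α, hαH⟩, hαT⟩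
  have hfin : ∀ g : G, α = c g → ∀ x, α x = g * x * g⁻¹ := fun g hg x => by rw [hg]; rfl
  by_cases hz1 : z = 1
  · have hmem : α ^ q ∈ I := by
      have := hπ (⟨α, hαH⟩ ^ q) (by rw [map_pow, ← hzπ, hz1]; exact map_one π)
      exact this
    obtain ⟨m, hm⟩ := exists_pow_eq_self_of_coprime (x := α) (n := q) (by
      rw [hj]
      exact Nat.Coprime.pow_right j (Nat.prime_two.coprime_iff_not_dvd.2 hq).symm)
    obtain ⟨g, hg⟩ := pow_mem hmem m
    exact ⟨g, hfin g (by rw [hg, hm])⟩
  exfalso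
  obtain ⟨i, hi⟩ := T.2 z
  have hex : ∃ i, z ^ 2 ^ i = 1 := ⟨i, hi⟩
  set k := Nat.find hex with hk
  have hk0 : k ≠ 0 := fun e => hz1 (by
    have := Nat.find_spec hex
    rwa [← hk, e, pow_zero, pow_one] at this)
  set w := z ^ 2 ^ (k - 1) with hw
  have hw1 : w ≠ 1 := Nat.find_min hex (show k - 1 < k by omega)
  have hw2 : orderOf (w : H) = 2 := by
    rw [Subgroup.orderOf_coe]
    refine orderOf_eq_prime ?_ hw1
    rw [hw, ← pow_mul, ← pow_succ, show k - 1 + 1 = k by omega]
    exact Nat.find_spec hex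
  have hwfix : ∀ n ∈ normalizer ((T : Subgroup H) : Set H), n * w * n⁻¹ = (w : H) := fun n hn => by
    rw [hw, Subgroup.coe_pow, ← conj_pow, hzfix n hn]
  have hkey : ∀ g : H, g * w * g⁻¹ ∈ (T : Subgroup H) → g * w * g⁻¹ = (w : H) := by
    intro g hg
    have hcen : ∀ y ∈ (T : Subgroup H), y ∈ centralizer ((T : Subgroup H) : Set H) := fun y hy =>
      mem_centralizer_iff.2 fun v hv => congrArg Subtype.val (habT ⟨v, hv⟩ ⟨y, hy⟩)
    obtain ⟨n, hn, hng⟩ := Sylow.conj_eq_normalizer_conj_of_mem_centralizer T (w : H) g⁻¹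
      (hcen _ w.2) (hcen _ (by rwa [inv_inv]))
    rw [inv_inv] at hng
    rw [hng]
    have := hwfix n⁻¹ (inv_mem hn)
    rwa [inv_inv] at this
  have hiso : IsIsolatedInvolution (w : H) := by
    refine ⟨hw2, fun g hcomm => ?_⟩
    obtain ⟨d, h1, h2'⟩ := Involutions.exists_conj_mem_sylow T hw2 (conj_invol g hw2) hcomm
    have e1 := hkey _ h1
    have e2 : d * g * w * (d * g)⁻¹ = (w : H) := hkey (d * g) (by
      rwa [show d * g * w * (d * g)⁻¹ = d * (g * w * g⁻¹) * d⁻¹ by group])
    rw [show d * g * w * (d * g)⁻¹ = d * (g * w * g⁻¹) * d⁻¹ by group] at e2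
    exact mul_left_cancel (mul_right_cancel (e2.trans e1.symm))
  have hOH : oddCore H = ⊥ := by
    have hodd := Base.odd_card_oddCore H
    set N := oddCore H
    haveI : N.Normal := by
      haveI : N.Characteristic := inferInstanceAs (pPrimeCore 2 H).Characteristic
      infer_instance
    have hNI : ∀ u ∈ N, π u = 1 := by
      intro u hu
      obtain ⟨i, hi⟩ := hodd
      have h1 : π u ^ Nat.card N = 1 := by
        rw [← map_pow, orderOf_dvd_iff_pow_eq_one.1 (Subgroup.orderOf_dvd_natCard N hu), map_one]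
      have h2 : π u ^ 2 ^ j = 1 := by
        obtain ⟨l, hl⟩ := (π u).2
        refine Subtype.ext ?_
        rw [Subgroup.coe_pow, ← hl, ← zpow_natCast, ← zpow_mul, mul_comm, zpow_mul, zpow_natCast,
          ← QuotientGroup.mk_pow, hαpow]
        simp
      have := pow_gcd_eq_one.2 ⟨h1, h2⟩
      rwa [show Nat.gcd (Nat.card N) (2 ^ j) = 1 from
        Nat.Coprime.pow_right j (Nat.coprime_two_right.2 ⟨i, hi⟩), pow_one] at this
    have hbot : N.comap emb = ⊥ := hcore _ inferInstance (hodd.of_dvd_nat (by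
      rw [← Subgroup.card_map_of_injective hembinj]
      exact Subgroup.card_dvd_of_le (Subgroup.map_comap_le _ _)))
    rw [eq_bot_iff]
    intro u hu
    obtain ⟨x, hx⟩ := hπ u (hNI u hu)
    have hx' : emb x = u := Subtype.ext hx
    have : x ∈ N.comap emb := by rw [Subgroup.mem_comap, hx']; exact hu
    rw [hbot, Subgroup.mem_bot] at this
    rw [Subgroup.mem_bot, ← hx', this, map_one]
  have hwc := ZStar.mem_center_of_oddCore_eq_bot hiso hOH
  have hwfixG : ∀ g : G, ((w : H) : MulAut G) g = g := fun g => by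
    apply hcinj
    have := congrArg Subtype.val (Subgroup.mem_center_iff.1 hwc (emb g))
    rw [← hconj]
    simp only [Subgroup.coe_mul] at this
    exact mul_inv_eq_iff_eq_mul.2 this.symm
  exact hw1 (Subtype.ext (Subtype.ext (MulEquiv.ext hwfixG)))

end CfsgLib.Blocks
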