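import Cfsg.Agent.Lib.Blocks.SubRed

/-!
# Brauer pairs: uniqueness of inclusion, the block of a pair, equivariance
-/

set_option linter.unusedSectionVars false
set_option linter.style.haveILetI false

namespace CfsgLib.Blocks

open Cfsg Chars

variable {G : Type*} [Group G] [Fintype G] {M : Ideal AlgInt} [M.IsPrime] {p : ℕ} [Fact p.Prime]

theorem centralizer_antitone {Q P : Subgroup G} (h : Q ≤ P) :
    Subgroup.centralizer (P : Set G) ≤ Subgroup.centralizer (Q : Set G) :=
  Subgroup.centralizer_le h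

theorem mem_normalizer_centralizer {P : Subgroup G} {x : G}
    (hx : x ∈ Subgroup.normalizer (P : Set G)) :
    x ∈ Subgroup.normalizer ((Subgroup.centralizer (P : Set G) : Subgroup G) : Set G) :=
  Subgroup.mem_normalizer_iff.2 fun g => (conj_mem_centralizer_iff hx g).symm

theorem subgroupBlockCoeff_conj_of_mem {H : Subgroup G} (e : Set (IrrCharacter H)) {u : G}
    (hu : u ∈ H) (g : G) :
    subgroupBlockCoeff H e (u * g * u⁻¹) = subgroupBlockCoeff H e g := by
  haveI := Fintype.ofFinite H
  by_cases hg : g ∈ H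
  · obtain ⟨h, rfl⟩ : ∃ h : H, (h : G) = g := ⟨⟨g, hg⟩, rfl⟩
    rw [show u * (h : G) * u⁻¹ = (((⟨u, hu⟩ : H) * h * (⟨u, hu⟩ : H)⁻¹ : H) : G) from rfl,
      subgroupBlockCoeff_coe, subgroupBlockCoeff_coe]
    exact isClassFunction_blockCoeff e h _
  · rw [subgroupBlockCoeff_of_notMem e hg, subgroupBlockCoeff_of_notMem e]
    intro h'
    apply hg
    have := H.mul_mem (H.mul_mem (H.inv_mem hu) h') hu
    rwa [show u⁻¹ * (u * g * u⁻¹) * u = g by group] at this

theorem isClassFunction_resFun_of_inv {H : Subgroup G} {β : G → ℂ}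
    (h : ∀ u ∈ H, ∀ g, β (u * g * u⁻¹) = β g) : IsClassFunction H (resFun H β) := fun g u => by
  simp only [resFun, Subgroup.coe_mul, Subgroup.coe_inv]
  exact h u u.2 g

theorem brauerOmega_eq (P : Subgroup G) [Fintype (Subgroup.centralizer (P : Set G))]
    (β : G → ℂ) (ξ : Subgroup.centralizer (P : Set G) → ℂ) :
    brauerOmega P β ξ = omega ξ (resFun (Subgroup.centralizer (P : Set G)) β) := by
  rw [brauerOmega, omega, finsum_eq_sum_of_fintype, Finset.sum_div]
  rfl

/-- Truncation of an invariant idempotent against a block of the centralizer. -/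
theorem brauerOmega_dichotomy (hpM : (p : AlgInt) ∈ M) {P : Subgroup G} (hP : IsPGroup p P)
    {β : G → ℂ} (hβ : ∀ g, β g ∈ loc M) (hPinv : ∀ u ∈ P, ∀ g, β (u * g * u⁻¹) = β g)
    (hCinv : ∀ u ∈ Subgroup.centralizer (P : Set G), ∀ g, β (u * g * u⁻¹) = β g)
    (hidem : redFun β hβ * redFun β hβ = redFun β hβ)
    {e : Set (IrrCharacter (Subgroup.centralizer (P : Set G)))} (he : IsPBlock M e) :
    ((∀ ξ ∈ e, MemLocalIdeal M
        (brauerOmega P β (ξ : Subgroup.centralizer (P : Set G) → ℂ) - 1)) ↔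
      pairIdem he * cut (Subgroup.centralizer (P : Set G) : Set G) (redFun β hβ) = pairIdem he) ∧
    (pairIdem he * cut (Subgroup.centralizer (P : Set G) : Set G) (redFun β hβ) = pairIdem he ∨
      pairIdem he * cut (Subgroup.centralizer (P : Set G) : Set G) (redFun β hβ) = 0) := by
  haveI := Fintype.ofFinite (Subgroup.centralizer (P : Set G))
  haveI := charP_resField (M := M) (Fact.out (p := p.Prime)) hpM
  have hfix : IsFixedBy P (redFun β hβ) := fun u hu g => by
    rw [coeff_redFun, coeff_redFun]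
    exact congrArg red (Subtype.ext (hPinv u hu g))
  have hid' : cut (Subgroup.centralizer (P : Set G) : Set G) (redFun β hβ) *
      cut (Subgroup.centralizer (P : Set G) : Set G) (redFun β hβ) =
      cut (Subgroup.centralizer (P : Set G) : Set G) (redFun β hβ) := by
    rw [← cut_mul p hP hfix hfix, hidem]
  have hd := fun (ξ : IrrCharacter (Subgroup.centralizer (P : Set G))) (hξ : ξ ∈ e) =>
    pairIdem_mul_dichotomy he hβ (isClassFunction_resFun_of_inv hCinv) hid' hξ
  obtain ⟨ξ₀, hξ₀⟩ := IsPBlock.nonempty he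
  refine ⟨⟨fun h => ?_, fun h ξ hξ => ?_⟩, ?_⟩
  · rcases hd ξ₀ hξ₀ with ⟨-, h2⟩ | ⟨h1, -⟩
    · exact h2
    · have h3 := MemLocalIdeal.sub' h1 (brauerOmega_eq P β _ ▸ h ξ₀ hξ₀)
      rw [sub_sub_cancel] at h3
      exact absurd h3 not_memLocalIdeal_one
  · rcases hd ξ hξ with ⟨h1, -⟩ | ⟨-, h2⟩
    · rwa [brauerOmega_eq]
    · exact absurd (h.symm.trans h2) (pairIdem_ne_zero he)
  · rcases hd ξ₀ hξ₀ with ⟨-, h2⟩ | ⟨-, h2⟩
    · exact Or.inl h2
    · exact Or.inr h2

theorem isFixedBy_cut {P R : Subgroup G} {F : MonoidAlgebra (ResField M) G}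
    (hF : IsFixedBy P F) (h : P ≤ Subgroup.normalizer (R : Set G)) :
    IsFixedBy P (cut (Subgroup.centralizer (R : Set G) : Set G) F) := fun u hu g => by
  by_cases hg : g ∈ Subgroup.centralizer (R : Set G)
  · rw [coeff_cut_of_mem _ hg, coeff_cut_of_mem _ ((conj_mem_centralizer_iff (h hu) g).2 hg),
      hF u hu g]
  · rw [coeff_cut_of_notMem _ hg,
      coeff_cut_of_notMem _ (mt (conj_mem_centralizer_iff (h hu) g).1 hg)]

theorem cut_cut_centralizer {R P : Subgroup G} (h : R ≤ P) (F : MonoidAlgebra (ResField M) G) :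
    cut (Subgroup.centralizer (P : Set G) : Set G)
        (cut (Subgroup.centralizer (R : Set G) : Set G) F) =
      cut (Subgroup.centralizer (P : Set G) : Set G) F := by
  rw [cut_cut, Set.inter_eq_left.2 (centralizer_antitone h)]

/-! ## Conjugation of pairs -/

theorem centralizer_conj_iff (Q : Subgroup G) (x g : G) :
    x * g * x⁻¹ ∈ Subgroup.centralizer ((Q.map (MulAut.conj x).toMonoidHom : Subgroup G) : Set G) ↔
      g ∈ Subgroup.centralizer (Q : Set G) := by
  refine ⟨fun h => ?_, fun h => conj_mem_centralizer h x⟩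
  have h1 := conj_mem_centralizer h x⁻¹
  rw [map_conj_map_conj, inv_mul_cancel, map_conj_one] at h1
  simpa [mul_assoc] using h1

theorem conjBlock_eq (Q : Subgroup G) (x : G)
    (f : Set (IrrCharacter (Subgroup.centralizer (Q : Set G)))) :
    conjBlock Q x f = conjImage x (centralizer_conj_iff Q x) f := by
  ext ξ'
  constructor
  · rintro ⟨ξ, hξ, h⟩
    refine ⟨ξ, hξ, Subtype.ext (funext fun c' => ?_)⟩
    rw [pullIrr_apply]
    refine (h _ c' ?_).symm
    rw [← coe_conjIso x (centralizer_conj_iff Q x), MulEquiv.apply_symm_apply]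
  · rintro ⟨ξ, hξ, rfl⟩
    refine ⟨ξ, hξ, fun c c' hc => ?_⟩
    have : c' = conjIso x (centralizer_conj_iff Q x) c := Subtype.ext hc
    rw [this, pullIrr_apply, MulEquiv.symm_apply_apply]

/-- The coefficient function of a pair. -/
noncomputable def pairCoeff (a : BrauerPairIdx G) : G → ℂ :=
  subgroupBlockCoeff (Subgroup.centralizer (a.1 : Set G)) a.2

/-- The conjugate of a pair. -/
def conjPair (x : G) (a : BrauerPairIdx G) : BrauerPairIdx G :=
  ⟨a.1.map (MulAut.conj x).toMonoidHom, conjBlock a.1 x a.2⟩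

theorem pair_ext {a b : BrauerPairIdx G} (h : a.1 = b.1) (hc : pairCoeff a = pairCoeff b) :
    a = b := by
  obtain ⟨Q, f⟩ := a
  obtain ⟨Q', f'⟩ := b
  obtain rfl : Q = Q' := h
  obtain rfl : f = f' := eq_of_subgroupBlockCoeff_eq hc
  rfl

theorem pairCoeff_conjPair (x : G) (a : BrauerPairIdx G) (g : G) :
    pairCoeff (conjPair x a) g = pairCoeff a (x⁻¹ * g * x) := by
  conv_lhs => rw [show g = x * (x⁻¹ * g * x) * x⁻¹ by group]
  show subgroupBlockCoeff _ (conjBlock a.1 x a.2) _ = _
  rw [conjBlock_eq, subgroupBlockCoeff_conjImage]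
  rfl

theorem conjPair_mul (x y : G) (a : BrauerPairIdx G) :
    conjPair y (conjPair x a) = conjPair (y * x) a := by
  refine pair_ext (map_conj_map_conj _ _ _) (funext fun g => ?_)
  rw [pairCoeff_conjPair, pairCoeff_conjPair, pairCoeff_conjPair]
  congr 1
  group

theorem conjPair_one (a : BrauerPairIdx G) : conjPair 1 a = a := by
  refine pair_ext (map_conj_one _) (funext fun g => ?_)
  rw [pairCoeff_conjPair]
  simp

theorem isPBlock_conjBlock {Q : Subgroup G}
    {f : Set (IrrCharacter (Subgroup.centralizer (Q : Set G)))} (hf : IsPBlock M f) (x : G) :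
    IsPBlock M (conjBlock Q x f) := by
  rw [conjBlock_eq]
  exact isPBlock_conjImage x _ hf

theorem isBrauerPair_conj {a : BrauerPairIdx G} (ha : IsBrauerPair p M a.1 a.2) (x : G) :
    IsBrauerPair p M (conjPair x a).1 (conjPair x a).2 :=
  ⟨ha.1.map _, isPBlock_conjBlock ha.2 x⟩

theorem conjPair_eq_self_iff {Q : Subgroup G}
    {f : Set (IrrCharacter (Subgroup.centralizer (Q : Set G)))} (hf : IsPBlock M f) {x : G}
    (hx : x ∈ Subgroup.normalizer (Q : Set G)) :
    conjPair x ⟨Q, f⟩ = ⟨Q, f⟩ ↔ StabilizesBlock (Subgroup.centralizer (Q : Set G)) f x := by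
  rw [stabilizesBlock_iff hf]
  constructor
  · intro h
    refine ⟨mem_normalizer_centralizer hx, fun g => ?_⟩
    have h1 := pairCoeff_conjPair x ⟨Q, f⟩ (x * g * x⁻¹)
    rw [h, show x⁻¹ * (x * g * x⁻¹) * x = g by group] at h1
    exact h1
  · rintro ⟨-, h⟩
    refine pair_ext (map_conj_eq_of_mem_normalizer hx) (funext fun g => ?_)
    rw [pairCoeff_conjPair]
    show subgroupBlockCoeff _ f (x⁻¹ * g * x) = subgroupBlockCoeff _ f g
    conv_rhs => rw [show g = x * (x⁻¹ * g * x) * x⁻¹ by group, h]

theorem brauerOmega_conj (P : Subgroup G) (x : G) {β β' : G → ℂ}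
    (hβ : ∀ g, β' (x * g * x⁻¹) = β g) (ξ : IrrCharacter (Subgroup.centralizer (P : Set G))) :
    brauerOmega (P.map (MulAut.conj x).toMonoidHom) β'
        (pullIrr (conjIso x (centralizer_conj_iff P x)).symm ξ : _ → ℂ) =
      brauerOmega P β (ξ : Subgroup.centralizer (P : Set G) → ℂ) := by
  haveI := Fintype.ofFinite (Subgroup.centralizer (P : Set G))
  haveI := Fintype.ofFinite
    (Subgroup.centralizer ((P.map (MulAut.conj x).toMonoidHom : Subgroup G) : Set G))
  rw [brauerOmega_eq, brauerOmega_eq, omega_pullIrr]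
  congr 1
  funext h
  exact hβ h

theorem isNormalSubpair_conj {a b : BrauerPairIdx G}
    (h : IsNormalSubpair p M a.1 a.2 b.1 b.2) (x : G) :
    IsNormalSubpair p M (conjPair x a).1 (conjPair x a).2 (conjPair x b).1 (conjPair x b).2 := by
  obtain ⟨ha, hb, hle, hN, hst, hom⟩ := h
  refine ⟨isBrauerPair_conj ha x, isBrauerPair_conj hb x, Subgroup.map_mono hle, ?_, ?_, ?_⟩
  · rintro _ ⟨u, hu, rfl⟩
    have h1 := Subgroup.mem_normalizer_iff.1 (hN hu)
    rw [Subgroup.mem_normalizer_iff]
    intro g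
    have key : ∀ g, g ∈ (conjPair x a).1 ↔ x⁻¹ * g * x ∈ a.1 := fun g => by
      constructor
      · rintro ⟨q, hq, rfl⟩; simpa [mul_assoc] using hq
      · intro hq; exact ⟨_, hq, by simp [mul_assoc]⟩
    rw [key, key, h1]
    simp [mul_assoc]
  · rintro _ ⟨u, hu, rfl⟩
    have hst' := hst u hu
    have h1 := (stabilizesBlock_iff ha.2).1 hst'
    rw [stabilizesBlock_iff (isBrauerPair_conj ha x).2]
    constructor
    · have h3 := Subgroup.mem_normalizer_iff.1 h1.1
      rw [Subgroup.mem_normalizer_iff]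
      intro g
      have key : ∀ g, g ∈ Subgroup.centralizer (((conjPair x a).1 : Subgroup G) : Set G) ↔
          x⁻¹ * g * x ∈ Subgroup.centralizer (a.1 : Set G) := fun g => by
        conv_lhs => rw [show g = x * (x⁻¹ * g * x) * x⁻¹ by group]
        exact centralizer_conj_iff a.1 x _
      rw [key, key, h3]
      simp [mul_assoc]
    · intro g
      show pairCoeff (conjPair x a) _ = pairCoeff (conjPair x a) g
      rw [pairCoeff_conjPair, pairCoeff_conjPair]
      have h2 := h1.2 (x⁻¹ * g * x)
      simpa [pairCoeff, mul_assoc] using h2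
  · intro ξ' hξ'
    have hξ'' : ξ' ∈ conjImage x (centralizer_conj_iff b.1 x) b.2 := conjBlock_eq b.1 x b.2 ▸ hξ'
    obtain ⟨ξ, hξ, rfl⟩ := hξ''
    have h3 : MemLocalIdeal M (brauerOmega (b.1.map (MulAut.conj x).toMonoidHom)
        (pairCoeff (conjPair x a))
        ((pullIrr (conjIso x (centralizer_conj_iff b.1 x)).symm ξ).1) - 1) := by
      rw [brauerOmega_conj b.1 x (β := pairCoeff a) (fun g => by
        rw [pairCoeff_conjPair]; simp [mul_assoc]) ξ]
      exact hom ξ hξ
    exact h3

theorem below_conj {a b : BrauerPairIdx G} (h : Relation.ReflTransGen (NormalSubpairRel p M) a b)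
    (x : G) : Relation.ReflTransGen (NormalSubpairRel p M) (conjPair x a) (conjPair x b) :=
  Relation.ReflTransGen.lift (conjPair x) (fun _ _ h => isNormalSubpair_conj h x) _ _ h

theorem isBrauerPairOf_conj {B : Set (IrrCharacter G)} {a : BrauerPairIdx G}
    (h : IsBrauerPairOf p M B a.1 a.2) (x : G) :
    IsBrauerPairOf p M B (conjPair x a).1 (conjPair x a).2 := by
  obtain ⟨ha, hB, hom⟩ := h
  refine ⟨isBrauerPair_conj ha x, hB, fun ξ' hξ' => ?_⟩
  have hξ'' : ξ' ∈ conjImage x (centralizer_conj_iff a.1 x) a.2 := conjBlock_eq a.1 x a.2 ▸ hξ'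
  obtain ⟨ξ, hξ, rfl⟩ := hξ''
  have h3 : MemLocalIdeal M (brauerOmega (a.1.map (MulAut.conj x).toMonoidHom) (blockCoeff B)
      ((pullIrr (conjIso x (centralizer_conj_iff a.1 x)).symm ξ).1) - 1) := by
    rw [brauerOmega_conj a.1 x (β := blockCoeff B)
      (fun g => isClassFunction_blockCoeff B g x) ξ]
    exact hom ξ hξ
  exact h3

/-! ## Normal inclusion -/

section NormalStep

variable {Q P : Subgroup G} {f : Set (IrrCharacter (Subgroup.centralizer (Q : Set G)))}
  {e : Set (IrrCharacter (Subgroup.centralizer (P : Set G)))}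

theorem isFixedBy_pairIdem_of_stab (hf : IsPBlock M f)
    (hst : ∀ x ∈ P, StabilizesBlock (Subgroup.centralizer (Q : Set G)) f x) :
    IsFixedBy P (pairIdem hf) :=
  isFixedBy_pairIdem hf fun u hu g => ((stabilizesBlock_iff hf).1 (hst u hu)).2 g

theorem normal_step_algebra (hpM : (p : AlgInt) ∈ M) (hP : IsPGroup p P) (hQP : Q ≤ P)
    (hf : IsPBlock M f) (he : IsPBlock M e)
    (hst : ∀ x ∈ P, StabilizesBlock (Subgroup.centralizer (Q : Set G)) f x) :
    ((∀ ξ ∈ e, MemLocalIdeal M
        (brauerOmega P (subgroupBlockCoeff (Subgroup.centralizer (Q : Set G)) f)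
          (ξ : Subgroup.centralizer (P : Set G) → ℂ) - 1)) ↔
      pairIdem he * cut (Subgroup.centralizer (P : Set G) : Set G) (pairIdem hf) = pairIdem he) ∧
    (pairIdem he * cut (Subgroup.centralizer (P : Set G) : Set G) (pairIdem hf) = pairIdem he ∨
      pairIdem he * cut (Subgroup.centralizer (P : Set G) : Set G) (pairIdem hf) = 0) :=
  brauerOmega_dichotomy hpM hP (subgroupBlockCoeff_mem_loc hf)
    (fun u hu g => ((stabilizesBlock_iff hf).1 (hst u hu)).2 g)
    (fun u hu g => subgroupBlockCoeff_conj_of_mem f (centralizer_antitone hQP hu) g)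
    (pairIdem_mul_self hf) he

theorem IsNormalSubpair.mul_cut (hpM : (p : AlgInt) ∈ M) (h : IsNormalSubpair p M Q f P e) :
    pairIdem h.2.1.2 * cut (Subgroup.centralizer (P : Set G) : Set G) (pairIdem h.1.2) =
      pairIdem h.2.1.2 := by
  obtain ⟨⟨hQ, hf⟩, ⟨hP, he⟩, hQP, hPN, hst, hom⟩ := h
  exact (normal_step_algebra hpM hP hQP hf he hst).1.1 hom

theorem isNormalSubpair_of_ne_zero (hpM : (p : AlgInt) ∈ M) (hPe : IsBrauerPair p M P e)
    (hQP : Q ≤ P) (hPN : P ≤ Subgroup.normalizer (Q : Set G)) (hf : IsPBlock M f)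
    (hst : ∀ x ∈ P, StabilizesBlock (Subgroup.centralizer (Q : Set G)) f x)
    (hne : pairIdem hPe.2 * cut (Subgroup.centralizer (P : Set G) : Set G) (pairIdem hf) ≠ 0) :
    IsNormalSubpair p M Q f P e := by
  have ha := normal_step_algebra hpM hPe.1 hQP hf hPe.2 hst
  refine ⟨⟨hPe.1.to_le hQP, hf⟩, hPe, hQP, hPN, hst, ha.1.2 ?_⟩
  exact ha.2.resolve_right hne

/-- Normal inclusion determines the smaller pair. -/
theorem IsNormalSubpair.eq (hpM : (p : AlgInt) ∈ M) (h : IsNormalSubpair p M Q f P e)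
    {f' : Set (IrrCharacter (Subgroup.centralizer (Q : Set G)))}
    (h' : IsNormalSubpair p M Q f' P e) : f = f' := by
  haveI := charP_resField (M := M) (Fact.out (p := p.Prime)) hpM
  by_contra hne
  have e1 := IsNormalSubpair.mul_cut hpM h
  have e2 := IsNormalSubpair.mul_cut hpM h'
  have e3 : cut (Subgroup.centralizer (P : Set G) : Set G) (pairIdem h.1.2) *
      cut (Subgroup.centralizer (P : Set G) : Set G) (pairIdem h'.1.2) = 0 := by
    rw [← cut_mul p h.2.1.1 (isFixedBy_pairIdem_of_stab h.1.2 h.2.2.2.2.1)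
      (isFixedBy_pairIdem_of_stab h'.1.2 h'.2.2.2.2.1), pairIdem_mul_of_ne _ _ hne, cut_zero]
  apply pairIdem_ne_zero h.2.1.2
  calc pairIdem h.2.1.2 = pairIdem h.2.1.2 *
        cut (Subgroup.centralizer (P : Set G) : Set G) (pairIdem h'.1.2) := e2.symm
    _ = pairIdem h.2.1.2 * cut (Subgroup.centralizer (P : Set G) : Set G) (pairIdem h.1.2) *
        cut (Subgroup.centralizer (P : Set G) : Set G) (pairIdem h'.1.2) := by rw [e1]
    _ = 0 := by rw [mul_assoc, e3, mul_zero]

end NormalStep

/-- Existence of the pair on a normal subgroup. -/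
theorem exists_isNormalSubpair (hpM : (p : AlgInt) ∈ M) {P Q : Subgroup G}
    {e : Set (IrrCharacter (Subgroup.centralizer (P : Set G)))} (hPe : IsBrauerPair p M P e)
    (hQP : Q ≤ P) (hPN : P ≤ Subgroup.normalizer (Q : Set G)) :
    ∃ f, IsNormalSubpair p M Q f P e := by
  classical
  haveI := charP_resField (M := M) (Fact.out (p := p.Prime)) hpM
  haveI := Fintype.ofFinite (Subgroup.centralizer (Q : Set G))
  haveI := irrFintype (Subgroup.centralizer (Q : Set G))
  set C := Subgroup.centralizer (Q : Set G) with hC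
  let W := {f : Set (IrrCharacter C) // IsPBlock M f}
  haveI : Finite W := Subtype.finite
  haveI := Fintype.ofFinite W
  have hcoef : ∀ (x : G) (hx : x ∈ Subgroup.normalizer (C : Set G)) (f : Set (IrrCharacter C))
      (g : G), subgroupBlockCoeff C (conjImage x (conj_mem_iff_of_mem_normalizer hx) f) g =
        subgroupBlockCoeff C f (x⁻¹ * g * x) := fun x hx f g => by
    conv_lhs => rw [show g = x * (x⁻¹ * g * x) * x⁻¹ by group]
    rw [subgroupBlockCoeff_conjImage]
  have hPC : ∀ u : P, (u : G) ∈ Subgroup.normalizer (C : Set G) := fun u =>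
    mem_normalizer_centralizer (hPN u.2)
  letI : MulAction P W :=
    { smul := fun u w => ⟨conjImage (u : G) (conj_mem_iff_of_mem_normalizer (hPC u)) w.1,
        isPBlock_conjImage _ _ w.2⟩
      one_smul := fun w => Subtype.ext (eq_of_subgroupBlockCoeff_eq (funext fun g => by
        refine (hcoef _ (hPC 1) w.1 g).trans ?_
        simp))
      mul_smul := fun u v w => Subtype.ext (eq_of_subgroupBlockCoeff_eq (funext fun g => by
        refine (hcoef _ (hPC (u * v)) w.1 g).trans ?_
        refine Eq.symm ((hcoef _ (hPC u) _ g).trans ((hcoef _ (hPC v) w.1 _).trans ?_))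
        congr 1
        simp [mul_assoc])) }
  by_contra hcon
  rw [not_exists] at hcon
  set D := Subgroup.centralizer (P : Set G) with hD
  have hzero : ∀ w : W, w ∈ MulAction.fixedPoints P W →
      pairIdem hPe.2 * cut (D : Set G) (pairIdem w.2) = 0 := by
    intro w hw
    by_contra hne
    refine hcon w.1 (isNormalSubpair_of_ne_zero hpM hPe hQP hPN w.2 (fun x hx => ?_) hne)
    exact (stabilizesBlock_iff_conjImage w.2 (hPC ⟨x, hx⟩)).2
      (congrArg Subtype.val (hw ⟨x, hx⟩))
  have hsum : ∑ w : W, pairIdem w.2 = 1 := by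
    rw [← sum_pairIdem (M := M) (H := C) (blockFinset M C) rfl
      (fun f => if hf : IsPBlock M f then pairIdem hf else 0) (fun f hf => dif_pos hf),
      Finset.sum_subtype (p := IsPBlock M) (blockFinset M C) (fun f => mem_blockFinset)]
    exact Finset.sum_congr rfl fun w _ => (dif_pos w.2).symm
  have hfix : ∑ w ∈ Finset.univ.filter (fun w : W => w ∈ MulAction.fixedPoints P W),
      cut (D : Set G) (pairIdem w.2) = 1 := by
    rw [← cut_one (k := ResField M) D, ← hsum, cut_sum]
    apply MonoidAlgebra.ext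
    ext g
    rw [MonoidAlgebra.coeff_sum, MonoidAlgebra.coeff_sum, Finsupp.finsetSum_apply,
      Finsupp.finsetSum_apply]
    by_cases hg : g ∈ D
    · simp only [coeff_cut_of_mem _ (show g ∈ (D : Set G) from hg)]
      refine (sum_eq_sum_fixedPoints p hPe.1 (fun w : W => (pairIdem w.2).coeff g) ?_).symm
      intro u w
      simp only [pairIdem, coeff_redFun]
      refine congrArg red (Subtype.ext ?_)
      refine (hcoef _ (hPC u) w.1 g).trans ?_
      congr 1
      have h1 : (u : G) * g = g * (u : G) := Subgroup.mem_centralizer_iff.1 hg u u.2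
      rw [mul_assoc, ← h1, inv_mul_cancel_left]
    · rw [Finset.sum_eq_zero, Finset.sum_eq_zero] <;>
        exact fun w _ => coeff_cut_of_notMem _ (show g ∉ (D : Set G) from hg)
  apply pairIdem_ne_zero hPe.2
  rw [← mul_one (pairIdem hPe.2), ← hfix, Finset.mul_sum]
  exact Finset.sum_eq_zero fun w hw => hzero w (Finset.mem_filter.1 hw).2

theorem isNormalSubpair_refl (hpM : (p : AlgInt) ∈ M) {Q : Subgroup G}
    {f : Set (IrrCharacter (Subgroup.centralizer (Q : Set G)))} (h : IsBrauerPair p M Q f) :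
    IsNormalSubpair p M Q f Q f := by
  have hst : ∀ x ∈ Q, StabilizesBlock (Subgroup.centralizer (Q : Set G)) f x := by
    intro x hx
    have hN := mem_normalizer_centralizer (Subgroup.le_normalizer hx)
    refine (stabilizesBlock_iff h.2).2 ⟨hN, fun g => ?_⟩
    by_cases hg : g ∈ Subgroup.centralizer (Q : Set G)
    · rw [show x * g * x⁻¹ = g by
        rw [Subgroup.mem_centralizer_iff.1 hg x hx, mul_inv_cancel_right]]
    · rw [subgroupBlockCoeff_of_notMem f hg,
        subgroupBlockCoeff_of_notMem f (mt ((conj_mem_iff_of_mem_normalizer hN g).1) hg)]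
  refine isNormalSubpair_of_ne_zero hpM h le_rfl Subgroup.le_normalizer h.2 hst ?_
  rw [cut_pairIdem, pairIdem_mul_self]
  exact pairIdem_ne_zero h.2

/-- Compatibility of normal inclusions. -/
theorem IsNormalSubpair.restrict (hpM : (p : AlgInt) ∈ M) {Q R R' : Subgroup G}
    {f : Set (IrrCharacter (Subgroup.centralizer (Q : Set G)))}
    {g : Set (IrrCharacter (Subgroup.centralizer (R : Set G)))}
    {g' : Set (IrrCharacter (Subgroup.centralizer (R' : Set G)))}
    (h : IsNormalSubpair p M Q f R' g') (h' : IsNormalSubpair p M R g R' g') (hQR : Q ≤ R) :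
    IsNormalSubpair p M Q f R g := by
  haveI := charP_resField (M := M) (Fact.out (p := p.Prime)) hpM
  have hRR : R ≤ R' := h'.2.2.1
  have hst : ∀ x ∈ R, StabilizesBlock (Subgroup.centralizer (Q : Set G)) f x :=
    fun x hx => h.2.2.2.2.1 x (hRR hx)
  refine isNormalSubpair_of_ne_zero hpM h'.1 hQR (hRR.trans h.2.2.2.1) h.1.2 hst fun h0 => ?_
  have hf := isFixedBy_pairIdem_of_stab h.1.2 h.2.2.2.2.1
  have h1 := congrArg (cut (Subgroup.centralizer (R' : Set G) : Set G)) h0
  rw [cut_zero, cut_mul p h.2.1.1 (isFixedBy_pairIdem_of_stab h'.1.2 h'.2.2.2.2.1)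
    (isFixedBy_cut hf h'.2.2.2.1), cut_cut_centralizer hRR] at h1
  apply pairIdem_ne_zero h.2.1.2
  calc pairIdem h.2.1.2 = pairIdem h.2.1.2 *
        cut (Subgroup.centralizer (R' : Set G) : Set G) (pairIdem h.1.2) :=
        (IsNormalSubpair.mul_cut hpM h).symm
    _ = pairIdem h.2.1.2 * cut (Subgroup.centralizer (R' : Set G) : Set G) (pairIdem h'.1.2) *
        cut (Subgroup.centralizer (R' : Set G) : Set G) (pairIdem h.1.2) := by
        rw [IsNormalSubpair.mul_cut hpM h']
    _ = 0 := by rw [mul_assoc, h1, mul_zero]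

/-! ## The inclusion of pairs -/

theorem below_le {a b : BrauerPairIdx G} (h : Relation.ReflTransGen (NormalSubpairRel p M) a b) :
    a.1 ≤ b.1 := by
  induction h using Relation.ReflTransGen.head_induction_on with
  | refl => exact le_rfl
  | head hs _ ih => exact hs.2.2.1.trans ih

theorem below_isBrauerPair {a b : BrauerPairIdx G}
    (h : Relation.ReflTransGen (NormalSubpairRel p M) a b) (hb : IsBrauerPair p M b.1 b.2) :
    IsBrauerPair p M a.1 a.2 := by
  induction h using Relation.ReflTransGen.head_induction_on with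
  | refl => exact hb
  | head hs _ _ => exact hs.1

theorem normal_step_eq (hpM : (p : AlgInt) ∈ M) {a c : BrauerPairIdx G}
    (h : NormalSubpairRel p M a c) (hq : a.1 = c.1) : a = c := by
  obtain ⟨Q, f⟩ := a
  obtain ⟨Q', f'⟩ := c
  obtain rfl : Q = Q' := hq
  have : f = f' := IsNormalSubpair.eq hpM h (isNormalSubpair_refl hpM h.2.1)
  subst this
  rfl

theorem exists_first_step (hpM : (p : AlgInt) ∈ M) {a b : BrauerPairIdx G}
    (h : Relation.ReflTransGen (NormalSubpairRel p M) a b) :
    a = b ∨ ∃ c : BrauerPairIdx G, a.1 < c.1 ∧ NormalSubpairRel p M a c ∧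
      Relation.ReflTransGen (NormalSubpairRel p M) c b := by
  induction h using Relation.ReflTransGen.head_induction_on with
  | refl => exact Or.inl rfl
  | @head a c hs hr ih =>
    by_cases hq : a.1 = c.1
    · obtain rfl := normal_step_eq hpM hs hq
      exact ih
    · exact Or.inr ⟨c, lt_of_le_of_ne hs.2.2.1 hq, hs, hr⟩

theorem below_eq_of_fst_eq (hpM : (p : AlgInt) ∈ M) {a b : BrauerPairIdx G}
    (h : Relation.ReflTransGen (NormalSubpairRel p M) a b) (hq : a.1 = b.1) : a = b := by
  rcases exists_first_step hpM h with h' | ⟨c, hlt, -, hr⟩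
  · exact h'
  · exact absurd (hq ▸ hlt.trans_le (below_le hr)) (lt_irrefl _)

theorem exists_lt_le_normalizer {Q P : Subgroup G} (hP : IsPGroup p P) (h : Q < P) :
    Q < P ⊓ Subgroup.normalizer (Q : Set G) := by
  haveI := hP.isNilpotent
  have hlt : Q.subgroupOf P < ⊤ := lt_top_iff_ne_top.2 fun he =>
    h.not_ge (Subgroup.subgroupOf_eq_top.1 he)
  have hn := Group.normalizerCondition_of_isNilpotent _ hlt
  obtain ⟨x, hx, hxQ⟩ := SetLike.exists_of_lt hn
  refine lt_of_le_of_ne (le_inf h.le Subgroup.le_normalizer) fun he => hxQ ?_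
  rw [Subgroup.mem_subgroupOf, he]
  refine ⟨x.2, ?_⟩
  rw [Subgroup.mem_normalizer_iff] at hx
  refine Subgroup.mem_normalizer_iff.2 fun g => ⟨fun hg => ?_, fun hg => ?_⟩
  · exact (hx ⟨g, h.le hg⟩).1 hg
  · have hgP : g ∈ P := by
      have := P.mul_mem (P.mul_mem (P.inv_mem x.2) (h.le hg)) x.2
      simpa [mul_assoc] using this
    exact (hx ⟨g, hgP⟩).2 hg

theorem exists_below (hpM : (p : AlgInt) ∈ M) {b : BrauerPairIdx G}
    (hb : IsBrauerPair p M b.1 b.2) : ∀ Q : Subgroup G, Q ≤ b.1 →
      ∃ f : Set (IrrCharacter (Subgroup.centralizer (Q : Set G))),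
        Relation.ReflTransGen (NormalSubpairRel p M) ⟨Q, f⟩ b := by
  intro Q
  induction hn : Nat.card b.1 - Nat.card Q using Nat.strong_induction_on generalizing Q with
  | _ n ih =>
    intro hQ
    rcases eq_or_lt_of_le hQ with rfl | hlt
    · exact ⟨b.2, Relation.ReflTransGen.refl⟩
    have hR := exists_lt_le_normalizer hb.1 hlt
    set R := b.1 ⊓ Subgroup.normalizer (Q : Set G) with hRdef
    have h1 : Nat.card Q < Nat.card R := Set.Finite.card_lt_card (Set.toFinite _) hR
    have h2 : Nat.card R ≤ Nat.card b.1 := Subgroup.card_le_of_le inf_le_left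
    obtain ⟨g, hg⟩ := ih _ (by omega) R rfl inf_le_left
    obtain ⟨f, hf⟩ := exists_isNormalSubpair hpM (below_isBrauerPair hg hb) hR.le inf_le_right
    exact ⟨f, Relation.ReflTransGen.head hf hg⟩

theorem below_unique_aux (hpM : (p : AlgInt) ∈ M) {b : BrauerPairIdx G}
    (hb : IsBrauerPair p M b.1 b.2) (n : ℕ) : ∀ Q : Subgroup G, Nat.card b.1 - Nat.card Q = n →
    (∀ f f' : Set (IrrCharacter (Subgroup.centralizer (Q : Set G))),
      Relation.ReflTransGen (NormalSubpairRel p M) ⟨Q, f⟩ b →
      Relation.ReflTransGen (NormalSubpairRel p M) ⟨Q, f'⟩ b → f = f') ∧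
    (∀ f, Relation.ReflTransGen (NormalSubpairRel p M) ⟨Q, f⟩ b →
      ∀ (R : Subgroup G) (g : Set (IrrCharacter (Subgroup.centralizer (R : Set G)))),
        Q < R → R ≤ Subgroup.normalizer (Q : Set G) →
        Relation.ReflTransGen (NormalSubpairRel p M) ⟨R, g⟩ b → IsNormalSubpair p M Q f R g) := by
  induction n using Nat.strong_induction_on with
  | _ n ih =>
    intro Q hn
    -- uniqueness above `Q`
    have hU : ∀ R : Subgroup G, Q < R → R ≤ b.1 →
        ∀ g g' : Set (IrrCharacter (Subgroup.centralizer (R : Set G))),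
          Relation.ReflTransGen (NormalSubpairRel p M) ⟨R, g⟩ b →
          Relation.ReflTransGen (NormalSubpairRel p M) ⟨R, g'⟩ b → g = g' := by
      intro R hQR hR
      have h1 : Nat.card Q < Nat.card R := Set.Finite.card_lt_card (Set.toFinite _) hQR
      have h2 : Nat.card R ≤ Nat.card b.1 := Subgroup.card_le_of_le hR
      exact (ih _ (by omega) R rfl).1
    set N := b.1 ⊓ Subgroup.normalizer (Q : Set G) with hNdef
    -- the pair on `N`, and the pair normally below it
    have key : ∀ (hN : Q < N) (h : Set (IrrCharacter (Subgroup.centralizer (N : Set G))))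
        (f₀ : Set (IrrCharacter (Subgroup.centralizer (Q : Set G)))),
        Relation.ReflTransGen (NormalSubpairRel p M) ⟨N, h⟩ b → IsNormalSubpair p M Q f₀ N h →
        ∀ (R : Subgroup G) (g : Set (IrrCharacter (Subgroup.centralizer (R : Set G)))),
          Q < R → R ≤ N → Relation.ReflTransGen (NormalSubpairRel p M) ⟨R, g⟩ b →
            IsNormalSubpair p M Q f₀ R g := by
      intro hN h f₀ hh hf₀ R
      induction hm : Nat.card N - Nat.card R using Nat.strong_induction_on generalizing R with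
      | _ m ihm =>
        intro g hQR hRN hg
        rcases eq_or_lt_of_le hRN with rfl | hlt
        · rwa [hU _ hQR inf_le_left g h hg hh]
        have hR' := exists_lt_le_normalizer (p := p) (hb.1.to_le (inf_le_left : N ≤ b.1)) hlt
        set R' := N ⊓ Subgroup.normalizer (R : Set G) with hR'def
        have h1 : Nat.card R < Nat.card R' := Set.Finite.card_lt_card (Set.toFinite _) hR'
        have h2 : Nat.card R' ≤ Nat.card N := Subgroup.card_le_of_le inf_le_left
        have hR'b : R' ≤ b.1 := inf_le_left.trans inf_le_left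
        obtain ⟨g', hg'⟩ := exists_below hpM hb R' hR'b
        have hstep := ihm _ (by omega) R' rfl g' (hQR.trans hR') inf_le_left hg'
        obtain ⟨g'', hg''⟩ := exists_isNormalSubpair hpM (below_isBrauerPair hg' hb) hR'.le
          inf_le_right
        obtain rfl := hU R hQR (hRN.trans inf_le_left) g g'' hg
          (Relation.ReflTransGen.head hg'' hg')
        exact IsNormalSubpair.restrict hpM hstep hg'' hQR.le
    have main : ∀ f, Relation.ReflTransGen (NormalSubpairRel p M) ⟨Q, f⟩ b → Q ≠ b.1 →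
        ∃ (hN : Q < N) (h : Set (IrrCharacter (Subgroup.centralizer (N : Set G)))),
          Relation.ReflTransGen (NormalSubpairRel p M) ⟨N, h⟩ b ∧ IsNormalSubpair p M Q f N h := by
      intro f hf hne
      rcases exists_first_step hpM hf with h' | ⟨⟨R, g⟩, hQR, hs, hr⟩
      · exact absurd (congrArg Sigma.fst h') hne
      have hRb : R ≤ b.1 := below_le hr
      have hRN : R ≤ N := le_inf hRb hs.2.2.2.1
      have hN : Q < N := lt_of_lt_of_le hQR hRN
      obtain ⟨h, hh⟩ := exists_below hpM hb N inf_le_left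
      obtain ⟨f₀, hf₀⟩ := exists_isNormalSubpair hpM (below_isBrauerPair hh hb) hN.le inf_le_right
      obtain rfl : f₀ = f := IsNormalSubpair.eq hpM (key hN h f₀ hh hf₀ R g hQR hRN hr) hs
      exact ⟨hN, h, hh, hf₀⟩
    constructor
    · intro f f' hf hf'
      by_cases hne : Q = b.1
      · have h1 := below_eq_of_fst_eq hpM hf hne
        have h2 := below_eq_of_fst_eq hpM hf' hne
        exact eq_of_heq (Sigma.mk.inj_iff.1 (h1.trans h2.symm)).2
      obtain ⟨hN, h, hh, hs⟩ := main f hf hne
      obtain ⟨-, h', hh', hs'⟩ := main f' hf' hne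
      obtain rfl := hU N hN inf_le_left h h' hh hh'
      exact IsNormalSubpair.eq hpM hs hs'
    · intro f hf R g hQR hRN hg
      obtain ⟨hN, h, hh, hs⟩ := main f hf
        (lt_of_lt_of_le hQR (below_le hg)).ne
      exact key hN h f hh hs R g hQR (le_inf (below_le hg) hRN) hg

theorem below_unique (hpM : (p : AlgInt) ∈ M) {b : BrauerPairIdx G}
    (hb : IsBrauerPair p M b.1 b.2) {Q : Subgroup G}
    {f f' : Set (IrrCharacter (Subgroup.centralizer (Q : Set G)))}
    (h : Relation.ReflTransGen (NormalSubpairRel p M) ⟨Q, f⟩ b)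
    (h' : Relation.ReflTransGen (NormalSubpairRel p M) ⟨Q, f'⟩ b) : f = f' :=
  (below_unique_aux hpM hb _ Q rfl).1 f f' h h'

/-- The pairs below a given pair are normally included as soon as the subgroups are. -/
theorem isNormalSubpair_of_below (hpM : (p : AlgInt) ∈ M) {b : BrauerPairIdx G}
    (hb : IsBrauerPair p M b.1 b.2) {Q R : Subgroup G}
    {f : Set (IrrCharacter (Subgroup.centralizer (Q : Set G)))}
    {g : Set (IrrCharacter (Subgroup.centralizer (R : Set G)))}
    (hf : Relation.ReflTransGen (NormalSubpairRel p M) ⟨Q, f⟩ b)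
    (hg : Relation.ReflTransGen (NormalSubpairRel p M) ⟨R, g⟩ b)
    (hQR : Q ≤ R) (hRN : R ≤ Subgroup.normalizer (Q : Set G)) :
    IsNormalSubpair p M Q f R g := by
  rcases eq_or_lt_of_le hQR with rfl | hlt
  · rw [below_unique hpM hb hg hf]
    exact isNormalSubpair_refl hpM (below_isBrauerPair hf hb)
  · exact (below_unique_aux hpM hb _ Q rfl).2 f hf R g hlt hRN hg

/-! ## The block of a pair -/

theorem isBrauerPairOf_iff (hpM : (p : AlgInt) ∈ M) {P : Subgroup G}
    {e : Set (IrrCharacter (Subgroup.centralizer (P : Set G)))} (hPe : IsBrauerPair p M P e)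
    {B : Set (IrrCharacter G)} (hB : IsPBlock M B) :
    (IsBrauerPairOf p M B P e ↔
      pairIdem hPe.2 * cut (Subgroup.centralizer (P : Set G) : Set G) (blockIdem hB) =
        pairIdem hPe.2) ∧
    (pairIdem hPe.2 * cut (Subgroup.centralizer (P : Set G) : Set G) (blockIdem hB) =
        pairIdem hPe.2 ∨
      pairIdem hPe.2 * cut (Subgroup.centralizer (P : Set G) : Set G) (blockIdem hB) = 0) := by
  have h := brauerOmega_dichotomy hpM hPe.1 (blockCoeff_mem_loc hB)
    (fun u _ g => isClassFunction_blockCoeff B g u) (fun u _ g => isClassFunction_blockCoeff B g u)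
    (blockIdem_mul_self hB) hPe.2
  exact ⟨⟨fun h' => h.1.1 h'.2.2, fun h' => ⟨hPe, hB, h.1.2 h'⟩⟩, h.2⟩

theorem existsUnique_block_of_pair (hpM : (p : AlgInt) ∈ M) {P : Subgroup G}
    {e : Set (IrrCharacter (Subgroup.centralizer (P : Set G)))} (hPe : IsBrauerPair p M P e) :
    ∃! B : Set (IrrCharacter G), IsBrauerPairOf p M B P e := by
  classical
  haveI := charP_resField (M := M) (Fact.out (p := p.Prime)) hpM
  have huniq : ∀ B B', IsBrauerPairOf p M B P e → IsBrauerPairOf p M B' P e → B = B' := by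
    intro B B' h h'
    by_contra hne
    have e1 := (isBrauerPairOf_iff hpM hPe h.2.1).1.1 h
    have e2 := (isBrauerPairOf_iff hpM hPe h'.2.1).1.1 h'
    apply pairIdem_ne_zero hPe.2
    calc pairIdem hPe.2 = pairIdem hPe.2 * cut (Subgroup.centralizer (P : Set G) : Set G) (blockIdem h'.2.1) := e2.symm
      _ = pairIdem hPe.2 * cut (Subgroup.centralizer (P : Set G) : Set G) (blockIdem h.2.1) *
          cut (Subgroup.centralizer (P : Set G) : Set G) (blockIdem h'.2.1) := by rw [e1]
      _ = 0 := by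
        rw [mul_assoc, ← cut_mul p hPe.1 (isFixedBy_blockIdem _ P) (isFixedBy_blockIdem _ P),
          blockIdem_mul_blockIdem_of_ne h.2.1 h'.2.1 hne, cut_zero, mul_zero]
  obtain ⟨B, hB⟩ : ∃ B, IsBrauerPairOf p M B P e := by
    by_contra hcon
    rw [not_exists] at hcon
    let F : Set (IrrCharacter G) → MonoidAlgebra (ResField M) G :=
      fun B => if hB : IsPBlock M B then blockIdem hB else 0
    have hsum : ∑ B ∈ blockFinset M G, F B = 1 := by
      apply MonoidAlgebra.ext
      ext g
      let z : Set (IrrCharacter G) → loc M := fun B =>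
        if hB : IsPBlock M B then ⟨blockCoeff B g, blockCoeff_mem_loc hB g⟩ else 0
      have e1 : ∀ B ∈ blockFinset M G, (F B).coeff g = red (z B) := fun B hB => by
        simp only [F, z, dif_pos (mem_blockFinset.1 hB), blockIdem, coeff_redFun]
      rw [MonoidAlgebra.coeff_sum, Finsupp.finsetSum_apply, Finset.sum_congr rfl e1, ← map_sum]
      have e2 : ∑ B ∈ blockFinset M G, z B = if g = 1 then 1 else 0 := by
        apply Subtype.ext
        have e3 := congrFun (sum_blockFinset_blockCoeff (G := G) (M := M)) g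
        rw [Finset.sum_apply, classInd_apply] at e3
        rw [AddSubmonoidClass.coe_finsetSum, Finset.sum_congr rfl (g := fun B => blockCoeff B g)
          fun B hB => by simp [z, dif_pos (mem_blockFinset.1 hB)], e3]
        by_cases h1 : g = 1
        · subst h1; simp [IsConj.refl]
        · rw [if_neg h1, if_neg fun hc => h1 (isConj_one_right.1 hc)]; rfl
      rw [e2, MonoidAlgebra.one_def, MonoidAlgebra.coeff_single]
      by_cases h1 : g = 1
      · subst h1; simp
      · rw [if_neg h1, map_zero, Finsupp.single_eq_of_ne h1]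
    apply pairIdem_ne_zero hPe.2
    rw [← mul_one (pairIdem hPe.2), ← cut_one (k := ResField M) (Subgroup.centralizer (P : Set G)), ← hsum, cut_sum,
      Finset.mul_sum]
    refine Finset.sum_eq_zero fun B hB => ?_
    have hB' := mem_blockFinset.1 hB
    simp only [F, dif_pos hB']
    exact (isBrauerPairOf_iff hpM hPe hB').2.resolve_left
      fun h => hcon B ((isBrauerPairOf_iff hpM hPe hB').1.2 h)
  exact ⟨B, hB, fun B' h' => huniq B' B h' hB⟩

theorem isBrauerPairOf_of_normal (hpM : (p : AlgInt) ∈ M) {Q P : Subgroup G}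
    {f : Set (IrrCharacter (Subgroup.centralizer (Q : Set G)))}
    {e : Set (IrrCharacter (Subgroup.centralizer (P : Set G)))}
    (h : IsNormalSubpair p M Q f P e) (B : Set (IrrCharacter G)) :
    IsBrauerPairOf p M B Q f ↔ IsBrauerPairOf p M B P e := by
  haveI := charP_resField (M := M) (Fact.out (p := p.Prime)) hpM
  have fwd : ∀ B, IsBrauerPairOf p M B Q f → IsBrauerPairOf p M B P e := by
    intro B hB
    refine (isBrauerPairOf_iff hpM h.2.1 hB.2.1).1.2 ?_
    have h1 := (isBrauerPairOf_iff hpM h.1 hB.2.1).1.1 hB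
    have h2 := congrArg (cut (Subgroup.centralizer (P : Set G) : Set G)) h1
    rw [cut_mul p h.2.1.1 (isFixedBy_pairIdem_of_stab h.1.2 h.2.2.2.2.1)
      (isFixedBy_cut (isFixedBy_blockIdem hB.2.1 P) h.2.2.2.1),
      cut_cut_centralizer h.2.2.1] at h2
    have h3 := congrArg (fun z => pairIdem h.2.1.2 * z) h2
    simp only [← mul_assoc, IsNormalSubpair.mul_cut hpM h] at h3
    exact h3
  refine ⟨fwd B, fun hB => ?_⟩
  obtain ⟨B', hB', -⟩ := existsUnique_block_of_pair hpM h.1
  rwa [← (existsUnique_block_of_pair hpM h.2.1).unique (fwd B' hB') hB]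

theorem isBrauerPairOf_iff_of_below (hpM : (p : AlgInt) ∈ M) {a b : BrauerPairIdx G}
    (h : Relation.ReflTransGen (NormalSubpairRel p M) a b) (B : Set (IrrCharacter G)) :
    IsBrauerPairOf p M B a.1 a.2 ↔ IsBrauerPairOf p M B b.1 b.2 := by
  induction h using Relation.ReflTransGen.head_induction_on with
  | refl => exact Iff.rfl
  | head hs _ ih => exact (isBrauerPairOf_of_normal hpM hs B).trans ih

theorem exists_maximal_above (hpM : (p : AlgInt) ∈ M) {B : Set (IrrCharacter G)} :
    ∀ a : BrauerPairIdx G, IsBrauerPairOf p M B a.1 a.2 →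
      ∃ b : BrauerPairIdx G, Relation.ReflTransGen (NormalSubpairRel p M) a b ∧
        IsMaximalBrauerPair p M B b.1 b.2 := by
  intro a
  induction hn : Nat.card G - Nat.card a.1 using Nat.strong_induction_on generalizing a with
  | _ n ih =>
    intro ha
    by_cases hmax : IsMaximalBrauerPair p M B a.1 a.2
    · exact ⟨a, Relation.ReflTransGen.refl, hmax⟩
    simp only [IsMaximalBrauerPair, ha, true_and, not_forall] at hmax
    obtain ⟨R, g, hg, hle, hne⟩ := hmax
    have hle' : Relation.ReflTransGen (NormalSubpairRel p M) a ⟨R, g⟩ := hle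
    have hlt : a.1 < R := lt_of_le_of_ne (below_le hle') fun h => hne h.symm
    have h1 : Nat.card a.1 < Nat.card R := Set.Finite.card_lt_card (Set.toFinite _) hlt
    have h2 : Nat.card R ≤ Nat.card G := Subgroup.card_le_card_group R
    obtain ⟨b, hb, hmaxb⟩ := ih (Nat.card G - Nat.card R) (by omega) ⟨R, g⟩ rfl hg
    exact ⟨b, hle'.trans hb, hmaxb⟩

end CfsgLib.Blocks
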