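import Cfsg.Agent.Lib.Blocks.Counting
import Cfsg.Agent.Lib.Blocks.QuotientP
import Cfsg.Agent.Lib.Chars.Product

/-!
# Blocks with defect group `P` in `G = P C(P)`
-/

set_option linter.unusedSectionVars false
set_option linter.style.haveILetI false

namespace CfsgLib.Blocks

open Cfsg Chars BlockOrth
open scoped ComplexConjugate

variable {G : Type*} [Group G] [Fintype G] {M : Ideal AlgInt} [M.IsPrime] {p : ℕ} [Fact p.Prime]
  {P : Subgroup G}

/-- Irreducible characters of a central product factor. -/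
theorem exists_factor (hG : P ⊔ Subgroup.centralizer (P : Set G) = ⊤) [P.Normal]
    (ξ : IrrCharacter G) :
    ∃ (φ : IrrCharacter P) (ψ : IrrCharacter (Subgroup.centralizer (P : Set G))),
      ∀ (u : P) (c : Subgroup.centralizer (P : Set G)),
        (ξ : G → ℂ) ((u : G) * c) = (φ : P → ℂ) u * (ψ : Subgroup.centralizer (P : Set G) → ℂ) c := by
  let f : P × Subgroup.centralizer (P : Set G) →* G :=
    { toFun := fun w => (w.1 : G) * w.2
      map_one' := by simp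
      map_mul' := fun a b => by
        have hc : (b.1 : G) * a.2 = (a.2 : G) * b.1 := Subgroup.mem_centralizer_iff.1 a.2.2 _ b.1.2
        show (((a.1 * b.1 : P)) : G) * ((a.2 * b.2 : Subgroup.centralizer (P : Set G)) : G) = _
        rw [Subgroup.coe_mul, Subgroup.coe_mul]
        calc (a.1 : G) * b.1 * ((a.2 : G) * b.2) = (a.1 : G) * ((b.1 : G) * a.2) * b.2 := by group
          _ = (a.1 : G) * ((a.2 : G) * b.1) * b.2 := by rw [hc]
          _ = _ := by group }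
  have hf : Function.Surjective f := fun g => by
    have hg : g ∈ P ⊔ Subgroup.centralizer (P : Set G) := hG ▸ Subgroup.mem_top g
    obtain ⟨u, hu, c, hc, rfl⟩ := Subgroup.mem_sup_of_normal_left.1 hg
    exact ⟨(⟨u, hu⟩, ⟨c, hc⟩), rfl⟩
  obtain ⟨φ, ψ, hφ, hψ, he⟩ := (isIrrCharacter_prod_iff _).1 (isIrrCharacter_comp f hf ξ.2)
  exact ⟨⟨φ, hφ⟩, ⟨ψ, hψ⟩, fun u c => congrFun he (u, c)⟩

theorem conjIrr_centralizer_eq_self [P.Normal]
    [(Subgroup.centralizer (P : Set G)).Normal] [Fintype (Subgroup.centralizer (P : Set G))]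
    (hG : P ⊔ Subgroup.centralizer (P : Set G) = ⊤) (g : G)
    (θ : IrrCharacter (Subgroup.centralizer (P : Set G))) :
    conjIrr (Subgroup.centralizer (P : Set G)) g θ = θ := by
  have hg : g ∈ P ⊔ Subgroup.centralizer (P : Set G) := hG ▸ Subgroup.mem_top g
  obtain ⟨u, hu, c, hc, rfl⟩ := Subgroup.mem_sup_of_normal_left.1 hg
  refine Subtype.ext (funext fun n => ?_)
  rw [coe_conjIrr, CharsMore.conjFn]
  have e : CharsMore.conjBy (Subgroup.centralizer (P : Set G)) (u * c) n = ⟨c, hc⟩ * n * ⟨c, hc⟩⁻¹ := by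
    apply Subtype.ext
    push_cast
    simp only [CharsMore.coe_conjBy]
    have h1 : c * n * c⁻¹ ∈ Subgroup.centralizer (P : Set G) :=
      mul_mem (mul_mem hc n.2) (inv_mem hc)
    have h2 : u * (c * n * c⁻¹) = (c * n * c⁻¹) * u := Subgroup.mem_centralizer_iff.1 h1 u hu
    calc u * c * n * (u * c)⁻¹ = u * (c * n * c⁻¹) * u⁻¹ := by group
      _ = c * n * c⁻¹ * u * u⁻¹ := by rw [h2]
      _ = c * n * c⁻¹ := by group
  rw [e, isClassFunction_irr θ]

/-- The structure of a block with defect group `P` when `G = P C(P)`. -/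
theorem central_product_values (hpM : (p : AlgInt) ∈ M) (hP : IsPGroup p P)
    (hG : P ⊔ Subgroup.centralizer (P : Set G) = ⊤) {B : Set (IrrCharacter G)}
    (hB : IsPBlock M B) (hD : IsDefectGroup p M B P) :
    (∃! θ : IrrCharacter G, θ ∈ B ∧ ∀ x ∈ P, (θ : G → ℂ) x = (θ : G → ℂ) 1) ∧
      (∀ θ ∈ B, (∀ x ∈ P, (θ : G → ℂ) x = (θ : G → ℂ) 1) →
        (charDegree (θ : G → ℂ)).factorization p = P.index.factorization p) ∧
      Nat.card B = Nat.card (ConjClasses P) ∧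
      ∀ θ ∈ B, (∀ x ∈ P, (θ : G → ℂ) x = (θ : G → ℂ) 1) →
        ∃ Φ : IrrCharacter G → IrrCharacter P, (∀ φ, ∃ ξ ∈ B, Φ ξ = φ) ∧ ∀ ξ ∈ B,
          (∀ (u : P) (x : G), ¬ p ∣ orderOf x → Commute (u : G) x →
            (ξ : G → ℂ) ((u : G) * x) = (Φ ξ : P → ℂ) u * (θ : G → ℂ) x) ∧
          ∀ z : G, (∀ y : G, IsPPart p z y → y ∉ P) → (ξ : G → ℂ) z = 0 := by
  classical
  have hp : p.Prime := Fact.out
  haveI hPn : P.Normal := Subgroup.normalizer_eq_top_iff.1 (top_le_iff.1 (hG.ge.trans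
    (sup_le Subgroup.le_normalizer (Subgroup.centralizer_le_normalizer _))))
  haveI hCn : (Subgroup.centralizer (P : Set G)).Normal := ⟨fun c hc g =>
    (conj_mem_centralizer_iff (by rw [Subgroup.normalizer_eq_top]; exact Subgroup.mem_top g) c).2 hc⟩
  haveI : Fintype P := Fintype.ofFinite P
  haveI : Fintype (Subgroup.centralizer (P : Set G)) := Fintype.ofFinite _
  haveI := irrFintype G
  haveI := irrFintype P
  set C := Subgroup.centralizer (P : Set G) with hCdef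
  -- degrees
  have hdef := card_defectGroup hpM hB hD
  have hmin : blockMin p B = P.index.factorization p := by
    have h1 := blockMin_add_blockDefect (p := p) (IsPBlock.nonempty hB)
    rw [← P.card_mul_index, Nat.factorization_mul Nat.card_pos.ne'
      Subgroup.index_ne_zero_of_finite, Finsupp.add_apply, hdef, hp.factorization_pow,
      Finsupp.single_eq_same] at h1
    omega
  have hdeg : ∀ θ ∈ B, (∀ x ∈ P, (θ : G → ℂ) x = (θ : G → ℂ) 1) →
      (charDegree (θ : G → ℂ)).factorization p = P.index.factorization p := by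
    intro θ hθ hker
    refine le_antisymm ?_ (hmin ▸ blockMin_le (p := p) hθ)
    obtain ⟨f, hf, hfe⟩ := exists_deflate_irr P θ.2 hker
    obtain ⟨n, hn0, hn, hdvd⟩ := irr_degree_dvd_card hf
    have e : charDegree (θ : G → ℂ) = n := by
      have h1 : (θ : G → ℂ) 1 = (n : ℂ) := by rw [hfe, ← hn]; rfl
      rw [irr_apply_one] at h1
      exact_mod_cast h1
    rw [e, Subgroup.index_eq_card]
    exact (Nat.factorization_le_iff_dvd hn0.ne' Nat.card_pos.ne').2 hdvd p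
  obtain ⟨θ, hθB, hθP⟩ := exists_trivial_on_normal_pSubgroup hpM hP hB
  -- factorisations
  choose Φ Ψ hfac using fun ξ : IrrCharacter G => exists_factor hG ξ
  have hΦ1 : ∀ ξ : IrrCharacter G, (ξ : G → ℂ) 1 = (Φ ξ : P → ℂ) 1 * (Ψ ξ : C → ℂ) 1 := fun ξ => by
    simpa using hfac ξ 1 1
  have hΨne : ∀ ξ, (Ψ ξ : C → ℂ) 1 ≠ 0 := fun ξ => irr_degree_ne_zero (Ψ ξ).2
  have hΦθ : ∀ u : P, (Φ θ : P → ℂ) u = (Φ θ : P → ℂ) 1 := fun u => by
    refine mul_right_cancel₀ (hΨne θ) ?_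
    rw [← hΦ1, ← hθP u u.2, ← hfac θ u 1]
    simp
  have hΦθ1 : (Φ θ : P → ℂ) 1 = 1 := by
    obtain ⟨n, -, hn⟩ := irr_degree_nat (Φ θ).2
    have h3 := inner_irr_self (Φ θ)
    simp only [inner_def, hΦθ, hn, map_natCast, Finset.sum_const, Finset.card_univ,
      nsmul_eq_mul, ← Nat.card_eq_fintype_card] at h3
    rw [← mul_assoc, inv_mul_cancel₀ (Nat.cast_ne_zero.2 Nat.card_pos.ne'), one_mul] at h3
    have h4 : n * n = 1 := by exact_mod_cast h3
    rw [hn, Nat.eq_one_of_mul_eq_one_right h4, Nat.cast_one]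
  set Z := P.subgroupOf C with hZ
  have hZp : IsPGroup p Z := by
    refine IsPGroup.of_injective hP
      ({ toFun := fun z => ⟨((z : C) : G), z.2⟩, map_one' := rfl, map_mul' := fun _ _ => rfl } :
        Z →* P) fun a b h => Subtype.ext (Subtype.ext (congrArg (fun w : P => (w : G)) h))
  have hZc : Z ≤ Subgroup.center C := fun z hz => Subgroup.mem_center_iff.2 fun c =>
    Subtype.ext (Subgroup.mem_centralizer_iff.1 c.2 _ hz).symm
  have hZi : Z.index = P.index := by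
    rw [hZ, ← Subgroup.relIndex, ← Subgroup.relIndex_sup_right (H := C) (K := P), sup_comm, hG,
      Subgroup.relIndex_top_right]
  have hψdeg : degVal p (Ψ θ) = Z.index.factorization p := by
    rw [hZi, ← hdeg θ hθB hθP, degVal]
    congr 2
    have : (Ψ θ : C → ℂ) 1 = (θ : G → ℂ) 1 := by rw [hΦ1 θ, hΦθ1, one_mul]
    rw [charDegree, charDegree, this]
  -- all factors lie in one block of `C`
  have hcon : ∀ ξ : IrrCharacter G,
      classInner (fun n : C => (ξ : G → ℂ) n) (Ψ ξ : C → ℂ) ≠ 0 := by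
    intro ξ
    have e : (fun n : C => (ξ : G → ℂ) n) = (Φ ξ : P → ℂ) 1 • (Ψ ξ : C → ℂ) := funext fun n => by
      have := hfac ξ 1 n
      simpa using this
    rw [e, Chars.inner_smul_left, inner_irr_self, mul_one]
    exact irr_degree_ne_zero (Φ ξ).2
  have hblock : ∀ ξ ∈ B, SameBlock M (Ψ θ : C → ℂ) (Ψ ξ : C → ℂ) := by
    intro ξ hξ
    obtain ⟨g, ψ', hψ', he⟩ := mem_conjSet_of_sameBlock C (isPBlock_blockOf (Ψ θ))
      (IsPBlock.sameBlock hB hθB hξ) (mem_blockOf_self _) (hcon θ) (hcon ξ)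
    rw [he, conjIrr_centralizer_eq_self hG]
    exact hψ'
  have hdegeq : ∀ ξ ∈ B, (Ψ ξ : C → ℂ) 1 = (Ψ θ : C → ℂ) 1 := fun ξ hξ =>
    eq_on_regular_of_relative_defect_zero hpM hZp hZc hψdeg (hblock ξ hξ)
      (by rw [orderOf_one]; exact hp.not_dvd_one)
  -- the first factor determines the character
  have hΨeq : ∀ ξ ∈ B, ∀ ξ' ∈ B, Φ ξ = Φ ξ' → Ψ ξ = Ψ ξ' := by
    intro ξ hξ ξ' hξ' he
    refine Subtype.ext (funext fun c => ?_)
    obtain ⟨y, hy⟩ := exists_isPPrimePart (p := p) c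
    obtain ⟨z, h1, h2, h3, h4⟩ := hy
    by_cases hz : z ∈ Z
    · have key : ∀ η ∈ B, (Ψ η : C → ℂ) c =
          (Φ η : P → ℂ) ⟨(z : G), hz⟩ / (Φ η : P → ℂ) 1 * (Ψ θ : C → ℂ) y := by
        intro η hη
        obtain ⟨s, -, hs⟩ := exists_centralScalar (Ψ η) (hZc hz)
        have e1 : (Φ η : P → ℂ) ⟨(z : G), hz⟩ * (Ψ η : C → ℂ) 1 =
            (Φ η : P → ℂ) 1 * (Ψ η : C → ℂ) z := by
          rw [← hfac η ⟨(z : G), hz⟩ 1, ← hfac η 1 z]
          simp
        have e2 := hs 1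
        rw [mul_one] at e2
        rw [e2, ← mul_assoc] at e1
        have e3 := mul_right_cancel₀ (hΨne η) e1
        rw [e3, mul_div_cancel_left₀ _ (irr_degree_ne_zero (Φ η).2), ← h1, hs,
          eq_on_regular_of_relative_defect_zero hpM hZp hZc hψdeg (hblock η hη) h4]
      rw [key ξ hξ, key ξ' hξ', he]
    · have key : ∀ η ∈ B, (Ψ η : C → ℂ) c = 0 := by
        intro η hη
        refine (relative_defect_zero hpM hZp hZc (Ψ η) ?_).2 c z ⟨y, h1, h2, h3, h4⟩ hz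
        rw [← hψdeg, degVal, degVal, charDegree, charDegree, hdegeq η hη]
      rw [key ξ hξ, key ξ' hξ']
  have hinj : ∀ ξ ∈ B, ∀ ξ' ∈ B, Φ ξ = Φ ξ' → ξ = ξ' := by
    intro ξ hξ ξ' hξ' he
    refine Subtype.ext (funext fun g => ?_)
    have hg : g ∈ P ⊔ C := hG ▸ Subgroup.mem_top g
    obtain ⟨u, hu, c, hc, rfl⟩ := Subgroup.mem_sup_of_normal_left.1 hg
    have e1 := hfac ξ ⟨u, hu⟩ ⟨c, hc⟩
    have e2 := hfac ξ' ⟨u, hu⟩ ⟨c, hc⟩
    rw [he, hΨeq ξ hξ ξ' hξ' he, ← e2] at e1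
    exact e1
  have huniq : ∀ θ' ∈ B, (∀ x ∈ P, (θ' : G → ℂ) x = (θ' : G → ℂ) 1) → θ' = θ := by
    intro θ' hθ' hker
    refine hinj θ' hθ' θ hθB (Subtype.ext (funext fun u => ?_))
    have hc : ∀ v : P, (Φ θ' : P → ℂ) v = (Φ θ' : P → ℂ) 1 := fun v => by
      refine mul_right_cancel₀ (hΨne θ') ?_
      rw [← hΦ1, ← hker v v.2, ← hfac θ' v 1]
      simp
    obtain ⟨n, -, hn⟩ := irr_degree_nat (Φ θ').2
    have h3 := inner_irr_self (Φ θ')
    simp only [inner_def, hc, hn, map_natCast, Finset.sum_const, Finset.card_univ,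
      nsmul_eq_mul, ← Nat.card_eq_fintype_card] at h3
    rw [← mul_assoc, inv_mul_cancel₀ (Nat.cast_ne_zero.2 Nat.card_pos.ne'), one_mul] at h3
    have h4 : n * n = 1 := by exact_mod_cast h3
    rw [hc u, hn, Nat.eq_one_of_mul_eq_one_right h4, Nat.cast_one, hΦθ u, hΦθ1]
  -- the sum of the squares of the degrees
  have hconv : conv (blockCoeff B) (avgInd P) = idemCoeff (θ : G → ℂ) :=
    classFun_ext_omega (isClassFunction_conv (isClassFunction_blockCoeff B) (isClassFunction_avgInd P))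
      (isClassFunction_idemCoeff θ) fun χ => by
      rw [omega_conv χ (isClassFunction_blockCoeff B), omega_blockCoeff, idemCoeff_omega]
      by_cases hχ : θ = χ
      · subst hχ
        rw [if_pos hθB, if_pos rfl, one_mul, (omega_avgInd_eq_one_iff P θ).2 hθP]
      · rw [if_neg hχ]
        by_cases hχB : χ ∈ B
        · rcases omega_avgInd_eq_zero_or_one P χ with h | h
          · rw [h, mul_zero]
          · exact absurd (huniq χ hχB ((omega_avgInd_eq_one_iff P χ).1 h)).symm hχ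
        · rw [if_neg hχB, zero_mul]
  have h1 := congrFun hconv 1
  rw [conv, Finset.sum_eq_single (1 : G)] at h1
  rotate_left
  · intro y _ hy
    by_cases hyP : y ∈ P
    · obtain ⟨i, hi⟩ := IsPGroup.iff_orderOf.1 hP ⟨y, hyP⟩
      have hi0 : i ≠ 0 := fun h => hy (congrArg Subtype.val
        (orderOf_eq_one_iff.1 (by rw [hi, h, pow_zero]) : (⟨y, hyP⟩ : P) = 1))
      rw [blockCoeff_eq_zero_of_dvd hp hpM hB (by
        rw [show orderOf y = p ^ i by rw [← hi, ← Subgroup.orderOf_coe]]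
        exact dvd_pow_self p hi0), zero_mul]
    · rw [avgInd_apply, if_neg (by simpa using hyP), mul_zero]
  · simp
  rw [avgInd_apply, if_pos (by simp [P.one_mem]), idemCoeff, irr_apply_one θ, map_natCast,
    blockCoeff, finsum_mem_eq_sum_of_inter_support_eq (t := Finset.univ.filter (· ∈ B)) _
      (by ext χ; simp)] at h1
  have hsq : ∑ ξ ∈ Finset.univ.filter (· ∈ B), (ξ : G → ℂ) 1 * conj ((ξ : G → ℂ) 1) =
      (Nat.card P : ℂ) * ((θ : G → ℂ) 1 * (θ : G → ℂ) 1) := by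
    have hg : (Nat.card G : ℂ) ≠ 0 := Nat.cast_ne_zero.2 Nat.card_pos.ne'
    have hp0 : (Nat.card P : ℂ) ≠ 0 := Nat.cast_ne_zero.2 Nat.card_pos.ne'
    rw [irr_apply_one θ]
    field_simp at h1
    linear_combination h1
  have hterm : ∀ ξ ∈ B, (ξ : G → ℂ) 1 * conj ((ξ : G → ℂ) 1) =
      ((θ : G → ℂ) 1 * (θ : G → ℂ) 1) * (Φ ξ : P → ℂ) 1 ^ 2 := by
    intro ξ hξ
    rw [irr_apply_one ξ, map_natCast, ← irr_apply_one, hΦ1 ξ, hdegeq ξ hξ, hΦ1 θ, hΦθ1]
    ring
  rw [Finset.sum_congr rfl fun ξ hξ => hterm ξ (Finset.mem_filter.1 hξ).2, ← Finset.mul_sum,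
    mul_comm ((Nat.card P : ℂ))] at hsq
  have hsum := mul_left_cancel₀
    (mul_ne_zero (irr_degree_ne_zero θ.2) (irr_degree_ne_zero θ.2)) hsq
  have hinjOn : Set.InjOn Φ ↑(Finset.univ.filter (· ∈ B)) := fun a ha c hc' h =>
    hinj a (Finset.mem_filter.1 ha).2 c (Finset.mem_filter.1 hc').2 h
  rw [← Finset.sum_image (f := fun φ : IrrCharacter P => (φ : P → ℂ) 1 ^ 2) hinjOn,
    ← sum_degree_sq (G := P)] at hsum
  have himg : (Finset.univ.filter (· ∈ B)).image Φ = Finset.univ := by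
    by_contra hne
    obtain ⟨φ, -, hφ⟩ := Finset.exists_of_ssubset ((Finset.subset_univ _).ssubset_of_ne hne)
    rw [← Finset.sum_sdiff (Finset.subset_univ ((Finset.univ.filter (· ∈ B)).image Φ))] at hsum
    have h0 : ∑ x ∈ Finset.univ \ (Finset.univ.filter (· ∈ B)).image Φ,
        ((charDegree (x : P → ℂ) ^ 2 : ℕ) : ℂ) = 0 := by
      refine Eq.trans (Finset.sum_congr rfl fun x _ => ?_) (add_eq_right.1 hsum.symm)
      rw [irr_apply_one, Nat.cast_pow]
    rw [← Nat.cast_sum, Nat.cast_eq_zero, Finset.sum_eq_zero_iff] at h0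
    exact irr_charDegree_ne_zero φ (pow_eq_zero_iff two_ne_zero |>.1
      (h0 φ (Finset.mem_sdiff.2 ⟨Finset.mem_univ _, hφ⟩)))
  refine ⟨⟨θ, ⟨hθB, hθP⟩, fun θ' h => huniq θ' h.1 h.2⟩, hdeg, ?_, ?_⟩
  · rw [← card_irr_eq_card_classes, Nat.card_eq_fintype_card (α := IrrCharacter P), ← Finset.card_univ,
      ← himg, Finset.card_image_of_injOn hinjOn, Nat.card_eq_fintype_card]
    exact Fintype.card_of_finset' _ (fun x => by simp)
  intro θ₀ hθ₀B hθ₀P
  obtain rfl := huniq θ₀ hθ₀B hθ₀P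
  refine ⟨Φ, fun φ => ?_, fun ξ hξ => ⟨fun u x hx _ => ?_, fun z hz => ?_⟩⟩
  · obtain ⟨ξ, hξ, e⟩ := Finset.mem_image.1 (himg.symm ▸ Finset.mem_univ φ)
    exact ⟨ξ, (Finset.mem_filter.1 hξ).2, e⟩
  · have hxC : x ∈ C := by
      obtain ⟨k, hk⟩ : ∃ k, C.index = p ^ k := by
        rw [← Subgroup.relIndex_top_right, ← hG, Subgroup.relIndex_sup_right]
        obtain ⟨n, hn⟩ := IsPGroup.iff_card.1 hP
        obtain ⟨i, -, hi⟩ := (Nat.dvd_prime_pow hp).1 (hn ▸ Subgroup.relIndex_dvd_card C P)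
        exact ⟨i, hi⟩
      exact mem_centralizer_of_regular hk hx
    have hxr : ¬ p ∣ orderOf (⟨x, hxC⟩ : C) := by rwa [Subgroup.orderOf_mk]
    have e1 := hfac ξ u ⟨x, hxC⟩
    have e2 := hfac θ₀ 1 ⟨x, hxC⟩
    simp only [OneMemClass.coe_one, one_mul, hΦθ1] at e2
    rw [e2, e1, eq_on_regular_of_relative_defect_zero hpM hZp hZc hψdeg (hblock ξ hξ) hxr]
  · have hg : z ∈ P ⊔ C := hG ▸ Subgroup.mem_top z
    obtain ⟨u, hu, c, hc, rfl⟩ := Subgroup.mem_sup_of_normal_left.1 hg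
    rw [hfac ξ ⟨u, hu⟩ ⟨c, hc⟩]
    obtain ⟨y, hy⟩ := exists_isPPrimePart (p := p) (⟨c, hc⟩ : C)
    obtain ⟨w, h1, h2, ⟨i, hi⟩, h4⟩ := hy
    have hw : w ∉ Z := by
      intro hw
      have hwP : (w : G) ∈ P := Subgroup.mem_subgroupOf.1 hw
      obtain ⟨j, hj⟩ := IsPGroup.iff_orderOf.1 hP ⟨u * w, mul_mem hu hwP⟩
      refine hz (u * w) ⟨y, ?_, ?_, ⟨j, by rwa [Subgroup.orderOf_mk] at hj⟩, by rwa [Subgroup.orderOf_coe]⟩
        (mul_mem hu hwP)
      · rw [mul_assoc]; exact congrArg (u * ·) (congrArg Subtype.val h1)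
      · exact (show Commute u (y : G) from Subgroup.mem_centralizer_iff.1 y.2 u hu).mul_left
          (congrArg Subtype.val h2.eq)
    rw [(relative_defect_zero hpM hZp hZc (Ψ ξ) (by
      rw [← hψdeg, degVal, degVal, charDegree, charDegree, hdegeq ξ hξ])).2 ⟨c, hc⟩ w
      ⟨y, h1, h2, ⟨i, hi⟩, h4⟩ hw, mul_zero]

/-- The block with defect group `P` when `G = P C(P)`. -/
theorem central_product_block (hpM : (p : AlgInt) ∈ M) (hP : IsPGroup p P)
    (hG : P ⊔ Subgroup.centralizer (P : Set G) = ⊤) {B : Set (IrrCharacter G)}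
    (hB : IsPBlock M B) (hD : IsDefectGroup p M B P) :
    (∃! θ : IrrCharacter G, θ ∈ B ∧ ∀ x ∈ P, (θ : G → ℂ) x = (θ : G → ℂ) 1) ∧
      (∀ θ ∈ B, (∀ x ∈ P, (θ : G → ℂ) x = (θ : G → ℂ) 1) →
        (charDegree (θ : G → ℂ)).factorization p = P.index.factorization p) ∧
      Nat.card B = Nat.card (ConjClasses P) :=
  let h := central_product_values hpM hP hG hB hD
  ⟨h.1, h.2.1, h.2.2.1⟩

end CfsgLib.Blocks
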