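import Cfsg.Agent.Lib.BlockOrth.SubsectionLattice
import Cfsg.Agent.Lib.BlockOrth.GramMinors
import Cfsg.Agent.Lib.BlockOrth.BrauerFeit

/-!
# The decomposition rows trivial on a central element of order `p`
-/

set_option linter.unusedSectionVars false
set_option linter.style.haveILetI false

namespace CfsgLib.Blocks

open Cfsg Chars BlockOrth Finset
open scoped ComplexConjugate Matrix

universe u

variable {G : Type u} [Group G] [Fintype G] {K : Subgroup G} [Fintype K] [Fintype (IrrCharacter K)]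
  [DecidableEq (IrrCharacter K)] {M : Ideal AlgInt} [M.IsPrime] {p : ℕ} [hp : Fact p.Prime]
  {b : Set (IrrCharacter K)} [DecidablePred (· ∈ b)] {r : ℕ}

/-- The characters of `b` trivial on `z`. -/
abbrev trivialRows (b : Set (IrrCharacter K)) (z : K) : Type u :=
  {θ : IrrCharacter K // θ ∈ b ∧ centralScalar (θ : K → ℂ) z = 1}

/-- Translation by a central element of order a power of `p` makes the regular rows orthogonal. -/
theorem sum_scalar_mul_dMat (hpM : (p : AlgInt) ∈ M) {w : K} (hwZ : w ∈ Subgroup.center K)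
    {n : ℕ} (hwp : w ^ p ^ n = 1) (hw : w ≠ 1) (η η' : IrrCharacter K) :
    ∑ θ : IrrCharacter K, conj (centralScalar (θ : K → ℂ) w) *
      ((dMat p b η θ : ℂ) * (dMat p b η' θ : ℂ)) = 0 := by
  classical
  by_cases hη : η ∈ b ∧ η' ∈ b
  swap
  · refine Finset.sum_eq_zero fun θ _ => ?_
    rcases not_and_or.1 hη with h | h <;> simp [dMat_apply, h]
  obtain ⟨hη, hη'⟩ := hη
  set φ := pRegularPart p (η : K → ℂ) with hφ
  set φ' := pRegularPart p (η' : K → ℂ) with hφ'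
  set ψ : K → ℂ := fun y => φ (w⁻¹ * y) with hψ
  have hφc : IsClassFunction K φ := isClassFunction_pRegularPart (isClassFunction_irr η)
  have hψc : IsClassFunction K ψ := fun g c => by
    have hc : w⁻¹ * (c * g * c⁻¹) = c * (w⁻¹ * g) * c⁻¹ := by
      rw [← mul_assoc, ← mul_assoc,
        show w⁻¹ * c = c * w⁻¹ from (Subgroup.mem_center_iff.1 (inv_mem hwZ) c).symm,
        mul_assoc c w⁻¹ g]
    simp only [hψ, hc, hφc (w⁻¹ * g) c]
  have hzero : classInner ψ φ' = 0 := by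
    rw [inner_def]
    refine mul_eq_zero_of_right _ (Finset.sum_eq_zero fun y _ => ?_)
    simp only [hψ, hφ, hφ', pRegularPart_apply]
    by_cases h2 : p ∣ orderOf y
    · simp [h2]
    by_cases h1 : p ∣ orderOf (w⁻¹ * y)
    · simp [h1]
    exfalso
    have hcm : Commute w⁻¹ y := (Subgroup.mem_center_iff.1 (inv_mem hwZ) y).symm
    obtain ⟨i, -, hi⟩ := (Nat.dvd_prime_pow hp.out).1
      (orderOf_dvd_of_pow_eq_one (show w⁻¹ ^ p ^ n = 1 by rw [inv_pow, hwp, inv_one]))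
    have hi0 : i ≠ 0 := fun h0 => hw (by
      rw [h0, pow_zero, orderOf_eq_one_iff, inv_eq_one] at hi
      exact hi)
    refine h1 ?_
    rw [hcm.orderOf_mul_eq_mul_orderOf_of_coprime
      (hi ▸ Nat.Coprime.pow_left i (hp.out.coprime_iff_not_dvd.2 h2)), hi]
    exact dvd_mul_of_dvd_left (dvd_pow_self p hi0) _
  have hcoef : ∀ θ : IrrCharacter K, classInner ψ (θ : K → ℂ) =
      conj (centralScalar (θ : K → ℂ) w) * classInner φ (θ : K → ℂ) := by
    intro θ
    rw [inner_def, inner_def, mul_comm (conj (centralScalar (θ : K → ℂ) w)), mul_assoc,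
      ← Equiv.sum_comp (Equiv.mulLeft w), Finset.sum_mul]
    congr 1
    refine Finset.sum_congr rfl fun y _ => ?_
    simp only [hψ, Equiv.coe_mulLeft, inv_mul_cancel_left]
    rw [irr_central_mul θ hwZ y, map_mul]
    ring
  rw [inner_eq_sum hψc φ'] at hzero
  simp only [hcoef] at hzero
  have hM' : ∀ {ξ : IrrCharacter K}, ξ ∈ b → ∀ θ : IrrCharacter K, (dMat p b ξ θ : ℂ) =
      ((p ^ blockDefect p b : ℕ) : ℂ) * classInner (pRegularPart p (ξ : K → ℂ)) (θ : K → ℂ) :=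
    fun hξ θ => by rw [dMat_apply, if_pos hξ, dInt_spec hpM hξ]
  have hreal : ∀ θ : IrrCharacter K, conj (classInner φ' (θ : K → ℂ)) = classInner φ' (θ : K → ℂ) := by
    intro θ
    refine mul_left_cancel₀ (a := ((p ^ blockDefect p b : ℕ) : ℂ))
      (Nat.cast_ne_zero.2 (pow_ne_zero _ hp.out.ne_zero)) ?_
    rw [← map_natCast (starRingEnd ℂ), ← map_mul, ← hM' hη', map_intCast, hM' hη', map_natCast]
  rw [← mul_zero (((p ^ blockDefect p b : ℕ) : ℂ) * ((p ^ blockDefect p b : ℕ) : ℂ)), ← hzero,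
    Finset.mul_sum]
  refine Finset.sum_congr rfl fun θ _ => ?_
  rw [hreal, hM' hη, hM' hη']
  ring

/-- The sum over the powers of the scalars at `z`. -/
theorem sum_scalar_powers {z : K} (hzZ : z ∈ Subgroup.center K) (hz : orderOf z = p)
    (θ : IrrCharacter K) :
    ∑ i ∈ Finset.range p, conj (centralScalar (θ : K → ℂ) (z ^ i)) =
      if centralScalar (θ : K → ℂ) z = 1 then (p : ℂ) else 0 := by
  simp only [centralScalar_pow θ hzZ, map_pow]
  split_ifs with h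
  · simp [h]
  · rw [geom_sum_eq (fun h1 => h (by simpa using congrArg conj h1)), ← map_pow,
      centralScalar_pow_eq_one θ hzZ (hz ▸ pow_orderOf_eq_one z), map_one, sub_self, zero_div]

variable (F : Factor (dMat p b) ((p : ℤ) ^ blockDefect p b) r)

theorem dMat_mul_U_C : dMat p b * (F.Uᵀ * F.C) = ((p : ℤ) ^ blockDefect p b) • F.N := by
  have hNU : F.Nᵀ * F.Uᵀ = 1 := by rw [← Matrix.transpose_mul, F.unit, Matrix.transpose_one]
  refine (congrArg (· * (F.Uᵀ * F.C)) F.eq').trans ?_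
  show F.N * F.A * F.Nᵀ * (F.Uᵀ * F.C) = _
  rw [Matrix.mul_assoc, ← Matrix.mul_assoc F.Nᵀ, hNU, Matrix.one_mul, Matrix.mul_assoc, F.inv',
    Matrix.mul_smul, Matrix.mul_one]

theorem rows_eq_zero_of_notMem {θ : IrrCharacter K} (hθ : θ ∉ b) (j : Fin r) : F.N θ j = 0 := by
  have h2 := (congrFun (congrFun (dMat_mul_U_C F) θ) j).symm
  rw [Matrix.smul_apply, Matrix.mul_apply, Finset.sum_eq_zero fun θ' _ => by
    rw [dMat_apply, if_neg hθ, zero_mul]] at h2
  exact (mul_eq_zero.1 h2).resolve_left (pow_ne_zero _ (Int.natCast_ne_zero.2 hp.out.ne_zero))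

variable {z : K}

/-- The rows trivial on `z`. -/
noncomputable def rowsAt (z : K) : Matrix (trivialRows b z) (Fin r) ℤ :=
  Matrix.of fun θ j => F.N θ.1 j

/-- Their Gram matrix is the Cartan matrix divided by `p`. -/
theorem smul_gram_rowsAt (hpM : (p : AlgInt) ∈ M) (hb : IsPBlock M b) (hzZ : z ∈ Subgroup.center K)
    (hz : orderOf z = p) [Fintype (trivialRows b z)] :
    (p : ℤ) • ((rowsAt F z)ᵀ * rowsAt F z) = F.C := by
  classical
  obtain ⟨P, hP⟩ : ∃ P : ℤ, P = (p : ℤ) ^ blockDefect p b := ⟨_, rfl⟩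
  have hP0 : (P : ℂ) ≠ 0 :=
    Int.cast_ne_zero.2 (hP ▸ pow_ne_zero _ (Int.natCast_ne_zero.2 hp.out.ne_zero))
  have hNP : ∀ θ j, (P : ℂ) * (F.N θ j : ℂ) =
      ∑ η : IrrCharacter K, (dMat p b θ η : ℂ) * ((F.Uᵀ * F.C) η j : ℂ) := by
    intro θ j
    have h2 := (congrFun (congrFun (dMat_mul_U_C F) θ) j).symm
    rw [Matrix.smul_apply, Matrix.mul_apply, smul_eq_mul] at h2
    replace h2 : P * F.N θ j = ∑ η : IrrCharacter K, dMat p b θ η * (F.Uᵀ * F.C) η j :=
      (congrArg (· * F.N θ j) hP).trans h2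
    exact_mod_cast h2
  have hvan : ∀ i ∈ (Finset.range p).erase 0, ∀ a c : Fin r,
      ∑ θ : IrrCharacter K, conj (centralScalar (θ : K → ℂ) (z ^ i)) *
        ((F.N θ a : ℂ) * (F.N θ c : ℂ)) = 0 := by
    intro i hi a c
    obtain ⟨hi0, hip⟩ := Finset.mem_erase.1 hi
    rw [Finset.mem_range] at hip
    refine mul_left_cancel₀ (mul_ne_zero hP0 hP0) ?_
    rw [mul_zero, Finset.mul_sum, Finset.sum_congr rfl (g := fun θ : IrrCharacter K =>
      conj (centralScalar (θ : K → ℂ) (z ^ i)) * ((P : ℂ) * (F.N θ a : ℂ) * ((P : ℂ) * (F.N θ c : ℂ))))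
      fun θ _ => by ring]
    simp only [hNP]
    simp only [Finset.sum_mul_sum]
    simp only [Finset.mul_sum]
    rw [Finset.sum_comm]
    refine Finset.sum_eq_zero fun η _ => ?_
    rw [Finset.sum_comm]
    refine Finset.sum_eq_zero fun η' _ => ?_
    rw [Finset.sum_congr rfl (g := fun θ : IrrCharacter K => (((F.Uᵀ * F.C) η a : ℂ) * ((F.Uᵀ * F.C) η' c : ℂ)) *
      (conj (centralScalar (θ : K → ℂ) (z ^ i)) * ((dMat p b η θ : ℂ) * (dMat p b η' θ : ℂ))))
      fun θ _ => by rw [dMat_symm hpM hb θ η, dMat_symm hpM hb θ η']; ring, ← Finset.mul_sum,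
      sum_scalar_mul_dMat hpM (pow_mem hzZ i) (n := 1) ?_ ?_, mul_zero]
    · rw [pow_one, ← pow_mul, mul_comm, pow_mul, ← hz, pow_orderOf_eq_one, one_pow]
    · exact fun h => hi0 (Nat.eq_zero_of_dvd_of_lt (orderOf_dvd_of_pow_eq_one h) (by omega))
  ext a c
  have key : (((p : ℤ) • ((rowsAt F z)ᵀ * rowsAt F z)) a c : ℂ) = (F.C a c : ℂ) := by
    rw [Matrix.smul_apply, smul_eq_mul, F.C_apply, Matrix.mul_apply]
    push_cast
    have h1 : ∑ θ : IrrCharacter K, (∑ i ∈ Finset.range p, conj (centralScalar (θ : K → ℂ) (z ^ i))) *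
        ((F.N θ a : ℂ) * (F.N θ c : ℂ)) = ∑ θ : IrrCharacter K, (F.N θ a : ℂ) * (F.N θ c : ℂ) := by
      simp only [Finset.sum_mul]
      rw [Finset.sum_comm, ← Finset.add_sum_erase _ _ (Finset.mem_range.2 hp.out.pos),
        Finset.sum_eq_zero fun i hi => hvan i hi a c, add_zero]
      refine Finset.sum_congr rfl fun θ _ => ?_
      simp [centralScalar, irr_degree_ne_zero θ.2]
    rw [← h1, Finset.mul_sum]
    simp only [sum_scalar_powers hzZ hz, ite_mul, zero_mul, ← Finset.sum_filter]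
    rw [← Finset.sum_subset (s₁ := univ.filter fun θ : IrrCharacter K =>
        θ ∈ b ∧ centralScalar (θ : K → ℂ) z = 1)
      (fun θ hθ => mem_filter.2 ⟨mem_univ _, (mem_filter.1 hθ).2.2⟩) (fun θ hθ hθ' => by
        rw [rows_eq_zero_of_notMem F (j := a) fun h => hθ' (mem_filter.2
          ⟨mem_univ _, h, (mem_filter.1 hθ).2⟩)]; simp)]
    rw [Finset.sum_subtype (p := fun θ => θ ∈ b ∧ centralScalar (θ : K → ℂ) z = 1)
      (univ.filter fun θ : IrrCharacter K => θ ∈ b ∧ centralScalar (θ : K → ℂ) z = 1)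
      (fun θ => by simp) (fun θ => (p : ℂ) * ((F.N θ a : ℂ) * (F.N θ c : ℂ)))]
    exact Finset.sum_congr rfl fun θ _ => rfl
  exact_mod_cast key

theorem det_C_ne_zero : F.C.det ≠ 0 := fun h0 => by
  have h := congrArg Matrix.det F.inv'
  rw [Matrix.det_mul, h0, mul_zero, Matrix.det_smul, Matrix.det_one, mul_one] at h
  exact pow_ne_zero _ (pow_ne_zero _ (Int.natCast_ne_zero.2 hp.out.ne_zero)) h.symm

theorem det_gram_rowsAt_ne_zero (hpM : (p : AlgInt) ∈ M) (hb : IsPBlock M b)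
    (hzZ : z ∈ Subgroup.center K) (hz : orderOf z = p) [Fintype (trivialRows b z)] :
    ((rowsAt F z)ᵀ * rowsAt F z).det ≠ 0 := fun h => by
  apply det_C_ne_zero F
  rw [← smul_gram_rowsAt F hpM hb hzZ hz, Matrix.det_smul, h, mul_zero]

/-- The rank is at most the number of characters trivial on `z`. -/
theorem rank_le_card_trivialRows (F : Factor (dMat p b) ((p : ℤ) ^ blockDefect p b) r) (hpM : (p : AlgInt) ∈ M) (hb : IsPBlock M b)
    (hzZ : z ∈ Subgroup.center K) (hz : orderOf z = p) [Fintype (trivialRows b z)] :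
    r ≤ Fintype.card (trivialRows b z) := by
  classical
  exact le_card_of_det_gram_ne_zero _ (det_gram_rowsAt_ne_zero F hpM hb hzZ hz)

theorem A_mul_gram_rowsAt (hpM : (p : AlgInt) ∈ M) (hb : IsPBlock M b)
    (hzZ : z ∈ Subgroup.center K) (hz : orderOf z = p) [Fintype (trivialRows b z)] {e : ℕ}
    (he : blockDefect p b = e + 1) :
    F.A * ((rowsAt F z)ᵀ * rowsAt F z) = ((p ^ e : ℕ) : ℤ) • (1 : Matrix (Fin r) (Fin r) ℤ) := by
  have h : F.A * F.C = _ := F.inv'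
  rw [← smul_gram_rowsAt F hpM hb hzZ hz, Matrix.mul_smul] at h
  have hP : (p : ℤ) ^ blockDefect p b = (p : ℤ) * ((p ^ e : ℕ) : ℤ) := by
    rw [he, pow_succ']
    push_cast
    rfl
  refine smul_right_injective _ (Int.natCast_ne_zero.2 hp.out.ne_zero) (h.trans ?_)
  show _ = (p : ℤ) • (((p ^ e : ℕ) : ℤ) • (1 : Matrix (Fin r) (Fin r) ℤ))
  rw [smul_smul, ← hP]

/-- The entries of a block of characters of height zero have rank one modulo `p`. -/
theorem dvd_minor_dMat (hpM : (p : AlgInt) ∈ M) (hb : IsPBlock M b)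
    (h0 : ∀ θ ∈ b, blockHeight p b (θ : K → ℂ) = 0) (i j k m : IrrCharacter K) :
    (p : ℤ) ∣ dMat p b i j * dMat p b k m - dMat p b i m * dMat p b k j := by
  by_cases hjm : j ∈ b ∧ m ∈ b
  swap
  · rcases not_and_or.1 hjm with h | h
    · rw [dMat_symm hpM hb i j, dMat_symm hpM hb k j]
      simp [dMat_apply, h]
    · rw [dMat_symm hpM hb k m, dMat_symm hpM hb i m]
      simp [dMat_apply, h]
  obtain ⟨hj, hm⟩ := hjm
  by_cases hik : i ∈ b ∧ k ∈ b
  swap
  · rcases not_and_or.1 hik with h | h <;> simp [dMat_apply, h]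
  obtain ⟨hi, hk⟩ := hik
  simp only [dMat_apply, if_pos hi, if_pos hk]
  obtain ⟨u, hu⟩ : ∃ u : IrrCharacter K → ℕ,
      u = fun θ : IrrCharacter K => charDegree (θ : K → ℂ) / p ^ blockMin p b := ⟨_, rfl⟩
  have hdeg : ∀ θ ∈ b, charDegree (θ : K → ℂ) = p ^ blockMin p b * u θ ∧ ¬ p ∣ u θ := fun θ hθ => by
    have hv : (charDegree (θ : K → ℂ)).factorization p = blockMin p b :=
      (blockHeight_eq_zero_iff hθ).1 (h0 θ hθ)
    rw [hu]
    refine ⟨?_, ?_⟩
    · rw [← hv]; exact (Nat.ordProj_mul_ordCompl_eq_self _ p).symm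
    · dsimp only
      rw [← hv]; exact Nat.not_dvd_ordCompl hp.out (irr_charDegree_ne_zero θ)
  have hcongr : ∀ θ ∈ b, ∀ ξ ∈ b, ∀ ξ' ∈ b,
      (p : ℤ) ∣ (u ξ' : ℤ) * dInt p b θ ξ - (u ξ : ℤ) * dInt p b θ ξ' := by
    intro θ hθ ξ hξ ξ' hξ'
    have h := pInt_congr hpM hb θ hξ hξ'
    obtain ⟨e1, n1⟩ := hdeg ξ hξ
    obtain ⟨e2, n2⟩ := hdeg ξ' hξ'
    have hne : u ξ * u ξ' ≠ 0 := mul_ne_zero (fun hz0 => n1 (hz0 ▸ dvd_zero p))
      fun hz0 => n2 (hz0 ▸ dvd_zero p)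
    have hp0 : (p : ℂ) ^ blockMin p b ≠ 0 := pow_ne_zero _ (Nat.cast_ne_zero.2 hp.out.ne_zero)
    have key : (pInt p θ ξ : ℂ) / (charDegree (ξ : K → ℂ) : ℂ) -
        (pInt p θ ξ' : ℂ) / (charDegree (ξ' : K → ℂ) : ℂ) =
        (((u ξ' : ℤ) * dInt p b θ ξ - (u ξ : ℤ) * dInt p b θ ξ' : ℤ) : ℂ) /
          ((u ξ * u ξ' : ℕ) : ℂ) := by
      rw [← pow_mul_dInt hpM hθ ξ, ← pow_mul_dInt hpM hθ ξ', e1, e2]
      have h3 : (u ξ : ℂ) ≠ 0 := Nat.cast_ne_zero.2 (left_ne_zero_of_mul hne)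
      have h4 : (u ξ' : ℂ) ≠ 0 := Nat.cast_ne_zero.2 (right_ne_zero_of_mul hne)
      push_cast
      field_simp
    rw [key, int_div_memLocalIdeal_iff hpM hne] at h
    rwa [Nat.factorization_eq_zero_of_not_dvd (fun hd => (hp.out.dvd_mul.1 hd).elim n1 n2), zero_add,
      pow_one] at h
  have h1 := hcongr i hi j hj m hm
  have h2 := hcongr k hk j hj m hm
  have h3 : (p : ℤ) ∣ (u j : ℤ) * (dInt p b i j * dInt p b k m - dInt p b i m * dInt p b k j) := by
    have e : (u j : ℤ) * (dInt p b i j * dInt p b k m - dInt p b i m * dInt p b k j) =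
        ((u m : ℤ) * dInt p b i j - (u j : ℤ) * dInt p b i m) * dInt p b k j -
          ((u m : ℤ) * dInt p b k j - (u j : ℤ) * dInt p b k m) * dInt p b i j := by ring
    rw [e]
    exact (h1.mul_right _).sub (h2.mul_right _)
  exact ((Nat.prime_iff_prime_int.1 hp.out).dvd_or_dvd h3).resolve_left
    (by rw [Int.natCast_dvd_natCast]; exact (hdeg j hj).2)

theorem dvd_minor_A (hpM : (p : AlgInt) ∈ M) (hb : IsPBlock M b)
    (h0 : ∀ θ ∈ b, blockHeight p b (θ : K → ℂ) = 0) (i j k m : Fin r) :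
    (p : ℤ) ∣ F.A i j * F.A k m - F.A i m * F.A k j := by
  have hmul : ∀ {α β γ : Type u} [Fintype β] (X : Matrix α β ℤ) (V : Matrix β γ ℤ),
      (∀ a c a' c', (p : ℤ) ∣ X a c * X a' c' - X a c' * X a' c) →
      ∀ a c a' c', (p : ℤ) ∣ (X * V) a c * (X * V) a' c' - (X * V) a c' * (X * V) a' c := by
    intro α β γ _ X V hX a c a' c'
    rw [Matrix.mul_apply, Matrix.mul_apply, Matrix.mul_apply, Matrix.mul_apply, Finset.sum_mul_sum,
      Finset.sum_mul_sum, Finset.sum_comm (f := fun i j => X a i * V i c' * (X a' j * V j c)),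
      ← Finset.sum_sub_distrib]
    refine Finset.dvd_sum fun x _ => ?_
    rw [← Finset.sum_sub_distrib]
    refine Finset.dvd_sum fun y _ => ?_
    rw [show X a x * V x c * (X a' y * V y c') - X a y * V y c' * (X a' x * V x c) =
      V x c * V y c' * (X a x * X a' y - X a y * X a' x) by ring]
    exact (hX a x a' y).mul_left _
  let U' : Matrix (ULift.{u} (Fin r)) (IrrCharacter K) ℤ := Matrix.of fun a θ => F.U a.down θ
  have h1 := hmul (dMat p b) U'ᵀ (fun a c a' c' => dvd_minor_dMat hpM hb h0 a c a' c')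
  have h2 := hmul (dMat p b * U'ᵀ)ᵀ U'ᵀ (fun a c a' c' => by
    have h3 := h1 c a c' a'
    simp only [Matrix.transpose_apply] at h3 ⊢
    rwa [mul_comm ((dMat p b * U'ᵀ) c' a)]) ⟨i⟩ ⟨j⟩ ⟨k⟩ ⟨m⟩
  have e : ∀ a c : Fin r, F.A a c = ((dMat p b * U'ᵀ)ᵀ * U'ᵀ) ⟨a⟩ ⟨c⟩ := by
    intro a c
    simp only [Factor.A, Matrix.mul_apply, Matrix.transpose_apply, U', Matrix.of_apply]
    refine Finset.sum_congr rfl fun θ _ => ?_
    congr 1
    refine Finset.sum_congr rfl fun θ' _ => ?_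
    rw [dMat_symm hpM hb θ' θ, mul_comm]
  rwa [e, e, e, e]

/-- No single row is needed for the span. -/
theorem rowsAt_deletion (hpM : (p : AlgInt) ∈ M) (hb : IsPBlock M b)
    (hzZ : z ∈ Subgroup.center K) (hz : orderOf z = p) [Fintype (trivialRows b z)] {e : ℕ}
    (he : blockDefect p b = e + 1) (h0 : ∀ θ ∈ b, blockHeight p b (θ : K → ℂ) = 0)
    (h2 : 2 ≤ r) (θ : trivialRows b z) (y : Fin r → ℂ)
    (hy : ∀ η, η ≠ θ → ∑ j, (rowsAt F z η j : ℂ) * y j = 0) :
    ∑ j, (rowsAt F z θ j : ℂ) * y j = 0 := by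
  classical
  set Z := rowsAt F z with hZ
  set t := ∑ j, (Z θ j : ℂ) * y j with ht
  obtain ⟨η, hη⟩ : ∃ η : trivialRows b z, η ≠ θ := by
    by_contra hc
    push Not at hc
    have := rank_le_card_trivialRows F hpM hb hzZ hz
    rw [Fintype.card_eq_one_iff.2 ⟨θ, hc⟩] at this
    omega
  have hAC := A_mul_gram_rowsAt F hpM hb hzZ hz he
  set Ac := F.A.map (Int.castRingHom ℂ) with hAc
  set Zc := Z.map (Int.castRingHom ℂ) with hZc
  have hACc : Ac * (Zcᵀ * Zc) = ((p ^ e : ℕ) : ℂ) • (1 : Matrix (Fin r) (Fin r) ℂ) := by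
    have h1 := congrArg (fun X : Matrix (Fin r) (Fin r) ℤ => X.map (Int.castRingHom ℂ)) hAC
    simp only [Matrix.map_mul, Matrix.transpose_map] at h1
    rw [h1]
    ext a c
    simp only [Matrix.map_apply, Matrix.smul_apply, Matrix.one_apply]
    split_ifs <;> simp
  have hZy : Zc.mulVec y = Pi.single θ t := by
    funext ν
    rcases eq_or_ne ν θ with rfl | hne
    · rw [Pi.single_eq_same, ht]; rfl
    · rw [Pi.single_eq_of_ne hne]; exact hy ν hne
  have hM' : (Zc * (Ac * Zcᵀ)) η θ = (dMat p b η.1 θ.1 : ℂ) := by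
    rw [show dMat p b η.1 θ.1 = (Z * (F.A * Zᵀ)) η θ by
      conv_lhs => rw [F.eq', Matrix.mul_assoc]
      rfl]
    rw [hAc, hZc, ← Matrix.transpose_map, ← Matrix.map_mul, ← Matrix.map_mul]
    rfl
  have hkey : (Zc * (Ac * Zcᵀ)) * Zc = ((p ^ e : ℕ) : ℂ) • Zc := by
    rw [Matrix.mul_assoc, Matrix.mul_assoc, hACc, Matrix.mul_smul, Matrix.mul_one]
  have h5 := congrFun (congrArg (fun X : Matrix (trivialRows b z) (Fin r) ℂ => X.mulVec y) hkey) η
  simp only [← Matrix.mulVec_mulVec, hZy, Matrix.smul_mulVec, Pi.smul_apply,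
    Pi.single_eq_of_ne hη, smul_zero, Matrix.mulVec_single, Matrix.col_apply,
    MulOpposite.smul_eq_mul_unop, MulOpposite.unop_op, hM'] at h5
  refine (mul_eq_zero.1 h5).resolve_left (Int.cast_ne_zero.2 ?_)
  rw [dMat_apply, if_pos η.2.1]
  exact dInt_ne_zero hpM hb η.2.1 θ.2.1 (h0 _ η.2.1)

end CfsgLib.Blocks
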