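import Cfsg.Agent.Lib.Blocks.RelPairs

/-!
# Pairs of a block of a centralizer
-/

set_option linter.unusedSectionVars false
set_option linter.style.haveILetI false

namespace CfsgLib.Blocks

open Cfsg Chars

variable {G : Type*} [Group G] [Fintype G] {M : Ideal AlgInt} [M.IsPrime] {p : ℕ} [Fact p.Prime]

/-! ## A subgroup of a subgroup -/

section Trans

variable {K : Subgroup G} [Fintype K] {U : Subgroup K} {V : Subgroup G}

/-- A subgroup of `K` as a subgroup of `G`. -/
def transIso (hV : V ≤ K) (hUV : ∀ h : K, h ∈ U ↔ (h : G) ∈ V) : U ≃* V where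
  toFun h := ⟨((h : K) : G), (hUV _).1 h.2⟩
  invFun c := ⟨⟨c, hV c.2⟩, (hUV _).2 c.2⟩
  left_inv _ := rfl
  right_inv _ := rfl
  map_mul' _ _ := rfl

theorem exists_transBlock (hV : V ≤ K) (hUV : ∀ h : K, h ∈ U ↔ (h : G) ∈ V)
    {r' : Set (IrrCharacter U)} (hr' : IsPBlock M r') :
    ∃ (r : Set (IrrCharacter V)) (hr : IsPBlock M r),
      (∀ h : K, subgroupBlockCoeff V r (h : G) = subgroupBlockCoeff U r' h) ∧
        pairIdem hr = incl M K (pairIdem hr') := by
  haveI := Fintype.ofFinite U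
  haveI := Fintype.ofFinite V
  have key : ∀ h : K, subgroupBlockCoeff V (pullIrr (transIso hV hUV).symm '' r') (h : G) =
      subgroupBlockCoeff U r' h := by
    intro h
    by_cases hh : h ∈ U
    · rw [show h = ((⟨h, hh⟩ : U) : K) from rfl, subgroupBlockCoeff_coe,
        show (((⟨h, hh⟩ : U) : K) : G) = ((⟨(h : G), (hUV h).1 hh⟩ : V) : G) from rfl,
        subgroupBlockCoeff_coe, blockCoeff_image_pullIrr]
      rfl
    · rw [subgroupBlockCoeff_of_notMem _ hh,
        subgroupBlockCoeff_of_notMem _ fun h' => hh ((hUV h).2 h')]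
  refine ⟨_, isPBlock_image_pullIrr (transIso hV hUV).symm hr', key, ?_⟩
  apply MonoidAlgebra.ext
  ext g
  by_cases hg : g ∈ K
  · obtain ⟨h, rfl⟩ : ∃ h : K, (h : G) = g := ⟨⟨g, hg⟩, rfl⟩
    rw [coeff_incl, pairIdem, pairIdem, coeff_redFun, coeff_redFun]
    exact congrArg red (Subtype.ext (key h))
  · rw [coeff_incl_of_notMem _ hg, coeff_pairIdem_eq_zero_iff,
      subgroupBlockCoeff_of_notMem _ fun h' => hg (hV h')]
    exact MemLocalIdeal.zero'

theorem incl_cut_trans (hV : V ≤ K) (hUV : ∀ h : K, h ∈ U ↔ (h : G) ∈ V)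
    (X : MonoidAlgebra (ResField M) K) :
    incl M K (cut (U : Set K) X) = cut (V : Set G) (incl M K X) := by
  apply MonoidAlgebra.ext
  ext g
  by_cases hg : g ∈ K
  · obtain ⟨h, rfl⟩ : ∃ h : K, (h : G) = g := ⟨⟨g, hg⟩, rfl⟩
    rw [coeff_incl]
    by_cases hh : h ∈ U
    · rw [coeff_cut_of_mem _ (show h ∈ (U : Set K) from hh),
        coeff_cut_of_mem _ (show (h : G) ∈ (V : Set G) from (hUV h).1 hh), coeff_incl]
    · rw [coeff_cut_of_notMem _ hh,
        coeff_cut_of_notMem _ (show (h : G) ∉ (V : Set G) from fun h' => hh ((hUV h).2 h'))]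
  · rw [coeff_incl_of_notMem _ hg,
      coeff_cut_of_notMem _ (show g ∉ (V : Set G) from fun h' => hg (hV h'))]

end Trans

/-! ## Pairs of a block of `C(Q)` -/

theorem mem_centralizer_sup_iff {R Q : Subgroup G} {g : G} :
    g ∈ Subgroup.centralizer ((R ⊔ Q : Subgroup G) : Set G) ↔
      g ∈ Subgroup.centralizer (R : Set G) ∧ g ∈ Subgroup.centralizer (Q : Set G) := by
  refine ⟨fun h => ⟨centralizer_antitone le_sup_left h, centralizer_antitone le_sup_right h⟩,
    fun h => ?_⟩
  have h1 : R ⊔ Q ≤ Subgroup.centralizer ({g} : Set G) := by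
    refine sup_le (fun y hy => ?_) (fun y hy => ?_) <;> rw [Subgroup.mem_centralizer_singleton_iff]
    · exact Subgroup.mem_centralizer_iff.1 h.1 y hy
    · exact Subgroup.mem_centralizer_iff.1 h.2 y hy
  exact Subgroup.mem_centralizer_iff.2 fun y hy =>
    Subgroup.mem_centralizer_singleton_iff.1 (h1 hy)

/-- A pair of `f` in `C(Q)` gives a pair above `(Q, f)`. -/
theorem exists_pair_above (hpM : (p : AlgInt) ∈ M) {Q : Subgroup G}
    {f : Set (IrrCharacter (Subgroup.centralizer (Q : Set G)))} (hQf : IsBrauerPair p M Q f)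
    {R' : Subgroup (Subgroup.centralizer (Q : Set G))}
    {r' : Set (IrrCharacter (Subgroup.centralizer (R' : Set (Subgroup.centralizer (Q : Set G)))))}
    (h : IsBrauerPairOf p M f R' r') :
    ∃ r : Set (IrrCharacter (Subgroup.centralizer
        ((R'.map (Subgroup.centralizer (Q : Set G)).subtype ⊔ Q : Subgroup G) : Set G))),
      IsNormalSubpair p M Q f (R'.map (Subgroup.centralizer (Q : Set G)).subtype ⊔ Q) r ∧
      ∀ u : Subgroup.centralizer (Q : Set G),
        subgroupBlockCoeff (Subgroup.centralizer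
          ((R'.map (Subgroup.centralizer (Q : Set G)).subtype ⊔ Q : Subgroup G) : Set G)) r (u : G) =
        subgroupBlockCoeff (Subgroup.centralizer (R' : Set (Subgroup.centralizer (Q : Set G)))) r'
          u := by
  haveI := Fintype.ofFinite (Subgroup.centralizer (Q : Set G))
  have hRC : R'.map (Subgroup.centralizer (Q : Set G)).subtype ≤ Subgroup.centralizer (Q : Set G) :=
    Subgroup.map_subtype_le _
  have hV : Subgroup.centralizer
      ((R'.map (Subgroup.centralizer (Q : Set G)).subtype ⊔ Q : Subgroup G) : Set G) ≤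
      Subgroup.centralizer (Q : Set G) := centralizer_antitone le_sup_right
  have hUV : ∀ u : Subgroup.centralizer (Q : Set G),
      u ∈ Subgroup.centralizer (R' : Set (Subgroup.centralizer (Q : Set G))) ↔
      (u : G) ∈ Subgroup.centralizer
        ((R'.map (Subgroup.centralizer (Q : Set G)).subtype ⊔ Q : Subgroup G) : Set G) := by
    intro u
    rw [mem_centralizer_sup_iff]
    constructor
    · intro hu
      refine ⟨Subgroup.mem_centralizer_iff.2 ?_, u.2⟩
      rintro _ ⟨y, hy, rfl⟩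
      exact congrArg Subtype.val (Subgroup.mem_centralizer_iff.1 hu y hy)
    · rintro ⟨hu, -⟩
      exact Subgroup.mem_centralizer_iff.2 fun y hy =>
        Subtype.ext (Subgroup.mem_centralizer_iff.1 hu _ ⟨y, hy, rfl⟩)
  obtain ⟨r, hr, hcoef, hidem⟩ := exists_transBlock hV hUV h.1.2
  refine ⟨r, ?_, hcoef⟩
  have hCN : Subgroup.centralizer (Q : Set G) ≤ Subgroup.normalizer (Q : Set G) :=
    (centralizer_le_stabPair hQf.2).trans (stabPair_le_normalizer _)
  have hSp : IsPGroup p (R'.map (Subgroup.centralizer (Q : Set G)).subtype ⊔ Q : Subgroup G) :=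
    (isPGroup_map_subtype h.1.1).to_sup_of_normal_right' hQf.1 (hRC.trans hCN)
  refine isNormalSubpair_of_ne_zero hpM ⟨hSp, hr⟩ le_sup_right
    (sup_le (hRC.trans hCN) Subgroup.le_normalizer) hQf.2 (fun x hx => ?_) ?_
  · exact ((mem_stabPair_iff hQf.2).1 (sup_le (hRC.trans (centralizer_le_stabPair hQf.2))
      (subgroup_le_stabPair hpM hQf) hx)).2
  · have h1 := (isBrauerPairOf_iff hpM h.1 h.2.1).1.1 h
    rw [pairIdem_eq_incl hQf.2, hidem, ← incl_cut_trans hV hUV, ← map_mul, h1, ← hidem]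
    exact pairIdem_ne_zero hr

end CfsgLib.Blocks
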