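import Cfsg.Agent.Lib.Blocks.QuotientDefect
import Cfsg.Agent.Lib.Blocks.NormalBlocks
import Cfsg.Agent.Lib.Blocks.QuotientP
import Cfsg.Agent.Lib.CharApps.Inflation
import Cfsg.Agent.S0914

/-!
# Defect zero modulo a central `p`-subgroup
-/

set_option linter.unusedSectionVars false
set_option linter.style.haveILetI false

namespace CfsgLib.Blocks

open Cfsg Chars

variable {G : Type*} [Group G] [Fintype G] {M : Ideal AlgInt} [M.IsPrime] {p : ℕ} [Fact p.Prime]

/-- A block contains a character of defect zero modulo a central `p`-subgroup `Z` iff its defect is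
that of `Z`. -/
theorem exists_canonical_iff (hM : IsPModular p M) {Z : Subgroup G} [Z.Normal]
    (hZ : IsPGroup p Z) (hcen : Subgroup.centralizer (Z : Set G) = ⊤)
    {e : Set (IrrCharacter G)} (he : IsPBlock M e) :
    (∃ θ ∈ e, (∀ z ∈ Z, (θ : G → ℂ) z = (θ : G → ℂ) 1) ∧
      (charDegree (θ : G → ℂ)).factorization p + (Nat.card Z).factorization p =
        (Nat.card G).factorization p) ↔
      blockDefect p e = (Nat.card Z).factorization p := by
  classical
  have hpM := hM.2.2
  have hp : p.Prime := Fact.out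
  haveI := Fintype.ofFinite (G ⧸ Z)
  obtain ⟨z, hz⟩ := IsPGroup.iff_card.1 hZ
  have hsum := BlockOrth.blockMin_add_blockDefect (p := p) (IsPBlock.nonempty he)
  obtain ⟨D, hD⟩ := exists_isDefectGroup (p := p) he
  have hDc := BlockOrth.card_defectGroup hpM he hD
  have hZD := IsDefectGroup.normal_le hpM he hD hZ
  have hnu : (Nat.card G).factorization p = (Nat.card Z).factorization p + Z.index.factorization p := by
    rw [← Z.card_mul_index, Nat.factorization_mul Nat.card_pos.ne'
      Subgroup.index_ne_zero_of_finite, Finsupp.add_apply]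
  constructor
  · rintro ⟨θ, hθ, htriv, hdeg⟩
    have h1 := BlockOrth.blockMin_le (p := p) hθ
    rw [BlockOrth.degVal] at h1
    obtain ⟨f, hf, hfe⟩ := exists_deflate_irr Z θ.2 htriv
    obtain ⟨Bbar, hBbar, hsub, hDbar⟩ := exists_quotient_block Z hpM hZ he
    obtain ⟨ψ, hψ⟩ := IsPBlock.nonempty hBbar
    have hinfl : inflIrr Z ⟨f, hf⟩ = θ := Subtype.ext hfe.symm
    have hsame : SameBlock M f (ψ : G ⧸ Z → ℂ) := by
      refine (sameBlock_inflate_iff hpM hZ (k := 0) (by rw [hcen, Subgroup.index_top, pow_zero])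
        ⟨f, hf⟩ ψ).2 ?_
      have := IsPBlock.sameBlock he (χ := inflIrr Z ⟨f, hf⟩) (ψ := inflIrr Z ψ)
        (hinfl.symm ▸ hθ) (hsub ψ hψ)
      exact this
    have hfB : (⟨f, hf⟩ : IrrCharacter (G ⧸ Z)) ∈ Bbar :=
      IsPBlock.mem_of_sameBlock hBbar hψ (fun q => by
        have := MemLocalIdeal.neg' (hsame q)
        rwa [neg_sub] at this)
    obtain ⟨n, hn0, hn, hdvd⟩ := irr_degree_dvd_card hf
    have e1 : charDegree f = n := by
      have h3 := BlockOrth.irr_apply_one (⟨f, hf⟩ : IrrCharacter (G ⧸ Z))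
      rw [show ((⟨f, hf⟩ : IrrCharacter (G ⧸ Z)) : G ⧸ Z → ℂ) 1 = (n : ℂ) from hn] at h3
      exact_mod_cast h3.symm
    have e2 : charDegree (θ : G → ℂ) = n := by
      have h3 : (θ : G → ℂ) 1 = (n : ℂ) := by rw [hfe, ← hn]; rfl
      rw [BlockOrth.irr_apply_one] at h3
      exact_mod_cast h3
    have hz0 : ¬ p ∣ Nat.card (G ⧸ Z) / n := by
      intro hd
      obtain ⟨c, hc⟩ := hdvd
      rw [hc, Nat.mul_div_cancel_left _ hn0] at hd
      have hc0 : c ≠ 0 := fun h => Nat.card_pos.ne' (hc.trans (by rw [h, mul_zero]))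
      have h4 := congrArg (fun m : ℕ => m.factorization p) hc
      simp only [← Subgroup.index_eq_card, Nat.factorization_mul hn0.ne' hc0, Finsupp.add_apply] at h4
      have := hp.factorization_pos_of_dvd hc0 hd
      rw [e2] at hdeg
      omega
    have hsingle := (Cfsg.Agent.S0914.result p M hM (⟨f, hf⟩ : IrrCharacter (G ⧸ Z))).1
      (by rw [e1]; exact hz0)
    have hBeq : Bbar = {⟨f, hf⟩} := by
      rw [← hsingle]
      exact IsPBlock.eq_of_mem hBbar (isPBlock_blockOf _) hfB (mem_blockOf_self _)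
    obtain ⟨Dbar, hDb⟩ := exists_isDefectGroup (p := p) hBbar
    have h5 := BlockOrth.card_defectGroup hpM hBbar hDb
    have h6 : blockDefect p Bbar = 0 := by
      have h7 := BlockOrth.blockMin_add_blockDefect (p := p) (IsPBlock.nonempty hBbar)
      have h8 : BlockOrth.blockMin p Bbar = BlockOrth.degVal p (⟨f, hf⟩ : IrrCharacter (G ⧸ Z)) := by
        subst hBeq
        obtain ⟨χ, hχ, hmin⟩ := BlockOrth.exists_degVal_eq_blockMin (p := p) (IsPBlock.nonempty hBbar)
        rw [← hmin, Set.mem_singleton_iff.1 hχ]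
      rw [h8, BlockOrth.degVal, e1, ← Subgroup.index_eq_card] at h7
      rw [e2] at hdeg
      omega
    rw [h6, pow_zero] at h5
    obtain ⟨P, hP, hPe⟩ := (hDbar Dbar).1 hDb
    have h9 : P ≤ Z := fun u hu => by
      have : (QuotientGroup.mk' Z u) ∈ Dbar := hPe ▸ ⟨u, hu, rfl⟩
      rw [Subgroup.card_eq_one.1 h5, Subgroup.mem_bot] at this
      exact (QuotientGroup.eq_one_iff u).1 this
    have h10 := Subgroup.card_le_of_le h9
    rw [BlockOrth.card_defectGroup hpM he hP, hz] at h10
    have h11 := Subgroup.card_le_of_le hZD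
    rw [hDc, hz] at h11
    rw [hz, hp.factorization_pow, Finsupp.single_eq_same]
    exact le_antisymm ((Nat.pow_le_pow_iff_right hp.one_lt).1 h10)
      ((Nat.pow_le_pow_iff_right hp.one_lt).1 h11)
  · intro hd
    obtain ⟨θ, hθ, htriv⟩ := exists_trivial_on_normal_pSubgroup hpM hZ he
    refine ⟨θ, hθ, htriv, ?_⟩
    have h1 := BlockOrth.blockMin_le (p := p) hθ
    rw [BlockOrth.degVal] at h1
    have hker : Z ≤ CharApps.charKer θ := fun x hx => htriv x hx
    have h2 := CharApps.degree_dvd_index Z θ hker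
    obtain ⟨m, -, hm, -⟩ := irr_degree_dvd_card θ.2
    have hpos : charDegree (θ : G → ℂ) ≠ 0 := fun h => irr_degree_ne_zero θ.2 (by
      rw [BlockOrth.irr_apply_one, h, Nat.cast_zero])
    have h3 := (Nat.factorization_le_iff_dvd hpos Subgroup.index_ne_zero_of_finite).2 h2 p
    omega

end CfsgLib.Blocks
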