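import Cfsg.Prelude.Def_BlockLocal
import Cfsg.Agent.Lib.BlockOrth.Contribution
import Cfsg.Agent.Lib.BlockOrth.Height

/-!
# Systems of columns and perfect isometries

A system of columns of a set of characters is a family of generalized decomposition numbers
vanishing against the regular values, spanning the singular values with locally integral
coefficients and divisible by the orders of the centralizers. Two sets of characters with systems
of columns that agree up to signs are perfectly isometric.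
-/

set_option autoImplicit false
set_option linter.unusedSectionVars false
set_option linter.style.haveILetI false

namespace CfsgLib.Blocks

open Cfsg Chars BlockOrth Finset
open scoped ComplexConjugate

universe u v w

variable {G : Type u} [Group G] [Fintype G] {H : Type v} [Group H] [Fintype H]
  {M : Ideal AlgInt} [M.IsPrime] {p : ℕ} [Fact p.Prime]
  {B : Set (IrrCharacter G)} {c : Set (IrrCharacter H)}
  {U : Type w} [Fintype U] {s : IrrCharacter G → U → ℂ} {t : IrrCharacter H → U → ℂ}

/-- A system of columns for a set of characters. -/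
structure ColSys (p : ℕ) (M : Ideal AlgInt) (B : Set (IrrCharacter G)) (s : IrrCharacter G → U → ℂ) :
    Prop where
  regular : ∀ g : G, ¬ p ∣ orderOf g → ∀ a : U, ∑ᶠ χ ∈ B, s χ a * (χ : G → ℂ) g = 0
  expand : ∀ g : G, p ∣ orderOf g → ∃ W : U → ℂ, (∀ a, MemLocalRing M (W a)) ∧
    ∀ χ ∈ B, (χ : G → ℂ) g = ∑ a, W a * s χ a
  integral : ∀ (g : G) (a : U), MemLocalRing M
    ((∑ᶠ χ ∈ B, s χ a * (χ : G → ℂ) g) / (Nat.card (Subgroup.centralizer ({g} : Set G)) : ℂ))

/-- The sum of a character over the translates of an element by a Sylow subgroup of its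
centralizer. -/
theorem exists_sum_translate (χ : IrrCharacter G) (x : G)
    (S : Subgroup (Subgroup.centralizer ({x} : Set G))) [Fintype S] :
    ∃ z : ℂ, IsIntegral ℤ z ∧
      ∑ y : S, (χ : G → ℂ) (x * ((y : Subgroup.centralizer ({x} : Set G)) : G)) =
        (Nat.card S : ℂ) * z := by
  classical
  haveI := Fintype.ofFinite (Subgroup.centralizer ({x} : Set G))
  haveI := irrFintype (Subgroup.centralizer ({x} : Set G))
  have hxC : x ∈ Subgroup.centralizer ({x} : Set G) := Subgroup.mem_centralizer_singleton_iff.2 rfl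
  have hz : (⟨x, hxC⟩ : Subgroup.centralizer ({x} : Set G)) ∈
      Subgroup.center (Subgroup.centralizer ({x} : Set G)) :=
    Subgroup.mem_center_iff.2 fun y => Subtype.ext (Subgroup.mem_centralizer_singleton_iff.1 y.2)
  have hres := isCharacter_restrict (Subgroup.centralizer ({x} : Set G)) (isCharacter_of_irr χ.2)
  choose m hm using fun η : IrrCharacter (Subgroup.centralizer ({x} : Set G)) =>
    inner_irr_right_nat hres η
  choose n hn using fun η : IrrCharacter (Subgroup.centralizer ({x} : Set G)) =>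
    inner_irr_right_nat (isCharacter_restrict S (isCharacter_of_irr η.2)) (principal S)
  refine ⟨∑ η : IrrCharacter (Subgroup.centralizer ({x} : Set G)), (m η : ℂ) *
    (centralScalar (η : Subgroup.centralizer ({x} : Set G) → ℂ) ⟨x, hxC⟩ * (n η : ℂ)), ?_, ?_⟩
  · have hnat : ∀ k : ℕ, IsIntegral ℤ (k : ℂ) := fun k => by
      simpa using (isIntegral_algebraMap (R := ℤ) (A := ℂ) (x := (k : ℤ)))
    refine IsIntegral.sum _ fun η _ => (hnat (m η)).mul
      (IsIntegral.mul ?_ (hnat (n η)))
    refine IsIntegral.of_pow (orderOf_pos (⟨x, hxC⟩ : Subgroup.centralizer ({x} : Set G))) ?_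
    rw [centralScalar_pow_eq_one η hz (pow_orderOf_eq_one _)]
    exact isIntegral_one
  · have hdec : ∀ y : Subgroup.centralizer ({x} : Set G), (χ : G → ℂ) y =
        ∑ η : IrrCharacter (Subgroup.centralizer ({x} : Set G)), (m η : ℂ) *
          (η : Subgroup.centralizer ({x} : Set G) → ℂ) y := fun y => by
      have h := congrFun (classFun_eq_sum (isClassFunction_of_isCharacter hres)) y
      rw [Finset.sum_apply] at h
      refine h.trans (Finset.sum_congr rfl fun η _ => ?_)
      rw [Pi.smul_apply, smul_eq_mul]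
      congr 1
      rw [← hm η]
    rw [Finset.sum_congr rfl fun (y : S) (_ : y ∈ univ) =>
      show (χ : G → ℂ) (x * ((y : Subgroup.centralizer ({x} : Set G)) : G)) = _ from
        hdec (⟨x, hxC⟩ * (y : Subgroup.centralizer ({x} : Set G))), Finset.sum_comm,
      Finset.mul_sum]
    refine Finset.sum_congr rfl fun η _ => ?_
    simp only [irr_central_mul η hz]
    rw [← Finset.mul_sum, ← Finset.mul_sum]
    have h : ∑ y : S, (η : Subgroup.centralizer ({x} : Set G) → ℂ) (y : Subgroup.centralizer ({x} : Set G)) =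
        (Nat.card S : ℂ) * (n η : ℂ) := by
      rw [← hn η, inner_def, mul_inv_cancel_left₀ (Chars.card_ne_zero _)]
      exact Finset.sum_congr rfl fun y _ => by rw [principal_apply, map_one, mul_one]
    rw [h]
    ring

/-- A combination of characters vanishing at the singular elements is divisible by the order of
the centralizer at the regular elements. -/
theorem div_centralizer_mem_of_vanish (hpM : (p : AlgInt) ∈ M) {ι : Type*} (A : Finset ι)
    (d : ι → ℂ) (hd : ∀ i ∈ A, d i ∈ loc M) (χ : ι → IrrCharacter G)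
    (hv : ∀ g : G, p ∣ orderOf g → ∑ i ∈ A, d i * (χ i : G → ℂ) g = 0) {x : G}
    (hx : ¬ p ∣ orderOf x) :
    (∑ i ∈ A, d i * (χ i : G → ℂ) x) / (Nat.card (Subgroup.centralizer ({x} : Set G)) : ℂ) ∈
      loc M := by
  classical
  obtain ⟨S⟩ : Nonempty (Sylow p (Subgroup.centralizer ({x} : Set G))) := inferInstance
  haveI := Fintype.ofFinite (S : Subgroup (Subgroup.centralizer ({x} : Set G)))
  choose z hz hsum using fun i =>
    exists_sum_translate (χ i) x (S : Subgroup (Subgroup.centralizer ({x} : Set G)))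
  have hθ : ∑ i ∈ A, d i * (χ i : G → ℂ) x =
      (Nat.card (S : Subgroup (Subgroup.centralizer ({x} : Set G))) : ℂ) * ∑ i ∈ A, d i * z i := by
    rw [Finset.mul_sum, Finset.sum_congr rfl fun i (_ : i ∈ A) =>
      show (Nat.card (S : Subgroup (Subgroup.centralizer ({x} : Set G))) : ℂ) * (d i * z i) =
        ∑ y : (S : Subgroup (Subgroup.centralizer ({x} : Set G))), d i *
          (χ i : G → ℂ) (x * ((y : Subgroup.centralizer ({x} : Set G)) : G)) by
        rw [mul_left_comm, ← hsum i, Finset.mul_sum], Finset.sum_comm,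
      Finset.sum_eq_single (1 : (S : Subgroup (Subgroup.centralizer ({x} : Set G))))
        (fun y _ hy => hv _ ?_) (fun h => absurd (mem_univ _) h)]
    · simp
    · obtain ⟨k, hk⟩ := IsPGroup.iff_orderOf.1 S.2 y
      have hk0 : k ≠ 0 := fun h0 => hy (orderOf_eq_one_iff.1 (by rw [hk, h0, pow_zero]))
      have hc : Commute x ((y : Subgroup.centralizer ({x} : Set G)) : G) :=
        (Subgroup.mem_centralizer_singleton_iff.1
          (y : Subgroup.centralizer ({x} : Set G)).2).symm
      have hord : orderOf ((y : Subgroup.centralizer ({x} : Set G)) : G) = p ^ k := by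
        rw [Subgroup.orderOf_coe, Subgroup.orderOf_coe, hk]
      rw [hc.orderOf_mul_eq_mul_orderOf_of_coprime (hord ▸ Nat.Coprime.pow_right k
        (Nat.coprime_comm.1 ((Fact.out : p.Prime).coprime_iff_not_dvd.2 hx))), hord]
      exact Dvd.dvd.mul_left (dvd_pow_self p hk0) _
  rw [hθ, ← (S : Subgroup (Subgroup.centralizer ({x} : Set G))).card_mul_index, Nat.cast_mul,
    mul_div_mul_left _ _ (Nat.cast_ne_zero.2 Nat.card_pos.ne'), div_eq_mul_inv]
  exact mul_mem (sum_mem fun i hi => mul_mem (hd i hi) (isIntegral_mem_loc (hz i)))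
    (inv_natCast_mem_loc Fact.out hpM S.not_dvd_index)

namespace ColSys

/-- A system of columns may be rescaled by local units. -/
theorem smul (h : ColSys p M B s) (κ κ' : U → ℂ) (hκ : ∀ a, κ a ∈ loc M) (hκ' : ∀ a, κ' a ∈ loc M)
    (h1 : ∀ a, κ a * κ' a = 1) (s' : IrrCharacter G → U → ℂ)
    (hs : ∀ χ ∈ B, ∀ a, s χ a = κ a * s' χ a) : ColSys p M B s' := by
  have hs' : ∀ g a, ∑ᶠ χ ∈ B, s' χ a * (χ : G → ℂ) g = κ' a * ∑ᶠ χ ∈ B, s χ a * (χ : G → ℂ) g := by
    intro g a
    rw [mul_finsum_mem]
    · refine finsum_mem_congr rfl fun χ hχ => ?_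
      rw [hs χ hχ a, ← mul_assoc, ← mul_assoc, mul_comm (κ' a), h1, one_mul]
  refine ⟨fun g hg a => by rw [hs', h.regular g hg a, mul_zero], fun g hg => ?_, fun g a => ?_⟩
  · obtain ⟨W, hW, hexp⟩ := h.expand g hg
    refine ⟨fun a => W a * κ a, fun a => mul_mem (S := Subring ℂ) (hW a : W a ∈ loc M) (hκ a),
      fun χ hχ => (hexp χ hχ).trans (Finset.sum_congr rfl fun a _ => ?_)⟩
    rw [hs χ hχ a]
    ring
  · rw [hs', mul_div_assoc]
    exact mul_mem (S := Subring ℂ) (hκ' a) (h.integral g a : _ ∈ loc M)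

/-- A system of columns may be reindexed. -/
theorem reindex (h : ColSys p M B s) {V : Type*} [Fintype V] (e : V ≃ U) :
    ColSys p M B fun χ a => s χ (e a) := by
  refine ⟨fun g hg a => h.regular g hg (e a), fun g hg => ?_, fun g a => h.integral g (e a)⟩
  obtain ⟨W, hW, hexp⟩ := h.expand g hg
  exact ⟨fun a => W (e a), fun a => hW (e a), fun χ hχ =>
    (hexp χ hχ).trans (Fintype.sum_equiv e _ _ fun a => rfl).symm⟩

/-- **Systems of columns agreeing up to signs give a perfect isometry.** -/
theorem isPerfectIsometry (hpM : (p : AlgInt) ∈ M) (hs : ColSys p M B s) (ht : ColSys p M c t)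
    (I : IrrCharacter H → IrrCharacter G) (ε : IrrCharacter H → ℤ) (hI : Set.BijOn I c B)
    (hε : ∀ η ∈ c, ε η = 1 ∨ ε η = -1)
    (hst : ∀ η ∈ c, ∀ a, s (I η) a = (ε η : ℂ) * t η a) : IsPerfectIsometry p M c B I ε := by
  classical
  refine ⟨hI, hε, ?_⟩
  haveI := irrFintype G
  haveI := irrFintype H
  obtain ⟨T, hT⟩ : ∃ T : Finset (IrrCharacter H), T = univ.filter (· ∈ c) := ⟨_, rfl⟩
  have hmem : ∀ η, η ∈ T ↔ η ∈ c := fun η => by rw [hT, mem_filter]; simp
  have hfin : ∀ f : IrrCharacter H → ℂ, ∑ᶠ η ∈ c, f η = ∑ η ∈ T, f η := fun f =>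
    finsum_mem_eq_sum_of_inter_support_eq _ (by ext; simp [hmem])
  have hfinB : ∀ f : IrrCharacter G → ℂ, ∑ᶠ χ ∈ B, f χ = ∑ η ∈ T, f (I η) := fun f => by
    rw [← hfin]
    exact (finsum_mem_eq_of_bijOn I hI fun η _ => rfl).symm
  have hμ : ∀ x y, signedBijectionKernel c I ε x y =
      ∑ η ∈ T, (ε η : ℂ) * (I η : G → ℂ) x * (η : H → ℂ) y := fun x y => hfin _
  have hxs : ∀ x : G, p ∣ orderOf x → ∃ W : U → ℂ, (∀ a, W a ∈ loc M) ∧ ∀ y : H,
      signedBijectionKernel c I ε x y = ∑ a, W a * ∑ᶠ η ∈ c, t η a * (η : H → ℂ) y := by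
    intro x hx
    obtain ⟨W, hW, hexp⟩ := hs.expand x hx
    refine ⟨W, hW, fun y => ?_⟩
    simp only [hfin, Finset.mul_sum, hμ]
    rw [Finset.sum_comm (s := univ)]
    refine Finset.sum_congr rfl fun η hη => ?_
    rw [hexp _ (hI.1 ((hmem η).1 hη)), Finset.mul_sum, Finset.sum_mul]
    refine Finset.sum_congr rfl fun a _ => ?_
    rw [hst η ((hmem η).1 hη) a]
    rcases hε η ((hmem η).1 hη) with h | h <;> rw [h] <;> push_cast <;> ring
  have hys : ∀ y : H, p ∣ orderOf y → ∃ W : U → ℂ, (∀ a, W a ∈ loc M) ∧ ∀ x : G,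
      signedBijectionKernel c I ε x y = ∑ a, W a * ∑ᶠ χ ∈ B, s χ a * (χ : G → ℂ) x := by
    intro y hy
    obtain ⟨W, hW, hexp⟩ := ht.expand y hy
    refine ⟨W, hW, fun x => ?_⟩
    simp only [hfinB, Finset.mul_sum, hμ]
    rw [Finset.sum_comm (s := univ)]
    refine Finset.sum_congr rfl fun η hη => ?_
    rw [hexp _ ((hmem η).1 hη), Finset.mul_sum]
    refine Finset.sum_congr rfl fun a _ => ?_
    rw [hst η ((hmem η).1 hη) a]
    ring
  have hzero : ∀ x y, ¬ ((IsPRegular p x ↔ IsPRegular p y)) →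
      signedBijectionKernel c I ε x y = 0 := by
    intro x y h
    by_cases hx : p ∣ orderOf x
    · obtain ⟨W, -, hW⟩ := hxs x hx
      have hy : ¬ p ∣ orderOf y := fun hy =>
        h ⟨fun h' => absurd hx h', fun h' => absurd hy h'⟩
      rw [hW]
      exact Finset.sum_eq_zero fun a _ => by rw [ht.regular y hy a, mul_zero]
    · obtain ⟨W, -, hW⟩ := hys y (by
        by_contra hy
        exact h ⟨fun _ => hy, fun _ => hx⟩)
      rw [hW]
      exact Finset.sum_eq_zero fun a _ => by rw [hs.regular x hx a, mul_zero]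
  intro x y
  refine ⟨?_, ?_, or_iff_not_imp_left.2 (hzero x y)⟩
  · by_cases hy : p ∣ orderOf y
    · obtain ⟨W, hW, hμW⟩ := hys y hy
      rw [hμW, Finset.sum_div]
      show _ ∈ loc M
      refine sum_mem fun a _ => ?_
      rw [mul_div_assoc]
      exact mul_mem (hW a) (hs.integral x a : _ ∈ loc M)
    by_cases hx : p ∣ orderOf x
    · rw [hzero x y fun h => (h.2 hy) hx, zero_div]
      exact (loc M).zero_mem
    rw [hμ, Finset.sum_congr rfl fun η (_ : η ∈ T) =>
      mul_right_comm (ε η : ℂ) ((I η : G → ℂ) x) ((η : H → ℂ) y)]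
    refine div_centralizer_mem_of_vanish hpM T (fun η => (ε η : ℂ) * (η : H → ℂ) y)
      (fun η _ => mul_mem (intCast_mem _ _) (irr_mem_loc η y)) I (fun g hg => ?_) hx
    rw [← hzero g y fun h => (h.2 hy) hg, hμ]
    exact Finset.sum_congr rfl fun η _ => mul_right_comm _ _ _
  · by_cases hx : p ∣ orderOf x
    · obtain ⟨W, hW, hμW⟩ := hxs x hx
      rw [hμW, Finset.sum_div]
      show _ ∈ loc M
      refine sum_mem fun a _ => ?_
      rw [mul_div_assoc]
      exact mul_mem (hW a) (ht.integral y a : _ ∈ loc M)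
    by_cases hy : p ∣ orderOf y
    · rw [hzero x y fun h => (h.1 hx) hy, zero_div]
      exact (loc M).zero_mem
    rw [hμ]
    refine div_centralizer_mem_of_vanish hpM T (fun η => (ε η : ℂ) * (I η : G → ℂ) x)
      (fun η _ => mul_mem (intCast_mem _ _) (irr_mem_loc (I η) x)) (fun η => η) (fun g hg => ?_) hy
    rw [← hzero x g fun h => (h.1 hx) hg, hμ]

end ColSys

end CfsgLib.Blocks
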