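import Cfsg.Agent.Lib.Blocks.DefectOne

/-!
# Blocks with a Sylow defect group of order `p`: the structure
-/

set_option linter.unusedSectionVars false
set_option linter.style.haveILetI false

namespace CfsgLib.Blocks

open Cfsg Chars BlockOrth Modular Finset
open scoped ComplexConjugate

universe u

variable {G : Type u} [Group G] [Fintype G] {M : Ideal AlgInt} [M.IsPrime] {p : ℕ} [Fact p.Prime]
  {P : Subgroup G} {B : Set (IrrCharacter G)} [Fintype (Subgroup.centralizer (P : Set G))]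
  {b : Set (IrrCharacter (Subgroup.centralizer (P : Set G)))}

theorem card_irrCharacter_of_comm {A : Type*} [Group A] [Finite A]
    (hA : ∀ a b : A, a * b = b * a) : Nat.card (IrrCharacter A) = Nat.card A := by
  rw [card_irr_eq_card_classes]
  refine (Nat.card_congr (Equiv.ofBijective ConjClasses.mk ⟨fun a b h => ?_,
    ConjClasses.mk_surjective⟩)).symm
  obtain ⟨c, hc⟩ := isConj_iff.1 (ConjClasses.mk_eq_mk_iff_isConj.1 h)
  rwa [hA c a, mul_inv_cancel_right] at hc

theorem pow_eq_one_iff_of_coprime' {A : Type*} [Group A] (hcard : Nat.card A = p) {k : ℕ}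
    (hk : k.Coprime p) {u : A} : u ^ k = 1 ↔ u = 1 := by
  refine ⟨fun h => ?_, fun h => by rw [h, one_pow]⟩
  have h1 : u ^ Nat.gcd k p = 1 := pow_gcd_eq_one.2 ⟨h, hcard ▸ pow_card_eq_one'⟩
  rwa [hk.gcd_eq_one, pow_one] at h1

/-- Nontrivial characters of a group of prime order are powers of each other. -/
theorem exists_pow_irr (hcard : Nat.card P = p) {l m : IrrCharacter P} (hl : l ≠ principal P)
    (hm : m ≠ principal P) :
    ∃ k : ℕ, k.Coprime p ∧ ∀ v : P, (m : P → ℂ) v = (l : P → ℂ) (v ^ k) := by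
  have hp : p.Prime := Fact.out
  haveI : Finite P := Nat.finite_of_card_ne_zero (hcard ▸ hp.ne_zero)
  haveI := Fintype.ofFinite P
  have hA : ∀ a b : P, a * b = b * a := fun a b => Subtype.ext (commute_of_prime hcard _ a.2 _ b.2)
  haveI : Nontrivial P := Finite.one_lt_card_iff_nontrivial.1 (hcard ▸ hp.one_lt)
  obtain ⟨g, hg⟩ := exists_ne (1 : P)
  have hpow : ∀ (q : IrrCharacter P) (v : P) (n : ℕ), (q : P → ℂ) (v ^ n) = (q : P → ℂ) v ^ n := by
    intro q v n
    induction n with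
    | zero => rw [pow_zero, pow_zero, irr_one_of_comm hA]
    | succ n ih => rw [pow_succ, pow_succ, irr_mul_of_comm hA, ih]
  have hmem : ∀ v : P, ∃ n : ℕ, g ^ n = v := fun v =>
    (isOfFinOrder_of_finite g).mem_powers_iff_mem_zpowers.2 (mem_zpowers_of_prime_card hcard hg)
  have hroot : ∀ q : IrrCharacter P, q ≠ principal P → IsPrimitiveRoot ((q : P → ℂ) g) p := by
    intro q hq
    have h1 : (q : P → ℂ) g ^ p = 1 := by
      rw [← hpow, ← hcard, pow_card_eq_one', irr_one_of_comm hA]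
    refine IsPrimitiveRoot.iff_orderOf.2 (orderOf_eq_prime h1 fun h => hq (Subtype.ext (funext
      fun v => ?_)))
    obtain ⟨n, rfl⟩ := hmem v
    rw [hpow, h, one_pow, principal_apply]
  obtain ⟨k, -, hk⟩ := (hroot l hl).eq_pow_of_pow_eq_one (hroot m hm).pow_eq_one
  refine ⟨k, ?_, fun v => ?_⟩
  · rw [Nat.coprime_comm, hp.coprime_iff_not_dvd]
    rintro ⟨j, rfl⟩
    refine (hroot m hm).ne_one hp.one_lt ?_
    rw [← hk, pow_mul, (hroot l hl).pow_eq_one, one_pow]
  · obtain ⟨n, rfl⟩ := hmem v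
    rw [hpow, ← pow_mul, hpow, ← hk, ← pow_mul, mul_comm]

section Orbit

variable {A : Type*} [Group A] [Fintype A] (E : Subgroup (MulAut A)) [Fintype E]

theorem inner_orbitSum [DecidableEq (IrrCharacter A)] (l m : IrrCharacter A) :
    classInner (fun u => ∑ σ : E, (l : A → ℂ) ((σ : MulAut A) u)) (m : A → ℂ) =
      ((univ.filter fun σ : E => pullIrr (σ : MulAut A) l = m).card : ℂ) := by
  rw [show (fun u => ∑ σ : E, (l : A → ℂ) ((σ : MulAut A) u)) =
    ∑ σ : E, (pullIrr (σ : MulAut A) l : A → ℂ) from funext fun u => by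
      rw [Finset.sum_apply]; rfl, Chars.inner_sum_left]
  simp [inner_irr, Finset.sum_boole]

theorem pullIrr_ne_principal {l : IrrCharacter A} (hl : l ≠ principal A) (σ : MulAut A) :
    pullIrr σ l ≠ principal A := fun h => hl (Subtype.ext (funext fun x => by
  have h4 := congrFun (congrArg Subtype.val h) (σ.symm x)
  rw [principal_apply] at h4 ⊢
  rw [← h4]
  exact congrArg (l : A → ℂ) (σ.apply_symm_apply x).symm))

theorem orbitSum_injective (hA : ∀ a b : A, a * b = b * a) {l m : IrrCharacter A}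
    (h : ∀ u : A, u ≠ 1 → ∑ σ : E, (l : A → ℂ) ((σ : MulAut A) u) =
      ∑ σ : E, (m : A → ℂ) ((σ : MulAut A) u)) : ∃ σ : E, pullIrr (σ : MulAut A) l = m := by
  classical
  have hf : (fun u => ∑ σ : E, (l : A → ℂ) ((σ : MulAut A) u)) =
      fun u => ∑ σ : E, (m : A → ℂ) ((σ : MulAut A) u) := by
    funext u
    by_cases hu : u = 1
    · simp [hu, irr_one_of_comm hA]
    exact h u hu
  have h1 := congrArg (fun f => classInner f (m : A → ℂ)) hf
  simp only [inner_orbitSum, Nat.cast_inj] at h1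
  by_contra hno
  rw [Finset.filter_false_of_mem fun σ _ hσ => hno ⟨σ, hσ⟩, Finset.card_empty, eq_comm,
    Finset.card_eq_zero, Finset.filter_eq_empty_iff] at h1
  exact h1 (mem_univ (1 : E)) (Subtype.ext rfl)

theorem orbitSum_not_const (hA : ∀ a b : A, a * b = b * a) {l m : IrrCharacter A}
    (hl : l ≠ principal A) (hm : m ≠ principal A)
    (hlm : ∀ σ : E, pullIrr (σ : MulAut A) l ≠ m) (K : ℂ)
    (h : ∀ u : A, u ≠ 1 → ∑ σ : E, (l : A → ℂ) ((σ : MulAut A) u) = K) : False := by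
  classical
  have hf : (fun u => ∑ σ : E, (l : A → ℂ) ((σ : MulAut A) u)) =
      K • (principal A : A → ℂ) + ((Fintype.card E : ℂ) - K) •
        fun u : A => if u = 1 then (1 : ℂ) else 0 := by
    funext u
    simp only [Pi.add_apply, Pi.smul_apply, principal_apply, smul_eq_mul]
    by_cases hu : u = 1
    · subst hu
      simp [irr_one_of_comm hA]
    rw [h u hu, if_neg hu]
    ring
  have hδ : ∀ q : IrrCharacter A, classInner (fun u : A => if u = 1 then (1 : ℂ) else 0)
      (q : A → ℂ) = (Nat.card A : ℂ)⁻¹ := fun q => by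
    simp [inner_def, ite_mul, irr_one_of_comm hA]
  have hzero : ∀ q : IrrCharacter A, (∀ σ : E, pullIrr (σ : MulAut A) l ≠ q) →
      K * (if principal A = q then 1 else 0) +
        ((Fintype.card E : ℂ) - K) * (Nat.card A : ℂ)⁻¹ = 0 := by
    intro q hq
    have h := congrArg (fun f => classInner f (q : A → ℂ)) hf
    simp only [inner_orbitSum, Chars.inner_add_left, Chars.inner_smul_left, inner_irr, hδ] at h
    rw [Finset.filter_false_of_mem fun σ _ => hq σ, Finset.card_empty, Nat.cast_zero] at h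
    exact h.symm
  have h1 := hzero m hlm
  rw [if_neg (Ne.symm hm), mul_zero, zero_add] at h1
  have h2 := (mul_eq_zero.1 h1).resolve_right (inv_ne_zero (Chars.card_ne_zero A))
  have h3 := hzero (principal A) fun σ => pullIrr_ne_principal hl _
  rw [if_pos rfl, mul_one, h2, zero_mul, add_zero] at h3
  rw [h3, sub_zero, Nat.cast_eq_zero] at h2
  exact Fintype.card_ne_zero h2

end Orbit

/-- **Blocks with a Sylow defect group of order `p`.** -/
theorem defect_one_structure (hM : IsPModular p M) (hcard : Nat.card P = p)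
    (hsq : ¬ p ^ 2 ∣ Nat.card G) (hpair : IsBrauerPairOf p M B P b) :
    ∃ (Y : Set (IrrCharacter G)) (ε : ℤ) (a : IrrCharacter G → ℤ),
      (ε = 1 ∨ ε = -1) ∧ Y ⊆ B ∧
      Nat.card Y * (Subgroup.centralizer (P : Set G)).relIndex (stabPair ⟨P, b⟩) + 1 = p ∧
      Nat.card (B \ Y : Set (IrrCharacter G)) =
        (Subgroup.centralizer (P : Set G)).relIndex (stabPair ⟨P, b⟩) ∧
      blockRank p B = (Subgroup.centralizer (P : Set G)).relIndex (stabPair ⟨P, b⟩) ∧
      Nat.card B =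
        (Subgroup.centralizer (P : Set G)).relIndex (stabPair ⟨P, b⟩) + Nat.card Y ∧
      (∀ χ ∈ B \ Y, (a χ = 1 ∨ a χ = -1) ∧
        ∀ u : P, u ≠ 1 → xiFun b (χ : G → ℂ) u = (a χ : ℂ)) ∧
      (∀ θ ∈ Y, ∀ u : P, u ≠ 1 → MemLocalIdeal M (xiFun b (θ : G → ℂ) u - ((ε *
        ((Subgroup.centralizer (P : Set G)).relIndex (stabPair ⟨P, b⟩) : ℕ) : ℤ) : ℂ))) ∧
      (∀ θ ∈ Y, ∀ θ' ∈ Y, ∀ g : G, ¬ p ∣ orderOf g → (θ : G → ℂ) g = (θ' : G → ℂ) g) ∧
      (∀ θ ∈ Y, ∀ g : G, ¬ p ∣ orderOf g →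
        (ε : ℂ) * (θ : G → ℂ) g = ∑ᶠ χ ∈ B \ Y, (a χ : ℂ) * (χ : G → ℂ) g) ∧
      (∀ θ ∈ Y, ∀ θ' ∈ Y, ∃ k : ℕ, k.Coprime p ∧ ∀ u : P, u ≠ 1 →
        xiFun b (θ' : G → ℂ) u = xiFun b (θ : G → ℂ) (u ^ k)) ∧
      (∀ θ ∈ Y, ∀ θ' ∈ Y,
        (∀ u : P, u ≠ 1 → xiFun b (θ : G → ℂ) u = xiFun b (θ' : G → ℂ) u) → θ = θ') ∧
      (2 ≤ Nat.card Y → ∀ θ ∈ Y, ∀ c : ℂ, ∃ u : P, u ≠ 1 ∧ xiFun b (θ : G → ℂ) u ≠ c) := by
  classical
  have hpM := hM.2.2
  have hp : p.Prime := Fact.out
  haveI := irrFintype G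
  haveI : Fintype P := Fintype.ofFinite P
  haveI := irrFintype P
  have hA : ∀ a b : P, a * b = b * a := fun a b => Subtype.ext (commute_of_prime hcard _ a.2 _ b.2)
  obtain ⟨y, ε, r, a, hε, hy, hval, ha, ht, hc, hψ⟩ := free_coherence hA (hcard ▸ hp.one_lt)
    (inertia b) (inertia_free hcard) (fun i : {χ : IrrCharacter G // χ ∈ B} => xiFun b (i.1 : G → ℂ))
    (fun i => isGeneralized_xiFun hcard i.1)
    (fun u v hu hv => by rw [sum_xiFun_mul_conj hM hcard hsq hpair hu hv, hcard]; congr!)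
    (fun i => by
      haveI : Nontrivial P := Finite.one_lt_card_iff_nontrivial.1 (hcard ▸ hp.one_lt)
      obtain ⟨u, hu⟩ := exists_ne (1 : P)
      exact ⟨u, hu, exists_xiFun_ne_zero hM hcard hsq hpair i.2 hu⟩)
    (fun i => charDegree (i.1 : G → ℂ)) (fun i => Nat.pos_of_ne_zero (irr_charDegree_ne_zero i.1))
    (fun u hu => by
      have h := sum_mul_xiFun_eq_zero hM hcard hsq hpair (g := (1 : G))
        (by simp [hp.ne_one]) hu
      rw [← h]
      exact Finset.sum_congr rfl fun i _ => by rw [charDegree_cast])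
  haveI := Fintype.ofFinite (inertia b)
  replace hval : ∀ l : IrrCharacter P, l ≠ principal P → ∀ u : P, u ≠ 1 →
      xiFun b ((y l).1 : G → ℂ) u =
        (r : ℂ) + (ε : ℂ) * ∑ σ : inertia b, (l : P → ℂ) ((σ : MulAut P) u) :=
    fun l hl u hu => by convert hval l hl u hu using 4; ext; simp
  rw [card_inertia] at ht hc
  obtain ⟨e, he⟩ : ∃ e, e = (Subgroup.centralizer (P : Set G)).relIndex (stabPair ⟨P, b⟩) := ⟨_, rfl⟩
  rw [← he] at ht hc ⊢
  rw [hcard] at ht
  have he0 : e ≠ 0 := he ▸ card_inertia b ▸ Nat.card_pos.ne'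
  obtain ⟨t, ht'⟩ : ∃ t, t = Nat.card {i : {χ : IrrCharacter G // χ ∈ B} //
      ∃ l : IrrCharacter P, l ≠ principal P ∧ y l = i} := ⟨_, rfl⟩
  rw [← ht'] at ht hc hψ
  have ht0 : t ≠ 0 := fun h => by rw [h, zero_mul, zero_add] at ht; exact hp.ne_one ht.symm
  obtain ⟨S, hS⟩ : ∃ S : Finset {χ : IrrCharacter G // χ ∈ B},
      S = univ.filter fun i => ∀ l : IrrCharacter P, l ≠ principal P → y l ≠ i := ⟨_, rfl⟩
  replace hc : (∑ i ∈ S, a i * a i) + (t : ℤ) * r * r - 2 * ε * r = (e : ℤ) := by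
    rw [hS]; convert hc using 4
    ext i; simp only [Finset.mem_filter, Finset.mem_univ, true_and]
  replace hψ : ∀ ψ : {χ : IrrCharacter G // χ ∈ B} → ℂ,
      (∀ u : P, u ≠ 1 → ∑ i, ψ i * xiFun b (i.1 : G → ℂ) u = 0) →
      ∀ l : IrrCharacter P, l ≠ principal P →
        (∀ m : IrrCharacter P, m ≠ principal P → ψ (y m) = ψ (y l)) ∧
        (∑ i ∈ S, (a i : ℂ) * ψ i) + ((t : ℂ) * r - ε) * ψ (y l) = 0 := by
    intro ψ h0 l hl
    rw [hS]
    convert hψ ψ h0 l hl using 6
  obtain ⟨Y, hY⟩ : ∃ Y : Set (IrrCharacter G), Y = {χ | ∃ h : χ ∈ B,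
      ∃ l : IrrCharacter P, l ≠ principal P ∧ y l = ⟨χ, h⟩} := ⟨_, rfl⟩
  have hYB : Y ⊆ B := fun χ hχ => by rw [hY] at hχ; exact hχ.1
  have hmemY : ∀ i : {χ : IrrCharacter G // χ ∈ B}, i.1 ∈ Y ↔ i ∉ S := fun i => by
    rw [hY, hS, Set.mem_setOf_eq, mem_filter]
    simp only [mem_univ, true_and, not_forall, not_not]
    exact ⟨fun ⟨_, l, hl, hl'⟩ => ⟨l, hl, hl'⟩, fun ⟨l, hl, hl'⟩ => ⟨i.2, l, hl, hl'⟩⟩
  have hcardY : Nat.card Y = t := by
    rw [ht']
    refine Nat.card_congr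
      { toFun := fun χ => ⟨⟨χ.1, hYB χ.2⟩, ?_⟩
        invFun := fun i => ⟨i.1.1, ?_⟩
        left_inv := fun χ => rfl
        right_inv := fun i => rfl }
    · have h := hY.le χ.2
      obtain ⟨_, l, hl, hl'⟩ := h
      exact ⟨l, hl, hl'⟩
    · obtain ⟨l, hl, hl'⟩ := i.2
      exact hY.ge ⟨i.1.2, l, hl, hl'⟩
  have hcardX : Nat.card (B \ Y : Set (IrrCharacter G)) = S.card := by
    rw [← Fintype.card_coe, ← Nat.card_eq_fintype_card]
    refine Nat.card_congr
      { toFun := fun χ => ⟨⟨χ.1, χ.2.1⟩, by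
          by_contra h
          exact χ.2.2 ((hmemY ⟨χ.1, χ.2.1⟩).2 h)⟩
        invFun := fun i => ⟨i.1.1, i.1.2, fun h => (hmemY i.1).1 h i.2⟩
        left_inv := fun χ => rfl
        right_inv := fun i => rfl }
  have hcardB : Nat.card B = S.card + t := by
    rw [← hcardX, ← hcardY, Nat.card_coe_set_eq, Nat.card_coe_set_eq, Nat.card_coe_set_eq,
      Set.ncard_sdiff_add_ncard_of_subset hYB (Set.toFinite _)]
  obtain ⟨t', ht1, hcount⟩ := card_eq_rank_add_sections hM
    (isMaximal_of_sylow_prime hpM hcard hsq hpair) (commute_of_prime hcard)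
    (fun _ _ _ hx hx1 h => free_of_prime hcard hx hx1 h)
  rw [← he, hcard, ← ht] at ht1
  obtain rfl : t' = t := Nat.eq_of_mul_eq_mul_right (Nat.pos_of_ne_zero he0) (Nat.succ.inj ht1)
  have hrank : blockRank p B = S.card := by omega
  have hbound : e ≤ S.card := hrank ▸ he ▸ relIndex_le_blockRank hpM hcard hsq hpair
    (blockRank_local hM hcard hsq hpair)
  have hai : ∀ i ∈ S, a i ≠ 0 ∧ ∀ u : P, u ≠ 1 → xiFun b (i.1 : G → ℂ) u = (a i : ℂ) := fun i hi =>
    ha i (by rw [hS] at hi; exact (mem_filter.1 hi).2)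
  have hge : ∀ i ∈ S, (1 : ℤ) ≤ a i * a i := fun i hi =>
    Int.add_one_le_iff.2 (mul_self_pos.2 (hai i hi).1)
  have hsumge : (S.card : ℤ) ≤ ∑ i ∈ S, a i * a i := by
    have := Finset.sum_le_sum hge
    simpa using this
  -- the range sums
  have hsum1 : t' = 1 → ∀ l : IrrCharacter P, l ≠ principal P → ∀ u : P, u ≠ 1 →
      ∑ σ : inertia b, (l : P → ℂ) ((σ : MulAut P) u) = -1 := by
    intro h1 l hl u hu
    have hall : ∀ m : IrrCharacter P, m ≠ principal P →
        ∃ σ : inertia b, pullIrr (σ : MulAut P) l = m := by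
      intro m hm
      refine (hy l m hl hm).1 ?_
      obtain ⟨z, hz⟩ : ∃ z, ∀ i : {i : {χ : IrrCharacter G // χ ∈ B} //
          ∃ l : IrrCharacter P, l ≠ principal P ∧ y l = i}, i = z := by
        haveI := (Nat.card_eq_one_iff_unique.1 (ht'.symm.trans h1)).1
        exact ⟨⟨y l, l, hl, rfl⟩, fun i => Subsingleton.elim _ _⟩
      exact congrArg Subtype.val ((hz ⟨y l, l, hl, rfl⟩).trans (hz ⟨y m, m, hm, rfl⟩).symm)
    have hne : ∀ σ : inertia b, pullIrr (σ : MulAut P) l ≠ principal P := by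
      intro σ h
      refine hl (Subtype.ext (funext fun x => ?_))
      have := congrFun (congrArg Subtype.val h) ((σ : MulAut P).symm x)
      rw [principal_apply] at this ⊢
      rw [← this]
      exact congrArg (l : P → ℂ) ((σ : MulAut P).apply_symm_apply x).symm
    have hcard' : Fintype.card (inertia b) = (univ.filter fun m => m ≠ principal P).card := by
      rw [Finset.filter_ne', Finset.card_erase_of_mem (mem_univ _), Finset.card_univ,
        ← Nat.card_eq_fintype_card, ← Nat.card_eq_fintype_card, card_inertia, ← he,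
        card_irrCharacter_of_comm hA, hcard]
      rw [h1, one_mul] at ht
      omega
    have hsum := sum_degree_mul (G := P) u
    simp only [irr_one_of_comm hA, one_mul, if_neg hu] at hsum
    rw [← Finset.sum_filter_add_sum_filter_not univ (fun m => m ≠ principal P),
      show univ.filter (fun m : IrrCharacter P => ¬m ≠ principal P) = {principal P} by ext; simp,
      Finset.sum_singleton, principal_apply] at hsum
    rw [← eq_neg_of_add_eq_zero_left hsum]
    refine (Finset.sum_nbij' (fun σ : inertia b => pullIrr (σ : MulAut P) l)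
      (fun m => if hm : m ≠ principal P then (hall m hm).choose else 1) (fun σ _ => by simp [hne σ])
      (fun m _ => mem_univ _) (fun σ _ => ?_) (fun m hm => ?_) fun σ _ => rfl)
    · rw [dif_pos (hne σ)]
      have hbij : Function.Bijective fun τ : inertia b => (⟨pullIrr (τ : MulAut P) l, hne τ⟩ :
          {m : IrrCharacter P // m ≠ principal P}) := by
        rw [Fintype.bijective_iff_surjective_and_card]
        exact ⟨fun m => (hall m.1 m.2).imp fun τ hτ => Subtype.ext hτ,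
          hcard'.trans (Fintype.card_subtype _).symm⟩
      exact hbij.1 (Subtype.ext (hall _ (hne σ)).choose_spec)
    · rw [mem_filter] at hm
      rw [dif_pos hm.2]
      exact (hall m hm.2).choose_spec
  have hl0 : ∃ l : IrrCharacter P, l ≠ principal P := by
    obtain ⟨⟨i, l, hl, -⟩⟩ : Nonempty {i : {χ : IrrCharacter G // χ ∈ B} //
        ∃ l : IrrCharacter P, l ≠ principal P ∧ y l = i} :=
      (Nat.card_ne_zero.1 (ht' ▸ ht0)).1
    exact ⟨l, hl⟩
  -- the quadratic term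
  have hε2 : ε * ε = 1 := by rcases hε with h | h <;> simp [h]
  have hnn : 0 ≤ (t' : ℤ) * r * r - 2 * ε * r := by
    rcases (show t' = 1 ∨ 2 ≤ t' by omega) with h1 | h1
    · obtain ⟨l, hl⟩ := hl0
      haveI : Nontrivial P := Finite.one_lt_card_iff_nontrivial.1 (hcard ▸ hp.one_lt)
      obtain ⟨u, hu⟩ := exists_ne (1 : P)
      have hne : r - ε ≠ 0 := fun h => by
        refine exists_xiFun_ne_zero hM hcard hsq hpair (y l).2 hu ?_
        rw [hval l hl u hu, hsum1 h1 l hl u hu]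
        have : (r : ℂ) - ε = 0 := by exact_mod_cast h
        linear_combination this
      have h2 : 1 ≤ (r - ε) * (r - ε) := Int.add_one_le_iff.2 (mul_self_pos.2 hne)
      have hn1 : (t' : ℤ) = 1 := by exact_mod_cast h1
      rw [hn1]
      nlinarith
    · have h2 : (2 : ℤ) ≤ t' := by exact_mod_cast h1
      have h3 : 0 ≤ r * r - ε * r := by
        rcases hε with h | h <;> subst h <;> rcases le_or_gt r 0 with hr | hr <;>
          rcases eq_or_ne r 0 with h0 | h0 <;> first | (subst h0; norm_num) | nlinarith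
      nlinarith [mul_self_nonneg r]
  have hR : S.card = e := by
    have : (S.card : ℤ) ≤ e := by linarith
    omega
  have hsq0 : (t' : ℤ) * r * r - 2 * ε * r = 0 := by
    have : (S.card : ℤ) = e := by exact_mod_cast hR
    linarith
  have ha1 : ∀ i ∈ S, a i = 1 ∨ a i = -1 := by
    intro i hi
    have h1 : ∑ j ∈ S, (a j * a j - 1) = 0 := by
      rw [Finset.sum_sub_distrib]
      simp only [Finset.sum_const, Nat.smul_one_eq_cast]
      have : (S.card : ℤ) = e := by exact_mod_cast hR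
      linarith
    have h2 := (Finset.sum_eq_zero_iff_of_nonneg fun j hj => sub_nonneg.2 (hge j hj)).1 h1 i hi
    exact sq_eq_one_iff.1 (by rw [sq]; linarith)
  -- the sign
  obtain ⟨ε', hε', hcoef, hmod⟩ : ∃ ε' : ℤ, (ε' = 1 ∨ ε' = -1) ∧ (t' : ℤ) * r - ε = -ε' ∧
      (p : ℤ) ∣ r + ε * e - ε' * e := by
    by_cases hr : r = 0
    · exact ⟨ε, hε, by rw [hr]; ring, by rw [hr]; simp⟩
    have htr : (t' : ℤ) * r = 2 * ε := by
      have : r * ((t' : ℤ) * r - 2 * ε) = 0 := by linarith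
      linarith [(mul_eq_zero.1 this).resolve_left hr]
    refine ⟨-ε, by rcases hε with h | h <;> simp [h], by rw [htr]; ring, ?_⟩
    have h1 : (p : ℤ) ∣ (t' : ℤ) * (r + ε * e - -ε * e) := by
      refine ⟨2 * ε, ?_⟩
      have h2 : ((t' : ℤ)) * e + 1 = p := by exact_mod_cast ht
      rw [← h2]
      linear_combination htr
    refine ((Int.prime_iff_natAbs_prime.2 (by simpa using hp)).dvd_or_dvd h1).resolve_left ?_
    rw [Int.natCast_dvd_natCast]
    refine Nat.not_dvd_of_pos_of_lt (Nat.pos_of_ne_zero ht0) ?_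
    nlinarith [Nat.pos_of_ne_zero he0]
  let a' : IrrCharacter G → ℤ := fun χ => if h : χ ∈ B then a ⟨χ, h⟩ else 0
  have hYl : ∀ θ ∈ Y, ∃ (h : θ ∈ B) (l : IrrCharacter P), l ≠ principal P ∧ y l = ⟨θ, h⟩ :=
    fun θ hθ => hY.le hθ
  have hψg : ∀ g : G, ¬ p ∣ orderOf g → ∀ l : IrrCharacter P, l ≠ principal P →
      (∀ m : IrrCharacter P, m ≠ principal P → ((y m).1 : G → ℂ) g = ((y l).1 : G → ℂ) g) ∧
      (∑ i ∈ S, (a i : ℂ) * (i.1 : G → ℂ) g) + ((t' : ℂ) * r - ε) * ((y l).1 : G → ℂ) g = 0 :=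
    fun g hg => hψ (fun i => (i.1 : G → ℂ) g) fun u hu => sum_mul_xiFun_eq_zero hM hcard hsq hpair hg hu
  refine ⟨Y, ε', a', hε', hYB, by rw [hcardY, ← ht], hcardX.trans hR, hrank.trans hR,
    by rw [hcardB, hR, hcardY], fun χ hχ => ?_, fun θ hθ u hu => ?_, fun θ hθ θ' hθ' g hg => ?_,
    fun θ hθ g hg => ?_, fun θ hθ θ' hθ' => ?_, fun θ hθ θ' hθ' heq => ?_, fun h2 θ hθ c => ?_⟩
  · have hi : (⟨χ, hχ.1⟩ : {χ : IrrCharacter G // χ ∈ B}) ∈ S := by
      by_contra h
      exact hχ.2 ((hmemY _).2 h)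
    simp only [a', dif_pos hχ.1]
    exact ⟨ha1 _ hi, (hai _ hi).2⟩
  · obtain ⟨hB, l, hl, hyl⟩ := hYl θ hθ
    have hv := hval l hl u hu
    rw [hyl] at hv
    obtain ⟨j, hj⟩ := hmod
    have h1 : MemLocalIdeal M (∑ σ : inertia b, ((l : P → ℂ) ((σ : MulAut P) u) - 1)) :=
      MemLocalIdeal.sum' fun σ _ => memLocalIdeal_root_sub_one hpM (n := 1) (by
        rw [pow_one]
        have hpow : ∀ k : ℕ, (l : P → ℂ) (((σ : MulAut P) u) ^ k) = (l : P → ℂ) ((σ : MulAut P) u) ^ k := by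
          intro k
          induction k with
          | zero => rw [pow_zero, pow_zero, irr_one_of_comm hA]
          | succ k ih => rw [pow_succ, pow_succ, irr_mul_of_comm hA, ih]
        rw [← hpow, ← hcard, pow_card_eq_one', irr_one_of_comm hA])
    have hp' : MemLocalIdeal M ((p : ℕ) : ℂ) := (memLocalIdeal_natCast_iff hp hpM p).2 dvd_rfl
    have h2 := MemLocalIdeal.add' (MemLocalIdeal.mul_left' (intCast_mem (loc M) ε) h1)
      (MemLocalIdeal.mul_left' (intCast_mem (loc M) j) hp')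
    convert h2 using 1
    have hj' : (r : ℂ) + ε * (e : ℂ) - ε' * (e : ℂ) = (p : ℂ) * j := by exact_mod_cast hj
    rw [show xiFun b (θ : G → ℂ) u = _ from hv, Finset.sum_sub_distrib, Finset.sum_const,
      Finset.card_univ, ← Nat.card_eq_fintype_card, card_inertia, ← he, nsmul_eq_mul, mul_one]
    push_cast
    linear_combination hj'
  · obtain ⟨hB, l, hl, hyl⟩ := hYl θ hθ
    obtain ⟨hB', m, hm, hym⟩ := hYl θ' hθ'
    have h := (hψg g hg l hl).1 m hm
    rw [hym, hyl] at h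
    exact h.symm
  · obtain ⟨hB, l, hl, hyl⟩ := hYl θ hθ
    have h := (hψg g hg l hl).2
    rw [hyl, show ((t' : ℂ) * r - ε) = ((-ε' : ℤ) : ℂ) by rw [← hcoef]; push_cast; rfl] at h
    rw [finsum_mem_eq_sum_of_inter_support_eq (t := S.image Subtype.val) _ ?_,
      Finset.sum_image fun i _ j _ h => Subtype.ext h,
      Finset.sum_congr rfl (g := fun i => (a i : ℂ) * (i.1 : G → ℂ) g) fun i _ => by
        simp only [a', dif_pos i.2]]
    · push_cast at h
      linear_combination -h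
    · refine congrArg (· ∩ _) (Set.ext fun χ => ?_)
      simp only [Set.mem_sdiff, Finset.coe_image, Set.mem_image, Finset.mem_coe]
      constructor
      · exact fun h => ⟨⟨χ, h.1⟩, by by_contra h'; exact h.2 ((hmemY ⟨χ, h.1⟩).2 h'), rfl⟩
      · rintro ⟨i, hi, rfl⟩
        exact ⟨i.2, fun h' => (hmemY i).1 h' hi⟩
  · obtain ⟨hB, l, hl, hyl⟩ := hYl θ hθ
    obtain ⟨hB', m, hm, hym⟩ := hYl θ' hθ'
    obtain ⟨k, hk, hlm⟩ := exists_pow_irr hcard hl hm
    refine ⟨k, hk, fun u hu => ?_⟩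
    have hu' : u ^ k ≠ 1 := fun h => hu ((pow_eq_one_iff_of_coprime' hcard hk).1 h)
    have h1 := hval m hm u hu
    have h2 := hval l hl (u ^ k) hu'
    rw [hym] at h1
    rw [hyl] at h2
    rw [show xiFun b (θ' : G → ℂ) u = _ from h1, show xiFun b (θ : G → ℂ) (u ^ k) = _ from h2]
    simp only [hlm, map_pow]
  · obtain ⟨hB, l, hl, hyl⟩ := hYl θ hθ
    obtain ⟨hB', m, hm, hym⟩ := hYl θ' hθ'
    suffices h : y l = y m by
      rw [hyl, hym] at h
      exact congrArg Subtype.val h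
    rw [hy l m hl hm]
    refine orbitSum_injective (inertia b) hA fun u hu => ?_
    have h := heq u hu
    have h1 := hval l hl u hu
    have h2 := hval m hm u hu
    rw [hyl] at h1
    rw [hym] at h2
    rw [show xiFun b (θ : G → ℂ) u = _ from h1, show xiFun b (θ' : G → ℂ) u = _ from h2,
      add_right_inj] at h
    exact mul_left_cancel₀ (by rcases hε with h | h <;> simp [h]) h
  · obtain ⟨hB, l, hl, hyl⟩ := hYl θ hθ
    by_contra hno
    push Not at hno
    haveI : Nontrivial {i : {χ : IrrCharacter G // χ ∈ B} //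
        ∃ l : IrrCharacter P, l ≠ principal P ∧ y l = i} :=
      Finite.one_lt_card_iff_nontrivial.1 (by rw [← ht', ← hcardY]; exact h2)
    obtain ⟨⟨i, m, hm, hmi⟩, hi⟩ := exists_ne (⟨y l, l, hl, rfl⟩ :
      {i : {χ : IrrCharacter G // χ ∈ B} // ∃ l : IrrCharacter P, l ≠ principal P ∧ y l = i})
    refine orbitSum_not_const (inertia b) hA hl hm (fun σ hσ => hi (Subtype.ext ?_))
      ((c - r) / ε) fun u hu => ?_
    · exact hmi.symm.trans ((hy l m hl hm).2 ⟨σ, hσ⟩).symm
    have h1 := hval l hl u hu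
    rw [hyl] at h1
    rw [← hno u hu, show xiFun b (θ : G → ℂ) u = _ from h1]
    rcases hε with h | h <;> subst h <;> simp

end CfsgLib.Blocks
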