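import Cfsg.Agent.Lib.Blocks.NilpotentNorm
import Cfsg.Agent.Lib.CharApps.Codegree
import Cfsg.Agent.Lib.BlockOrth.BrauerFeit

/-!
# The characters of a nilpotent block
-/

set_option linter.unusedSectionVars false
set_option linter.style.haveILetI false

namespace CfsgLib.Blocks

open Cfsg Chars BlockOrth
open scoped ComplexConjugate

variable {G : Type*} [Group G] [Fintype G] {M : Ideal AlgInt} [M.IsPrime] {p : ℕ} [Fact p.Prime]
variable {B : Set (IrrCharacter G)} {P : Subgroup G}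
  {e : Set (IrrCharacter (Subgroup.centralizer (P : Set G)))}

theorem secPair_conj {θ : G → ℂ} (hθ : IsClassFunction G θ) (g x : G) (a : BrauerPairIdx G) :
    secPair p (g * x * g⁻¹) (conjPair g a) θ θ = secPair p x a θ θ := by
  classical
  rw [secPair, secPair]
  symm
  refine Finset.sum_equiv (MulAut.conj g).toEquiv (fun y => ?_) fun y _ => ?_
  · simp only [Finset.mem_filter, Finset.mem_univ, true_and]
    show Commute x y ∧ _ ↔ Commute (g * x * g⁻¹) (g * y * g⁻¹) ∧ ¬ p ∣ orderOf (g * y * g⁻¹)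
    rw [← (SemiconjBy.conj_mk g y).orderOf_eq]
    refine and_congr_left fun _ => ⟨fun h => ?_, fun h => ?_⟩
    · exact (Commute.conj_iff g).2 h
    · exact (Commute.conj_iff g).1 h
  · show _ = secVal (conjPair g a) θ (g * x * g⁻¹ * (g * y * g⁻¹)) *
      conj (secVal (conjPair g a) θ (g * x * g⁻¹ * (g * y * g⁻¹)))
    rw [show g * x * g⁻¹ * (g * y * g⁻¹) = g * (x * y) * g⁻¹ by group, secVal_conj hθ]

open scoped Classical in
/-- The inner product of two products in a nilpotent block. -/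
theorem inner_star_nilpotent (hpM : (p : AlgInt) ∈ M) (hnil : IsNilpotentBlock p M B)
    (hmax : IsMaximalBrauerPair p M B P e) [Fintype P] {φ φ' : P → ℂ}
    (hφ : IsClassFunction P φ) (hφ' : IsClassFunction P φ') (χ : IrrCharacter G) :
    classInner (starFun M p ⟨P, e⟩ (extFun P φ) (χ : G → ℂ))
        (starFun M p ⟨P, e⟩ (extFun P φ') (χ : G → ℂ)) =
      (Nat.card P : ℂ)⁻¹ * ∑ u : P, φ u * conj (φ' u) * localNorm M p ⟨P, e⟩ (χ : G → ℂ) (u : G) := by
  have hc : IsBrauerPair p M (⟨P, e⟩ : BrauerPairIdx G).1 (⟨P, e⟩ : BrauerPairIdx G).2 := hmax.1.1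
  have hs := isPairStable_of_nilpotent hpM hmax hnil hφ
  have hs' := isPairStable_of_nilpotent hpM hmax hnil hφ'
  have hcl := isClassFunction_irr χ
  have hmem : ∀ u : G, u ∈ (pairBelow p M ⟨P, e⟩ u).1 := fun u => by
    rw [pairBelow_fst]; exact Subgroup.mem_zpowers u
  rw [inner_starFun hpM hcl hcl,
    sum_pairs_eq hpM hmax hnil (F := fun x a => pairWeight p M ⟨P, e⟩ (extFun P φ) a x *
      conj (pairWeight p M ⟨P, e⟩ (extFun P φ') a x) * secPair p x a (χ : G → ℂ) (χ : G → ℂ))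
      (fun u hu g => by
        simp only [pairWeight_conj hs (hmem u), pairWeight_conj hs' (hmem u), secPair_conj hcl])
      (fun x a h => by rw [pairWeight_of_not h, zero_mul, zero_mul]),
    ← mul_assoc, ← mul_assoc, inv_mul_cancel₀ (card_ne_zero G), one_mul]
  refine congrArg _ (Finset.sum_congr rfl fun u _ => ?_)
  rw [pairWeight_eq hs (hmem u) (x := 1) (by rw [conjPair_one]; exact pairBelow_below hpM hc u.2),
    pairWeight_eq hs' (hmem u) (x := 1) (by rw [conjPair_one]; exact pairBelow_below hpM hc u.2)]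
  simp only [one_mul, inv_one, mul_one, extFun_coe, localNorm]
  ring

theorem isClassFunction_const {H : Type*} [Group H] (r : ℂ) : IsClassFunction H fun _ => r :=
  fun _ _ => rfl

theorem starFun_extFun_one (hpM : (p : AlgInt) ∈ M) (hmax : IsMaximalBrauerPair p M B P e)
    {χ : IrrCharacter G} (hχ : χ ∈ B) :
    starFun M p ⟨P, e⟩ (extFun P fun _ => 1) (χ : G → ℂ) = (χ : G → ℂ) := by
  have hmax' : IsMaximalBrauerPair p M B (⟨P, e⟩ : BrauerPairIdx G).1
    (⟨P, e⟩ : BrauerPairIdx G).2 := hmax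
  rw [starFun_congr (η' := fun _ => 1) fun u hu => extFun_coe P _ ⟨u, hu⟩,
    starFun_one hpM hmax' hχ]

open scoped Classical in
theorem localNorm_one_of_height_zero (hpM : (p : AlgInt) ∈ M) (hnil : IsNilpotentBlock p M B)
    (hmax : IsMaximalBrauerPair p M B P e) [Fintype P] {χ : IrrCharacter G} (hχ : χ ∈ B)
    (h0 : blockHeight p B (χ : G → ℂ) = 0) (u : P) :
    localNorm M p ⟨P, e⟩ (χ : G → ℂ) (u : G) = 1 := by
  refine localNorm_eq_one hpM hnil hmax hχ h0 ?_ u
  have h := inner_star_nilpotent hpM hnil hmax (isClassFunction_const 1) (isClassFunction_const 1) χ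
  rw [starFun_extFun_one hpM hmax hχ, inner_irr_self χ] at h
  simp only [map_one, one_mul] at h
  rw [eq_comm, inv_mul_eq_iff_eq_mul₀ (Nat.cast_ne_zero.2 Nat.card_pos.ne'), mul_one] at h
  exact h

open scoped Classical in
theorem inner_star_eq (hpM : (p : AlgInt) ∈ M) (hnil : IsNilpotentBlock p M B)
    (hmax : IsMaximalBrauerPair p M B P e) [Fintype P] {φ φ' : P → ℂ}
    (hφ : IsClassFunction P φ) (hφ' : IsClassFunction P φ') {χ : IrrCharacter G} (hχ : χ ∈ B)
    (h0 : blockHeight p B (χ : G → ℂ) = 0) :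
    classInner (starFun M p ⟨P, e⟩ (extFun P φ) (χ : G → ℂ))
        (starFun M p ⟨P, e⟩ (extFun P φ') (χ : G → ℂ)) = classInner φ φ' := by
  rw [inner_star_nilpotent hpM hnil hmax hφ hφ', inner_def]
  refine congrArg _ (Finset.sum_congr rfl fun u _ => ?_)
  rw [localNorm_one_of_height_zero hpM hnil hmax hχ h0, mul_one]

open scoped Classical in
/-- The regular part of a character of height zero of a nilpotent block has norm `1 / |P|`. -/
theorem inner_regular_self (hpM : (p : AlgInt) ∈ M) (hnil : IsNilpotentBlock p M B)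
    (hmax : IsMaximalBrauerPair p M B P e) [Fintype P] {χ : IrrCharacter G} (hχ : χ ∈ B)
    (h0 : blockHeight p B (χ : G → ℂ) = 0) :
    classInner (pRegularPart p (χ : G → ℂ)) (χ : G → ℂ) = (Nat.card P : ℂ)⁻¹ := by
  have hmax' : IsMaximalBrauerPair p M B (⟨P, e⟩ : BrauerPairIdx G).1
    (⟨P, e⟩ : BrauerPairIdx G).2 := hmax
  have hδ : IsClassFunction P (fun u : P => if u = 1 then (1 : ℂ) else 0) := fun u v => by
    simp only [mul_inv_eq_one, mul_eq_left]
  have hf : starFun M p ⟨P, e⟩ (extFun P fun u : P => if u = 1 then (1 : ℂ) else 0) (χ : G → ℂ) =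
      pRegularPart p (χ : G → ℂ) := by
    funext g
    rw [pRegularPart_apply]
    by_cases hg : ¬ p ∣ orderOf g
    · rw [if_pos hg, starFun_regular hpM hmax' hχ hg,
        show (1 : G) = ((1 : P) : G) from rfl, extFun_coe, if_pos rfl, one_mul]
    · rw [if_neg hg]
      refine Finset.sum_eq_zero fun a ha => mul_eq_zero_of_left ?_ _
      by_cases hy : ∃ y : G, Relation.ReflTransGen (NormalSubpairRel p M) (conjPair y a) ⟨P, e⟩
      · rw [pairWeight, dif_pos hy]
        have hmem : hy.choose * pPartElt p g * hy.choose⁻¹ ∈ P :=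
          below_le hy.choose_spec ⟨_, by
            show pPartElt p g ∈ a.1
            rw [(mem_pairsAt.1 ha).1]
            exact Subgroup.mem_zpowers _, rfl⟩
        rw [show extFun P _ (hy.choose * pPartElt p g * hy.choose⁻¹) = _ from
          extFun_coe P _ ⟨_, hmem⟩, if_neg]
        intro h1
        apply hg
        have h2 : hy.choose * pPartElt p g * hy.choose⁻¹ = 1 := congrArg Subtype.val h1
        rw [mul_inv_eq_one, mul_eq_left] at h2
        obtain ⟨-, hgeq⟩ := commute_pPartElt_pPrimePart (p := p) g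
        rw [h2, one_mul] at hgeq
        rw [← hgeq]
        exact not_dvd_orderOf_pPrimePart g
      · exact pairWeight_of_not hy _
  have h := inner_star_eq hpM hnil hmax hδ hδ hχ h0
  rw [hf, classInner_pRegularPart_right, pRegularPart_pRegularPart] at h
  rw [h, inner_def, Finset.sum_eq_single (1 : P)]
  · simp
  · intro u _ hu
    simp [hu]
  · simp

open scoped Classical in
/-- **Broué–Puig**: the irreducible characters of a nilpotent block are the products of a
character of height zero with the irreducible characters of the defect group. -/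
theorem nilpotent_parametrisation (hpM : (p : AlgInt) ∈ M) (hnil : IsNilpotentBlock p M B)
    (hmax : IsMaximalBrauerPair p M B P e) {χ : IrrCharacter G} (hχ : χ ∈ B)
    (h0 : blockHeight p B (χ : G → ℂ) = 0) :
    ∃ Ψ : IrrCharacter P ≃ B, ∀ ψ : IrrCharacter P,
      ((Ψ ψ : IrrCharacter G) : G → ℂ) 1 = (ψ : P → ℂ) 1 * (χ : G → ℂ) 1 ∧
      pRegularPart p ((Ψ ψ : IrrCharacter G) : G → ℂ) =
        (charDegree (ψ : P → ℂ) : ℂ) • pRegularPart p (χ : G → ℂ) := by
  haveI := Fintype.ofFinite P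
  haveI := irrFintype P
  haveI := irrFintype G
  have hmax' : IsMaximalBrauerPair p M B (⟨P, e⟩ : BrauerPairIdx G).1
    (⟨P, e⟩ : BrauerPairIdx G).2 := hmax
  have hB := hnil.1
  have hreg : ∀ (ψ : IrrCharacter P), ∀ g : G, ¬ p ∣ orderOf g →
      starFun M p ⟨P, e⟩ (extFun P (ψ : P → ℂ)) (χ : G → ℂ) g = (ψ : P → ℂ) 1 * (χ : G → ℂ) g :=
    fun ψ g hg => by
      rw [starFun_regular hpM hmax' hχ hg, show (1 : G) = ((1 : P) : G) from rfl, extFun_coe]
  have h1 : ¬ p ∣ orderOf (1 : G) := by simp [(Fact.out : p.Prime).not_dvd_one]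
  have hirr : ∀ ψ : IrrCharacter P,
      IsIrrCharacter G (starFun M p ⟨P, e⟩ (extFun P (ψ : P → ℂ)) (χ : G → ℂ)) := by
    intro ψ
    refine irr_of_norm_one (isGeneralized_starFun hpM hmax'
      (isPairStable_of_nilpotent hpM hmax hnil (isClassFunction_irr ψ)) ?_ χ) ?_ ?_
    · refine ⟨(ψ : P → ℂ), 0, isCharacter_of_irr ψ.2, isCharacter_zero, ?_⟩
      funext u
      simp [extFun_coe]
    · rw [inner_star_eq hpM hnil hmax (isClassFunction_irr ψ) (isClassFunction_irr ψ) hχ h0,
        inner_irr_self]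
    · rw [hreg ψ 1 h1, irr_apply_one ψ, irr_apply_one χ]
      norm_cast
      exact Nat.zero_le _
  have hmemB : ∀ ψ, (⟨_, hirr ψ⟩ : IrrCharacter G) ∈ B := fun ψ => by
    by_contra h
    have h' := inner_starFun_eq_zero (η := extFun P (ψ : P → ℂ)) hpM hmax' χ h
    rw [inner_irr_self ⟨_, hirr ψ⟩] at h'
    exact one_ne_zero h'
  let Φ : IrrCharacter P → B := fun ψ => ⟨⟨_, hirr ψ⟩, hmemB ψ⟩
  have hΦval : ∀ ψ, ((Φ ψ : IrrCharacter G) : G → ℂ) =
      starFun M p ⟨P, e⟩ (extFun P (ψ : P → ℂ)) (χ : G → ℂ) := fun _ => rfl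
  have hΦreg : ∀ ψ, pRegularPart p ((Φ ψ : IrrCharacter G) : G → ℂ) =
      (charDegree (ψ : P → ℂ) : ℂ) • pRegularPart p (χ : G → ℂ) := fun ψ => by
    funext g
    rw [Pi.smul_apply, smul_eq_mul, pRegularPart_apply, pRegularPart_apply]
    by_cases hg : ¬ p ∣ orderOf g
    · rw [if_pos hg, if_pos hg, hΦval, hreg ψ g hg, irr_apply_one ψ]
    · rw [if_neg hg, if_neg hg, mul_zero]
  have hinj : Function.Injective Φ := fun ψ ψ' h => by
    have hi := inner_star_eq hpM hnil hmax (isClassFunction_irr ψ) (isClassFunction_irr ψ') hχ h0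
    rw [← hΦval ψ, ← hΦval ψ', h, inner_irr_self, inner_irr] at hi
    by_contra hne
    rw [if_neg hne] at hi
    exact one_ne_zero hi
  have hd : blockDefect p B = (Nat.card P).factorization p ∧ Nat.card P = p ^ blockDefect p B := by
    have := card_defectGroup hpM hB (isDefectGroup_of_maximal hpM hmax)
    exact ⟨by rw [this, Nat.Prime.factorization_pow (Fact.out : p.Prime), Finsupp.single_eq_same],
      this⟩
  have hDχ : dInt p B χ χ = 1 := by
    have : (dInt p B χ χ : ℂ) = 1 := by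
      rw [dInt_spec hpM hχ, inner_regular_self hpM hnil hmax hχ h0, ← hd.2,
        mul_inv_cancel₀ (Nat.cast_ne_zero.2 Nat.card_pos.ne')]
    exact_mod_cast this
  have hDΦ : ∀ ψ, dInt p B χ (Φ ψ : IrrCharacter G) = (charDegree (ψ : P → ℂ) : ℤ) := fun ψ => by
    have : (dInt p B χ (Φ ψ : IrrCharacter G) : ℂ) = (charDegree (ψ : P → ℂ) : ℂ) := by
      rw [dInt_spec hpM hχ, ← classInner_pRegularPart_right, hΦreg, Chars.inner_smul_right,
        classInner_pRegularPart_right, inner_regular_self hpM hnil hmax hχ h0, ← hd.2,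
        map_natCast, mul_left_comm, mul_inv_cancel₀ (Nat.cast_ne_zero.2 Nat.card_pos.ne'), mul_one]
    exact_mod_cast this
  have hsurj : Function.Surjective Φ := by
    intro ξ
    by_contra hno
    push Not at hno
    have htot := sum_dInt_mul_dInt (ψ := χ) hpM hB hχ
    rw [hDχ, mul_one] at htot
    set T := Finset.univ.image fun ψ => (Φ ψ : IrrCharacter G) with hT
    have hTs : T ⊆ Finset.univ.filter (· ∈ B) := fun η hη => by
      obtain ⟨ψ, -, rfl⟩ := Finset.mem_image.1 hη
      exact Finset.mem_filter.2 ⟨Finset.mem_univ _, (Φ ψ).2⟩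
    have hsumT : ∑ η ∈ T, dInt p B χ η * dInt p B η χ = (p : ℤ) ^ blockDefect p B := by
      rw [hT, Finset.sum_image fun ψ _ ψ' _ h => hinj (Subtype.ext h),
        show ((p : ℤ) ^ blockDefect p B) = ((Nat.card P : ℕ) : ℤ) by rw [hd.2]; push_cast; rfl,
        ← CharApps.sum_degree_sq_nat (G := P)]
      push_cast
      refine Finset.sum_congr rfl fun ψ _ => ?_
      rw [dInt_symm (Φ ψ : IrrCharacter G) χ, hDΦ, sq]
    rw [← hsumT, ← Finset.sum_sdiff hTs] at htot
    have hz : ∑ η ∈ Finset.univ.filter (· ∈ B) \ T, dInt p B χ η * dInt p B η χ = 0 := by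
      linarith
    have hξ : (ξ : IrrCharacter G) ∈ Finset.univ.filter (· ∈ B) \ T := by
      refine Finset.mem_sdiff.2 ⟨Finset.mem_filter.2 ⟨Finset.mem_univ _, ξ.2⟩, fun h => ?_⟩
      obtain ⟨ψ, -, hψ⟩ := Finset.mem_image.1 h
      exact hno ψ (Subtype.ext hψ)
    have hzero := (Finset.sum_eq_zero_iff_of_nonneg fun η _ => by
      rw [dInt_symm η χ]; exact mul_self_nonneg _).1 hz _ hξ
    rw [dInt_symm (ξ : IrrCharacter G) χ, mul_self_eq_zero] at hzero
    exact dInt_ne_zero hpM hB hχ ξ.2 h0 hzero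
  exact ⟨Equiv.ofBijective Φ ⟨hinj, hsurj⟩, fun ψ => ⟨hreg ψ 1 h1, hΦreg ψ⟩⟩

/-- The heights of a nilpotent block are those of the degrees of the defect group. -/
theorem nilpotent_height (hpM : (p : AlgInt) ∈ M) (hnil : IsNilpotentBlock p M B)
    (hmax : IsMaximalBrauerPair p M B P e) :
    ∃ Φ : B ≃ IrrCharacter P, ∀ χ : B, blockHeight p B ((χ : IrrCharacter G) : G → ℂ) =
      (charDegree ((Φ χ : IrrCharacter P) : P → ℂ)).factorization p := by
  obtain ⟨χ, hχ, h0⟩ := exists_blockHeight_eq_zero (p := p) hnil.1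
  obtain ⟨Ψ, hΨ⟩ := nilpotent_parametrisation hpM hnil hmax hχ h0
  refine ⟨Ψ.symm, fun ξ => ?_⟩
  obtain ⟨ψ, rfl⟩ := Ψ.surjective ξ
  rw [Equiv.symm_apply_apply]
  have h1 := (hΨ ψ).1
  rw [irr_apply_one, irr_apply_one, irr_apply_one, ← Nat.cast_mul, Nat.cast_inj] at h1
  have hd := (blockHeight_eq_zero_iff hχ).1 h0
  rw [blockHeight_eq, degVal, h1, Nat.factorization_mul
    (irr_charDegree_ne_zero ψ) (irr_charDegree_ne_zero χ), Finsupp.add_apply]
  unfold degVal at hd
  omega

/-- A nilpotent block has a single irreducible Brauer character. -/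
theorem nilpotent_rank_one (hpM : (p : AlgInt) ∈ M) (hnil : IsNilpotentBlock p M B)
    (hmax : IsMaximalBrauerPair p M B P e) :
    blockRank p B = 1 ∧ ∃ χ₀ ∈ B, ∀ χ ∈ B, ∃ d : ℕ, ∀ x : G,
      pRegularPart p (χ : G → ℂ) x = (d : ℂ) * pRegularPart p (χ₀ : G → ℂ) x := by
  obtain ⟨χ, hχ, h0⟩ := exists_blockHeight_eq_zero (p := p) hnil.1
  obtain ⟨Ψ, hΨ⟩ := nilpotent_parametrisation hpM hnil hmax hχ h0
  have hall : ∀ ξ ∈ B, ∃ d : ℕ, pRegularPart p (ξ : G → ℂ) = (d : ℂ) • pRegularPart p (χ : G → ℂ) := by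
    intro ξ hξ
    obtain ⟨ψ, hψ⟩ := Ψ.surjective ⟨ξ, hξ⟩
    refine ⟨charDegree (ψ : P → ℂ), ?_⟩
    rw [← (hΨ ψ).2, hψ]
  refine ⟨?_, χ, hχ, fun ξ hξ => ?_⟩
  · have hne : pRegularPart p (χ : G → ℂ) ≠ 0 := fun h => by
      have := congrFun h 1
      rw [pRegularPart_apply, if_pos (by simp [(Fact.out : p.Prime).not_dvd_one])] at this
      exact irr_degree_ne_zero χ.2 this
    rw [blockRank, show Submodule.span ℂ ((fun ξ : IrrCharacter G => pRegularPart p (ξ : G → ℂ)) '' B) =
      Submodule.span ℂ {pRegularPart p (χ : G → ℂ)} from ?_, finrank_span_singleton hne]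
    refine le_antisymm (Submodule.span_le.2 ?_) (Submodule.span_mono ?_)
    · rintro _ ⟨ξ, hξ, rfl⟩
      obtain ⟨d, hd⟩ := hall ξ hξ
      simp only [hd]
      exact Submodule.smul_mem _ _ (Submodule.mem_span_singleton_self _)
    · exact Set.singleton_subset_iff.2 ⟨χ, hχ, rfl⟩
  · obtain ⟨d, hd⟩ := hall ξ hξ
    exact ⟨d, fun x => by rw [hd]; rfl⟩

end CfsgLib.Blocks
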