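import Cfsg.Agent.Lib.Blocks.DefectOne
import Cfsg.Agent.Lib.Blocks.DefectOneStructure
import Cfsg.Agent.Lib.Blocks.NilpotentStar

/-!
# The columns of a block seen in a nilpotent block of a subgroup

If the centralizers of the nontrivial elements of an abelian defect group `P` lie in a subgroup `K`
and the block of `K` below the maximal pair is nilpotent, the sections of the block are described by
generalized characters of `P`.
-/

set_option autoImplicit false
set_option linter.unusedSectionVars false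
set_option linter.style.haveILetI false

namespace CfsgLib.Blocks

open Cfsg Chars BlockOrth Finset
open scoped ComplexConjugate

universe u

variable {G : Type u} [Group G] [Fintype G] {M : Ideal AlgInt} [M.IsPrime] {p : ℕ} [Fact p.Prime]
  {B : Set (IrrCharacter G)} {P : Subgroup G}
  {c : Set (IrrCharacter (Subgroup.centralizer (P : Set G)))}

theorem blockCoeff_apply_one_ne_zero {H : Type*} [Group H] [Fintype H]
    {f : Set (IrrCharacter H)} (hf : IsPBlock M f) : blockCoeff f (1 : H) ≠ 0 := by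
  classical
  haveI := irrFintype H
  obtain ⟨χ₀, hχ₀⟩ := IsPBlock.nonempty hf
  rw [blockCoeff, finsum_mem_eq_sum_of_inter_support_eq (t := univ.filter (· ∈ f)) _ (by ext; simp)]
  refine mul_ne_zero (inv_ne_zero (Chars.card_ne_zero H)) ?_
  simp only [irr_apply_one, map_natCast, ← Nat.cast_mul, ← Nat.cast_sum, ne_eq, Nat.cast_eq_zero]
  refine fun h => irr_charDegree_ne_zero χ₀ ?_
  exact mul_self_eq_zero.1 (Finset.sum_eq_zero_iff.1 h χ₀ (mem_filter.2 ⟨mem_univ _, hχ₀⟩))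

theorem exists_pow_eq_one_of_mem (hP : IsPGroup p P) {x : G} (hx : x ∈ P) :
    ∃ k : ℕ, x ^ p ^ k = 1 := by
  obtain ⟨k, hk⟩ := hP ⟨x, hx⟩
  exact ⟨k, congrArg Subtype.val hk⟩

theorem zpowers_subgroupOf {K : Subgroup G} {u : G} (hu : u ∈ K) :
    (Subgroup.zpowers u).subgroupOf K = Subgroup.zpowers (⟨u, hu⟩ : K) := by
  ext x
  simp only [Subgroup.mem_subgroupOf, Subgroup.mem_zpowers_iff]
  constructor
  · rintro ⟨i, hi⟩
    exact ⟨i, Subtype.ext (by simpa using hi)⟩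
  · rintro ⟨i, hi⟩
    exact ⟨i, by simpa using congrArg Subtype.val hi⟩

/-- The pair below a maximal pair computed in a subgroup. -/
theorem pairCoeff_pairBelow_rel (hpM : (p : AlgInt) ∈ M) (hc : IsBrauerPair p M P c)
    (hab : ∀ x ∈ P, ∀ y ∈ P, x * y = y * x) {K : Subgroup G} [Fintype K] (hPK : P ≤ K)
    (hCP : Subgroup.centralizer (P : Set G) ≤ K) {u : G} (hu : u ∈ P)
    (hCu : Subgroup.centralizer (Subgroup.zpowers u : Set G) ≤ K) (h : K) :
    pairCoeff (pairBelow p M (⟨P.subgroupOf K, relBlock hPK hCP c⟩ : BrauerPairIdx K) ⟨u, hPK hu⟩)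
        h = pairCoeff (pairBelow p M ⟨P, c⟩ u) (h : G) := by
  have hle : Subgroup.zpowers u ≤ P := Subgroup.zpowers_le.2 hu
  obtain ⟨f, hf⟩ := exists_below (b := ⟨P, c⟩) hpM hc _ hle
  have hN : P ≤ Subgroup.normalizer ((Subgroup.zpowers u : Subgroup G) : Set G) :=
    (le_centralizer_of_abelian hle hab).trans (centralizer_le_normalizer' _)
  have hn := isNormalSubpair_of_below (b := ⟨P, c⟩) hpM hc hf Relation.ReflTransGen.refl hle hN
  have hn' := (isNormalSubpair_rel_iff hpM (hle.trans hPK) hCu hPK hCP hc.1 hle hN hn.1.2 hc.2).2 hn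
  have eG := eq_pairBelow (c := (⟨P, c⟩ : BrauerPairIdx G)) (a := ⟨Subgroup.zpowers u, f⟩)
    hpM hc hf rfl
  have eK := eq_pairBelow (c := (⟨P.subgroupOf K, relBlock hPK hCP c⟩ : BrauerPairIdx K))
    (a := ⟨(Subgroup.zpowers u).subgroupOf K, relBlock (hle.trans hPK) hCu f⟩) (u := ⟨u, hPK hu⟩)
    hpM ⟨isPGroup_subgroupOf hc.1 hPK, isPBlock_relBlock hPK hCP hc.2⟩
    (Relation.ReflTransGen.single hn') (zpowers_subgroupOf _)
  rw [← eK, ← eG]
  exact subgroupBlockCoeff_relBlock _ _ f h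

open scoped Classical in
/-- Orthogonality of the sections at the pairs below a maximal pair. -/
theorem sum_secVal_pairBelow (hpM : (p : AlgInt) ∈ M) (hmax : IsMaximalBrauerPair p M B P c)
    {u v : G} (hu : u ∈ P) (hv : v ∈ P) [Fintype (IrrCharacter G)] :
    ∑ χ ∈ univ.filter (· ∈ B), secVal (pairBelow p M ⟨P, c⟩ u) (χ : G → ℂ) u *
        conj (secVal (pairBelow p M ⟨P, c⟩ v) (χ : G → ℂ) v) =
      ((univ.filter fun g : G => g * u * g⁻¹ = v ∧
          conjPair g (pairBelow p M ⟨P, c⟩ u) = pairBelow p M ⟨P, c⟩ v).card : ℂ) *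
        pairCoeff (pairBelow p M ⟨P, c⟩ u) 1 := by
  obtain ⟨f, hf⟩ := exists_below (b := ⟨P, c⟩) hpM hmax.1.1 _ (Subgroup.zpowers_le.2 hu)
  obtain ⟨f', hf'⟩ := exists_below (b := ⟨P, c⟩) hpM hmax.1.1 _ (Subgroup.zpowers_le.2 hv)
  rw [← eq_pairBelow (c := (⟨P, c⟩ : BrauerPairIdx G)) (a := ⟨Subgroup.zpowers u, f⟩)
      hpM hmax.1.1 hf rfl,
    ← eq_pairBelow (c := (⟨P, c⟩ : BrauerPairIdx G)) (a := ⟨Subgroup.zpowers v, f'⟩)
      hpM hmax.1.1 hf' rfl]
  haveI := Fintype.ofFinite (Subgroup.centralizer (Subgroup.zpowers u : Set G))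
  rw [show pairCoeff (⟨Subgroup.zpowers u, f⟩ : BrauerPairIdx G) 1 = blockCoeff f 1 from
    subgroupBlockCoeff_coe f 1]
  convert sum_secVal_mul_conj hpM (exists_pow_eq_one_of_mem hmax.1.1.1 hu)
    (exists_pow_eq_one_of_mem hmax.1.1.1 hv)
    ((isBrauerPairOf_iff_of_below hpM hf B).2 hmax.1)
    ((isBrauerPairOf_iff_of_below hpM hf' B).2 hmax.1)

theorem pairCoeff_pairBelow_one_ne_zero (hpM : (p : AlgInt) ∈ M) (hc : IsBrauerPair p M P c)
    {u : G} (hu : u ∈ P) : pairCoeff (pairBelow p M ⟨P, c⟩ u) 1 ≠ 0 := by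
  obtain ⟨f, hf⟩ := exists_below (b := ⟨P, c⟩) hpM hc _ (Subgroup.zpowers_le.2 hu)
  rw [← eq_pairBelow (c := (⟨P, c⟩ : BrauerPairIdx G)) (a := ⟨Subgroup.zpowers u, f⟩) hpM hc hf rfl]
  haveI := Fintype.ofFinite (Subgroup.centralizer (Subgroup.zpowers u : Set G))
  rw [show pairCoeff (⟨Subgroup.zpowers u, f⟩ : BrauerPairIdx G) 1 = blockCoeff f 1 from
    subgroupBlockCoeff_coe f 1]
  exact blockCoeff_apply_one_ne_zero (below_isBrauerPair hf hc).2

open scoped Classical in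
/-- The number of conjugating elements between pairs of conjugate sections. -/
theorem card_conj_pairBelow (hpM : (p : AlgInt) ∈ M) (hc : IsBrauerPair p M P c) {u v g₀ : G}
    (hu : u ∈ P) (hg : g₀ * u * g₀⁻¹ = v)
    (hg' : conjPair g₀ (pairBelow p M ⟨P, c⟩ u) = pairBelow p M ⟨P, c⟩ v) :
    (univ.filter fun g : G => g * u * g⁻¹ = v ∧
        conjPair g (pairBelow p M ⟨P, c⟩ u) = pairBelow p M ⟨P, c⟩ v).card =
      Nat.card (Subgroup.centralizer (Subgroup.zpowers u : Set G)) := by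
  obtain ⟨f, hf⟩ := exists_below (b := ⟨P, c⟩) hpM hc _ (Subgroup.zpowers_le.2 hu)
  have hfb : IsPBlock M f := (below_isBrauerPair hf hc).2
  rw [← eq_pairBelow (c := (⟨P, c⟩ : BrauerPairIdx G)) (a := ⟨Subgroup.zpowers u, f⟩) hpM hc hf rfl]
    at hg' ⊢
  rw [← Fintype.card_subtype, ← Nat.card_eq_fintype_card]
  refine (Nat.card_congr (Equiv.subtypeEquiv (Equiv.mulLeft g₀) fun g => ?_)).symm
  simp only [Equiv.coe_mulLeft]
  constructor
  · intro h
    refine ⟨?_, ?_⟩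
    · rw [show g₀ * g * u * (g₀ * g)⁻¹ = g₀ * (g * u * g⁻¹) * g₀⁻¹ by group,
        ← Subgroup.mem_centralizer_iff.1 h u (Subgroup.mem_zpowers u), mul_inv_cancel_right, hg]
    · rw [← conjPair_mul, show conjPair g _ = _ from centralizer_le_stabPair hfb h, hg']
  · rintro ⟨h, -⟩
    refine (mem_centralizer_zpowers_iff u g).2 ?_
    have h1 : g * u * g⁻¹ = u := by
      calc g * u * g⁻¹ = g₀⁻¹ * (g₀ * g * u * (g₀ * g)⁻¹) * g₀ := by group
        _ = g₀⁻¹ * (g₀ * u * g₀⁻¹) * g₀ := by rw [h, hg]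
        _ = u := by group
    exact mul_inv_eq_iff_eq_mul.1 h1

/-- The characters of a nilpotent block with abelian defect group on its sections. -/
theorem exists_local_homs (hpM : (p : AlgInt) ∈ M) (hnil : IsNilpotentBlock p M B)
    (hmax : IsMaximalBrauerPair p M B P c) (hab : ∀ x ∈ P, ∀ y ∈ P, x * y = y * x)
    {θ : IrrCharacter G} (hθ : θ ∈ B) (h0 : blockHeight p B (θ : G → ℂ) = 0) :
    Nat.card B = Nat.card P ∧ ∀ η ∈ B, ∃ l : P →* ℂˣ, ∀ (u : P) (y : G), Commute (u : G) y →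
      ¬ p ∣ orderOf y →
      secVal (pairBelow p M ⟨P, c⟩ (u : G)) (η : G → ℂ) ((u : G) * y) =
        (l u : ℂ) * secVal (pairBelow p M ⟨P, c⟩ (u : G)) (θ : G → ℂ) ((u : G) * y) := by
  classical
  haveI := Fintype.ofFinite P
  haveI := irrFintype P
  haveI := irrFintype G
  have hA : ∀ a b : P, a * b = b * a := fun a b => Subtype.ext (hab a a.2 b b.2)
  have hmax' : IsMaximalBrauerPair p M B (⟨P, c⟩ : BrauerPairIdx G).1
    (⟨P, c⟩ : BrauerPairIdx G).2 := hmax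
  have hstab := fun ψ : IrrCharacter P =>
    isPairStable_of_nilpotent hpM hmax hnil (isClassFunction_irr ψ)
  have hirr : ∀ ψ : IrrCharacter P,
      IsIrrCharacter G (starFun M p ⟨P, c⟩ (extFun P (ψ : P → ℂ)) (θ : G → ℂ)) := by
    intro ψ
    refine irr_of_norm_one (isGeneralized_starFun hpM hmax' (hstab ψ) ?_ θ) ?_ ?_
    · refine ⟨(ψ : P → ℂ), 0, isCharacter_of_irr ψ.2, isCharacter_zero, ?_⟩
      funext u
      simp [extFun_coe]
    · rw [inner_star_eq hpM hnil hmax (isClassFunction_irr ψ) (isClassFunction_irr ψ) hθ h0,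
        inner_irr_self]
    · rw [starFun_regular hpM hmax' hθ (by simp [(Fact.out : p.Prime).not_dvd_one]),
        show (1 : G) = ((1 : P) : G) from rfl, extFun_coe, irr_one_of_comm hA, one_mul,
        Subgroup.coe_one, irr_apply_one θ]
      norm_cast
      exact Nat.zero_le _
  have hmemB : ∀ ψ, (⟨_, hirr ψ⟩ : IrrCharacter G) ∈ B := fun ψ => by
    by_contra h
    have h' := inner_starFun_eq_zero (η := extFun P (ψ : P → ℂ)) hpM hmax' θ h
    rw [inner_irr_self ⟨_, hirr ψ⟩] at h'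
    exact one_ne_zero h'
  let Φ : IrrCharacter P → B := fun ψ => ⟨⟨_, hirr ψ⟩, hmemB ψ⟩
  have hΦval : ∀ ψ, ((Φ ψ : IrrCharacter G) : G → ℂ) =
      starFun M p ⟨P, c⟩ (extFun P (ψ : P → ℂ)) (θ : G → ℂ) := fun _ => rfl
  have hinj : Function.Injective Φ := fun ψ ψ' h => by
    have hi := inner_star_eq hpM hnil hmax (isClassFunction_irr ψ) (isClassFunction_irr ψ') hθ h0
    rw [← hΦval ψ, ← hΦval ψ', h, inner_irr_self, inner_irr] at hi
    by_contra hne
    rw [if_neg hne] at hi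
    exact one_ne_zero hi
  obtain ⟨Ψ, -⟩ := nilpotent_parametrisation hpM hnil hmax hθ h0
  haveI : Fintype B := Fintype.ofFinite B
  have hsurj : Function.Surjective Φ :=
    ((Fintype.bijective_iff_injective_and_card Φ).2 ⟨hinj, Fintype.card_congr Ψ⟩).2
  refine ⟨by rw [← Nat.card_congr Ψ, card_irrCharacter_of_comm hA], fun η hη => ?_⟩
  obtain ⟨ψ, hψ⟩ := hsurj ⟨η, hη⟩
  refine ⟨MonoidHom.toHomUnits ⟨⟨(ψ : P → ℂ), irr_one_of_comm hA ψ⟩, irr_mul_of_comm hA ψ⟩,
    fun u y hy hyr => ?_⟩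
  rw [show (η : G → ℂ) = starFun M p ⟨P, c⟩ (extFun P (ψ : P → ℂ)) (θ : G → ℂ) by
      rw [← hΦval, hψ],
    secVal_starFun hpM (hstab ψ) (isClassFunction_irr θ) hy
      (exists_pow_eq_one_of_mem hmax.1.1.1 u.2) hyr (pairBelow_mem (c := ⟨P, c⟩) hpM hmax.1.1 u.2),
    pairWeight_eq (hstab ψ) (s := (u : G)) (x := 1)
      (by rw [pairBelow_fst]; exact Subgroup.mem_zpowers _)
      (by rw [conjPair_one]; exact pairBelow_below (c := ⟨P, c⟩) hpM hmax.1.1 u.2)]
  rw [one_mul, inv_one, mul_one, extFun_coe]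
  rfl

open scoped Classical in
/-- **The columns**: generalized characters of `P` describing the sections of the block. -/
theorem exists_columns_of_local (hpM : (p : AlgInt) ∈ M) (hmax : IsMaximalBrauerPair p M B P c)
    (hab : ∀ x ∈ P, ∀ y ∈ P, x * y = y * x)
    (hfree : ∀ g ∈ stabPair ⟨P, c⟩, ∀ x ∈ P, x ≠ 1 → g * x * g⁻¹ = x →
      g ∈ Subgroup.centralizer (P : Set G))
    {K : Subgroup G} [Fintype K] (hPK : P ≤ K) (hCP : Subgroup.centralizer (P : Set G) ≤ K)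
    (hCu : ∀ u ∈ P, u ≠ 1 → Subgroup.centralizer (Subgroup.zpowers u : Set G) ≤ K)
    {f : Set (IrrCharacter K)} (hnil : IsNilpotentBlock p M f)
    (hmaxK : IsMaximalBrauerPair p M f (P.subgroupOf K) (relBlock hPK hCP c))
    (hfst : ∀ g ∈ stabPair ⟨P, c⟩, StabilizesBlock K f g)
    (hcop : Nat.Coprime (Nat.card (inertia c)) (Nat.card P))
    [Fintype P] [Fintype {χ : IrrCharacter G // χ ∈ B}] :
    ∃ (ξ : {χ : IrrCharacter G // χ ∈ B} → P → ℂ) (V : P → G → ℂ),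
      (∀ i, IsGeneralizedCharacter P (ξ i)) ∧
      (∀ u v : P, u ≠ 1 → v ≠ 1 → ∑ i, ξ i u * conj (ξ i v) = (Nat.card P : ℂ) *
        ((univ.filter fun σ : inertia c => (σ : MulAut P) u = v).card : ℂ)) ∧
      (∀ i (u : P), u ≠ 1 → ∀ y : G, Commute (u : G) y → ¬ p ∣ orderOf y →
        secVal (pairBelow p M ⟨P, c⟩ (u : G)) (i.1 : G → ℂ) ((u : G) * y) =
          ξ i u * V u ((u : G) * y)) ∧
      ∀ u : P, u ≠ 1 → V u (u : G) ≠ 0 := by
  haveI := irrFintype G
  haveI := irrFintype K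
  have hc : IsBrauerPair p M P c := hmax.1.1
  set φ := (Subgroup.subgroupOfEquivOfLe hPK).symm with hφ
  have habK : ∀ x ∈ P.subgroupOf K, ∀ y ∈ P.subgroupOf K, x * y = y * x :=
    fun x hx y hy => Subtype.ext (hab _ hx _ hy)
  obtain ⟨θ, hθ, h0⟩ := exists_blockHeight_eq_zero (p := p) hnil.1
  obtain ⟨hcardf, hl⟩ := exists_local_homs hpM hnil hmaxK habK hθ h0
  -- the values in `K`
  let W : P → (K → ℂ) → G → ℂ := fun u η g => if hg : g ∈ K then
    secVal (pairBelow p M (⟨P.subgroupOf K, relBlock hPK hCP c⟩ : BrauerPairIdx K) ⟨u, hPK u.2⟩) η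
      ⟨g, hg⟩ else 0
  have hWK : ∀ (u : P) η (g : K), W u η (g : G) =
      secVal (pairBelow p M (⟨P.subgroupOf K, relBlock hPK hCP c⟩ : BrauerPairIdx K) ⟨u, hPK u.2⟩)
        η g := fun u η g => by simp only [W, dif_pos g.2, Subtype.coe_eta]
  have hWG : ∀ (u : P), u ≠ 1 → ∀ η (g : K), W u η (g : G) =
      ∑ h : K, pairCoeff (pairBelow p M ⟨P, c⟩ (u : G)) (h : G) * η (h * g) := fun u hu η g => by
    rw [hWK, secVal]
    exact Finset.sum_congr rfl fun h _ => by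
      rw [pairCoeff_pairBelow_rel hpM hc hab hPK hCP u.2 (hCu u u.2 fun h => hu (Subtype.ext h))]
  obtain ⟨lam, hlam⟩ : ∃ lam : IrrCharacter K → P →* ℂˣ, ∀ η ∈ f, ∀ (u : P) (y : K),
      Commute ((⟨u, hPK u.2⟩ : K)) y → ¬ p ∣ orderOf y →
      W u (η : K → ℂ) ((u : G) * y) = (lam η u : ℂ) * W u (θ : K → ℂ) ((u : G) * y) := by
    choose l hl' using hl
    refine ⟨fun η => if h : η ∈ f then (l η h).comp φ.toMonoidHom else 1, fun η hη u y hy hyr => ?_⟩
    have h := hl' η hη (φ u) y hy hyr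
    rw [show (u : G) * y = ((⟨u, hPK u.2⟩ * y : K) : G) from rfl, hWK, hWK]
    simp only [dif_pos hη]
    exact h
  have hlam1 : ∀ η ∈ f, ∀ u : P, W u (η : K → ℂ) (u : G) = (lam η u : ℂ) * W u (θ : K → ℂ) u :=
    fun η hη u => by
    have h := hlam η hη u 1 (Commute.one_right _)
      (by rw [orderOf_one]; exact (Fact.out : p.Prime).not_dvd_one)
    rwa [Subgroup.coe_one, mul_one] at h
  -- orthogonality in `K`
  have hnorm : ∀ (l : P →* ℂˣ) (u : P), (l u : ℂ) * conj (l u : ℂ) = 1 := fun l u =>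
    norm_linExt l u
  have hlocal : ∀ u : P, u ≠ 1 →
      (Nat.card P : ℂ) * (W u (θ : K → ℂ) u * conj (W u (θ : K → ℂ) u)) =
        (Nat.card (Subgroup.centralizer (Subgroup.zpowers (u : G) : Set G)) : ℂ) *
          pairCoeff (pairBelow p M ⟨P, c⟩ (u : G)) 1 := by
    intro u hu
    have hC := hCu u u.2 fun h => hu (Subtype.ext h)
    have h := sum_secVal_pairBelow hpM hmaxK (u := (⟨u, hPK u.2⟩ : K)) (v := ⟨u, hPK u.2⟩)
      (Subgroup.mem_subgroupOf.2 u.2) (Subgroup.mem_subgroupOf.2 u.2)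
    rw [card_conj_pairBelow (g₀ := 1) hpM hmaxK.1.1 (Subgroup.mem_subgroupOf.2 u.2) (by simp)
      (conjPair_one _), pairCoeff_pairBelow_rel hpM hc hab hPK hCP u.2 hC,
      ← zpowers_subgroupOf, Subgroup.coe_one,
      Nat.card_congr (relIso ((Subgroup.zpowers_le.2 u.2).trans hPK) hC).toEquiv] at h
    rw [← h, ← hcardf.trans (Nat.card_congr φ.toEquiv).symm,
      Nat.card_eq_fintype_card, Fintype.card_subtype, ← nsmul_eq_mul, ← Finset.sum_const]
    refine Finset.sum_congr (by ext; simp) fun η hη => ?_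
    have hη' : η ∈ f := by simpa using hη
    rw [← hWK, hlam1 η hη' u, map_mul, mul_mul_mul_comm, hnorm, one_mul]
  have hne : ∀ u : P, u ≠ 1 → W u (θ : K → ℂ) u ≠ 0 := fun u hu h0 => by
    have h := hlocal u hu
    rw [h0, zero_mul, mul_zero] at h
    exact mul_ne_zero (Nat.cast_ne_zero.2 Nat.card_pos.ne')
      (pairCoeff_pairBelow_one_ne_zero hpM hc u.2) h.symm
  -- the inertial group permutes the values
  have hσ1 : ∀ (σ : inertia c) (u : P), u ≠ 1 → (σ : MulAut P) u ≠ 1 := fun σ u hu h =>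
    hu ((σ : MulAut P).injective (by rw [h, map_one]))
  have hmu : ∀ σ : inertia c, ∃ μ : P →* ℂˣ, ∀ u : P, u ≠ 1 →
      W ((σ : MulAut P) u) (θ : K → ℂ) (((σ : MulAut P) u : P) : G) =
        (μ u : ℂ) * W u (θ : K → ℂ) u := by
    intro σ
    obtain ⟨g, hg, hgu⟩ := mem_inertia.1 σ.2
    have hgK := (hfst g⁻¹ (inv_mem hg)).1
    obtain ⟨θ', hθ', hθθ'⟩ := (hfst g⁻¹ (inv_mem hg)).2 θ hθ
    refine ⟨lam θ', fun u hu => ?_⟩
    rw [← hlam1 θ' hθ' u,
      show (((σ : MulAut P) u : P) : G) = ((⟨((σ : MulAut P) u : P), hPK ((σ : MulAut P) u).2⟩ : K) : G)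
        from rfl, hWG _ (hσ1 σ u hu),
      show ((u : P) : G) = ((⟨u, hPK u.2⟩ : K) : G) from rfl, hWG _ hu]
    have hpair : conjPair g (pairBelow p M ⟨P, c⟩ (u : G)) =
        pairBelow p M ⟨P, c⟩ (((σ : MulAut P) u : P) : G) := by
      refine eq_pairBelow (c := (⟨P, c⟩ : BrauerPairIdx G)) hpM hc ?_ ?_
      · have h := below_conj (pairBelow_below (c := ⟨P, c⟩) hpM hc u.2) g
        rwa [show conjPair g (⟨P, c⟩ : BrauerPairIdx G) = ⟨P, c⟩ from hg] at h
      · show (pairBelow p M ⟨P, c⟩ (u : G)).1.map _ = _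
        rw [pairBelow_fst, map_zpowers_conj, hgu]
    rw [← hpair]
    have hgK' : ∀ x, g⁻¹ * x * g⁻¹⁻¹ ∈ K ↔ x ∈ K := conj_mem_iff_of_mem_normalizer hgK
    refine Fintype.sum_equiv (conjIso g⁻¹ hgK').toEquiv _ _ fun h => ?_
    show _ = pairCoeff _ ((conjIso g⁻¹ hgK' h : K) : G) * _
    rw [pairCoeff_conjPair, coe_conjIso, inv_inv]
    congr 1
    refine (hθθ' _ _ ?_).symm
    show g⁻¹ * (h : G) * g⁻¹⁻¹ * (u : G) = g⁻¹ * ((h : G) * (((σ : MulAut P) u : P) : G)) * g⁻¹⁻¹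
    rw [hgu]
    group
  choose μ hμ using hmu
  have hcoc : ∀ (σ τ : inertia c) (u : P),
      μ (σ * τ) u = μ σ ((τ : MulAut P) u) * μ τ u := by
    intro σ τ u
    by_cases hu : u = 1
    · rw [hu, map_one, map_one, map_one, map_one, one_mul]
    refine Units.ext (mul_right_cancel₀ (hne u hu) ?_)
    rw [Units.val_mul, ← hμ (σ * τ) u hu, mul_assoc, ← hμ τ u hu, ← hμ σ _ (hσ1 τ u hu)]
    rfl
  -- a normalization fixed by the inertial group
  haveI : Fintype (inertia c) := Fintype.ofFinite _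
  obtain ⟨d, k, hdk⟩ : ∃ d k : ℕ, Fintype.card (inertia c) * d = Nat.card P * k + 1 := by
    rcases Nat.lt_or_ge 1 (Nat.card P) with h | h
    · obtain ⟨d, -, hd⟩ := Nat.exists_mul_mod_eq_one_of_coprime hcop h
      rw [Nat.card_eq_fintype_card (α := inertia c)] at hd
      exact ⟨d, Fintype.card (inertia c) * d / Nat.card P, by
        conv_lhs => rw [← Nat.div_add_mod (Fintype.card (inertia c) * d) (Nat.card P), hd]⟩
    · have h1 : Nat.card P = 1 := le_antisymm h Nat.card_pos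
      exact ⟨1, Fintype.card (inertia c) - 1, by
        rw [h1, mul_one, one_mul, Nat.sub_add_cancel Fintype.card_pos]⟩
  let Λ : P →* ℂˣ := (∏ σ : inertia c, μ σ) ^ d
  have hΛ : ∀ (τ : inertia c) (u : P), Λ ((τ : MulAut P) u) * μ τ u = Λ u := by
    intro τ u
    have hpow : μ τ u ^ (Fintype.card (inertia c) * d) = μ τ u := by
      rw [hdk, pow_succ, pow_mul, ← map_pow, pow_card_eq_one', map_one, one_pow, one_mul]
    simp only [Λ, MonoidHom.pow_apply, MonoidHom.finsetProd_apply]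
    conv_lhs => rw [← hpow, pow_mul, ← mul_pow, ← Finset.card_univ, ← Finset.prod_const,
      ← Finset.prod_mul_distrib, Finset.prod_congr rfl fun σ _ => (hcoc σ τ u).symm]
    exact congrArg (· ^ d) (Fintype.prod_equiv (Equiv.mulRight τ) _ _ fun σ => rfl)
  let r : P → ℂ := fun u => (Λ u : ℂ) * W u (θ : K → ℂ) u
  have hr : ∀ (τ : inertia c) (u : P), u ≠ 1 → r ((τ : MulAut P) u) = r u := by
    intro τ u hu
    simp only [r]
    rw [hμ τ u hu, ← mul_assoc, ← Units.val_mul, hΛ]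
  -- the columns
  choose n hn using fun (χ : IrrCharacter G) (η : IrrCharacter K) =>
    inner_irr_right_nat (isCharacter_restrict K (isCharacter_of_irr χ.2)) η
  let ξ : {χ : IrrCharacter G // χ ∈ B} → P → ℂ := fun i u =>
    ∑ η ∈ univ.filter (· ∈ f), (n i.1 η : ℂ) * ((lam η * Λ⁻¹) u : ℂ)
  have hcol : ∀ i (u : P), u ≠ 1 → ∀ y : G, Commute (u : G) y → ¬ p ∣ orderOf y →
      secVal (pairBelow p M ⟨P, c⟩ (u : G)) (i.1 : G → ℂ) ((u : G) * y) =
        ξ i u * ((Λ u : ℂ) * W u (θ : K → ℂ) ((u : G) * y)) := by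
    intro i u hu y hy hyr
    have hC := hCu u u.2 fun h => hu (Subtype.ext h)
    have hyK : y ∈ K := hC ((mem_centralizer_zpowers_iff _ y).2 hy.eq.symm)
    obtain ⟨y, rfl⟩ : ∃ y' : K, (y' : G) = y := ⟨⟨y, hyK⟩, rfl⟩
    have hy' : Commute (⟨u, hPK u.2⟩ : K) y := Subtype.ext hy.eq
    rw [Subgroup.orderOf_coe] at hyr
    have e1 : secVal (pairBelow p M ⟨P, c⟩ (u : G)) (i.1 : G → ℂ) ((u : G) * y) =
        ∑ h : K, pairCoeff (pairBelow p M ⟨P, c⟩ (u : G)) (h : G) *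
          (i.1 : G → ℂ) ((h * (⟨u, hPK u.2⟩ * y) : K) : G) := by
      rw [secVal]
      refine (Finset.sum_bij_ne_zero (fun (h : K) _ _ => (h : G)) (fun _ _ _ => mem_univ _)
        (fun a _ _ b _ _ h => Subtype.ext h) (fun w _ hw => ?_) fun h _ _ => rfl).symm
      have hwK : w ∈ K := by
        by_contra hwK
        refine hw (mul_eq_zero_of_left ?_ _)
        obtain ⟨b, hb⟩ := exists_below (b := ⟨P, c⟩) hpM hc _ (Subgroup.zpowers_le.2 u.2)
        rw [← eq_pairBelow (c := (⟨P, c⟩ : BrauerPairIdx G)) (a := ⟨Subgroup.zpowers (u : G), b⟩)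
          hpM hc hb rfl]
        exact subgroupBlockCoeff_of_notMem _ fun h => hwK (hC h)
      exact ⟨⟨w, hwK⟩, mem_univ _, hw, rfl⟩
    have hcl := isCharacter_restrict K (isCharacter_of_irr i.1.2)
    have hdec : ∀ h : K, (i.1 : G → ℂ) (h : G) =
        (∑ η : IrrCharacter K, classInner (fun h : K => (i.1 : G → ℂ) h) (η : K → ℂ) • (η : K → ℂ)) h :=
      fun h => congrFun (classFun_eq_sum (isClassFunction_of_isCharacter hcl)) h
    rw [e1, Finset.sum_congr rfl fun (h : K) _ => congrArg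
      (pairCoeff (pairBelow p M ⟨P, c⟩ (u : G)) (h : G) * ·) (hdec (h * (⟨u, hPK u.2⟩ * y)))]
    simp only [Finset.sum_apply, Pi.smul_apply, smul_eq_mul, Finset.mul_sum, hn]
    rw [Finset.sum_comm]
    simp only [ξ, Finset.sum_mul, Finset.sum_filter]
    refine Finset.sum_congr rfl fun η _ => ?_
    have e2 : ∀ h : K, pairCoeff (pairBelow p M ⟨P, c⟩ (u : G)) (h : G) *
        ((n i.1 η : ℂ) * (η : K → ℂ) (h * (⟨u, hPK u.2⟩ * y))) =
        (n i.1 η : ℂ) * (pairCoeff (pairBelow p M ⟨P, c⟩ (u : G)) (h : G) *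
          (η : K → ℂ) (h * (⟨u, hPK u.2⟩ * y))) := fun h => by ring
    rw [Finset.sum_congr rfl fun h _ => e2 h, ← Finset.mul_sum, ← hWG u hu]
    split_ifs with hη
    · rw [show ((⟨u, hPK u.2⟩ * y : K) : G) = (u : G) * y from rfl, hlam η hη u y hy' hyr,
        MonoidHom.mul_apply, MonoidHom.inv_apply, Units.val_mul, Units.val_inv_eq_inv_val]
      have : ((Λ u : ℂˣ) : ℂ) ≠ 0 := Units.ne_zero _
      field_simp
    · rw [zero_mul]
      refine mul_eq_zero_of_right _ ?_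
      rw [hWK]
      have hpair := pairBelow_mem (c := (⟨P.subgroupOf K, relBlock hPK hCP c⟩ : BrauerPairIdx K))
        (u := (⟨u, hPK u.2⟩ : K)) hpM hmaxK.1.1 (Subgroup.mem_subgroupOf.2 u.2)
      refine secVal_eq_zero hpM (isPBlock_blockOf η) (mem_blockOf_self η) hy'
        (exists_pow_eq_one_of_mem hmaxK.1.1.1 (Subgroup.mem_subgroupOf.2 u.2)) hyr hpair fun h => ?_
      have hbel := pairBelow_below (c := (⟨P.subgroupOf K, relBlock hPK hCP c⟩ : BrauerPairIdx K))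
        (u := (⟨u, hPK u.2⟩ : K)) hpM hmaxK.1.1 (Subgroup.mem_subgroupOf.2 u.2)
      have h' := (existsUnique_block_of_pair hpM h.1).unique h
        ((isBrauerPairOf_iff_of_below hpM hbel f).2 hmaxK.1)
      exact hη (h' ▸ mem_blockOf_self η)
  refine ⟨ξ, fun u g => (Λ u : ℂ) * W u (θ : K → ℂ) g, fun i => ?_, fun u v hu hv => ?_, hcol,
    fun u hu => mul_ne_zero (Λ u).ne_zero (hne u hu)⟩
  · refine isGeneralized_iff_inner.2 ⟨fun x g => ?_, fun l => ?_⟩
    · congr 1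
      refine Subtype.ext ?_
      push_cast
      rw [hab _ g.2 _ x.2, mul_inv_cancel_right]
    have hexp : ξ i = ∑ η ∈ univ.filter (· ∈ f),
        (n i.1 η : ℂ) • ((linearEquiv P (lam η * Λ⁻¹)).1 : P → ℂ) := by
      funext u
      simp only [ξ, Finset.sum_apply, Pi.smul_apply, smul_eq_mul, linearEquiv_apply]
    rw [hexp, Chars.inner_sum_left]
    refine Finset.sum_induction _ (fun z : ℂ => ∃ m : ℤ, z = m)
      (fun _ _ ⟨m, hm⟩ ⟨m', hm'⟩ => ⟨m + m', by rw [hm, hm']; push_cast; rfl⟩) ⟨0, by simp⟩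
      fun η _ => ?_
    rw [Chars.inner_smul_left, inner_irr]
    split_ifs
    · exact ⟨n i.1 η, by simp⟩
    · exact ⟨0, by simp⟩
  · have hcol1 : ∀ i (w : P), w ≠ 1 →
        secVal (pairBelow p M ⟨P, c⟩ (w : G)) (i.1 : G → ℂ) (w : G) = ξ i w * r w := fun i w hw => by
      have h := hcol i w hw 1 (Commute.one_right _)
        (by rw [orderOf_one]; exact (Fact.out : p.Prime).not_dvd_one)
      rwa [mul_one] at h
    have h := sum_secVal_pairBelow hpM hmax u.2 v.2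
    rw [Finset.sum_subtype (p := (· ∈ B)) (univ.filter (· ∈ B)) (fun x => by simp)] at h
    simp only [hcol1 _ u hu, hcol1 _ v hv, map_mul, mul_mul_mul_comm (ξ _ u) (r u),
      ← Finset.sum_mul] at h
    have hrne : ∀ w : P, w ≠ 1 → r w ≠ 0 := fun w hw => mul_ne_zero (Λ w).ne_zero (hne w hw)
    refine mul_right_cancel₀ (mul_ne_zero (hrne u hu)
      ((map_ne_zero _).2 (hrne v hv))) (h.trans ?_)
    have key : ∀ σ : inertia c, (σ : MulAut P) u = v →
        ∃ g, g * (u : G) * g⁻¹ = v ∧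
          conjPair g (pairBelow p M ⟨P, c⟩ (u : G)) = pairBelow p M ⟨P, c⟩ (v : G) := by
      intro σ hσ
      obtain ⟨g, hg, hgu⟩ := mem_inertia.1 σ.2
      have hgv : g * (u : G) * g⁻¹ = v := by rw [← hgu, hσ]
      refine ⟨g, hgv, eq_pairBelow (c := (⟨P, c⟩ : BrauerPairIdx G)) hpM hc ?_ ?_⟩
      · have h := below_conj (pairBelow_below (c := ⟨P, c⟩) hpM hc u.2) g
        rwa [show conjPair g (⟨P, c⟩ : BrauerPairIdx G) = ⟨P, c⟩ from hg] at h
      · show (pairBelow p M ⟨P, c⟩ (u : G)).1.map _ = _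
        rw [pairBelow_fst, map_zpowers_conj, hgv]
    by_cases hex : ∃ g, g * (u : G) * g⁻¹ = v ∧
        conjPair g (pairBelow p M ⟨P, c⟩ (u : G)) = pairBelow p M ⟨P, c⟩ (v : G)
    swap
    · rw [Finset.filter_false_of_mem (fun g _ hg => hex ⟨g, hg⟩),
        Finset.filter_false_of_mem fun σ _ hσ => hex (key σ hσ)]
      simp
    obtain ⟨g₀, hg₀, hg₀'⟩ := hex
    -- the conjugation is realized in the inertial group
    obtain ⟨b, hb⟩ := exists_below (b := ⟨P, c⟩) hpM hc _ (Subgroup.zpowers_le.2 u.2)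
    have hbu := eq_pairBelow (c := (⟨P, c⟩ : BrauerPairIdx G)) (a := ⟨Subgroup.zpowers (u : G), b⟩)
      hpM hc hb rfl
    obtain ⟨w, hw, hwT⟩ := exists_centralizer_conj_of_below hpM hmax hab hb (x := g₀⁻¹) (by
      have h1 := below_conj (pairBelow_below (c := ⟨P, c⟩) hpM hc v.2) g₀⁻¹
      rwa [← hg₀', conjPair_mul, inv_mul_cancel, conjPair_one, ← hbu] at h1)
    have hT : g₀ * w⁻¹ ∈ stabPair ⟨P, c⟩ := by
      have := inv_mem hwT
      rwa [mul_inv_rev, inv_inv] at this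
    have hwu : g₀ * w⁻¹ * (u : G) * (g₀ * w⁻¹)⁻¹ = v := by
      have h1 := Subgroup.mem_centralizer_iff.1 hw (u : G) (Subgroup.mem_zpowers _)
      calc g₀ * w⁻¹ * (u : G) * (g₀ * w⁻¹)⁻¹ = g₀ * (w⁻¹ * ((u : G) * w)) * g₀⁻¹ := by group
        _ = g₀ * (w⁻¹ * (w * (u : G))) * g₀⁻¹ := by rw [h1]
        _ = v := by rw [inv_mul_cancel_left, hg₀]
    let σ₀ : inertia c := ⟨P.normalizerMonoidHom ⟨_, stabPair_le_normalizer _ hT⟩,
      ⟨⟨_, stabPair_le_normalizer _ hT⟩, hT, rfl⟩⟩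
    have hσ₀ : (σ₀ : MulAut P) u = v := Subtype.ext hwu
    have hone : ∀ s : Finset (inertia c), (∀ σ, σ ∈ s ↔ (σ : MulAut P) u = v) → s.card = 1 := by
      intro s hs
      refine Finset.card_eq_one.2 ⟨σ₀, Finset.eq_singleton_iff_unique_mem.2
        ⟨(hs _).2 hσ₀, fun σ hσ => ?_⟩⟩
      obtain ⟨g, hg, hgu⟩ := mem_inertia.1 (mul_mem (inv_mem σ₀.2) σ.2)
      have h1 : ((σ₀ : MulAut P)⁻¹ * (σ : MulAut P)) u = u := by
        rw [MulAut.mul_apply, (hs _).1 hσ, ← hσ₀, MulAut.inv_apply_self]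
      have h2 := hfree g hg u u.2 (fun h => hu (Subtype.ext h)) (by rw [← hgu, h1])
      refine Subtype.ext (inv_mul_eq_one.1 (MulEquiv.ext fun z => Subtype.ext ?_)).symm
      rw [hgu, ← Subgroup.mem_centralizer_iff.1 h2 z z.2, mul_inv_cancel_right]
      rfl
    rw [hone _ (fun σ => by simp), card_conj_pairBelow hpM hc u.2 hg₀ hg₀', ← hlocal u hu, Nat.cast_one, mul_one,
      show r v = r u by rw [← hσ₀, hr σ₀ u hu]]
    congr 1
    simp only [r, map_mul]
    rw [mul_mul_mul_comm, hnorm, one_mul]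

end CfsgLib.Blocks
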