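import Cfsg.Agent.Lib.Blocks.StarFun
import Cfsg.Agent.Lib.BlockOrth.RankOne
import Cfsg.Agent.Lib.BlockOrth.SubsectionLattice

/-!
# The columns of subsections with one Brauer character
-/

set_option linter.unusedSectionVars false
set_option linter.style.haveILetI false

namespace CfsgLib.Blocks

open Cfsg Chars BlockOrth Finset
open scoped ComplexConjugate

universe u

variable {G : Type u} [Group G] [Fintype G] {M : Ideal AlgInt} [M.IsPrime] {p : ℕ} [Fact p.Prime]

/-- Orthogonality of block idempotents as functions. -/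
theorem sum_blockCoeff_mul_conj {H : Type*} [Group H] [Fintype H] {b b' : Set (IrrCharacter H)}
    (hb : IsPBlock M b) (hb' : IsPBlock M b') [Decidable (b = b')] :
    ∑ h : H, blockCoeff b h * conj (blockCoeff b' h) = if b = b' then blockCoeff b 1 else 0 := by
  classical
  haveI := irrFintype H
  have hN : (Nat.card H : ℂ) ≠ 0 := Chars.card_ne_zero H
  have hterm : ∀ χ ψ : IrrCharacter H, ∑ h : H, idemCoeff (χ : H → ℂ) h *
      conj (idemCoeff (ψ : H → ℂ) h) = if χ = ψ then idemCoeff (χ : H → ℂ) 1 else 0 := by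
    intro χ ψ
    obtain ⟨n, -, hn⟩ := irr_degree_nat χ.2
    obtain ⟨m, -, hm⟩ := irr_degree_nat ψ.2
    have e : ∑ h : H, idemCoeff (χ : H → ℂ) h * conj (idemCoeff (ψ : H → ℂ) h) =
        (Nat.card H : ℂ)⁻¹ * ((χ : H → ℂ) 1 * (ψ : H → ℂ) 1) *
          classInner (ψ : H → ℂ) (χ : H → ℂ) := by
      rw [inner_def, Finset.mul_sum, Finset.mul_sum]
      refine Finset.sum_congr rfl fun h _ => ?_
      simp only [idemCoeff, map_mul, map_inv₀, map_natCast, Complex.conj_conj, hm]
      ring
    rw [e, inner_irr]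
    by_cases h : χ = ψ
    · subst h
      rw [if_pos rfl, if_pos rfl, idemCoeff, hn, map_natCast, mul_one]
    · rw [if_neg h, if_neg (Ne.symm h), mul_zero]
  simp only [blockCoeff_eq, map_sum, map_mul, Finset.sum_mul_sum]
  rw [Finset.sum_comm, Finset.sum_congr rfl fun χ _ => Finset.sum_comm]
  simp only [mul_mul_mul_comm _ (idemCoeff _ _), ← Finset.mul_sum, hterm, mul_ite, mul_zero,
    Finset.sum_ite_eq, mem_univ, if_true]
  split_ifs with hbb
  · subst hbb
    refine Finset.sum_congr rfl fun χ _ => ?_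
    split_ifs <;> simp
  · refine Finset.sum_eq_zero fun χ _ => ?_
    split_ifs with h1 h2
    · exact absurd (IsPBlock.eq_of_mem hb hb' h1 h2) hbb
    all_goals simp

theorem mem_pairsAt_of_pair {B : Set (IrrCharacter G)} {x : G}
    {b : Set (IrrCharacter (Subgroup.centralizer (Subgroup.zpowers x : Set G)))}
    (h : IsBrauerPairOf p M B (Subgroup.zpowers x) b) :
    (⟨Subgroup.zpowers x, b⟩ : BrauerPairIdx G) ∈ pairsAt M x :=
  mem_pairsAt.2 ⟨rfl, h.1.2⟩

open scoped Classical in
/-- Orthogonality of the columns of two subsections of a block. -/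
theorem sum_secVal_mul_conj (hpM : (p : AlgInt) ∈ M) {B : Set (IrrCharacter G)} {x x' : G}
    (hx : ∃ k : ℕ, x ^ p ^ k = 1) (hx' : ∃ k : ℕ, x' ^ p ^ k = 1)
    {b : Set (IrrCharacter (Subgroup.centralizer (Subgroup.zpowers x : Set G)))}
    {b' : Set (IrrCharacter (Subgroup.centralizer (Subgroup.zpowers x' : Set G)))}
    (hb : IsBrauerPairOf p M B (Subgroup.zpowers x) b)
    (hb' : IsBrauerPairOf p M B (Subgroup.zpowers x') b') [Fintype (IrrCharacter G)] :
    ∑ χ ∈ univ.filter (· ∈ B), secVal ⟨Subgroup.zpowers x, b⟩ (χ : G → ℂ) x *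
        conj (secVal ⟨Subgroup.zpowers x', b'⟩ (χ : G → ℂ) x') =
      ((univ.filter fun g : G => g * x * g⁻¹ = x' ∧
          conjPair g ⟨Subgroup.zpowers x, b⟩ = (⟨Subgroup.zpowers x', b'⟩ : BrauerPairIdx G)).card :
            ℂ) * blockCoeff b 1 := by
  haveI := Fintype.ofFinite (Subgroup.centralizer (Subgroup.zpowers x : Set G))
  have h1 : ¬ p ∣ orderOf (1 : G) := by simp [(Fact.out : p.Prime).ne_one]
  -- all characters may be summed
  rw [Finset.sum_filter_of_ne (s := univ) fun χ _ hne => ?_]
  swap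
  · by_contra hχ
    refine hne ?_
    have h := secVal_eq_zero (B := blockOf M (χ : G → ℂ)) hpM (isPBlock_blockOf χ)
      (mem_blockOf_self χ) (Commute.one_right x) hx h1 (mem_pairsAt_of_pair hb) fun h =>
      hχ ((existsUnique_block_of_pair hpM hb.1).unique hb h ▸ mem_blockOf_self χ)
    rw [mul_one] at h
    rw [h, zero_mul]
  obtain ⟨a, ha⟩ : ∃ a : G → ℂ, a = pairCoeff ⟨Subgroup.zpowers x, b⟩ := ⟨_, rfl⟩
  obtain ⟨a', ha'⟩ : ∃ a' : G → ℂ, a' = pairCoeff ⟨Subgroup.zpowers x', b'⟩ := ⟨_, rfl⟩
  have hsupp : ∀ {y : G} {c : Set (IrrCharacter (Subgroup.centralizer (Subgroup.zpowers y : Set G)))},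
      IsPBlock M c → ∀ w, pairCoeff ⟨Subgroup.zpowers y, c⟩ w ≠ 0 →
        Commute y w ∧ ¬ p ∣ orderOf w := by
    intro y c hc w hw
    haveI := Fintype.ofFinite (Subgroup.centralizer (Subgroup.zpowers y : Set G))
    by_cases hwC : w ∈ Subgroup.centralizer (Subgroup.zpowers y : Set G)
    · refine ⟨Subgroup.mem_centralizer_iff.1 hwC y (Subgroup.mem_zpowers y), fun hd => hw ?_⟩
      have := blockCoeff_eq_zero_of_dvd (Fact.out : p.Prime) hpM hc
        (y := (⟨w, hwC⟩ : Subgroup.centralizer (Subgroup.zpowers y : Set G)))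
        (by rwa [← Subgroup.orderOf_coe])
      rw [pairCoeff]
      rwa [show subgroupBlockCoeff (Subgroup.centralizer (Subgroup.zpowers y : Set G)) c w =
        blockCoeff c ⟨w, hwC⟩ from subgroupBlockCoeff_coe _ ⟨w, hwC⟩]
    · exact absurd (subgroupBlockCoeff_of_notMem _ hwC) hw
  calc ∑ χ : IrrCharacter G, secVal ⟨Subgroup.zpowers x, b⟩ (χ : G → ℂ) x *
        conj (secVal ⟨Subgroup.zpowers x', b'⟩ (χ : G → ℂ) x')
      = ∑ w : G, ∑ w' : G, a w * conj (a' w') *
          ∑ χ : IrrCharacter G, (χ : G → ℂ) (w * x) * conj ((χ : G → ℂ) (w' * x')) := by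
        simp only [secVal, ← ha, ← ha', map_sum, map_mul, Finset.sum_mul_sum]
        rw [Finset.sum_comm]
        refine Finset.sum_congr rfl fun w _ => ?_
        rw [Finset.sum_comm]
        refine Finset.sum_congr rfl fun w' _ => ?_
        rw [Finset.mul_sum]
        exact Finset.sum_congr rfl fun χ _ => by ring
    _ = ∑ w : G, ∑ w' : G, ∑ g : G,
          if g * x * g⁻¹ = x' ∧ g * w * g⁻¹ = w' then a w * conj (a' w') else 0 := by
        refine Finset.sum_congr rfl fun w _ => Finset.sum_congr rfl fun w' _ => ?_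
        by_cases h0 : a w = 0
        · simp [h0]
        by_cases h0' : a' w' = 0
        · simp [h0']
        obtain ⟨hcw, hw⟩ := hsupp hb.1.2 w (ha ▸ h0)
        obtain ⟨hcw', hw'⟩ := hsupp hb'.1.2 w' (ha' ▸ h0')
        have hiff : ∀ g : G, (g * (w * x) * g⁻¹ = w' * x') ↔
            g * x * g⁻¹ = x' ∧ g * w * g⁻¹ = w' := by
          refine fun g => ⟨fun h => ?_, fun h => by rw [← h.1, ← h.2]; group⟩
          rw [← hcw.eq, ← hcw'.eq] at h
          have h3 := congrArg (pPartElt p) h
          rw [pPartElt_conj, pPartElt_mul hcw hx hw, pPartElt_mul hcw' hx' hw'] at h3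
          refine ⟨h3, mul_left_cancel (a := x') ?_⟩
          conv_lhs => rw [← h3]
          rw [← h]; group
        rw [second_orthogonality, ← Finset.sum_filter, Finset.sum_const, nsmul_eq_mul,
          mul_comm (a w * conj (a' w'))]
        congr 1
        simp only [← hiff]
        split_ifs with hc
        · obtain ⟨g₀, hg₀⟩ := isConj_iff.1 hc.symm
          rw [Nat.cast_inj, ← Fintype.card_subtype, ← Nat.card_eq_fintype_card]
          refine Nat.card_congr (Equiv.subtypeEquiv (Equiv.mulLeft g₀) fun c => ?_)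
          show c ∈ _ ↔ g₀ * c * (w * x) * (g₀ * c)⁻¹ = w' * x'
          rw [Subgroup.mem_centralizer_singleton_iff, ← hg₀]
          constructor
          · intro e
            calc g₀ * c * (w * x) * (g₀ * c)⁻¹ = g₀ * (c * (w * x)) * c⁻¹ * g₀⁻¹ := by group
              _ = _ := by rw [e]; group
          · intro e
            calc c * (w * x) = g₀⁻¹ * (g₀ * c * (w * x) * (g₀ * c)⁻¹) * g₀ * c := by group
              _ = w * x * c := by rw [e]; group
        · rw [Finset.filter_false_of_mem fun g _ h => hc (IsConj.symm (isConj_iff.2 ⟨g, h⟩))]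
          simp
    _ = ∑ g : G, if g * x * g⁻¹ = x' then ∑ w : G, a w * conj (a' (g * w * g⁻¹)) else 0 := by
        rw [Finset.sum_congr rfl fun w _ => Finset.sum_comm, Finset.sum_comm]
        refine Finset.sum_congr rfl fun g _ => ?_
        split_ifs with hg
        · refine Finset.sum_congr rfl fun w _ => ?_
          simp [hg]
        · simp [hg]
    _ = _ := by
        rw [Finset.card_filter, Nat.cast_sum, Finset.sum_mul]
        refine Finset.sum_congr rfl fun g _ => ?_
        by_cases hg : g * x * g⁻¹ = x'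
        swap
        · simp [hg]
        rw [if_pos hg]
        have hmap : (Subgroup.zpowers x').map (MulAut.conj g⁻¹).toMonoidHom = Subgroup.zpowers x := by
          rw [map_zpowers_conj, ← hg]
          congr 1
          group
        obtain ⟨c, hc⟩ : ∃ c, conjPair g⁻¹ ⟨Subgroup.zpowers x', b'⟩ =
            (⟨Subgroup.zpowers x, c⟩ : BrauerPairIdx G) := by
          have hfst : (conjPair g⁻¹ ⟨Subgroup.zpowers x', b'⟩).1 = Subgroup.zpowers x := hmap
          generalize conjPair g⁻¹ ⟨Subgroup.zpowers x', b'⟩ = q at hfst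
          obtain ⟨Q', c⟩ := q
          obtain rfl : Q' = Subgroup.zpowers x := hfst
          exact ⟨c, rfl⟩
        have hcB : IsPBlock M c := by
          have := (isBrauerPair_conj (a := ⟨_, b'⟩) hb'.1 g⁻¹).2
          rw [hc] at this
          exact this
        have hcoef : ∀ w : G, a' (g * w * g⁻¹) = pairCoeff ⟨Subgroup.zpowers x, c⟩ w := fun w => by
          rw [ha', ← hc, pairCoeff_conjPair, inv_inv]
        have hequiv : (conjPair g ⟨Subgroup.zpowers x, b⟩ =
            (⟨Subgroup.zpowers x', b'⟩ : BrauerPairIdx G)) ↔ b = c := by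
          constructor
          · intro h
            rw [← h, conjPair_mul, inv_mul_cancel, conjPair_one] at hc
            cases hc
            rfl
          · rintro rfl
            rw [← hc, conjPair_mul, mul_inv_cancel, conjPair_one]
        simp only [hg, hequiv, true_and, hcoef]
        rw [ha, ← Finset.sum_filter_of_ne (p := (· ∈ Subgroup.centralizer (Subgroup.zpowers x : Set G)))
          (fun w _ hw => by_contra fun h => hw (by
            rw [pairCoeff, subgroupBlockCoeff_of_notMem _ h, zero_mul])),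
          Finset.sum_subtype (p := (· ∈ Subgroup.centralizer (Subgroup.zpowers x : Set G))) _
            (fun w => by simp)]
        simp only [pairCoeff, subgroupBlockCoeff_coe]
        rw [sum_blockCoeff_mul_conj hb.1.2 hcB]
        split_ifs <;> simp

/-- The coordinate of a character in a subsection with one Brauer character. -/
noncomputable def secCol {H : Subgroup G} [Fintype H] (x : H) (b : Set (IrrCharacter H))
    (d : IrrCharacter H → ℕ) (χ : G → ℂ) : ℂ :=
  ∑ᶠ η ∈ b, classInner (fun h : H => χ h) (η : H → ℂ) * centralScalar (η : H → ℂ) x * (d η : ℂ)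

/-- The part of a character in a subsection with one Brauer character. -/
theorem secVal_eq_secCol {x : G} [Fintype (Subgroup.centralizer (Subgroup.zpowers x : Set G))]
    {b : Set (IrrCharacter (Subgroup.centralizer (Subgroup.zpowers x : Set G)))}
    {φ : Subgroup.centralizer (Subgroup.zpowers x : Set G) → ℂ}
    {d : IrrCharacter (Subgroup.centralizer (Subgroup.zpowers x : Set G)) → ℕ}
    (hd : ∀ η ∈ b, ∀ y, ¬ p ∣ orderOf y →
      (η : Subgroup.centralizer (Subgroup.zpowers x : Set G) → ℂ) y = (d η : ℂ) * φ y)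
    (χ : IrrCharacter G) {y : Subgroup.centralizer (Subgroup.zpowers x : Set G)}
    (hy : ¬ p ∣ orderOf y) :
    secVal ⟨Subgroup.zpowers x, b⟩ (χ : G → ℂ) (x * (y : G)) =
      secCol ⟨x, Subgroup.mem_centralizer_iff.2 fun z hz => by
        obtain ⟨i, rfl⟩ := Subgroup.mem_zpowers_iff.1 hz
        exact (Commute.zpow_self x i).eq⟩ b d (χ : G → ℂ) * φ y := by
  classical
  have hH : ∀ c : G, c ∈ Subgroup.centralizer (Subgroup.zpowers x : Set G) ↔ c * x = x * c := by
    intro c
    rw [Subgroup.zpowers_eq_closure, Subgroup.centralizer_closure]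
    exact Subgroup.mem_centralizer_singleton_iff
  rw [secVal_eq_blockPart (isClassFunction_irr χ), blockPart, secCol, finsum_mem_mul]
  · refine finsum_mem_congr rfl fun η hη => ?_
    rw [inner_congr_inst, inner_secFun_eq hH, hd η hη y hy]
    ring

/-- At an involution the coordinate is an integer. -/
theorem secCol_involution {H : Subgroup G} [Fintype H] (x : H) (hx : x ∈ Subgroup.center H) (hx2 : x * x = 1)
    (b : Set (IrrCharacter H)) (d : IrrCharacter H → ℕ) (χ : IrrCharacter G) :
    ∃ m : ℤ, secCol x b d (χ : G → ℂ) = m := by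
  classical
  haveI := irrFintype H
  rw [secCol, finsum_mem_eq_sum_of_inter_support_eq (t := univ.filter (· ∈ b)) _ (by ext; simp)]
  refine Finset.sum_induction _ (fun z : ℂ => ∃ m : ℤ, z = m)
    (fun _ _ ⟨m, hm⟩ ⟨m', hm'⟩ => ⟨m + m', by rw [hm, hm']; push_cast; rfl⟩) ⟨0, by simp⟩
    fun η _ => ?_
  obtain ⟨m, hm⟩ := inner_irr_right_nat (isCharacter_restrict H (isCharacter_of_irr χ.2)) η
  have h := centralScalar_pow_eq_one η hx (N := 2) (by rw [sq, hx2])
  rcases sq_eq_one_iff.1 h with h' | h' <;> rw [h', inner_congr_inst, hm]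
  · exact ⟨m * d η, by push_cast; ring⟩
  · exact ⟨-(m * d η), by push_cast; ring⟩

end CfsgLib.Blocks
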