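import Cfsg.Agent.Lib.Blocks.ColSys
import Cfsg.Agent.Lib.Blocks.CyclicSections
import Cfsg.Agent.Lib.Blocks.SubsectionColumn

/-!
# The columns of the subsections of a block with abelian defect group

If every subsection of the nontrivial elements of an abelian defect group has one Brauer character,
the generalized decomposition numbers form a system of columns.
-/

set_option autoImplicit false
set_option linter.unusedSectionVars false
set_option linter.style.haveILetI false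

namespace CfsgLib.Blocks

open Cfsg Chars BlockOrth Finset
open scoped ComplexConjugate

universe u

variable {G : Type u} [Group G] [Fintype G] {M : Ideal AlgInt} [M.IsPrime] {p : ℕ} [Fact p.Prime]
  {B : Set (IrrCharacter G)} {P : Subgroup G}
  {c : Set (IrrCharacter (Subgroup.centralizer (P : Set G)))}

/-- A block idempotent has a coefficient outside the local ideal. -/
theorem exists_blockCoeff_notMem (hB : IsPBlock M B) :
    ∃ g : G, ¬ MemLocalIdeal M (blockCoeff B g) := by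
  classical
  by_contra hcon
  push Not at hcon
  haveI := Fintype.ofFinite (ConjClasses G)
  obtain ⟨ψ, hψ⟩ := IsPBlock.nonempty hB
  refine not_memLocalIdeal_one (M := M) ?_
  have h := omega_blockCoeff B ψ
  rw [if_pos hψ] at h
  rw [← h, omega_eq_sum_centralChar ψ (isClassFunction_blockCoeff B)]
  exact MemLocalIdeal.sum' fun C _ => MemLocalIdeal.mul_right' (hcon _) (centralChar_mem_loc ψ _)

/-- The degrees in a block of defect `d` are divisible by the `p`-part of the group order up to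
`p ^ d`. -/
theorem degree_mul_pow_div_mem_loc (hpM : (p : AlgInt) ∈ M) {ψ : IrrCharacter G} (hψ : ψ ∈ B) :
    (ψ : G → ℂ) 1 * ((p ^ blockDefect p B : ℕ) : ℂ) / (Nat.card G : ℂ) ∈ loc M := by
  have hp : p.Prime := Fact.out
  obtain ⟨m, hm, hcard⟩ : ∃ m, ¬ p ∣ m ∧
      Nat.card G = p ^ (Nat.card G).factorization p * m :=
    ⟨_, Nat.not_dvd_ordCompl hp Nat.card_pos.ne', (Nat.ordProj_mul_ordCompl_eq_self _ _).symm⟩
  have hle : sInf ((fun χ : IrrCharacter G => (charDegree (χ : G → ℂ)).factorization p) '' B) ≤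
      (charDegree (ψ : G → ℂ)).factorization p := Nat.sInf_le ⟨ψ, hψ, rfl⟩
  have hdvd : p ^ (Nat.card G).factorization p ∣ charDegree (ψ : G → ℂ) * p ^ blockDefect p B := by
    refine dvd_trans (pow_dvd_pow p (show _ ≤ (charDegree (ψ : G → ℂ)).factorization p +
      blockDefect p B by rw [blockDefect]; omega)) ?_
    rw [pow_add]
    exact mul_dvd_mul_right (Nat.ordProj_dvd _ _) _
  obtain ⟨k, hk⟩ := hdvd
  rw [irr_apply_one, ← Nat.cast_mul, hk,
    show (Nat.card G : ℂ) = ((p ^ (Nat.card G).factorization p : ℕ) : ℂ) * (m : ℂ) by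
      exact_mod_cast hcard, Nat.cast_mul, mul_div_mul_left _ _
    (Nat.cast_ne_zero.2 (pow_ne_zero _ hp.ne_zero)), div_eq_mul_inv]
  exact mul_mem (natCast_mem_loc k) (inv_natCast_mem_loc hp hpM hm)

/-- The idempotent of a block with one Brauer character at a regular element. -/
theorem blockCoeff_of_rank_one {φ : G → ℂ} {d : IrrCharacter G → ℕ} {k : ℕ}
    (hd : ∀ χ ∈ B, ∀ x : G, ¬ p ∣ orderOf x → (χ : G → ℂ) x = (d χ : ℂ) * φ x)
    (hsq : ∑ᶠ χ ∈ B, d χ ^ 2 = k) {g : G} (hg : ¬ p ∣ orderOf g) :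
    blockCoeff B g = (Nat.card G : ℂ)⁻¹ * ((k : ℂ) * φ 1 * conj (φ g)) := by
  rw [blockCoeff]
  congr 1
  calc ∑ᶠ χ ∈ B, (χ : G → ℂ) 1 * conj ((χ : G → ℂ) g)
      = ∑ᶠ χ ∈ B, ((d χ ^ 2 : ℕ) : ℂ) * (φ 1 * conj (φ g)) := finsum_mem_congr rfl fun χ hχ => by
        rw [hd χ hχ g hg, hd χ hχ 1 (by simp [(Fact.out : p.Prime).ne_one]), map_mul, map_natCast]
        push_cast
        ring
    _ = _ := by
        rw [← finsum_mem_mul]
        rw [show (∑ᶠ χ ∈ B, ((d χ ^ 2 : ℕ) : ℂ)) = ((∑ᶠ χ ∈ B, d χ ^ 2 : ℕ) : ℂ) from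
          ((Nat.castAddMonoidHom ℂ).map_finsum_mem _ (Set.toFinite _)).symm, hsq]
        ring

/-- The Brauer character of a block with one Brauer character takes a unit value. -/
theorem exists_unit_value (hpM : (p : AlgInt) ∈ M) (hB : IsPBlock M B) {φ : G → ℂ}
    {d : IrrCharacter G → ℕ}
    (hn : ∃ n : IrrCharacter G → ℤ, ∀ x : G, φ x = ∑ᶠ ψ ∈ B, (n ψ : ℂ) * (ψ : G → ℂ) x)
    (hd : ∀ χ ∈ B, ∀ x : G, ¬ p ∣ orderOf x → (χ : G → ℂ) x = (d χ : ℂ) * φ x)
    (hsq : ∑ᶠ χ ∈ B, d χ ^ 2 = p ^ blockDefect p B) :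
    (∀ x, φ x ∈ loc M) ∧ ∃ x : G, ¬ p ∣ orderOf x ∧ ¬ MemLocalIdeal M (φ x) := by
  classical
  haveI := irrFintype G
  obtain ⟨n, hn⟩ := hn
  have hfin : ∀ f : IrrCharacter G → ℂ, ∑ᶠ χ ∈ B, f χ = ∑ χ ∈ univ.filter (· ∈ B), f χ := fun f =>
    finsum_mem_eq_sum_of_inter_support_eq _ (by ext; simp)
  refine ⟨fun x => by
    rw [hn, hfin]; exact sum_mem fun ψ _ => mul_mem (intCast_mem _ _) (irr_mem_loc ψ x), ?_⟩
  obtain ⟨g, hg⟩ := exists_blockCoeff_notMem hB
  have hgr : ¬ p ∣ orderOf g := fun h =>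
    hg (by rw [blockCoeff_eq_zero_of_dvd Fact.out hpM hB h]; exact MemLocalIdeal.zero')
  refine ⟨g⁻¹, by rwa [orderOf_inv], fun h => hg ?_⟩
  have hK : ((p ^ blockDefect p B : ℕ) : ℂ) * φ 1 / (Nat.card G : ℂ) ∈ loc M := by
    rw [hn, hfin, Finset.mul_sum, Finset.sum_div]
    refine sum_mem fun ψ hψ => ?_
    rw [show ((p ^ blockDefect p B : ℕ) : ℂ) * ((n ψ : ℂ) * (ψ : G → ℂ) 1) / (Nat.card G : ℂ) =
      (n ψ : ℂ) * ((ψ : G → ℂ) 1 * ((p ^ blockDefect p B : ℕ) : ℂ) / (Nat.card G : ℂ)) by ring]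
    exact mul_mem (intCast_mem _ _) (degree_mul_pow_div_mem_loc hpM (mem_filter.1 hψ).2)
  have hconj : conj (φ g) = φ g⁻¹ := by
    rw [hn, hn, hfin, hfin, map_sum]
    exact Finset.sum_congr rfl fun ψ _ => by rw [map_mul, map_intCast, irr_inv]
  rw [blockCoeff_of_rank_one hd hsq hgr, hconj,
    show (Nat.card G : ℂ)⁻¹ * (((p ^ blockDefect p B : ℕ) : ℂ) * φ 1 * φ g⁻¹) =
      ((p ^ blockDefect p B : ℕ) : ℂ) * φ 1 / (Nat.card G : ℂ) * φ g⁻¹ by ring]
  exact MemLocalIdeal.mul_left' hK h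

open scoped Classical in
/-- The sum of the products of the parts with the values. -/
theorem sum_secVal_mul_value (hpM : (p : AlgInt) ∈ M) (hB : IsPBlock M B) {x y z : G}
    (hx : ∃ k : ℕ, x ^ p ^ k = 1) (hxy : Commute x y) (hy : ¬ p ∣ orderOf y)
    {b : Set (IrrCharacter (Subgroup.centralizer (Subgroup.zpowers x : Set G)))}
    (hb : IsBrauerPairOf p M B (Subgroup.zpowers x) b) :
    ∑ᶠ χ ∈ B, secVal ⟨Subgroup.zpowers x, b⟩ (χ : G → ℂ) (x * y) * (χ : G → ℂ) z =
      (Nat.card (Subgroup.centralizer ({z} : Set G)) : ℂ) *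
        ∑ w ∈ univ.filter (fun w : G => IsConj (w * (x * y)) z⁻¹),
          pairCoeff (⟨Subgroup.zpowers x, b⟩ : BrauerPairIdx G) w := by
  haveI := irrFintype G
  have hcz : Subgroup.centralizer ({z⁻¹} : Set G) = Subgroup.centralizer ({z} : Set G) := by
    ext g
    simp only [Subgroup.mem_centralizer_singleton_iff]
    exact Commute.inv_right_iff (a := g) (b := z)
  rw [finsum_mem_eq_sum_of_inter_support_eq (t := univ.filter (· ∈ B)) _ (by ext; simp),
    Finset.sum_filter_of_ne (s := univ) fun χ _ hne => ?_]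
  swap
  · by_contra hχ
    refine hne (mul_eq_zero_of_left (secVal_eq_zero (B := blockOf M (χ : G → ℂ)) hpM
      (isPBlock_blockOf χ) (mem_blockOf_self χ) hxy hx hy (mem_pairsAt_of_pair hb) fun h =>
      hχ ((existsUnique_block_of_pair hpM hb.1).unique hb h ▸ mem_blockOf_self χ)) _)
  simp only [secVal, Finset.sum_mul, mul_assoc]
  rw [Finset.sum_comm, Finset.mul_sum, Finset.sum_filter]
  refine Finset.sum_congr rfl fun w _ => ?_
  rw [← Finset.mul_sum]
  have h2 : ∑ χ : IrrCharacter G, (χ : G → ℂ) (w * (x * y)) * (χ : G → ℂ) z =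
      if IsConj (w * (x * y)) z⁻¹ then
        (Nat.card (Subgroup.centralizer ({z} : Set G)) : ℂ) else 0 := by
    have h := congrArg conj (second_orthogonality z⁻¹ (w * (x * y)))
    rw [map_sum] at h
    rw [show ∑ χ : IrrCharacter G, (χ : G → ℂ) (w * (x * y)) * (χ : G → ℂ) z =
      ∑ χ : IrrCharacter G, conj ((χ : G → ℂ) z⁻¹ * conj ((χ : G → ℂ) (w * (x * y)))) from
      Finset.sum_congr rfl fun χ _ => by
        rw [map_mul, Complex.conj_conj, irr_inv, Complex.conj_conj]; ring, h, hcz]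
    split_ifs <;> simp
  rw [h2]
  split_ifs <;> ring

open scoped Classical in
/-- **The columns of the subsections**: for an abelian defect group with one Brauer character at
every nontrivial subsection, the generalized decomposition numbers form a system of columns. -/
theorem exists_colSys_sections (hpM : (p : AlgInt) ∈ M) (hmax : IsMaximalBrauerPair p M B P c)
    (hab : ∀ x ∈ P, ∀ y ∈ P, x * y = y * x)
    (hl : ∀ u ∈ P, u ≠ 1 → ∀ f, Below p M (⟨Subgroup.zpowers u, f⟩ : BrauerPairIdx G) ⟨P, c⟩ →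
      blockRank p f = 1)
    [Fintype {u : P // u ≠ 1}] :
    ∃ (s : IrrCharacter G → {u : P // u ≠ 1} → ℂ) (V : {u : P // u ≠ 1} → ℂ),
      ColSys p M B s ∧ (∀ χ a, IsIntegral ℤ (s χ a)) ∧ (∀ a, V a ≠ 0) ∧
      (∀ χ : IrrCharacter G, ∀ a, secVal (pairBelow p M ⟨P, c⟩ ((a.1 : P) : G)) (χ : G → ℂ)
        ((a.1 : P) : G) = s χ a * V a) ∧
      (∀ a, ∑ᶠ χ ∈ B, s χ a * conj (s χ a) = (Nat.card P : ℂ)) ∧
      (∀ χ a, ((a.1 : P) : G) * ((a.1 : P) : G) = 1 → ∃ m : ℤ, s χ a = m) := by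
  have hB : IsPBlock M B := hmax.1.2.1
  have hc : IsBrauerPair p M P c := hmax.1.1
  have hp : p.Prime := Fact.out
  haveI := irrFintype G
  choose f hf using fun a : {u : P // u ≠ 1} =>
    exists_below (b := (⟨P, c⟩ : BrauerPairIdx G)) hpM hc (Subgroup.zpowers ((a.1 : P) : G))
      (Subgroup.zpowers_le.2 a.1.2)
  have hpair := fun a => (isBrauerPairOf_iff_of_below hpM (hf a) B).2 hmax.1
  haveI := fun a : {u : P // u ≠ 1} =>
    Fintype.ofFinite (Subgroup.centralizer (Subgroup.zpowers ((a.1 : P) : G) : Set G))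
  choose φ d hn hd hsq using fun a : {u : P // u ≠ 1} =>
    exists_decomposition_of_rank_one hpM (hpair a).1.2
      (hl _ a.1.2 (fun h => a.2 (Subtype.ext h)) (f a) (hf a))
  have hφ := fun a => exists_unit_value hpM (hpair a).1.2 (hn a) (hd a) (hsq a)
  have hH : ∀ (a : {u : P // u ≠ 1}) (w : G),
      w ∈ Subgroup.centralizer (Subgroup.zpowers ((a.1 : P) : G) : Set G) ↔
        w * ((a.1 : P) : G) = ((a.1 : P) : G) * w := fun a w => mem_centralizer_zpowers_iff _ w
  have hdef : ∀ a, p ^ blockDefect p (f a) = Nat.card P := fun a => by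
    rw [blockDefect_eq_of_central hpM hmax
      (Subgroup.mem_centralizer_iff.2 fun v hv => hab v hv _ a.1.2) (hf a),
      BlockOrth.card_defectGroup hpM hB (isDefectGroup_of_maximal hpM hmax)]
  have hupow : ∀ a : {u : P // u ≠ 1}, ∃ k : ℕ, ((a.1 : P) : G) ^ p ^ k = 1 := fun a =>
    exists_pow_eq_one_of_mem hc.1 a.1.2
  have h1 : ∀ a : {u : P // u ≠ 1}, ¬ p ∣ orderOf
      (1 : Subgroup.centralizer (Subgroup.zpowers ((a.1 : P) : G) : Set G)) := fun a => by
    rw [orderOf_one]; exact hp.not_dvd_one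
  obtain ⟨s, hs⟩ : ∃ s : IrrCharacter G → {u : P // u ≠ 1} → ℂ, ∀ χ a,
      s χ a = secCol (H := Subgroup.centralizer (Subgroup.zpowers ((a.1 : P) : G) : Set G))
        ⟨((a.1 : P) : G), (hH a _).2 rfl⟩ (f a) (d a) (χ : G → ℂ) := ⟨_, fun _ _ => rfl⟩
  have hsec : ∀ (χ : IrrCharacter G) (a : {u : P // u ≠ 1}),
      ∀ y : Subgroup.centralizer (Subgroup.zpowers ((a.1 : P) : G) : Set G), ¬ p ∣ orderOf y →
        secVal ⟨Subgroup.zpowers ((a.1 : P) : G), f a⟩ (χ : G → ℂ) (((a.1 : P) : G) * (y : G)) =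
          s χ a * φ a y := fun χ a y hy => by
    rw [hs]
    exact secVal_eq_secCol (hd a) χ hy
  have hsec1 : ∀ (χ : IrrCharacter G) a,
      secVal ⟨Subgroup.zpowers ((a.1 : P) : G), f a⟩ (χ : G → ℂ) ((a.1 : P) : G) =
        s χ a * φ a 1 := fun χ a => by
    have h := hsec χ a 1 (h1 a)
    rwa [Subgroup.coe_one, mul_one] at h
  have hφ1 : ∀ a, φ a 1 ≠ 0 := fun a h => by
    obtain ⟨η, hη⟩ := IsPBlock.nonempty (hpair a).1.2
    exact irr_degree_ne_zero η.2 (by rw [hd a η hη 1 (h1 a), h, mul_zero])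
  have hfin : ∀ F : IrrCharacter G → ℂ, ∑ᶠ χ ∈ B, F χ = ∑ χ ∈ univ.filter (· ∈ B), F χ := fun F =>
    finsum_mem_eq_sum_of_inter_support_eq _ (by ext; simp)
  have hprod : ∀ (a : {u : P // u ≠ 1})
      (y : Subgroup.centralizer (Subgroup.zpowers ((a.1 : P) : G) : Set G)) (z : G),
      ¬ p ∣ orderOf y → φ a y * ∑ᶠ χ ∈ B, s χ a * (χ : G → ℂ) z =
        (Nat.card (Subgroup.centralizer ({z} : Set G)) : ℂ) *
        ∑ w ∈ univ.filter (fun w : G => IsConj (w * (((a.1 : P) : G) * y)) z⁻¹),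
          pairCoeff (⟨Subgroup.zpowers ((a.1 : P) : G), f a⟩ : BrauerPairIdx G) w := by
    intro a y z hy
    rw [← sum_secVal_mul_value hpM hB (hupow a) ((hH a _).1 y.2).symm
      (by rwa [Subgroup.orderOf_coe]) (hpair a), mul_finsum_mem]
    refine finsum_mem_congr rfl fun χ _ => ?_
    rw [hsec χ a y hy]
    ring
  have hsint : ∀ χ a, IsIntegral ℤ (s χ a) := by
    intro χ a
    haveI := irrFintype (Subgroup.centralizer (Subgroup.zpowers ((a.1 : P) : G) : Set G))
    have hnat : ∀ k : ℕ, IsIntegral ℤ (k : ℂ) := fun k => by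
      simpa using (isIntegral_algebraMap (R := ℤ) (A := ℂ) (x := (k : ℤ)))
    rw [hs, secCol, finsum_mem_eq_sum_of_inter_support_eq (t := univ.filter (· ∈ f a)) _
      (by ext; simp)]
    refine IsIntegral.sum _ fun η _ => IsIntegral.mul (IsIntegral.mul ?_ ?_) (hnat _)
    · obtain ⟨m, hm⟩ := inner_irr_right_nat (isCharacter_restrict
        (Subgroup.centralizer (Subgroup.zpowers ((a.1 : P) : G) : Set G))
        (isCharacter_of_irr χ.2)) η
      rw [inner_congr_inst, hm]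
      exact hnat m
    · refine IsIntegral.of_pow (orderOf_pos (⟨((a.1 : P) : G), (hH a _).2 rfl⟩ :
        Subgroup.centralizer (Subgroup.zpowers ((a.1 : P) : G) : Set G))) ?_
      rw [centralScalar_pow_eq_one η (BlockOrth.mem_center_of_self (hH a)) (pow_orderOf_eq_one _)]
      exact isIntegral_one
  have hord : ∀ (a : {u : P // u ≠ 1}) (w : G), Commute ((a.1 : P) : G) w → ¬ p ∣ orderOf w →
      p ∣ orderOf (((a.1 : P) : G) * w) := fun a w hw hwr => by
    obtain ⟨k, hk⟩ := exists_pow_orderOf_of_mem hc.1 a.1.2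
    have hk0 : k ≠ 0 := fun h => a.2 (Subtype.ext (orderOf_eq_one_iff.1 (by rw [hk, h, pow_zero])))
    rw [hw.orderOf_mul_eq_mul_orderOf_of_coprime
      (hk ▸ Nat.Coprime.pow_left k (hp.coprime_iff_not_dvd.2 hwr)), hk]
    exact Dvd.dvd.mul_right (dvd_pow_self p hk0) _
  refine ⟨s, fun a => φ a 1, ⟨fun g hg a => ?_, fun g hg => ?_, fun g a => ?_⟩, hsint, hφ1,
    fun χ a => ?_, fun a => ?_, fun χ a ha => ?_⟩
  · -- regular elements
    have h := hprod a 1 g (h1 a)
    rw [Finset.sum_eq_zero fun w hw => ?_, mul_zero] at h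
    · exact (mul_eq_zero.1 h).resolve_left (hφ1 a)
    · by_contra hw0
      have hwC : w ∈ Subgroup.centralizer (Subgroup.zpowers ((a.1 : P) : G) : Set G) :=
        by_contra fun h => hw0 (subgroupBlockCoeff_of_notMem _ h)
      have hwr : ¬ p ∣ orderOf w := fun hd' => hw0 (by
        rw [pairCoeff, show subgroupBlockCoeff _ (f a) w = blockCoeff (f a) ⟨w, hwC⟩ from
          subgroupBlockCoeff_coe _ ⟨w, hwC⟩]
        exact blockCoeff_eq_zero_of_dvd hp hpM (hpair a).1.2 (by rwa [← Subgroup.orderOf_coe]))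
      obtain ⟨z, hz⟩ := isConj_iff.1 (mem_filter.1 hw).2
      have h2 := hord a w ((hH a w).1 hwC).symm hwr
      rw [Subgroup.coe_one, mul_one] at hz
      rw [← ((hH a w).1 hwC), (SemiconjBy.conj_mk z (w * ((a.1 : P) : G))).orderOf_eq, hz,
        orderOf_inv] at h2
      exact hg h2
  · -- singular elements
    obtain ⟨hxy, hgeq⟩ := commute_pPartElt_pPrimePart (p := p) g
    have hyr : ¬ p ∣ orderOf (pPrimePart p g) := not_dvd_orderOf_pPrimePart g
    have hx := exists_pow_eq_one_pPartElt (p := p) g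
    have hkey : ∀ a : {a // a ∈ (pairsAt M (pPartElt p g)).filter
        (fun a => IsBrauerPairOf p M B a.1 a.2)},
        ∃ (a' : {u : P // u ≠ 1}) (v : ℂ), v ∈ loc M ∧
          ∀ χ : IrrCharacter G, secVal a.1 (χ : G → ℂ) g = v * s χ a' := by
      rintro ⟨a, ha⟩
      obtain ⟨ha, hBa⟩ := mem_filter.1 ha
      obtain ⟨z, hz⟩ := exists_conj_below (b := (⟨P, c⟩ : BrauerPairIdx G)) hpM hmax hBa
      have hu : z * pPartElt p g * z⁻¹ ∈ P := below_le hz ⟨_, by
        show pPartElt p g ∈ a.1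
        rw [(mem_pairsAt.1 ha).1]
        exact Subgroup.mem_zpowers _, rfl⟩
      have hu1 : (⟨_, hu⟩ : P) ≠ 1 := fun h => by
        have h1 : z * pPartElt p g * z⁻¹ = 1 := congrArg Subtype.val h
        rw [mul_inv_eq_one, mul_eq_left] at h1
        rw [← hgeq, h1, one_mul] at hg
        exact hyr hg
      obtain ⟨a', ha'⟩ : ∃ a' : {u : P // u ≠ 1}, a' = ⟨⟨_, hu⟩, hu1⟩ := ⟨_, rfl⟩
      have hcomm : Commute (z * pPartElt p g * z⁻¹) (z * pPrimePart p g * z⁻¹) :=
        (Commute.conj_iff z).2 hxy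
      have hua : ((a'.1 : P) : G) = z * pPartElt p g * z⁻¹ := by rw [ha']
      have hw : z * pPrimePart p g * z⁻¹ ∈
          Subgroup.centralizer (Subgroup.zpowers ((a'.1 : P) : G) : Set G) :=
        (hH a' _).2 (by rw [hua]; exact hcomm.eq.symm)
      refine ⟨a', φ a' ⟨_, hw⟩, (hφ a').1 _, fun χ => ?_⟩
      have heq : conjPair z a = ⟨Subgroup.zpowers ((a'.1 : P) : G), f a'⟩ := by
        rw [eq_pairBelow (c := (⟨P, c⟩ : BrauerPairIdx G)) (u := z * pPartElt p g * z⁻¹) hpM hc hz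
          (by show a.1.map _ = _; rw [(mem_pairsAt.1 ha).1, map_zpowers_conj])]
        exact (eq_pairBelow (c := (⟨P, c⟩ : BrauerPairIdx G)) hpM hc (hf a')
          (congrArg Subgroup.zpowers hua)).symm
      show secVal a (χ : G → ℂ) g = _
      rw [← secVal_conj (isClassFunction_irr χ) z a g, heq,
        show z * g * z⁻¹ = ((a'.1 : P) : G) *
          ((⟨_, hw⟩ : Subgroup.centralizer (Subgroup.zpowers ((a'.1 : P) : G) : Set G)) : G) by
          show _ = ((a'.1 : P) : G) * (z * pPrimePart p g * z⁻¹)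
          rw [hua]; conv_lhs => rw [← hgeq]
          group,
        hsec χ a' ⟨_, hw⟩ (by
          rw [← Subgroup.orderOf_coe]
          show ¬ p ∣ orderOf (z * pPrimePart p g * z⁻¹)
          rwa [← (SemiconjBy.conj_mk z _).orderOf_eq]), mul_comm]
    choose k v hv hsv using hkey
    refine ⟨fun a' => ∑ a ∈ univ.filter (fun a => k a = a'), v a,
      fun a' => show _ ∈ loc M from sum_mem fun a _ => hv a, fun χ hχ => ?_⟩
    rw [← sum_secVal (M := M) (χ : G → ℂ) (pPartElt p g) g,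
      ← Finset.sum_filter_of_ne (p := fun a => IsBrauerPairOf p M B a.1 a.2) fun a ha hne => ?_,
      ← Finset.sum_coe_sort]
    swap
    · by_contra hBa
      refine hne ?_
      rw [← hgeq]
      exact secVal_eq_zero hpM hB hχ hxy hx hyr ha hBa
    rw [Finset.sum_congr rfl fun a' (_ : a' ∈ univ) =>
      show (∑ a ∈ univ.filter (fun a => k a = a'), v a) * s χ a' =
        ∑ a ∈ univ.filter (fun a => k a = a'), secVal a.1 (χ : G → ℂ) g by
        rw [Finset.sum_mul]
        exact Finset.sum_congr rfl fun a ha => by rw [hsv, (mem_filter.1 ha).2],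
      Finset.sum_fiberwise]
  · -- divisibility
    obtain ⟨y, hy, hyu⟩ := (hφ a).2
    have hne : φ a y ≠ 0 := fun h => hyu (by rw [h]; exact MemLocalIdeal.zero')
    rw [show ∑ᶠ χ ∈ B, s χ a * (χ : G → ℂ) g =
      (φ a y)⁻¹ * (φ a y * ∑ᶠ χ ∈ B, s χ a * (χ : G → ℂ) g) by field_simp, hprod a y g hy,
      mul_left_comm, mul_div_cancel_left₀ _ (Nat.cast_ne_zero.2 Nat.card_pos.ne')]
    refine mul_mem (S := Subring ℂ) (inv_mem_loc ((hφ a).1 y) hyu) (sum_mem fun w _ => ?_)
    exact subgroupBlockCoeff_mem_loc (hpair a).1.2 w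
  · rw [← eq_pairBelow (c := (⟨P, c⟩ : BrauerPairIdx G))
      (a := ⟨Subgroup.zpowers ((a.1 : P) : G), f a⟩) hpM hc (hf a) rfl, hsec1]
  · -- norms
    have hsum := sum_secVal_pairBelow hpM hmax a.1.2 a.1.2
    rw [card_conj_pairBelow (g₀ := 1) hpM hc a.1.2 (by simp) (conjPair_one _),
      ← eq_pairBelow (c := (⟨P, c⟩ : BrauerPairIdx G))
        (a := ⟨Subgroup.zpowers ((a.1 : P) : G), f a⟩) hpM hc (hf a) rfl,
      show pairCoeff (⟨Subgroup.zpowers ((a.1 : P) : G), f a⟩ : BrauerPairIdx G) 1 =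
        blockCoeff (f a) 1 from subgroupBlockCoeff_coe (f a) 1,
      blockCoeff_of_rank_one (hd a) (hsq a) (h1 a), hdef a,
      mul_inv_cancel_left₀ (Chars.card_ne_zero _)] at hsum
    rw [hfin]
    refine mul_right_cancel₀ (mul_ne_zero (hφ1 a) ((map_ne_zero (starRingEnd ℂ)).2 (hφ1 a))) ?_
    rw [Finset.sum_mul, ← mul_assoc, ← hsum]
    refine Finset.sum_congr rfl fun χ _ => ?_
    rw [hsec1, map_mul]
    ring
  · rw [hs]
    exact secCol_involution _ (BlockOrth.mem_center_of_self (hH a)) (Subtype.ext ha) _ _ χ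

end CfsgLib.Blocks
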