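import Cfsg.Agent.Lib.Blocks.RankOneAlgebra

/-!
# Corners with a radical generated by one element

In a block with one Brauer character whose corners have radicals generated by one element, some
full idempotent has a corner spanned by the powers of a nilpotent element.
-/

set_option autoImplicit false
set_option linter.unusedSectionVars false
set_option linter.style.haveILetI false

namespace CfsgLib.Blocks

open Cfsg Chars Modular Module

variable {G : Type*} [Group G] [Fintype G] {M : Ideal AlgInt} [M.IsPrime] {p : ℕ} [Fact p.Prime]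
  {B : Set (IrrCharacter G)}

/-- A full idempotent of the block with a local corner spanned by powers of one element. -/
theorem exists_corner_gen (hpM : (p : AlgInt) ∈ M) (hB : IsPBlock M B)
    (hl : blockRank p B = 1) (hk : CornerCyclic hB) :
    ∃ (f x : MonoidAlgebra (ResField M) G) (u v : G × G → MonoidAlgebra (ResField M) G),
      f * f = f ∧ f ≠ 0 ∧ blockIdem hB * f = f ∧ f * x = x ∧ x * f = x ∧ IsNilpotent x ∧
      blockIdem hB = ∑ q, u q * f * v q ∧
      ∀ a, f * a * f ∈ Submodule.span (ResField M) (Set.range fun i : ℕ => x ^ i * f) := by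
  classical
  haveI : FiniteDimensional (ResField M) (MonoidAlgebra (ResField M) G) := inferInstance
  set e := blockIdem hB with he
  have hec : ∀ x, e * x = x * e := fun x => (commute_blockIdem hB x).eq
  -- the simple module
  set lr := leftRep (ResField M) G
  have hW : IsInvar lr (LinearMap.range (LinearMap.mulLeft (ResField M) e)) := by
    rintro g _ ⟨w, rfl⟩
    refine ⟨MonoidAlgebra.single g 1 * w, ?_⟩
    show e * (MonoidAlgebra.single g 1 * w) = MonoidAlgebra.single g 1 * (e * w)
    rw [← mul_assoc, hec, mul_assoc]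
  obtain ⟨V, hV, hVW, hρ⟩ := exists_simple_le hW fun h => blockIdem_ne_zero hB (by
    have h1 : e * 1 ∈ (⊥ : Submodule (ResField M) (MonoidAlgebra (ResField M) G)) :=
      h ▸ ⟨1, rfl⟩
    simpa using h1)
  set ρ := subRep lr V hV with hρdef
  have hρB : blockOp ρ hB = 1 := by
    rw [blockOp_eq_asAlgebraHom]
    refine LinearMap.ext fun s => Subtype.ext ?_
    rw [asAlgebraHom_subRep, asAlgebraHom_leftRep]
    obtain ⟨w, hw⟩ := hVW s.2
    show e * (s : MonoidAlgebra (ResField M) G) = s
    rw [← hw, LinearMap.mulLeft_apply, ← mul_assoc, blockIdem_mul_self]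
  obtain ⟨f, w, L, hff, hef, hLw, hρf⟩ := exists_idem_rank_one hB hρ hρB
  have hfe : f * e = f := by rw [← hec, hef]
  have hρf0 : ρ.asAlgebraHom f ≠ 0 := fun h => by
    have h1 := LinearMap.congr_fun (hρf.symm.trans h) w
    rw [LinearMap.smulRight_apply, hLw, one_smul, LinearMap.zero_apply] at h1
    rw [h1, map_zero] at hLw
    exact zero_ne_one hLw
  have hf0 : f ≠ 0 := fun h => hρf0 (by rw [h, map_zero])
  set π := (LinearMap.mulRight (ResField M) f).comp (LinearMap.mulLeft (ResField M) f) with hπdef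
  have hπ : ∀ x, π x = f * x * f := fun x => rfl
  set P := LinearMap.range π with hP
  -- `e` lies in the two-sided ideal of `f`
  set gen : G × G → MonoidAlgebra (ResField M) G := fun q =>
    MonoidAlgebra.single q.1 1 * f * MonoidAlgebra.single q.2 1 with hgen
  set I := Submodule.span (ResField M) (Set.range gen) with hI
  have hIinv : IsInvar lr I := fun g z hz => by
    refine Submodule.span_induction ?_ ?_ ?_ ?_ hz
    · rintro _ ⟨q, rfl⟩
      refine Submodule.subset_span ⟨(g * q.1, q.2), ?_⟩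
      simp only [hgen, lr, leftRep_apply, ← mul_assoc, MonoidAlgebra.single_mul_single, one_mul]
    · rw [map_zero]; exact zero_mem _
    · intro a b _ _ ha hb; rw [map_add]; exact add_mem ha hb
    · intro c a _ ha; rw [map_smul]; exact Submodule.smul_mem _ c ha
  have heI : e ∈ I := by
    by_contra hni
    obtain ⟨v, -, -, h3⟩ := exists_socle_elt hpM hB hl hV hρ hρB hIinv hni
    refine hρf0 (h3 f fun a => ?_)
    rw [← mul_assoc, hfe, sum_single_coeff a, Finset.mul_sum]
    refine Submodule.sum_mem _ fun g _ => ?_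
    rw [show MonoidAlgebra.single g (a.coeff g) =
        a.coeff g • MonoidAlgebra.single g (1 : ResField M) by
      rw [MonoidAlgebra.smul_single', mul_one], mul_smul_comm]
    refine Submodule.smul_mem _ _ (Submodule.subset_span ⟨(1, g), ?_⟩)
    simp only [hgen, ← MonoidAlgebra.one_def, one_mul]
  obtain ⟨c, hc⟩ := (Submodule.mem_span_range_iff_exists_fun _).1 heI
  have hdec : e = ∑ q ∈ Finset.univ,
      (c q • MonoidAlgebra.single q.1 (1 : ResField M)) * f * MonoidAlgebra.single q.2 1 := by
    rw [← hc]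
    exact Finset.sum_congr rfl fun q _ => by simp only [hgen, smul_mul_assoc]
  -- the corner
  have hfix : ∀ a ∈ P, f * a = a ∧ a * f = a := by
    rintro _ ⟨x, rfl⟩
    simp only [hπ, ← mul_assoc, hff]
    exact ⟨trivial, by rw [mul_assoc, hff]⟩
  have hfP : f ∈ P := ⟨f, by rw [hπ, hff, hff]⟩
  have hmulP : ∀ a ∈ P, ∀ b ∈ P, a * b ∈ P := fun a ha b hb =>
    ⟨a * b, by rw [hπ, ← mul_assoc, (hfix a ha).1, mul_assoc, (hfix b hb).2]⟩
  set ε : MonoidAlgebra (ResField M) G →ₗ[ResField M] ResField M :=
    L ∘ₗ LinearMap.applyₗ w ∘ₗ ρ.asAlgebraHom.toLinearMap with hε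
  have hεap : ∀ x, ε x = L (ρ.asAlgebraHom x w) := fun x => rfl
  have hρP : ∀ a ∈ P, ρ.asAlgebraHom a = ε a • ρ.asAlgebraHom f := fun a ha => by
    conv_lhs => rw [← (hfix a ha).2, ← (hfix a ha).1, map_mul, map_mul, hρf]
    refine LinearMap.ext fun v => ?_
    simp only [Module.End.mul_apply, LinearMap.smulRight_apply, map_smul, LinearMap.smul_apply,
      hρf, hεap, smul_eq_mul, smul_smul]
    rw [mul_comm]
  have hεmul : ∀ a ∈ P, ∀ b ∈ P, ε (a * b) = ε a * ε b := fun a ha b hb => by
    rw [hεap, map_mul, Module.End.mul_apply, hρP b hb, LinearMap.smul_apply, map_smul, map_smul,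
      smul_eq_mul, hρf, LinearMap.smulRight_apply, hLw, one_smul, ← hεap, mul_comm]
  have hεf : ε f = 1 := by rw [hεap, hρf, LinearMap.smulRight_apply, hLw, one_smul, hLw]
  set J := P ⊓ LinearMap.ker ρ.asAlgebraHom.toLinearMap with hJ
  have hJmem : ∀ a ∈ P, ρ.asAlgebraHom a = 0 → a ∈ J := fun a ha h0 => ⟨ha, h0⟩
  have hJker : ∀ a ∈ J, ρ.asAlgebraHom a = 0 := fun a ha => ha.2
  have hJP : J ≤ P := inf_le_left
  have hfJ : f ∉ J := fun h => hρf0 (hJker f h)
  have hJPr : ∀ a ∈ J, ∀ b ∈ P, a * b ∈ J := fun a ha b hb => hJmem _ (hmulP a (hJP ha) b hb) (by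
    rw [map_mul, hJker a ha, zero_mul])
  have hJJ : J * J ≤ J := Submodule.mul_le.2 fun a ha b hb => hJPr a ha b (hJP hb)
  have hJdiff : ∀ a ∈ P, a - ε a • f ∈ J := fun a ha =>
    hJmem _ (sub_mem ha (Submodule.smul_mem _ _ hfP)) (by
      rw [map_sub, map_smul, ← hρP a ha, sub_self])
  have hstrict : ∀ X ≤ J, X ≤ X * J → X = ⊥ := by
    intro X hXJ hX
    by_contra hX0
    obtain ⟨z, hz, hz0⟩ := (Submodule.ne_bot_iff _).1 hX0
    let U : Submodule (ResField M) (MonoidAlgebra (ResField M) G) :=
      ⨅ a : MonoidAlgebra (ResField M) G, ⨅ y : X,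
        LinearMap.ker (LinearMap.mulLeft (ResField M) ((y : MonoidAlgebra (ResField M) G) * a))
    have hmemU : ∀ u, u ∈ U ↔ ∀ a, ∀ y ∈ X, y * a * u = 0 := fun u => by
      simp only [U, Submodule.mem_iInf, LinearMap.mem_ker, LinearMap.mulLeft_apply,
        Subtype.forall]
    have hUinv : IsInvar lr U := fun g u hu => by
      rw [hmemU] at hu ⊢
      intro a y hy
      show y * a * (MonoidAlgebra.single g 1 * u) = 0
      rw [← mul_assoc, mul_assoc y a]
      exact hu _ y hy
    have hze : z * e = z := by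
      rw [← (hfix z (hJP (hXJ hz))).2, mul_assoc, hfe]
    obtain ⟨v, hv, hkill, -⟩ := exists_socle_elt hpM hB hl hV hρ hρB hUinv
      (fun h => hz0 (by simpa [← he, hze] using (hmemU _).1 h 1 z hz))
    refine hv ((hmemU v).2 fun a y hy => ?_)
    have hker : y ∈ LinearMap.ker (LinearMap.mulRight (ResField M) (a * v)) := by
      refine (Submodule.mul_le.2 fun y₁ hy₁ y₂ hy₂ => ?_ : X * J ≤ _) (hX hy)
      show y₁ * y₂ * (a * v) = 0
      have h1 := (hmemU _).1 (hkill (y₂ * a) (by
        rw [map_mul, hJker y₂ hy₂, zero_mul])) 1 y₁ hy₁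
      rw [mul_one] at h1
      simpa only [mul_assoc] using h1
    rw [LinearMap.mem_ker, LinearMap.mulRight_apply, ← mul_assoc] at hker
    exact hker
  -- the powers of the radical
  let Jp : ℕ → Submodule (ResField M) (MonoidAlgebra (ResField M) G) :=
    fun m => Nat.rec J (fun _ X => X * J) m
  have hJp0 : Jp 0 = J := rfl
  have hJps : ∀ m, Jp (m + 1) = Jp m * J := fun m => rfl
  have hJple : ∀ m, Jp m ≤ J := fun m => by
    induction m with
    | zero => exact le_rfl
    | succ m ih => rw [hJps]; exact (mul_le_mul' ih le_rfl).trans hJJ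
  have hdesc : ∀ m, Jp (m + 1) ≤ Jp m := fun m => by
    induction m with
    | zero => exact hJJ
    | succ m ih => rw [hJps (m + 1), hJps m]; exact mul_le_mul' ih le_rfl
  obtain ⟨m₀, hm₀⟩ : ∃ m, Jp m = ⊥ := by
    by_contra hcon
    simp only [not_exists] at hcon
    have hlt : ∀ m, finrank (ResField M) (Jp m) + m ≤ finrank (ResField M) J := fun m => by
      induction m with
      | zero => rw [add_zero, hJp0]
      | succ m ih =>
        have hne : Jp (m + 1) ≠ Jp m := fun h => hcon m (hstrict _ (hJple m) (by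
          rw [← hJps m, h]))
        have := Submodule.finrank_lt_finrank_of_lt (lt_of_le_of_ne (hdesc m) hne)
        omega
    have := hlt (finrank (ResField M) J + 1)
    omega
  obtain ⟨x, hxJ, hgen⟩ : ∃ x ∈ J, J * J ⊔ Submodule.span (ResField M) {x} = J := by
    by_cases hall : ∀ x ∈ J, x ∈ J * J
    · exact ⟨0, zero_mem _, by
        rw [Submodule.span_zero_singleton, sup_bot_eq]; exact le_antisymm hJJ hall⟩
    simp only [not_forall] at hall
    obtain ⟨x, hx, hx'⟩ := hall
    exact ⟨x, hx, hk f J hff hef hfJ hJJ (fun a ha => hfix a (hJP ha))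
      (fun a => ⟨ε (π a), by rw [← hπ]; exact hJdiff _ ⟨a, rfl⟩⟩) x hx hx'⟩
  have hfx := (hfix x (hJP hxJ)).1
  have hxf := (hfix x (hJP hxJ)).2
  have hpowJ : ∀ i, x ^ (i + 1) ∈ Jp i := fun i => by
    induction i with
    | zero => simpa [hJp0] using hxJ
    | succ i ih => rw [pow_succ, hJps]; exact Submodule.mul_mem_mul ih hxJ
  set S := Submodule.span (ResField M) (Set.range fun i : ℕ => x ^ (i + 1)) with hS
  have hSJ : S ≤ J := Submodule.span_le.2 (by
    rintro _ ⟨i, rfl⟩; exact hJple i (hpowJ i))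
  have hSS : S * S ≤ S := by
    rw [hS, Submodule.span_mul_span]
    refine Submodule.span_le.2 ?_
    rintro _ ⟨_, ⟨i, rfl⟩, _, ⟨j, rfl⟩, rfl⟩
    exact Submodule.subset_span ⟨i + j + 1, by
      show x ^ (i + j + 1 + 1) = x ^ (i + 1) * x ^ (j + 1)
      rw [← pow_add]; congr 1; omega⟩
  have hJ1 : J ≤ S ⊔ Jp 1 := by
    conv_lhs => rw [← hgen]
    exact sup_le le_sup_right (le_sup_of_le_left ((Submodule.span_singleton_le_iff_mem _ _).2
      (Submodule.subset_span ⟨0, pow_one x⟩)))
  have hstep : ∀ m, Jp m ≤ S ⊔ Jp (m + 1) := fun m => by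
    induction m with
    | zero => exact hJ1
    | succ m ih =>
      calc Jp (m + 1) = Jp m * J := hJps m
        _ ≤ Jp m * (S ⊔ Jp 1) := mul_le_mul' le_rfl hJ1
        _ ≤ S ⊔ Jp (m + 2) := by
          rw [Submodule.mul_sup]
          refine sup_le ?_ (le_sup_of_le_right ?_)
          · refine (mul_le_mul' ih le_rfl).trans ?_
            rw [Submodule.sup_mul]
            refine sup_le (le_sup_of_le_left hSS) (le_sup_of_le_right ?_)
            rw [hJps (m + 1)]
            exact mul_le_mul' le_rfl hSJ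
          · rw [hJps (m + 1), hJps m, show Jp 1 = J * J from rfl, mul_assoc (Jp m) J J]
  have hJS : ∀ m, J ≤ S ⊔ Jp m := fun m => by
    induction m with
    | zero => exact le_sup_right
    | succ m ih => exact ih.trans (sup_le le_sup_left (hstep m))
  have hJeq : J ≤ S := by
    have := hJS m₀
    rwa [hm₀, sup_bot_eq] at this
  have hx0 : IsNilpotent x := ⟨m₀ + 1, by
    have := hpowJ m₀
    rwa [hm₀, Submodule.mem_bot] at this⟩
  refine ⟨f, x, fun q => c q • MonoidAlgebra.single q.1 (1 : ResField M),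
    fun q => MonoidAlgebra.single q.2 1, hff, hf0, hef, hfx, hxf, hx0, hdec, fun a => ?_⟩
  have hle : S ≤ Submodule.span (ResField M) (Set.range fun i : ℕ => x ^ i * f) :=
    Submodule.span_le.2 (by
      rintro _ ⟨i, rfl⟩
      exact Submodule.subset_span ⟨i + 1, by
        show x ^ (i + 1) * f = x ^ (i + 1)
        rw [pow_succ, mul_assoc, hxf]⟩)
  have h := hle (hJeq (hJdiff _ (⟨a, hπ a⟩ : f * a * f ∈ P)))
  have h2 := add_mem h (Submodule.smul_mem _ (ε (f * a * f))
    (Submodule.subset_span (⟨0, by simp⟩ : f ∈ Set.range fun i : ℕ => x ^ i * f)))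
  rwa [sub_add_cancel] at h2

end CfsgLib.Blocks
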