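import Cfsg.Agent.Lib.Blocks.PIndexPairs

/-!
# Defect groups of covered blocks

If the block `B` of `G` covers the block `c` of a normal subgroup `N`, every defect group of `c`
is contained in a defect group of `B`.
-/

set_option linter.unusedSectionVars false
set_option linter.style.haveILetI false

namespace CfsgLib.Blocks

open Cfsg Chars

variable {G : Type*} [Group G] [Fintype G] {N : Subgroup G} [N.Normal] [Fintype N]
  {M : Ideal AlgInt} [M.IsPrime] {p : ℕ} [Fact p.Prime] {c : Set (IrrCharacter N)}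

/-- Homogeneous elements of degree `q` killed by the truncation at `R`. -/
structure IsHom (hc : IsPBlock M c) (R : Subgroup G) (q : G ⧸ N)
    (u : MonoidAlgebra (ResField M) G) : Prop where
  supp : ∀ g : G, u.coeff g ≠ 0 → (g : G ⧸ N) = q
  fixed : IsFixedBy N u
  absorb : u * pairIdem hc = u
  killed : cut (Subgroup.centralizer (R : Set G) : Set G) u = 0

theorem cut_coset_eq_of_supp {q : G ⧸ N} {u : MonoidAlgebra (ResField M) G}
    (h : ∀ g : G, u.coeff g ≠ 0 → (g : G ⧸ N) = q) :
    cut {g : G | (g : G ⧸ N) = q} u = u :=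
  cut_eq_self_iff.2 fun g hg => by
    by_contra hne
    exact hg (h g hne)

theorem supp_mul {q r : G ⧸ N} {u v : MonoidAlgebra (ResField M) G}
    (hu : ∀ g : G, u.coeff g ≠ 0 → (g : G ⧸ N) = q)
    (hv : ∀ g : G, v.coeff g ≠ 0 → (g : G ⧸ N) = r) :
    ∀ g : G, (u * v).coeff g ≠ 0 → (g : G ⧸ N) = q * r := by
  intro g hg
  rw [coeff_mul_eq_sum] at hg
  obtain ⟨y, -, hy⟩ := Finset.exists_ne_zero_of_sum_ne_zero hg
  rw [← hu y (left_ne_zero_of_mul hy), ← hv _ (right_ne_zero_of_mul hy), ← QuotientGroup.mk_mul,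
    mul_inv_cancel_left]

theorem supp_pairIdem (hc : IsPBlock M c) :
    ∀ g : G, (pairIdem hc).coeff g ≠ 0 → (g : G ⧸ N) = 1 := fun g hg => by
  rw [QuotientGroup.eq_one_iff]
  by_contra hgN
  apply hg
  rw [coeff_pairIdem_eq_zero_iff, subgroupBlockCoeff_of_notMem c hgN]
  exact MemLocalIdeal.zero'

theorem cut_coset_mul {q : G ⧸ N} (hc : IsPBlock M c) (u : MonoidAlgebra (ResField M) G) :
    cut {g : G | (g : G ⧸ N) = q} (u * pairIdem hc) =
      cut {g : G | (g : G ⧸ N) = q} u * pairIdem hc := by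
  apply MonoidAlgebra.ext
  ext g
  have hd : ∀ y : G, (pairIdem hc).coeff (y⁻¹ * g) ≠ 0 → (y : G ⧸ N) = (g : G ⧸ N) := fun y hy => by
    have := supp_pairIdem hc _ hy
    rwa [QuotientGroup.mk_mul, QuotientGroup.mk_inv, inv_mul_eq_one] at this
  by_cases hg : (g : G ⧸ N) = q
  · rw [coeff_cut_of_mem _ (show g ∈ {g : G | (g : G ⧸ N) = q} from hg), coeff_mul_eq_sum,
      coeff_mul_eq_sum]
    refine Finset.sum_congr rfl fun y _ => ?_
    by_cases hy : (pairIdem hc).coeff (y⁻¹ * g) = 0
    · rw [hy, mul_zero, mul_zero]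
    · rw [coeff_cut_of_mem _ (show y ∈ {g : G | (g : G ⧸ N) = q} from (hd y hy).trans hg)]
  · rw [coeff_cut_of_notMem _ (show g ∉ {g : G | (g : G ⧸ N) = q} from hg), coeff_mul_eq_sum]
    refine (Finset.sum_eq_zero fun y _ => ?_).symm
    by_cases hy : (pairIdem hc).coeff (y⁻¹ * g) = 0
    · rw [hy, mul_zero]
    · rw [coeff_cut_of_notMem _ (show y ∉ {g : G | (g : G ⧸ N) = q} from
        fun h => hg ((hd y hy).symm.trans h)), zero_mul]

theorem isFixedBy_pairIdem_self (hc : IsPBlock M c) : IsFixedBy N (pairIdem hc) :=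
  isFixedBy_pairIdem hc fun _ hu g => subgroupBlockCoeff_conj_of_mem c hu g

theorem sum_single' (f : MonoidAlgebra (ResField M) G) :
    ∑ g, MonoidAlgebra.single g (f.coeff g) = f := by
  classical
  apply MonoidAlgebra.ext
  ext g
  simp

/-- Fixed elements commute with elements supported in `N`. -/
theorem commute_of_supp {a z : MonoidAlgebra (ResField M) G} (ha : IsFixedBy N a)
    (hz : ∀ g : G, z.coeff g ≠ 0 → (g : G ⧸ N) = 1) : Commute a z := by
  rw [← sum_single' z]
  refine Commute.sum_right _ _ _ fun g _ => ?_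
  by_cases hg : z.coeff g = 0
  · rw [hg]
    simp
  · have h1 := isFixedBy_iff_commute.1 ha g ((QuotientGroup.eq_one_iff g).1 (hz g hg))
    have : MonoidAlgebra.single g (z.coeff g) =
        (z.coeff g) • MonoidAlgebra.single g (1 : ResField M) := by simp
    rw [this]
    exact h1.smul_right _

variable {R : Subgroup G}

theorem IsHom.mul (hpM : (p : AlgInt) ∈ M) {hc : IsPBlock M c} (hR : IsPGroup p R) (hRN : R ≤ N)
    {q r : G ⧸ N} {u v : MonoidAlgebra (ResField M) G} (hu : IsHom hc R q u) (hv : IsHom hc R r v) :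
    IsHom hc R (q * r) (u * v) := by
  haveI := charP_resField (M := M) (Fact.out (p := p.Prime)) hpM
  exact ⟨supp_mul hu.supp hv.supp, hu.fixed.mul hv.fixed, by rw [mul_assoc, hv.absorb],
    by rw [cut_mul p hR (hu.fixed.mono hRN) (hv.fixed.mono hRN), hu.killed, zero_mul]⟩

/-- Killed elements of degree one are nilpotent. -/
theorem IsHom.isNilpotent (hpM : (p : AlgInt) ∈ M) {hc : IsPBlock M c} (hR : IsPGroup p R)
    (hRN : R ≤ N) (hcR : cut (Subgroup.centralizer (R : Set G) : Set G) (pairIdem hc) ≠ 0)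
    {z : MonoidAlgebra (ResField M) G} (hz : IsHom hc R 1 z) : IsNilpotent z := by
  classical
  haveI := charP_resField (M := M) (Fact.out (p := p.Prime)) hpM
  have hsurj : Function.Surjective (red : loc M → ResField M) := IsLocalRing.residue_surjective
  obtain ⟨lift, hlift⟩ := hsurj.hasRightInverse
  have hcl : IsClassFunction N (fun n : N => ((lift (z.coeff (n : G)) : loc M) : ℂ)) :=
    fun g u => by
      simp only [Subgroup.coe_mul, Subgroup.coe_inv]
      rw [hz.fixed u u.2 g]
  have ha : IsLocClassFun M (fun n : N => ((lift (z.coeff (n : G)) : loc M) : ℂ)) :=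
    ⟨hcl, fun n => (lift (z.coeff (n : G))).2⟩
  have hza : z = incl M N (redFun _ ha.2) := by
    apply MonoidAlgebra.ext
    ext g
    by_cases hg : g ∈ N
    · obtain ⟨n, rfl⟩ : ∃ n : N, (n : G) = g := ⟨⟨g, hg⟩, rfl⟩
      rw [coeff_incl, coeff_redFun]
      exact (hlift _).symm
    · rw [coeff_incl_of_notMem _ hg]
      by_contra hne
      exact hg ((QuotientGroup.eq_one_iff g).1 (hz.supp g hne))
  have hzc : z = incl M N (blockIdem hc * redFun _ ha.2) := by
    rw [(commute_blockIdem hc _).eq, map_mul, ← hza, ← pairIdem_eq_incl hc, hz.absorb]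
  obtain ⟨θ₀, hθ₀⟩ := IsPBlock.nonempty hc
  by_cases hu : MemLocalIdeal M (omega (θ₀ : N → ℂ)
      (fun n : N => ((lift (z.coeff (n : G)) : loc M) : ℂ)))
  · have hn := (isLocClassFun_blockCoeff hc).conv ha
    have hnil := isNilpotent_redFun hn fun ψ => by
      rw [omega_conv ψ (isClassFunction_blockCoeff c), omega_blockCoeff]
      by_cases hψ : ψ ∈ c
      · rw [if_pos hψ, one_mul]
        have := MemLocalIdeal.add' (omega_sub_mem (IsPBlock.sameBlock hc hψ hθ₀) ha) hu
        rwa [sub_add_cancel] at this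
      · rw [if_neg hψ, zero_mul]
        exact MemLocalIdeal.zero'
    have e : redFun (conv (blockCoeff c) _) hn.2 = blockIdem hc * redFun _ ha.2 := by
      rw [blockIdem, redFun, redFun, redFun, ← map_mul,
        toAlg_conv (blockCoeff_mem_loc hc) ha.2 hn.2]
    rw [e] at hnil
    rw [hzc]
    exact hnil.map (incl M N)
  · obtain ⟨w, hw, hcw⟩ := exists_blockIdem_eq_mul hc ha hθ₀ hu
    exfalso
    apply hcR
    have e : pairIdem hc = z * incl M N w := by rw [pairIdem_eq_incl, hcw, map_mul, ← hzc]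
    have hwfix : IsFixedBy N (incl M N w) := by
      rw [isFixedBy_iff_commute]
      intro u hu
      have h1 := (hw (MonoidAlgebra.single ⟨u, hu⟩ 1)).map (incl M N)
      rwa [show incl M N (MonoidAlgebra.single ⟨u, hu⟩ (1 : ResField M)) =
        MonoidAlgebra.single u 1 by simp [incl]] at h1
    rw [e, cut_mul p hR (hz.fixed.mono hRN) (hwfix.mono hRN), hz.killed, zero_mul]

/-- Sums `∑ z a` with `z` in a given set and `a` fixed. -/
noncomputable def fixedSpan (N : Subgroup G) (l : Set (MonoidAlgebra (ResField M) G)) :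
    AddSubmonoid (MonoidAlgebra (ResField M) G) :=
  AddSubmonoid.closure {w | ∃ z ∈ l, ∃ a, IsFixedBy N a ∧ w = z * a}

theorem fixedSpan_mono {l l' : Set (MonoidAlgebra (ResField M) G)} (h : l ⊆ l') :
    fixedSpan N l ≤ fixedSpan N l' :=
  AddSubmonoid.closure_mono fun _ ⟨z, hz, a, ha, e⟩ => ⟨z, h hz, a, ha, e⟩

theorem fixedSpan_mul_right {l : Set (MonoidAlgebra (ResField M) G)}
    {w y : MonoidAlgebra (ResField M) G} (hw : w ∈ fixedSpan N l) (hy : IsFixedBy N y) :
    w * y ∈ fixedSpan N l := by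
  induction hw using AddSubmonoid.closure_induction with
  | mem w hw =>
    obtain ⟨z, hz, a, ha, rfl⟩ := hw
    exact AddSubmonoid.subset_closure ⟨z, hz, a * y, ha.mul hy, mul_assoc _ _ _⟩
  | zero => rw [zero_mul]; exact zero_mem _
  | add u v _ _ hu hv => rw [add_mul]; exact add_mem hu hv

theorem fixedSpan_mul_left {l : Set (MonoidAlgebra (ResField M) G)}
    (hl : ∀ z ∈ l, ∀ g : G, z.coeff g ≠ 0 → (g : G ⧸ N) = 1)
    {w y : MonoidAlgebra (ResField M) G} (hw : w ∈ fixedSpan N l) (hy : IsFixedBy N y) :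
    y * w ∈ fixedSpan N l := by
  induction hw using AddSubmonoid.closure_induction with
  | mem w hw =>
    obtain ⟨z, hz, a, ha, rfl⟩ := hw
    refine AddSubmonoid.subset_closure ⟨z, hz, y * a, hy.mul ha, ?_⟩
    rw [← mul_assoc, (commute_of_supp hy (hl z hz)).eq, mul_assoc]
  | zero => rw [mul_zero]; exact zero_mem _
  | add u v _ _ hu hv => rw [mul_add]; exact add_mem hu hv

/-- An idempotent in the span of finitely many central nilpotent elements is zero. -/
theorem eq_zero_of_mem_fixedSpan (s : Finset (MonoidAlgebra (ResField M) G))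
    (hs : ∀ z ∈ s, (∀ g : G, z.coeff g ≠ 0 → (g : G ⧸ N) = 1) ∧ IsFixedBy N z ∧ IsNilpotent z)
    {F : MonoidAlgebra (ResField M) G} (hF : F * F = F) (hFN : IsFixedBy N F)
    (hmem : F ∈ fixedSpan N (s : Set (MonoidAlgebra (ResField M) G))) : F = 0 := by
  classical
  induction s using Finset.induction with
  | empty =>
    simpa [fixedSpan] using hmem
  | insert z s _ ih =>
    have hsub : ∀ z' ∈ (s : Set (MonoidAlgebra (ResField M) G)),
        ∀ g : G, z'.coeff g ≠ 0 → (g : G ⧸ N) = 1 :=
      fun z' hz' => (hs z' (Finset.mem_insert_of_mem hz')).1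
    have hstep : ∀ w ∈ fixedSpan N ((insert z s : Finset _) : Set (MonoidAlgebra (ResField M) G)),
        ∃ a r, IsFixedBy N a ∧ r ∈ fixedSpan N (s : Set (MonoidAlgebra (ResField M) G)) ∧
          w = z * a + r := by
      intro w hw
      induction hw using AddSubmonoid.closure_induction with
      | mem w hw =>
        obtain ⟨z', hz', a, ha, rfl⟩ := hw
        rcases Finset.mem_insert.1 hz' with rfl | hz''
        · exact ⟨a, 0, ha, zero_mem _, by rw [add_zero]⟩
        · exact ⟨0, _, fun u _ g => by simp,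
            AddSubmonoid.subset_closure ⟨z', hz'', a, ha, rfl⟩, by rw [mul_zero, zero_add]⟩
      | zero => exact ⟨0, 0, fun u _ g => by simp, zero_mem _, by rw [mul_zero, zero_add]⟩
      | add u v _ _ hu hv =>
        obtain ⟨a, r, ha, hr, rfl⟩ := hu
        obtain ⟨b, t, hb, ht, rfl⟩ := hv
        refine ⟨a + b, r + t, fun u hu g => ?_, add_mem hr ht, by rw [mul_add]; abel⟩
        simp [ha u hu g, hb u hu g]
    obtain ⟨a₁, r₁, ha₁, hr₁, h1⟩ := hstep F hmem
    have hzF : Commute F z := commute_of_supp hFN (hs z (Finset.mem_insert_self _ _)).1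
    have hpow : ∀ k : ℕ, ∃ a r, IsFixedBy N a ∧
        r ∈ fixedSpan N (s : Set (MonoidAlgebra (ResField M) G)) ∧ F = z ^ (k + 1) * a + r := by
      intro k
      induction k with
      | zero => exact ⟨a₁, r₁, ha₁, hr₁, by rw [pow_one]; exact h1⟩
      | succ k ih =>
        obtain ⟨a, r, ha, hr, h2⟩ := ih
        exact ⟨a₁ * a, z ^ (k + 1) * (r₁ * a) + F * r, ha₁.mul ha,
          add_mem (fixedSpan_mul_left hsub (fixedSpan_mul_right hr₁ ha)
            ((hs z (Finset.mem_insert_self _ _)).2.1.pow _)) (fixedSpan_mul_left hsub hr hFN), by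
          calc F = F * (z ^ (k + 1) * a + r) := by rw [← h2, hF]
            _ = z ^ (k + 1) * (F * a) + F * r := by
              rw [mul_add, ← mul_assoc, (hzF.pow_right (k + 1)).eq, mul_assoc]
            _ = z ^ (k + 1) * ((z * a₁ + r₁) * a) + F * r := by rw [← h1]
            _ = _ := by rw [pow_succ z (k + 1)]; noncomm_ring⟩
    obtain ⟨e, he⟩ := (hs z (Finset.mem_insert_self _ _)).2.2
    obtain ⟨a, r, -, hr, h2⟩ := hpow e
    rw [pow_succ, he, zero_mul, zero_mul, zero_add] at h2
    exact ih (fun z' hz' => hs z' (Finset.mem_insert_of_mem hz')) (h2 ▸ hr)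

/-- An idempotent killed at `R` in the algebra over `c` is zero. -/
theorem eq_zero_of_killed (hpM : (p : AlgInt) ∈ M) (hc : IsPBlock M c) (hR : IsPGroup p R)
    (hRN : R ≤ N) (hcR : cut (Subgroup.centralizer (R : Set G) : Set G) (pairIdem hc) ≠ 0)
    {F : MonoidAlgebra (ResField M) G} (hF : F * F = F) (hFN : IsFixedBy N F)
    (habs : F * pairIdem hc = F)
    (hkill : cut (Subgroup.centralizer (R : Set G) : Set G) F = 0) : F = 0 := by
  classical
  haveI := Fintype.ofFinite (G ⧸ N)
  -- the components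
  let comp : G ⧸ N → MonoidAlgebra (ResField M) G := fun q => cut {g : G | (g : G ⧸ N) = q} F
  have hcomp : ∀ q, IsHom hc R q (comp q) := fun q => by
    refine ⟨fun g hg => ?_, fun u hu g => ?_, ?_, ?_⟩
    · by_contra hne
      exact hg (coeff_cut_of_notMem _ (show g ∉ {g : G | (g : G ⧸ N) = q} from hne))
    · have e : ((u * g * u⁻¹ : G) : G ⧸ N) = (g : G ⧸ N) := by
        rw [QuotientGroup.mk_mul, QuotientGroup.mk_mul, QuotientGroup.mk_inv,
          (QuotientGroup.eq_one_iff u).2 hu, one_mul, inv_one, mul_one]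
      by_cases hg : (g : G ⧸ N) = q
      · rw [coeff_cut_of_mem _ (show u * g * u⁻¹ ∈ {g : G | (g : G ⧸ N) = q} from e.trans hg),
          coeff_cut_of_mem _ (show g ∈ {g : G | (g : G ⧸ N) = q} from hg), hFN u hu g]
      · rw [coeff_cut_of_notMem _ (show u * g * u⁻¹ ∉ {g : G | (g : G ⧸ N) = q} from
            fun h => hg (e.symm.trans h)),
          coeff_cut_of_notMem _ (show g ∉ {g : G | (g : G ⧸ N) = q} from hg)]
    · rw [← cut_coset_mul hc, habs]
    · rw [cut_cut, Set.inter_comm, ← cut_cut, hkill, cut_zero]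
  have hsum : F = ∑ q, comp q := by
    apply MonoidAlgebra.ext
    ext g
    rw [MonoidAlgebra.coeff_sum, Finsupp.finsetSum_apply, Finset.sum_eq_single (g : G ⧸ N)]
    · exact (coeff_cut_of_mem _ (show g ∈ {x : G | (x : G ⧸ N) = (g : G ⧸ N)} from rfl)).symm
    · intro q _ hq
      exact coeff_cut_of_notMem _ (show g ∉ {x : G | (x : G ⧸ N) = q} from Ne.symm hq)
    · intro h
      exact absurd (Finset.mem_univ _) h
  let Z : Set (MonoidAlgebra (ResField M) G) := {z | IsHom hc R 1 z}
  have key : ∀ (n : ℕ) (s : Finset (G ⧸ N)) (q : G ⧸ N) (v : MonoidAlgebra (ResField M) G),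
      Fintype.card (G ⧸ N) < s.card + n → IsFixedBy N v →
      (∀ r ∈ s, ∃ a b, IsFixedBy N a ∧ v = a * b ∧
        ∀ y, IsHom hc R (r⁻¹ * q * y) (b * comp y)) →
      v * F ^ n ∈ fixedSpan N Z := by
    intro n
    induction n with
    | zero =>
      intro s q v h
      exact absurd h (not_lt.2 (by simpa using s.card_le_univ))
    | succ n ih =>
      intro s q v h hv hinv
      rw [pow_succ', ← mul_assoc]
      nth_rewrite 1 [hsum]
      rw [Finset.mul_sum, Finset.sum_mul]
      refine sum_mem fun y _ => ?_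
      have hFn : IsFixedBy N (F ^ n) := hFN.pow n
      by_cases hy : q * y ∈ s
      · obtain ⟨a, b, ha, hab, hb⟩ := hinv _ hy
        have hz := hb y
        rw [show (q * y)⁻¹ * q * y = 1 by group] at hz
        refine fixedSpan_mul_right (AddSubmonoid.subset_closure ⟨_, hz, a, ha, ?_⟩) hFn
        rw [hab, mul_assoc, (commute_of_supp ha hz.supp).eq]
      · refine ih (insert (q * y) s) (q * y) (v * comp y) ?_ (hv.mul (hcomp y).fixed)
          fun r hr => ?_
        · rw [Finset.card_insert_of_notMem hy]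
          omega
        · rcases Finset.mem_insert.1 hr with rfl | hr'
          · refine ⟨v * comp y, 1, hv.mul (hcomp y).fixed, (mul_one _).symm, fun x => ?_⟩
            rw [one_mul, inv_mul_cancel, one_mul]
            exact hcomp x
          · obtain ⟨a, b, ha, hab, hb⟩ := hinv r hr'
            refine ⟨a, b * comp y, ha, by rw [hab, mul_assoc], fun x => ?_⟩
            have := (hb y).mul hpM hR hRN (hcomp x)
            rwa [show r⁻¹ * q * y * x = r⁻¹ * (q * y) * x by group] at this
  have hid : IsIdempotentElem F := hF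
  have hmem : F ∈ fixedSpan N Z := by
    have h1 := key (Fintype.card (G ⧸ N)) {1} 1 1 (by simp) IsFixedBy.one fun r hr =>
      ⟨1, 1, IsFixedBy.one, (mul_one _).symm, fun y => by
        rw [Finset.mem_singleton.1 hr, inv_one, one_mul, one_mul, one_mul]
        exact hcomp y⟩
    rwa [one_mul, show F ^ Fintype.card (G ⧸ N) = F by
      obtain ⟨k, hk⟩ : ∃ k, Fintype.card (G ⧸ N) = k + 1 :=
        ⟨Fintype.card (G ⧸ N) - 1, by have := Fintype.card_pos (α := G ⧸ N); omega⟩
      rw [hk, hid.pow_succ_eq]] at h1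
  obtain ⟨s, hs, hmem'⟩ : ∃ s : Finset (MonoidAlgebra (ResField M) G), (∀ z ∈ s, z ∈ Z) ∧
      F ∈ fixedSpan N (s : Set (MonoidAlgebra (ResField M) G)) := by
    clear * - hmem
    induction hmem using AddSubmonoid.closure_induction with
    | mem w hw =>
      obtain ⟨z, hz, a, ha, rfl⟩ := hw
      exact ⟨{z}, fun z' hz' => Finset.mem_singleton.1 hz' ▸ hz,
        AddSubmonoid.subset_closure ⟨z, by simp, a, ha, rfl⟩⟩
    | zero => exact ⟨∅, fun z hz => absurd hz (Finset.notMem_empty z), zero_mem _⟩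
    | add u v _ _ hu hv =>
      obtain ⟨s, hs, hu⟩ := hu
      obtain ⟨t, ht, hv⟩ := hv
      exact ⟨s ∪ t, fun z hz => (Finset.mem_union.1 hz).elim (hs z) (ht z),
        add_mem (fixedSpan_mono (by simp) hu) (fixedSpan_mono (by simp) hv)⟩
  exact eq_zero_of_mem_fixedSpan s (fun z hz => ⟨(hs z hz).supp, (hs z hz).fixed,
    (hs z hz).isNilpotent hpM hR hRN hcR⟩) hF hFN hmem'

/-- A covering block survives the truncation at the defect groups of the covered block. -/
theorem cut_blockIdem_ne_zero_of_covered (hpM : (p : AlgInt) ∈ M) (hc : IsPBlock M c)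
    {B : Set (IrrCharacter G)} (hB : IsPBlock M B) (hne : blockIdem hB * pairIdem hc ≠ 0)
    (hR : IsPGroup p R) (hRN : R ≤ N)
    (hcR : cut (Subgroup.centralizer (R : Set G) : Set G) (pairIdem hc) ≠ 0) :
    cut (Subgroup.centralizer (R : Set G) : Set G) (blockIdem hB) ≠ 0 := by
  haveI := charP_resField (M := M) (Fact.out (p := p.Prime)) hpM
  intro h0
  refine hne (eq_zero_of_killed hpM hc hR hRN hcR ?_
    ((isFixedBy_blockIdem hB N).mul (isFixedBy_pairIdem_self hc)) ?_ ?_)
  · rw [mul_assoc, ← mul_assoc (pairIdem hc), ← (commute_blockIdem hB (pairIdem hc)).eq,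
      mul_assoc, pairIdem_mul_self, ← mul_assoc, blockIdem_mul_self]
  · rw [mul_assoc, pairIdem_mul_self]
  · rw [cut_mul p hR (isFixedBy_blockIdem hB R) ((isFixedBy_pairIdem_self hc).mono hRN), h0,
      zero_mul]

/-- A `p`-subgroup at which a block survives lies in a defect group. -/
theorem exists_conj_le_of_cut_ne_zero (hpM : (p : AlgInt) ∈ M) {B : Set (IrrCharacter G)}
    (hB : IsPBlock M B) {P : Subgroup G} (hP : IsDefectGroup p M B P) (hR : IsPGroup p R)
    (hne : cut (Subgroup.centralizer (R : Set G) : Set G) (blockIdem hB) ≠ 0) :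
    ∃ y : G, R.map (MulAut.conj y).toMonoidHom ≤ P := by
  classical
  haveI := Fintype.ofFinite (Subgroup.centralizer (R : Set G))
  obtain ⟨h₀, hh₀⟩ := exists_pair_on_defectGroup hpM hB hP
  obtain ⟨h, hh, hne'⟩ : ∃ (h : Set (IrrCharacter (Subgroup.centralizer (R : Set G))))
      (hh : IsPBlock M h), pairIdem hh *
        cut (Subgroup.centralizer (R : Set G) : Set G) (blockIdem hB) ≠ 0 := by
    by_contra hcon
    push Not at hcon
    apply hne
    rw [← one_mul (cut _ (blockIdem hB)),
      ← sum_pairIdem (M := M) (blockFinset M (Subgroup.centralizer (R : Set G))) rfl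
      (fun e => if he : IsPBlock M e then pairIdem he else 0) (fun e he => dif_pos he),
      Finset.sum_mul]
    refine Finset.sum_eq_zero fun e he => ?_
    rw [dif_pos (mem_blockFinset.1 he)]
    exact hcon e _
  have hd := isBrauerPairOf_iff hpM (⟨hR, hh⟩ : IsBrauerPair p M R h) hB
  have hpair := hd.1.2 (hd.2.resolve_right hne')
  obtain ⟨y, hy⟩ := exists_conj_below (b := ⟨P, h₀⟩) (a := ⟨R, h⟩) hpM
    (isMaximal_of_defectGroup hpM hP hh₀) hpair
  exact ⟨y, below_le hy⟩

theorem cut_pairIdem_ne_zero_of_pair (hpM : (p : AlgInt) ∈ M) {R' : Subgroup N}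
    {r' : Set (IrrCharacter (Subgroup.centralizer (R' : Set N)))} (hc : IsPBlock M c)
    (h : IsBrauerPairOf p M c R' r') :
    cut (Subgroup.centralizer ((R'.map N.subtype : Subgroup G) : Set G) : Set G)
      (pairIdem hc) ≠ 0 := by
  have hUV : ∀ u : N, u ∈ Subgroup.centralizer (R' : Set N) ↔
      (u : G) ∈ Subgroup.centralizer ((R'.map N.subtype : Subgroup G) : Set G) ⊓ N := by
    intro u
    refine ⟨fun hu => ⟨Subgroup.mem_centralizer_iff.2 ?_, u.2⟩, fun hu => ?_⟩
    · rintro _ ⟨y, hy, rfl⟩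
      exact congrArg Subtype.val (Subgroup.mem_centralizer_iff.1 hu y hy)
    · exact Subgroup.mem_centralizer_iff.2 fun y hy =>
        Subtype.ext (Subgroup.mem_centralizer_iff.1 hu.1 _ ⟨y, hy, rfl⟩)
  intro h0
  have h1 := (isBrauerPairOf_iff hpM h.1 hc).1.1 h
  rw [← cut_centralizer_pairIdem hc, pairIdem_eq_incl hc, ← incl_cut_trans inf_le_right hUV,
    map_eq_zero_iff _ incl_injective] at h0
  rw [h0, mul_zero] at h1
  exact pairIdem_ne_zero h.1.2 h1.symm

/-- The defect groups of a covered block lie in defect groups of the covering block. -/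
theorem exists_conj_le_of_covered (hpM : (p : AlgInt) ∈ M) (hc : IsPBlock M c)
    {B : Set (IrrCharacter G)} (hB : IsPBlock M B) (hne : blockIdem hB * pairIdem hc ≠ 0)
    {R' : Subgroup N} (hR' : IsDefectGroup p M c R') {P : Subgroup G}
    (hP : IsDefectGroup p M B P) :
    ∃ y : G, (R'.map N.subtype).map (MulAut.conj y).toMonoidHom ≤ P := by
  obtain ⟨r', hr'⟩ := exists_pair_on_defectGroup hpM hc hR'
  exact exists_conj_le_of_cut_ne_zero hpM hB hP (isPGroup_map_subtype hr'.1.1)
    (cut_blockIdem_ne_zero_of_covered hpM hc hB hne (isPGroup_map_subtype hr'.1.1)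
      (Subgroup.map_subtype_le R') (cut_pairIdem_ne_zero_of_pair hpM hc hr'))

end CfsgLib.Blocks
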