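import Cfsg.Agent.Lib.Blocks.CoveredDefect
import Cfsg.Agent.Lib.Blocks.FongReynolds

/-!
# A stable covered block and its defect group
-/

set_option linter.unusedSectionVars false
set_option linter.style.haveILetI false

namespace CfsgLib.Blocks

open Cfsg Chars

variable {G : Type*} [Group G] [Fintype G] {N : Subgroup G} [N.Normal] [Fintype N]
  {M : Ideal AlgInt} [M.IsPrime] {p : ℕ} [Fact p.Prime] {c : Set (IrrCharacter N)}

theorem covers_of_mul_ne_zero (hc : IsPBlock M c) {B : Set (IrrCharacter G)}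
    (hB : IsPBlock M B) (hne : blockIdem hB * pairIdem hc ≠ 0) :
    ∃ χ ∈ B, ∃ θ ∈ c, classInner (fun n : N => (χ : G → ℂ) n) (θ : N → ℂ) ≠ 0 := by
  classical
  by_contra hcon
  apply hne
  obtain ⟨O, hO⟩ : ∃ O, O = conjSet N c := ⟨_, rfl⟩
  have hst : ∀ g θ, conjIrr N g θ ∈ O ↔ θ ∈ O := fun g θ => hO ▸ conjIrr_mem_conjSet N g θ
  have hloc : IsLocClassFun M (liftIdem N O) := hO ▸ isLocClassFun_liftIdem N hc
  have hOloc := isLocClassFun_blockCoeff_saturated (M := M) (O := O)
    fun θ φ h1 h2 => hO ▸ conjSet_saturated N hc (hO ▸ h1) h2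
  have e : redFun (liftIdem N O) hloc.2 = incl M N (redFun (blockCoeff O) hOloc.2) := by
    apply MonoidAlgebra.ext
    ext g
    by_cases hg : g ∈ N
    · obtain ⟨n, rfl⟩ : ∃ n : N, (n : G) = g := ⟨⟨g, hg⟩, rfl⟩
      rw [coeff_incl, coeff_redFun, coeff_redFun]
      exact congrArg red (Subtype.ext (congrFun (resFun_liftIdem N O) n))
    · rw [coeff_incl_of_notMem _ hg, coeff_redFun_eq_zero_iff, liftIdem_eq_zero N O hg]
      exact MemLocalIdeal.zero'
  have hidemO : redFun (blockCoeff O) hOloc.2 * redFun (blockCoeff O) hOloc.2 =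
      redFun (blockCoeff O) hOloc.2 := by
    rw [redFun, ← map_mul, toAlg_mul_self hOloc.2 (conv_blockCoeff_self O)]
  have hidem : redFun (liftIdem N O) hloc.2 * redFun (liftIdem N O) hloc.2 =
      redFun (liftIdem N O) hloc.2 := by rw [e, ← map_mul, hidemO]
  obtain ⟨χ, hχ⟩ := IsPBlock.nonempty hB
  obtain ⟨θ, hθ⟩ := exists_constituent_restrict N χ
  have hθO : θ ∉ O := fun hθO => by
    obtain ⟨x, θ', hθ', rfl⟩ := hO ▸ hθO
    refine hcon ⟨χ, hχ, θ', hθ', ?_⟩
    rwa [coe_conjIrr, inner_conjFn N (isClassFunction_irr χ)] at hθ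
  have h0 : blockIdem hB * redFun (liftIdem N O) hloc.2 = 0 := by
    rcases blockIdem_mul_dichotomy hB hloc hidem hχ with ⟨h1, -⟩ | ⟨-, h1⟩
    · rw [omega_liftIdem N hst χ hθ, if_neg hθO, zero_sub] at h1
      exact absurd (by simpa using MemLocalIdeal.neg' h1) not_memLocalIdeal_one
    · exact h1
  have hcO : pairIdem hc * redFun (liftIdem N O) hloc.2 = pairIdem hc := by
    obtain ⟨θ₀, hθ₀⟩ := IsPBlock.nonempty hc
    rw [e, pairIdem_eq_incl, ← map_mul]
    rcases blockIdem_mul_dichotomy hc hOloc hidemO hθ₀ with ⟨-, h1⟩ | ⟨h1, -⟩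
    · rw [h1]
    · rw [omega_blockCoeff, if_pos (hO ▸ subset_conjSet N c hθ₀)] at h1
      exact absurd h1 not_memLocalIdeal_one
  conv_lhs => rw [← hcO]
  rw [← mul_assoc, (commute_blockIdem hB (pairIdem hc)).eq, mul_assoc, h0, mul_zero]

/-- A covered block has nonzero product with the covering block. -/
theorem mul_ne_zero_of_covers (hc : IsPBlock M c) {B : Set (IrrCharacter G)} (hB : IsPBlock M B)
    (hcov : ∃ χ ∈ B, ∃ θ ∈ c, classInner (fun n : N => (χ : G → ℂ) n) (θ : N → ℂ) ≠ 0) :
    blockIdem hB * pairIdem hc ≠ 0 := by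
  classical
  obtain ⟨c', hc', hne⟩ : ∃ (c' : Set (IrrCharacter N)) (hc' : IsPBlock M c'),
      blockIdem hB * pairIdem hc' ≠ 0 := by
    by_contra hcon
    push Not at hcon
    apply blockIdem_ne_zero hB
    rw [← mul_one (blockIdem hB), ← sum_pairIdem (M := M) (blockFinset M N) rfl
      (fun e => if he : IsPBlock M e then pairIdem he else 0) (fun e he => dif_pos he),
      Finset.mul_sum]
    refine Finset.sum_eq_zero fun e he => ?_
    rw [dif_pos (mem_blockFinset.1 he)]
    exact hcon e _
  obtain ⟨χ', hχ', θ', hθ', hne'⟩ := covers_of_mul_ne_zero hc' hB hne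
  obtain ⟨χ, hχ, θ, hθ, hcne⟩ := hcov
  obtain ⟨x, θ'', hθ'', hx⟩ :=
    mem_conjSet_of_sameBlock N hc (IsPBlock.sameBlock hB hχ hχ') hθ hcne hne'
  have hxN : x⁻¹ ∈ Subgroup.normalizer (N : Set G) := by
    rw [Subgroup.normalizer_eq_top]
    exact Subgroup.mem_top _
  have hcx := isPBlock_conjImage x⁻¹ (conj_mem_iff_of_mem_normalizer hxN) hc
  have hc'x : c' = conjImage x⁻¹ (conj_mem_iff_of_mem_normalizer hxN) c := by
    refine IsPBlock.eq_of_mem hc' hcx hθ' ⟨θ'', hθ'', ?_⟩
    rw [hx]
    refine Subtype.ext (funext fun n => ?_)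
    rw [pullIrr_apply, coe_conjIrr]
    refine congrArg _ (Subtype.ext ?_)
    simp [conjIso, mul_assoc]
  intro h0
  apply hne
  have h1 := congrArg (conjAlg (M := M) x⁻¹) h0
  rw [map_mul, map_zero] at h1
  rw [show conjAlg x⁻¹ (blockIdem hB) = blockIdem hB by
    apply MonoidAlgebra.ext
    ext g
    rw [coeff_conjAlg, blockIdem, coeff_redFun, coeff_redFun]
    refine congrArg red (Subtype.ext ?_)
    have := isClassFunction_blockCoeff B g x
    simpa using this] at h1
  rw [conjAlg_pairIdem hc hc' x⁻¹ fun g => by rw [hc'x]; exact subgroupBlockCoeff_conjImage' _ _ _ g]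
    at h1
  exact h1

/-- A covered block stable under a defect group, with the intersection as defect group. -/
theorem exists_stable_covered (hpM : (p : AlgInt) ∈ M) {B : Set (IrrCharacter G)}
    (hB : IsPBlock M B) {P : Subgroup G} (hP : IsDefectGroup p M B P) :
    ∃ (c : Set (IrrCharacter N)) (hc : IsPBlock M c), (∀ x ∈ P, StabilizesBlock N c x) ∧
      blockIdem hB * pairIdem hc ≠ 0 ∧ IsDefectGroup p M c ((P ⊓ N).subgroupOf N) := by
  classical
  haveI := charP_resField (M := M) (Fact.out (p := p.Prime)) hpM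
  haveI := irrFintype N
  have hPp := IsDefectGroup.isPGroup hP
  obtain ⟨h₀, hh₀⟩ := exists_pair_on_defectGroup hpM hB hP
  let W := {f : Set (IrrCharacter N) // IsPBlock M f}
  haveI : Finite W := Subtype.finite
  haveI := Fintype.ofFinite W
  have hxN : ∀ u : G, u ∈ Subgroup.normalizer (N : Set G) := fun u => by
    rw [Subgroup.normalizer_eq_top]
    exact Subgroup.mem_top _
  letI : MulAction P W :=
    { smul := fun u w => ⟨conjImage (u : G) (conj_mem_iff_of_mem_normalizer (hxN u)) w.1,
        isPBlock_conjImage _ _ w.2⟩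
      one_smul := fun w => Subtype.ext (eq_of_subgroupBlockCoeff_eq (funext fun g => by
        refine (subgroupBlockCoeff_conjImage' _ _ w.1 g).trans ?_
        simp))
      mul_smul := fun u v w => Subtype.ext (eq_of_subgroupBlockCoeff_eq (funext fun g => by
        refine (subgroupBlockCoeff_conjImage' _ _ w.1 g).trans ?_
        refine Eq.symm ((subgroupBlockCoeff_conjImage' _ _ _ g).trans
          ((subgroupBlockCoeff_conjImage' _ _ w.1 _).trans ?_))
        congr 1
        simp [mul_assoc])) }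
  obtain ⟨w, hw, hwne⟩ : ∃ w : W, w ∈ MulAction.fixedPoints P W ∧
      cut (Subgroup.centralizer (P : Set G) : Set G) (blockIdem hB * pairIdem w.2) ≠ 0 := by
    by_contra hcon
    push Not at hcon
    have hsum : ∑ w : W, pairIdem w.2 = 1 := by
      rw [← sum_pairIdem (M := M) (H := N) (blockFinset M N) rfl
        (fun f => if hf : IsPBlock M f then pairIdem hf else 0) (fun f hf => dif_pos hf),
        Finset.sum_subtype (p := IsPBlock M) (blockFinset M N) (fun f => mem_blockFinset)]
      exact Finset.sum_congr rfl fun w _ => (dif_pos w.2).symm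
    have hpair := (isBrauerPairOf_iff hpM hh₀.1 hB).1.1 hh₀
    apply pairIdem_ne_zero hh₀.1.2
    rw [← hpair, ← mul_one (blockIdem hB), ← hsum, Finset.mul_sum, cut_sum]
    have hz : ∀ g, (∑ w : W, cut (Subgroup.centralizer (P : Set G) : Set G)
        (blockIdem hB * pairIdem w.2)).coeff g = 0 := fun g => by
      rw [MonoidAlgebra.coeff_sum, Finsupp.finsetSum_apply]
      by_cases hg : g ∈ Subgroup.centralizer (P : Set G)
      · rw [sum_eq_sum_fixedPoints p hPp (fun w : W => (cut
          (Subgroup.centralizer (P : Set G) : Set G) (blockIdem hB * pairIdem w.2)).coeff g)]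
        · refine Finset.sum_eq_zero fun w hw => ?_
          rw [hcon w (Finset.mem_filter.1 hw).2]
          simp
        · intro u w
          show (cut _ (blockIdem hB * pairIdem (u • w).2)).coeff g = _
          have e : blockIdem hB * pairIdem (u • w).2 =
              conjAlg (u : G) (blockIdem hB * pairIdem w.2) := by
            rw [map_mul, conjAlg_pairIdem w.2 (u • w).2 (u : G)
              fun y => subgroupBlockCoeff_conjImage' _ _ w.1 y]
            congr 1
            apply MonoidAlgebra.ext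
            ext y
            rw [coeff_conjAlg, blockIdem, coeff_redFun, coeff_redFun]
            refine congrArg red (Subtype.ext ?_)
            have := isClassFunction_blockCoeff B y (u : G)⁻¹
            simpa using this.symm
          rw [e, coeff_cut_of_mem _ (show g ∈ (Subgroup.centralizer (P : Set G) : Set G) from hg),
            coeff_cut_of_mem _ (show g ∈ (Subgroup.centralizer (P : Set G) : Set G) from hg),
            coeff_conjAlg]
          congr 1
          rw [mul_assoc, ← Subgroup.mem_centralizer_iff.1 hg u u.2, inv_mul_cancel_left]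
      · exact Finset.sum_eq_zero fun w _ =>
          coeff_cut_of_notMem _ (show g ∉ (Subgroup.centralizer (P : Set G) : Set G) from hg)
    rw [show (∑ w : W, cut (Subgroup.centralizer (P : Set G) : Set G)
        (blockIdem hB * pairIdem w.2)) = 0 from MonoidAlgebra.ext (Finsupp.ext fun g => by
          rw [hz g]; simp), mul_zero]
  obtain ⟨c, hc⟩ := w
  have hst : ∀ x ∈ P, StabilizesBlock N c x := fun x hx =>
    (stabilizesBlock_iff_conjImage hc (hxN x)).2 (congrArg Subtype.val (hw ⟨x, hx⟩))
  have hne : blockIdem hB * pairIdem hc ≠ 0 := fun h0 => hwne (by rw [h0, cut_zero])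
  refine ⟨c, hc, hst, hne, ?_⟩
  have hcP : cut (Subgroup.centralizer (P : Set G) : Set G) (pairIdem hc) ≠ 0 := fun h0 => by
    apply hwne
    rw [cut_mul p hPp (isFixedBy_blockIdem hB P) (isFixedBy_pairIdem hc fun u hu g => ((stabilizesBlock_iff hc).1 (hst u hu)).2 g), h0, mul_zero]
  -- `P ∩ N` is contained in a defect group of `c`
  have hQN : P ⊓ N ≤ N := inf_le_right
  have hcQ : cut (Subgroup.centralizer ((P ⊓ N : Subgroup G) : Set G) : Set G) (pairIdem hc) ≠ 0 := by
    intro h0
    apply hcP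
    rw [← cut_cut_centralizer (inf_le_left : P ⊓ N ≤ P), h0, cut_zero]
  have hUV : ∀ u : N, u ∈ Subgroup.centralizer ((P ⊓ N).subgroupOf N : Set N) ↔
      (u : G) ∈ Subgroup.centralizer ((P ⊓ N : Subgroup G) : Set G) ⊓ N :=
    fun u => (mem_centralizer_subgroupOf_iff hQN u).trans ⟨fun h' => ⟨h', u.2⟩, And.left⟩
  have hcQ' : cut (Subgroup.centralizer ((P ⊓ N).subgroupOf N : Set N) : Set N) (blockIdem hc) ≠ 0 := by
    intro h0
    apply hcQ
    rw [← cut_centralizer_pairIdem hc, pairIdem_eq_incl hc, ← incl_cut_trans inf_le_right hUV, h0,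
      map_zero]
  obtain ⟨D, hD⟩ := exists_isDefectGroup (p := p) hc
  obtain ⟨y, hy⟩ := exists_conj_le_of_cut_ne_zero hpM hc hD
    (isPGroup_subgroupOf (hPp.to_le inf_le_left) hQN) hcQ'
  obtain ⟨z, hz⟩ := exists_conj_le_of_covered hpM hc hB hne hD hP
  have hcard : Nat.card D ≤ Nat.card (((P ⊓ N).subgroupOf N).map (MulAut.conj y).toMonoidHom) := by
    rw [Base.card_map_conj, Base.card_subgroupOf hQN, ← Base.card_map_subtype D,
      ← Base.card_map_conj z (D.map N.subtype)]
    refine Subgroup.card_le_of_le (le_inf hz ?_)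
    rintro _ ⟨v, hv, rfl⟩
    exact Subgroup.Normal.conj_mem (H := N) inferInstance _ (Subgroup.map_subtype_le D hv) z
  have heq := Subgroup.eq_of_le_of_card_ge hy hcard
  have h2 := IsDefectGroup.map_conj hD y⁻¹ hc
  rwa [← heq, map_conj_map_conj, inv_mul_cancel, map_conj_one] at h2

end CfsgLib.Blocks
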