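import Cfsg.Agent.Lib.Blocks.CoveredDefectGroup

/-!
# The stabilizer of a covered block meets a `p`-power overgroup trivially
-/

set_option linter.unusedSectionVars false
set_option linter.style.haveILetI false

namespace CfsgLib.Blocks

open Cfsg Chars

variable {G : Type*} [Group G] [Fintype G] {N : Subgroup G} [N.Normal] [Fintype N]
  {M : Ideal AlgInt} [M.IsPrime] {p : ℕ} [Fact p.Prime] {c : Set (IrrCharacter N)}

/-- A block of `N` as a block of `N` computed inside a larger subgroup. -/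
theorem exists_subBlock {K : Subgroup G} [Fintype K] (hNK : N ≤ K) (hc : IsPBlock M c) :
    ∃ (c' : Set (IrrCharacter (N.subgroupOf K))) (hc' : IsPBlock M c'),
      incl M K (pairIdem hc') = pairIdem hc ∧
      ∀ v : K, subgroupBlockCoeff (N.subgroupOf K) c' v = subgroupBlockCoeff N c (v : G) := by
  haveI := Fintype.ofFinite (N.subgroupOf K)
  have hUV : ∀ u : K, u ∈ N.subgroupOf K ↔ (u : G) ∈ N := fun u => Subgroup.mem_subgroupOf
  have key : ∀ v : K, subgroupBlockCoeff (N.subgroupOf K)
      (pullIrr (transIso hNK hUV) '' c) v = subgroupBlockCoeff N c (v : G) := fun v => by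
    by_cases hv : v ∈ N.subgroupOf K
    · rw [show v = ((⟨v, hv⟩ : N.subgroupOf K) : K) from rfl, subgroupBlockCoeff_coe,
        blockCoeff_image_pullIrr, ← subgroupBlockCoeff_coe]
      rfl
    · rw [subgroupBlockCoeff_of_notMem _ hv,
        subgroupBlockCoeff_of_notMem _ fun h' => hv ((hUV v).2 h')]
  refine ⟨_, isPBlock_image_pullIrr _ hc, ?_, key⟩
  apply MonoidAlgebra.ext
  ext g
  by_cases hg : g ∈ K
  · obtain ⟨v, rfl⟩ : ∃ v : K, (v : G) = g := ⟨⟨g, hg⟩, rfl⟩
    rw [coeff_incl, coeff_pairIdem, coeff_pairIdem]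
    exact congrArg red (Subtype.ext (key v))
  · rw [coeff_incl_of_notMem _ hg, eq_comm, coeff_pairIdem_eq_zero_iff,
      subgroupBlockCoeff_of_notMem _ fun h' => hg (hNK h')]
    exact MemLocalIdeal.zero'

theorem stabilizes_subBlock {K : Subgroup G} [Fintype K] {c' : Set (IrrCharacter (N.subgroupOf K))}
    (hc : IsPBlock M c) (hc' : IsPBlock M c')
    (hcoef : ∀ v : K, subgroupBlockCoeff (N.subgroupOf K) c' v = subgroupBlockCoeff N c (v : G))
    {x : K} (hx : StabilizesBlock N c (x : G)) : StabilizesBlock (N.subgroupOf K) c' x := by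
  refine (stabilizesBlock_iff hc').2 ⟨by rw [Subgroup.normalizer_eq_top]; exact Subgroup.mem_top _,
    fun v => ?_⟩
  rw [hcoef, hcoef]
  exact ((stabilizesBlock_iff hc).1 hx).2 v

/-- A stable block covered with defect group inside `N` admits no `p`-overgroup. -/
theorem eq_of_stable_covered (hpM : (p : AlgInt) ∈ M) {K : Subgroup G} [K.Normal] (hNK : N ≤ K)
    {k : ℕ} (hk : (N.subgroupOf K).index = p ^ k) (hc : IsPBlock M c)
    (hst : ∀ x : G, StabilizesBlock N c x) {B : Set (IrrCharacter G)} (hB : IsPBlock M B)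
    (hne : blockIdem hB * pairIdem hc ≠ 0) {P : Subgroup G} (hP : IsDefectGroup p M B P)
    (hPN : P ≤ N) : K = N := by
  classical
  haveI := Fintype.ofFinite K
  haveI := Fintype.ofFinite (N.subgroupOf K)
  obtain ⟨b, hb, -, hbne, hbD⟩ := exists_stable_covered (N := K) hpM hB hP
  -- `B c = B`
  have hBc : blockIdem hB * pairIdem hc = blockIdem hB := by
    have hloc : IsLocClassFun M (subgroupBlockCoeff N c) :=
      ⟨fun g u => ((stabilizesBlock_iff hc).1 (hst u)).2 g, subgroupBlockCoeff_mem_loc hc⟩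
    obtain ⟨χ, hχ⟩ := IsPBlock.nonempty hB
    rcases blockIdem_mul_dichotomy hB hloc (pairIdem_mul_self hc) hχ with ⟨-, h⟩ | ⟨-, h⟩
    · exact h
    · exact absurd h hne
  obtain ⟨c', hc', hincl, hcoef⟩ := exists_subBlock hNK hc
  have hst' : ∀ x : K, StabilizesBlock (N.subgroupOf K) c' x :=
    fun x => stabilizes_subBlock hc hc' hcoef (hst x)
  have hbc : blockIdem hb * pairIdem hc' ≠ 0 := by
    intro h0
    apply hbne
    have h1 := congrArg (incl M K) h0
    rw [map_mul, map_zero, ← pairIdem_eq_incl hb, hincl] at h1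
    rw [← hBc, mul_assoc]
    have hcomm : Commute (pairIdem hc) (pairIdem hb) := by
      rw [pairIdem_eq_incl hb, ← hincl]
      exact ((commute_blockIdem hb _).symm).map _
    rw [hcomm.eq, h1, mul_zero]
  obtain ⟨B₁, hB₁, hB₁c⟩ := exists_block_lift (N.subgroupOf K) hpM hk hc' hst'
  obtain rfl : b = B₁ := covering_unique (N.subgroupOf K) hpM hk hc' hb hB₁
    (covers_of_mul_ne_zero hc' hb hbc) (covers_of_coeff (N.subgroupOf K) hc' hst' hB₁ hB₁c)
  have h1 := (defect_of_lift (N.subgroupOf K) hpM hk hc' hst' hb hB₁c hbD).1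
  refine le_antisymm ?_ hNK
  have h2 : (P ⊓ K).subgroupOf K ≤ N.subgroupOf K := fun v hv =>
    hPN (Subgroup.mem_subgroupOf.1 hv).1
  rw [sup_eq_left.2 h2] at h1
  exact Subgroup.subgroupOf_eq_top.1 h1

end CfsgLib.Blocks
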