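import Cfsg.Agent.Lib.Blocks.Covering
import Cfsg.Agent.Lib.Blocks.Center

/-!
# Every character of a covered block lies under the covering block

The pieces of a block idempotent on the cosets of the normal subgroup `N` centralize `N`, and
permute with each other; so one of them is not nilpotent modulo `M`.
-/

set_option linter.unusedSectionVars false
set_option linter.style.haveILetI false

namespace CfsgLib.Blocks

open Cfsg Chars

/-- If elements permuting with each other are nilpotent, so is their sum. -/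
theorem isNilpotent_sum_of_swap {R Q : Type*} [Semiring R] [Group Q] [Fintype Q] (U : Q → R)
    (hswap : ∀ a b, U a * U b = U (a * b * a⁻¹) * U a) (hnil : ∀ a, IsNilpotent (U a)) :
    IsNilpotent (∑ a, U a) := by
  classical
  choose K hK using hnil
  have hmove : ∀ (a x : Q) (j : ℕ), ∃ x', U x * U a ^ j = U a ^ j * U x' := by
    intro a x j
    induction j with
    | zero => exact ⟨x, by simp⟩
    | succ j ih =>
      obtain ⟨x', hx'⟩ := ih
      refine ⟨a⁻¹ * x' * a, ?_⟩
      have h := hswap a (a⁻¹ * x' * a)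
      rw [show a * (a⁻¹ * x' * a) * a⁻¹ = x' by group] at h
      rw [pow_succ, ← mul_assoc, hx', mul_assoc, ← h, ← mul_assoc]
  have hword : ∀ (m : ℕ) (w : Fin m → Q) (a : Q) (j : ℕ),
      j ≤ (Finset.univ.filter fun i => w i = a).card →
        ∃ r, (List.ofFn fun i => U (w i)).prod = U a ^ j * r := by
    intro m
    induction m with
    | zero =>
      intro w a j hj
      have : j = 0 := by simpa using hj
      exact ⟨1, by simp [this]⟩
    | succ m ih =>
      intro w a j hj
      rw [Fin.card_filter_univ_succ] at hj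
      rw [List.ofFn_succ, List.prod_cons]
      by_cases h0 : w 0 = a
      · rcases j with _ | j
        · exact ⟨_, by rw [pow_zero, one_mul]⟩
        rw [if_pos h0] at hj
        obtain ⟨r, hr⟩ := ih (fun i => w i.succ) a j (Nat.le_of_succ_le_succ hj)
        exact ⟨r, by rw [hr, h0, pow_succ', mul_assoc]⟩
      · rw [if_neg h0] at hj
        obtain ⟨r, hr⟩ := ih (fun i => w i.succ) a j hj
        obtain ⟨x', hx'⟩ := hmove a (w 0) j
        exact ⟨U x' * r, by rw [hr, ← mul_assoc, hx', mul_assoc]⟩
  have hpow : ∀ m, (∑ a, U a) ^ m = ∑ w : Fin m → Q, (List.ofFn fun i => U (w i)).prod := by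
    intro m
    induction m with
    | zero => simp
    | succ m ih =>
      rw [pow_succ', ih, Finset.sum_mul_sum, ← (Fin.consEquiv fun _ => Q).sum_comp,
        Fintype.sum_prod_type]
      refine Finset.sum_congr rfl fun g _ => Finset.sum_congr rfl fun w _ => ?_
      simp [Fin.consEquiv, List.ofFn_succ]
  refine ⟨∑ a, K a + 1, ?_⟩
  rw [hpow]
  refine Finset.sum_eq_zero fun w _ => ?_
  obtain ⟨a, ha⟩ : ∃ a, K a ≤ (Finset.univ.filter fun i => w i = a).card := by
    by_contra hcon
    push Not at hcon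
    have h1 : ∑ a, (Finset.univ.filter fun i => w i = a).card = ∑ a, K a + 1 := by
      rw [← Finset.card_eq_sum_card_fiberwise fun i _ => Finset.mem_univ (w i)]
      simp
    have h2 : ∑ a, (Finset.univ.filter fun i => w i = a).card ≤ ∑ a, K a :=
      Finset.sum_le_sum fun a _ => (hcon a).le
    omega
  obtain ⟨r, hr⟩ := hword _ w a (K a) ha
  rw [hr, hK a, zero_mul]

section Coset

variable {k G : Type*} [CommRing k] [Group G] (N : Subgroup G)

/-- The part of a group ring element on a coset. -/
noncomputable def cosetCut (q : G ⧸ N) (f : MonoidAlgebra k G) : MonoidAlgebra k G :=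
  cut {g : G | (g : G ⧸ N) = q} f

theorem cut_single_comm (S : Set G) (x : G) (f : MonoidAlgebra k G) :
    MonoidAlgebra.single x 1 * cut S f =
      cut {g | x⁻¹ * g ∈ S} (MonoidAlgebra.single x 1 * f) := by
  classical
  apply MonoidAlgebra.ext
  ext g
  by_cases h : x⁻¹ * g ∈ S
  · rw [coeff_cut_of_mem _ (show g ∈ {g | x⁻¹ * g ∈ S} from h)]
    simp [coeff_cut_of_mem _ h]
  · rw [coeff_cut_of_notMem _ (show g ∉ {g | x⁻¹ * g ∈ S} from h)]
    simp [coeff_cut_of_notMem _ h]

theorem cut_mul_single (S : Set G) (x : G) (f : MonoidAlgebra k G) :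
    cut S f * MonoidAlgebra.single x 1 =
      cut {g | g * x⁻¹ ∈ S} (f * MonoidAlgebra.single x 1) := by
  classical
  apply MonoidAlgebra.ext
  ext g
  by_cases h : g * x⁻¹ ∈ S
  · rw [coeff_cut_of_mem _ (show g ∈ {g | g * x⁻¹ ∈ S} from h)]
    simp [coeff_cut_of_mem _ h]
  · rw [coeff_cut_of_notMem _ (show g ∉ {g | g * x⁻¹ ∈ S} from h)]
    simp [coeff_cut_of_notMem _ h]

variable [N.Normal]

theorem coeff_cosetCut_of_ne (q : G ⧸ N) (f : MonoidAlgebra k G) {g : G}
    (h : (g : G ⧸ N) ≠ q) : (cosetCut N q f).coeff g = 0 :=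
  coeff_cut_of_notMem f (show g ∉ {g : G | (g : G ⧸ N) = q} from h)

theorem single_mul_cosetCut {f : MonoidAlgebra k G}
    (hf : ∀ x, Commute f (MonoidAlgebra.single x 1)) (x : G) (q : G ⧸ N) :
    MonoidAlgebra.single x 1 * cosetCut N q f =
      cosetCut N ((x : G ⧸ N) * q * (x : G ⧸ N)⁻¹) f * MonoidAlgebra.single x 1 := by
  rw [cosetCut, cosetCut, cut_single_comm, cut_mul_single, (hf x).eq]
  congr 1
  ext g
  simp only [Set.mem_ofPred_eq, QuotientGroup.mk_mul, QuotientGroup.mk_inv]
  constructor
  · intro h; rw [← h]; group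
  · intro h
    calc (x : G ⧸ N)⁻¹ * (g : G ⧸ N)
        = (x : G ⧸ N)⁻¹ * ((g : G ⧸ N) * (x : G ⧸ N)⁻¹) * (x : G ⧸ N) := by group
      _ = q := by rw [h]; group

variable [Fintype G]

theorem cosetCut_swap {f : MonoidAlgebra k G} (hf : ∀ x, Commute f (MonoidAlgebra.single x 1))
    (a b : G ⧸ N) :
    cosetCut N a f * cosetCut N b f = cosetCut N (a * b * a⁻¹) f * cosetCut N a f := by
  classical
  have hsingle : ∀ y, MonoidAlgebra.single y ((cosetCut N a f).coeff y) =
      (cosetCut N a f).coeff y • MonoidAlgebra.single y (1 : k) := fun y => by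
    rw [MonoidAlgebra.smul_single, smul_eq_mul, mul_one]
  conv_lhs => arg 1; rw [sum_single_coeff (cosetCut N a f)]
  conv_rhs => arg 2; rw [sum_single_coeff (cosetCut N a f)]
  rw [Finset.sum_mul, Finset.mul_sum]
  refine Finset.sum_congr rfl fun y _ => ?_
  by_cases hy : (y : G ⧸ N) = a
  · rw [hsingle, smul_mul_assoc, mul_smul_comm, single_mul_cosetCut N hf, hy]
  · rw [coeff_cosetCut_of_ne N a f hy]
    simp

theorem sum_cosetCut [Fintype (G ⧸ N)] (f : MonoidAlgebra k G) : ∑ q, cosetCut N q f = f := by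
  classical
  apply MonoidAlgebra.ext
  ext g
  rw [MonoidAlgebra.coeff_sum, Finsupp.finsetSum_apply,
    Finset.sum_eq_single (g : G ⧸ N) (fun q _ hq => coeff_cosetCut_of_ne N q f hq.symm)
      (fun h => absurd (Finset.mem_univ _) h)]
  exact coeff_cut_of_mem f (show g ∈ {g' : G | (g' : G ⧸ N) = (g : G ⧸ N)} from rfl)

theorem coeff_pow_cosetCut_of_ne (q : G ⧸ N) (f : MonoidAlgebra k G) (m : ℕ) {g : G}
    (h : (g : G ⧸ N) ≠ q ^ m) : ((cosetCut N q f) ^ m).coeff g = 0 := by
  classical
  induction m generalizing g with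
  | zero =>
    rw [pow_zero, MonoidAlgebra.one_def, MonoidAlgebra.coeff_single, Finsupp.single_eq_of_ne]
    rintro rfl
    exact h (by rw [pow_zero, QuotientGroup.mk_one])
  | succ m ih =>
    rw [pow_succ', coeff_mul_eq_sum]
    refine Finset.sum_eq_zero fun y _ => ?_
    by_cases hy : (y : G ⧸ N) = q
    · rw [ih (g := y⁻¹ * g) (fun he => h ?_), mul_zero]
      rw [pow_succ', ← he, QuotientGroup.mk_mul, QuotientGroup.mk_inv, hy, mul_inv_cancel_left]
    · rw [coeff_cosetCut_of_ne N q f hy, zero_mul]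

theorem mul_cosetCut (a f : MonoidAlgebra k G) (ha : ∀ g ∉ N, a.coeff g = 0) (q : G ⧸ N) :
    a * cosetCut N q f = cosetCut N q (a * f) := by
  classical
  apply MonoidAlgebra.ext
  ext g
  rw [coeff_mul_eq_sum, cosetCut, cosetCut, coeff_cut]
  by_cases hg : (g : G ⧸ N) = q
  · rw [if_pos (show g ∈ {g : G | (g : G ⧸ N) = q} from hg), coeff_mul_eq_sum]
    refine Finset.sum_congr rfl fun y _ => ?_
    by_cases hy : y ∈ N
    · rw [coeff_cut_of_mem f]
      show ((y⁻¹ * g : G) : G ⧸ N) = q
      rw [QuotientGroup.mk_mul, QuotientGroup.mk_inv, (QuotientGroup.eq_one_iff y).2 hy, inv_one,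
        one_mul, hg]
    · rw [ha y hy, zero_mul, zero_mul]
  · rw [if_neg (show g ∉ {g : G | (g : G ⧸ N) = q} from hg)]
    refine Finset.sum_eq_zero fun y _ => ?_
    by_cases hy : y ∈ N
    · rw [coeff_cut_of_notMem f, mul_zero]
      show ((y⁻¹ * g : G) : G ⧸ N) ≠ q
      rwa [QuotientGroup.mk_mul, QuotientGroup.mk_inv, (QuotientGroup.eq_one_iff y).2 hy, inv_one,
        one_mul]
    · rw [ha y hy, zero_mul]

end Coset

section Main

variable {G : Type*} [Group G] [Fintype G] (N : Subgroup G) [N.Normal] [Fintype N]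
variable {M : Ideal AlgInt} [M.IsPrime]

theorem redAlg_cosetCut (q : G ⧸ N) (f : MonoidAlgebra (loc M) G) :
    redAlg (cosetCut N q f) = cosetCut N q (redAlg f) := by
  classical
  apply MonoidAlgebra.ext
  ext g
  rw [coeff_redAlg, cosetCut, cosetCut, coeff_cut, coeff_cut, coeff_redAlg, apply_ite red, map_zero]

/-- Some piece of the block idempotent gives, after raising it to a power, an element of the centre
of the group ring of `N` that is killed by the characters not under the block, and is not
nilpotent modulo `M`. -/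
theorem exists_not_nilpotent_piece {B : Set (IrrCharacter G)} (hB : IsPBlock M B) :
    ∃ u : N → ℂ, IsLocClassFun M u ∧
      (∃ φ : IrrCharacter N, ¬ MemLocalIdeal M (omega (φ : N → ℂ) u)) ∧
      ∀ φ : IrrCharacter N, (∀ χ ∈ B, classInner (fun n : N => (χ : G → ℂ) n) (φ : N → ℂ) = 0) →
        omega (φ : N → ℂ) u = 0 := by
  classical
  haveI := Fintype.ofFinite (G ⧸ N)
  set v := toAlg (M := M) (blockCoeff B) (blockCoeff_mem_loc hB) with hv
  have hvc : ∀ x, Commute v (MonoidAlgebra.single x (1 : loc M)) := fun x =>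
    commute_toAlg (isLocClassFun_blockCoeff hB) _
  have hred : redAlg v = blockIdem hB := rfl
  obtain ⟨q, hq⟩ : ∃ q : G ⧸ N, ¬ IsNilpotent (redAlg (cosetCut N q v)) := by
    by_contra hcon
    push Not at hcon
    obtain ⟨m, hm⟩ := isNilpotent_sum_of_swap (fun q => redAlg (cosetCut N q v))
      (fun a b => by rw [← map_mul, ← map_mul, cosetCut_swap N hvc]) hcon
    rw [← map_sum, sum_cosetCut, hred] at hm
    have h0 : blockIdem hB = 0 := by
      rcases Nat.eq_zero_or_pos m with h0 | h0
      · rw [h0, pow_zero] at hm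
        rw [← mul_one (blockIdem hB), hm, mul_zero]
      · rw [← hm]
        exact ((show IsIdempotentElem (blockIdem hB) from blockIdem_mul_self hB).pow_eq h0.ne').symm
    obtain ⟨χ, hχ⟩ := IsPBlock.nonempty hB
    have h1 : MemLocalIdeal M (omega (χ : G → ℂ) (blockCoeff B)) := by
      haveI := Fintype.ofFinite (ConjClasses G)
      rw [omega_eq_sum_centralChar χ (isClassFunction_blockCoeff B)]
      refine MemLocalIdeal.sum' fun C _ => MemLocalIdeal.mul_right' ?_
        (isIntegral_mem_loc (isIntegral_centralChar χ _))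
      rw [← coeff_blockIdem_eq_zero_iff hB, h0]
      simp
    rw [omega_blockCoeff, if_pos hχ] at h1
    exact not_memLocalIdeal_one h1
  set d := orderOf q with hd
  have hd0 : d ≠ 0 := (orderOf_pos q).ne'
  set U := cosetCut N q v ^ d with hU
  have hUout : ∀ g : G, g ∉ N → U.coeff g = 0 := fun g hg =>
    coeff_pow_cosetCut_of_ne N q v d fun h => hg ((QuotientGroup.eq_one_iff g).1
      (h.trans (pow_orderOf_eq_one q)))
  have hUn : ∀ n : N, Commute U (MonoidAlgebra.single (n : G) 1) := fun n => by
    refine Commute.pow_left ?_ d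
    have h := single_mul_cosetCut N hvc (n : G) q
    rw [(QuotientGroup.eq_one_iff (n : G)).2 n.2] at h
    simp only [one_mul, inv_one, mul_one] at h
    exact h.symm
  set u : N → ℂ := fun n => ((U.coeff (n : G) : loc M) : ℂ) with hu
  have hucl : IsLocClassFun M u := by
    refine ⟨fun x y => ?_, fun x => (U.coeff (x : G)).2⟩
    have h1 := congrArg (fun f => MonoidAlgebra.coeff f ((y : G) * x)) (hUn y).eq
    simp only [MonoidAlgebra.coeff_mul_single_apply, MonoidAlgebra.coeff_single_mul_apply, mul_one, one_mul,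
      inv_mul_cancel_left] at h1
    show ((U.coeff ((y * x * y⁻¹ : N) : G) : loc M) : ℂ) = ((U.coeff (x : G) : loc M) : ℂ)
    push_cast
    rw [h1]
  refine ⟨u, hucl, ?_, fun φ hφ => ?_⟩
  · by_contra hcon
    push Not at hcon
    obtain ⟨m, hm⟩ := isNilpotent_redFun hucl hcon
    apply hq
    refine ⟨d * m, ?_⟩
    have hmap : MonoidAlgebra.mapDomainRingHom (ResField M) N.subtype (redFun u hucl.2) =
        redAlg U := by
      apply MonoidAlgebra.ext
      ext g
      rw [coeff_redAlg]
      change Finsupp.mapDomain N.subtype (redFun u hucl.2).coeff g = _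
      by_cases hg : g ∈ N
      · have hh := Finsupp.mapDomain_apply N.subtype_injective (redFun u hucl.2).coeff ⟨g, hg⟩
        refine (hh.trans ?_)
        rw [coeff_redFun]
      · rw [hUout g hg, map_zero]
        exact Finsupp.mapDomain_of_notMem_range _ _ fun ⟨n, hn⟩ => hg (hn ▸ n.2)
    rw [pow_mul, ← map_pow, ← hmap, ← map_pow, hm, map_zero]
  · set O : Set (IrrCharacter N) := conjSet N ({φ} : Set (IrrCharacter N)) with hO
    have hst := fun g θ => conjIrr_mem_conjSet (N := N) (b := ({φ} : Set (IrrCharacter N))) g θ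
    haveI := irrFintype N
    have hker : conv (liftIdem N O) (blockCoeff B) = 0 := by
      refine classFun_ext_omega (isClassFunction_conv (isClassFunction_liftIdem N hst)
        (isClassFunction_blockCoeff B)) isClassFunction_zero fun χ => ?_
      rw [omega_conv χ (isClassFunction_liftIdem N hst), omega_blockCoeff]
      have hz : omega (χ : G → ℂ) 0 = 0 := by simp [omega]
      rw [hz]
      by_cases hχ : χ ∈ B
      · obtain ⟨θ, hθ⟩ := exists_constituent_restrict N χ
        rw [omega_liftIdem N hst χ hθ, if_neg, zero_mul]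
        rintro ⟨g, φ', rfl, rfl⟩
        rw [coe_conjIrr, inner_conjFn N (isClassFunction_irr χ)] at hθ
        exact hθ (hφ χ hχ)
      · rw [if_neg hχ, mul_zero]
    -- transfer to complex functions
    have hcut : ∀ x, ∑ y, liftIdem N O y * ((cosetCut N q v).coeff (y⁻¹ * x) : ℂ) = 0 := by
      intro x
      by_cases hx : (x : G ⧸ N) = q
      · have h1 := congrFun hker x
        simp only [Blocks.conv, Pi.zero_apply] at h1
        rw [← h1]
        refine Finset.sum_congr rfl fun y _ => ?_
        by_cases hy : y ∈ N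
        · congr 1
          rw [cosetCut, coeff_cut_of_mem, hv, coeff_toAlg]
          show ((y⁻¹ * x : G) : G ⧸ N) = q
          rw [QuotientGroup.mk_mul, QuotientGroup.mk_inv, (QuotientGroup.eq_one_iff y).2 hy, inv_one,
            one_mul, hx]
        · rw [liftIdem_eq_zero N O hy, zero_mul, zero_mul]
      · refine Finset.sum_eq_zero fun y _ => ?_
        by_cases hy : y ∈ N
        · rw [coeff_cosetCut_of_ne N q v, ZeroMemClass.coe_zero, mul_zero]
          rwa [QuotientGroup.mk_mul, QuotientGroup.mk_inv, (QuotientGroup.eq_one_iff y).2 hy, inv_one,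
            one_mul]
        · rw [liftIdem_eq_zero N O hy, zero_mul]
    have hfull : conv (liftIdem N O) (fun g => ((U.coeff g : loc M) : ℂ)) = 0 := by
      obtain ⟨d', hd'⟩ := Nat.exists_eq_succ_of_ne_zero hd0
      funext x
      rw [hU, hd', pow_succ']
      simp only [Blocks.conv, coeff_mul_eq_conv, Pi.zero_apply, Finset.mul_sum]
      rw [← Finset.sum_comm' (s := Finset.univ) (t := fun _ => Finset.univ) (fun _ _ => Iff.rfl)]
      calc ∑ z : G, ∑ y : G, liftIdem N O y * (((cosetCut N q v).coeff z : ℂ) *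
              (((cosetCut N q v) ^ d').coeff (z⁻¹ * (y⁻¹ * x)) : ℂ))
          = ∑ y : G, ∑ w : G, liftIdem N O y * ((cosetCut N q v).coeff (y⁻¹ * w) : ℂ) *
              (((cosetCut N q v) ^ d').coeff (w⁻¹ * x) : ℂ) := by
            rw [Finset.sum_comm]
            refine Finset.sum_congr rfl fun y _ => ?_
            rw [← Equiv.sum_comp (Equiv.mulLeft y⁻¹)]
            refine Finset.sum_congr rfl fun w _ => ?_
            simp [mul_assoc]
        _ = ∑ w : G, (∑ y : G, liftIdem N O y * ((cosetCut N q v).coeff (y⁻¹ * w) : ℂ)) *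
              (((cosetCut N q v) ^ d').coeff (w⁻¹ * x) : ℂ) := by
            rw [Finset.sum_comm]; simp only [Finset.sum_mul]
        _ = 0 := by simp [hcut]
    have hres : conv (blockCoeff O) u = 0 := by
      funext x
      have h1 := congrFun hfull (x : G)
      simp only [Blocks.conv, Pi.zero_apply] at h1 ⊢
      rw [← h1, ← Finset.sum_subset (Finset.subset_univ
        ((Finset.univ : Finset N).map ⟨_, N.subtype_injective⟩))]
      · rw [Finset.sum_map]
        refine Finset.sum_congr rfl fun y _ => ?_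
        simp only [Function.Embedding.coeFn_mk, hu]
        rw [← resFun_liftIdem N O]
        rfl
      · intro y _ hy
        rw [liftIdem_eq_zero N O, zero_mul]
        exact fun h => hy (Finset.mem_map.2 ⟨⟨y, h⟩, Finset.mem_univ _, rfl⟩)
    have h2 := omega_conv φ (isClassFunction_blockCoeff O) u
    have hφO : φ ∈ O := subset_conjSet N _ rfl
    rw [hres, omega_blockCoeff, if_pos hφO, one_mul] at h2
    rw [← h2]
    simp [omega]

/-- If `B` covers `b`, every character of `b` lies under a character of `B`. -/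
theorem exists_over_of_covered {B : Set (IrrCharacter G)} (hB : IsPBlock M B)
    {b : Set (IrrCharacter N)} (hb : IsPBlock M b)
    (hcov : ∃ χ ∈ B, ∃ θ ∈ b, classInner (fun n : N => (χ : G → ℂ) n) (θ : N → ℂ) ≠ 0)
    {θ : IrrCharacter N} (hθ : θ ∈ b) :
    ∃ χ ∈ B, classInner (fun n : N => (χ : G → ℂ) n) (θ : N → ℂ) ≠ 0 := by
  classical
  by_contra hcon
  push Not at hcon
  obtain ⟨u, hu, ⟨φ, hφ⟩, hkill⟩ := exists_not_nilpotent_piece N hB
  obtain ⟨χ₁, hχ₁, h₁⟩ : ∃ χ ∈ B, classInner (fun n : N => (χ : G → ℂ) n) (φ : N → ℂ) ≠ 0 := by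
    by_contra hc
    push Not at hc
    exact hφ (by rw [hkill φ hc]; exact MemLocalIdeal.zero')
  obtain ⟨χ₀, hχ₀, θ₀, hθ₀, h₀⟩ := hcov
  obtain ⟨g, φ', hφ', rfl⟩ := mem_conjSet_of_sameBlock N hb (IsPBlock.sameBlock hB hχ₀ hχ₁) hθ₀ h₀ h₁
  have hsb := sameBlock_conjIrr N g (IsPBlock.sameBlock hb hφ' hθ)
  have hz : omega ((conjIrr N g θ : IrrCharacter N) : N → ℂ) u = 0 :=
    hkill _ fun χ hχ => by rw [coe_conjIrr, inner_conjFn N (isClassFunction_irr χ)]; exact hcon χ hχ
  have h3 := omega_sub_mem hsb hu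
  rw [hz, sub_zero] at h3
  exact hφ h3

end Main

end CfsgLib.Blocks
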