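import Cfsg.Agent.Lib.Blocks.BrauerPairs
import Cfsg.Agent.Lib.Blocks.Correspondence
import Cfsg.Agent.Lib.Blocks.PrincipalBlock

/-!
# Maximal Brauer pairs are the pairs on defect groups, and they are conjugate
-/

set_option linter.unusedSectionVars false
set_option linter.style.haveILetI false

namespace CfsgLib.Blocks

open Cfsg Chars

variable {G : Type*} [Group G] [Fintype G] {M : Ideal AlgInt} [M.IsPrime] {p : ℕ} [Fact p.Prime]

theorem mem_centralizer_subgroupOf_iff {P H : Subgroup G} (hPH : P ≤ H) (h : H) :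
    h ∈ Subgroup.centralizer (P.subgroupOf H : Set H) ↔
      (h : G) ∈ Subgroup.centralizer (P : Set G) := by
  simp only [Subgroup.mem_centralizer_iff]
  constructor
  · intro hc u hu
    exact congrArg Subtype.val (hc ⟨u, hPH hu⟩ (Subgroup.mem_subgroupOf.2 hu))
  · intro hc u hu
    exact Subtype.ext (hc u (Subgroup.mem_subgroupOf.1 hu))

theorem map_subgroupOf_subtype {R H : Subgroup G} (h : R ≤ H) :
    (R.subgroupOf H).map H.subtype = R := by
  rw [Subgroup.subgroupOf_map_subtype, inf_eq_left.2 h]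

theorem isPGroup_subgroupOf {R H : Subgroup G} (hR : IsPGroup p R) (h : R ≤ H) :
    IsPGroup p (R.subgroupOf H) :=
  hR.of_equiv (Subgroup.subgroupOfEquivOfLe h).symm

theorem isPGroup_map_subtype {H : Subgroup G} {D : Subgroup H} (hD : IsPGroup p D) :
    IsPGroup p (D.map H.subtype) :=
  hD.map _

/-! ## Blocks of groups with a normal `p`-subgroup, inside the group ring -/

section NormalLocal

variable {P H : Subgroup G}

theorem cut_pairIdem_local (hpM : (p : AlgInt) ∈ M) (hP : IsPGroup p P) (hPH : P ≤ H)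
    (hHN : H ≤ Subgroup.normalizer (P : Set G)) {b : Set (IrrCharacter H)} (hb : IsPBlock M b) :
    cut (Subgroup.centralizer (P : Set G) : Set G) (pairIdem hb) = pairIdem hb := by
  haveI := Fintype.ofFinite H
  haveI : (P.subgroupOf H).Normal := (Subgroup.normal_subgroupOf_iff_le_normalizer hPH).2 hHN
  rw [cut_eq_self_iff]
  intro g hg
  rw [coeff_pairIdem_eq_zero_iff]
  by_cases hgH : g ∈ H
  · rw [show g = ((⟨g, hgH⟩ : H) : G) from rfl, subgroupBlockCoeff_coe]
    exact blockCoeff_mem_of_notMem_centralizer hpM hb (isPGroup_subgroupOf hP hPH)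
      (fun h => hg ((mem_centralizer_subgroupOf_iff hPH _).1 h))
  · rw [subgroupBlockCoeff_of_notMem b hgH]
    exact MemLocalIdeal.zero'

theorem pairIdem_mul_local (hpM : (p : AlgInt) ∈ M) (hP : IsPGroup p P) (hPH : P ≤ H)
    (hCH : Subgroup.centralizer (P : Set G) ≤ H) (hHN : H ≤ Subgroup.normalizer (P : Set G))
    {e : Set (IrrCharacter (Subgroup.centralizer (P : Set G)))} (he : IsPBlock M e)
    {b : Set (IrrCharacter H)} (hb : IsPBlock M b) :
    pairIdem he * pairIdem hb = pairIdem he ∨ pairIdem he * pairIdem hb = 0 := by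
  have h := (brauerOmega_dichotomy hpM hP (subgroupBlockCoeff_mem_loc hb)
    (fun u hu g => subgroupBlockCoeff_conj_of_mem b (hPH hu) g)
    (fun u hu g => subgroupBlockCoeff_conj_of_mem b (hCH hu) g) (pairIdem_mul_self hb) he).2
  rwa [← pairIdem, cut_pairIdem_local hpM hP hPH hHN] at h

theorem exists_local_block (hpM : (p : AlgInt) ∈ M) (hP : IsPGroup p P) (hPH : P ≤ H)
    (hCH : Subgroup.centralizer (P : Set G) ≤ H) (hHN : H ≤ Subgroup.normalizer (P : Set G))
    {e : Set (IrrCharacter (Subgroup.centralizer (P : Set G)))} (he : IsPBlock M e) :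
    ∃ (b : Set (IrrCharacter H)) (hb : IsPBlock M b),
      pairIdem he * pairIdem hb = pairIdem he := by
  classical
  by_contra hcon
  apply pairIdem_ne_zero he
  have hsum := sum_pairIdem (M := M) (blockFinset M H) rfl
    (fun f => if hf : IsPBlock M f then pairIdem hf else 0) (fun f hf => dif_pos hf)
  rw [← mul_one (pairIdem he), ← hsum, Finset.mul_sum]
  refine Finset.sum_eq_zero fun b hb => ?_
  rw [dif_pos (mem_blockFinset.1 hb)]
  exact (pairIdem_mul_local hpM hP hPH hCH hHN he (mem_blockFinset.1 hb)).resolve_left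
    fun h => hcon ⟨b, _, h⟩

/-- The blocks of `C(P)` below a block of `H` are conjugate under `H`. -/
theorem exists_conj_of_local (hCH : Subgroup.centralizer (P : Set G) ≤ H)
    (hHN : H ≤ Subgroup.normalizer (P : Set G))
    {e e' : Set (IrrCharacter (Subgroup.centralizer (P : Set G)))} (he : IsPBlock M e)
    (he' : IsPBlock M e') {b : Set (IrrCharacter H)} (hb : IsPBlock M b)
    (h : pairIdem he * pairIdem hb = pairIdem he)
    (h' : pairIdem he' * pairIdem hb = pairIdem he') :
    ∃ x ∈ H, conjPair x ⟨P, e⟩ = ⟨P, e'⟩ := by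
  classical
  haveI := Fintype.ofFinite H
  have hN : ∀ x : H, (x : G) ∈ Subgroup.normalizer ((Subgroup.centralizer (P : Set G) : Subgroup G) : Set G) := fun x =>
    mem_normalizer_centralizer (hHN x.2)
  let F : H → Set (IrrCharacter (Subgroup.centralizer (P : Set G))) := fun x =>
    conjImage (x : G) (conj_mem_iff_of_mem_normalizer (hN x)) e
  have hF : ∀ (x : H) g, subgroupBlockCoeff (Subgroup.centralizer (P : Set G)) (F x) g =
      subgroupBlockCoeff (Subgroup.centralizer (P : Set G)) e ((x : G)⁻¹ * g * x) := fun x g => by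
    conv_lhs => rw [show g = (x : G) * ((x : G)⁻¹ * g * x) * (x : G)⁻¹ by group]
    rw [subgroupBlockCoeff_conjImage]
  have hFb : ∀ x, IsPBlock M (F x) := fun x => isPBlock_conjImage _ _ he
  by_contra hcon
  have hne : ∀ x, F x ≠ e' := fun x hx => hcon ⟨x, x.2, pair_ext
    (map_conj_eq_of_mem_normalizer (hHN x.2)) (funext fun g => by
      rw [pairCoeff_conjPair]
      show subgroupBlockCoeff (Subgroup.centralizer (P : Set G)) e _ = subgroupBlockCoeff (Subgroup.centralizer (P : Set G)) e' g
      rw [← hF, hx])⟩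
  set O := Finset.univ.image F with hO
  have hOb : ∀ f ∈ O, IsPBlock M f := fun f hf => by
    obtain ⟨x, -, rfl⟩ := Finset.mem_image.1 hf; exact hFb x
  set β : G → ℂ := fun g => ∑ f ∈ O, subgroupBlockCoeff (Subgroup.centralizer (P : Set G)) f g with hβdef
  have hβ : ∀ g, β g ∈ loc M := fun g =>
    sum_mem fun f hf => subgroupBlockCoeff_mem_loc (hOb f hf) g
  let E : Set (IrrCharacter (Subgroup.centralizer (P : Set G))) → MonoidAlgebra (ResField M) G :=
    fun f => if hf : IsPBlock M f then pairIdem hf else 0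
  have hE : ∀ f ∈ O, ∀ hf : IsPBlock M f, E f = pairIdem hf := fun f _ hf => dif_pos hf
  have hred : redFun β hβ = ∑ f ∈ O, E f := by
    apply MonoidAlgebra.ext
    ext g
    let z : Set (IrrCharacter (Subgroup.centralizer (P : Set G))) → loc M := fun f =>
      if hf : IsPBlock M f then ⟨subgroupBlockCoeff (Subgroup.centralizer (P : Set G)) f g, subgroupBlockCoeff_mem_loc hf g⟩ else 0
    have e1 : ∀ f ∈ O, (E f).coeff g = red (z f) := fun f hf => by
      simp only [E, z, dif_pos (hOb f hf), pairIdem, coeff_redFun]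
    rw [MonoidAlgebra.coeff_sum, Finsupp.finsetSum_apply, Finset.sum_congr rfl e1, ← map_sum,
      coeff_redFun]
    refine congrArg red (Subtype.ext ?_)
    rw [AddSubmonoidClass.coe_finsetSum]
    exact Finset.sum_congr rfl fun f hf => by simp [z, dif_pos (hOb f hf)]
  have hcut : cut (H : Set G) (redFun β hβ) = redFun β hβ := by
    rw [cut_eq_self_iff]
    intro g hg
    rw [coeff_redFun_eq_zero_iff]
    refine MemLocalIdeal.sum' fun f _ => ?_
    rw [subgroupBlockCoeff_of_notMem f fun h' => hg (hCH h')]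
    exact MemLocalIdeal.zero'
  have hidem : redFun β hβ * redFun β hβ = redFun β hβ := by
    rw [hred, Finset.sum_mul]
    refine Finset.sum_congr rfl fun f hf => ?_
    rw [Finset.mul_sum, Finset.sum_eq_single f]
    · rw [hE f hf (hOb f hf), pairIdem_mul_self]
    · intro f' hf' hne'
      rw [hE f hf (hOb f hf), hE f' hf' (hOb f' hf'), pairIdem_mul_of_ne _ _ hne'.symm]
    · exact fun h'' => absurd hf h''
  have hinv : ∀ u ∈ H, ∀ g, β (u * g * u⁻¹) = β g := by
    intro u hu g
    have hmul : ∀ (y x : H), ∀ g, subgroupBlockCoeff (Subgroup.centralizer (P : Set G)) (F (y * x)) g =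
        subgroupBlockCoeff (Subgroup.centralizer (P : Set G)) (F x) ((y : G)⁻¹ * g * y) := fun y x g => by
      rw [hF, hF]
      congr 1
      simp [mul_assoc]
    let σ : Set (IrrCharacter (Subgroup.centralizer (P : Set G))) → Set (IrrCharacter (Subgroup.centralizer (P : Set G))) := fun f =>
      conjImage u (conj_mem_iff_of_mem_normalizer (hN ⟨u, hu⟩)) f
    have hσ : ∀ x, σ (F x) = F (⟨u, hu⟩ * x) := fun x =>
      eq_of_subgroupBlockCoeff_eq (funext fun g => by
        rw [hmul]
        conv_lhs => rw [show g = u * (u⁻¹ * g * u) * u⁻¹ by group]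
        rw [subgroupBlockCoeff_conjImage])
    have hσO : O.image σ = O := by
      rw [hO, Finset.image_image]
      ext f
      simp only [Finset.mem_image, Finset.mem_univ, true_and, Function.comp_apply, hσ]
      exact ⟨fun ⟨x, hx⟩ => ⟨_, hx⟩, fun ⟨x, hx⟩ => ⟨⟨u, hu⟩⁻¹ * x, by
        rwa [mul_inv_cancel_left]⟩⟩
    show ∑ f ∈ O, _ = ∑ f ∈ O, _
    conv_lhs => rw [← hσO]
    rw [Finset.sum_image]
    · exact Finset.sum_congr rfl fun f _ => subgroupBlockCoeff_conjImage u _ f g
    · intro f _ f' _ hff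
      refine eq_of_subgroupBlockCoeff_eq (funext fun g => ?_)
      rw [← subgroupBlockCoeff_conjImage u (conj_mem_iff_of_mem_normalizer (hN ⟨u, hu⟩)) f g]
      show subgroupBlockCoeff (Subgroup.centralizer (P : Set G)) (σ f) _ = _
      rw [hff]
      exact subgroupBlockCoeff_conjImage u _ f' g
  have hself : pairIdem he * redFun β hβ = pairIdem he := by
    have h1 : F 1 = e := eq_of_subgroupBlockCoeff_eq (funext fun g => by simp [hF])
    have h2 : e ∈ O := Finset.mem_image.2 ⟨1, Finset.mem_univ _, h1⟩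
    rw [hred, Finset.mul_sum, Finset.sum_eq_single e]
    · rw [hE e h2 he, pairIdem_mul_self]
    · intro f hf hne'
      rw [hE f hf (hOb f hf), pairIdem_mul_of_ne _ _ hne'.symm]
    · exact fun h'' => absurd h2 h''
  have hzero : pairIdem he' * redFun β hβ = 0 := by
    rw [hred, Finset.mul_sum]
    refine Finset.sum_eq_zero fun f hf => ?_
    rw [hE f hf (hOb f hf)]
    refine pairIdem_mul_of_ne _ _ fun hee => ?_
    obtain ⟨x, -, hx⟩ := Finset.mem_image.1 hf
    exact hne x (hx.trans hee.symm)
  obtain ⟨ξ, hξ⟩ := IsPBlock.nonempty hb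
  have hd := pairIdem_mul_dichotomy hb hβ (isClassFunction_resFun_of_inv hinv)
    (by rw [hcut]; exact hidem) hξ
  rw [hcut] at hd
  rcases hd with ⟨-, hd⟩ | ⟨-, hd⟩
  · apply pairIdem_ne_zero he'
    rw [← h', ← hd]
    have hcomm : pairIdem hb * redFun β hβ = redFun β hβ * pairIdem hb := by
      rw [pairIdem_eq_incl hb, ← hcut, cut_redFun_eq_incl hβ, ← map_mul, ← map_mul,
        (commute_blockIdem hb _).eq]
    rw [hcomm, ← mul_assoc, hzero, zero_mul]
  · apply pairIdem_ne_zero he
    rw [← hself]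
    conv_lhs => rw [← h]
    rw [mul_assoc, hd, mul_zero]

/-- The block of `H` below a pair induces the block of the pair. -/
theorem isInducedBlock_of_pair (hpM : (p : AlgInt) ∈ M) (hP : IsPGroup p P) (hPH : P ≤ H)
    (hCH : Subgroup.centralizer (P : Set G) ≤ H) (hHN : H ≤ Subgroup.normalizer (P : Set G))
    {e : Set (IrrCharacter (Subgroup.centralizer (P : Set G)))} {B : Set (IrrCharacter G)}
    (heB : IsBrauerPairOf p M B P e) {b : Set (IrrCharacter H)} (hb : IsPBlock M b)
    (h : pairIdem heB.1.2 * pairIdem hb = pairIdem heB.1.2) : IsInducedBlock M H b B := by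
  classical
  haveI := Fintype.ofFinite H
  haveI := charP_resField (M := M) (Fact.out (p := p.Prime)) hpM
  obtain ⟨B', hB'⟩ := exists_isInducedBlock hpM hP hPH hCH hHN hb
  suffices hBB : B = B' by exact hBB ▸ hB'
  obtain ⟨ξ, hξ⟩ := IsPBlock.nonempty hb
  obtain ⟨χ, hχ⟩ := IsPBlock.nonempty hB'.2.1
  have hBc := isLocClassFun_blockCoeff heB.2.1
  let β : G → ℂ := fun g =>
    if g ∈ Subgroup.centralizer (P : Set G) then blockCoeff B g else 0
  have hβ : ∀ g, β g ∈ loc M := fun g => by
    by_cases hg : g ∈ Subgroup.centralizer (P : Set G)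
    · simp only [β, if_pos hg]; exact hBc.2 g
    · simp only [β, if_neg hg]; exact zero_mem _
  have hres : resFun H β = brFun P H (blockCoeff B) := funext fun u => by
    by_cases hg : (u : G) ∈ Subgroup.centralizer (P : Set G)
    · rw [brFun_of_mem _ hg]; simp [resFun, β, hg]
    · rw [brFun_of_notMem _ hg]; simp [resFun, β, hg]
  have hred : redFun β hβ =
      cut (Subgroup.centralizer (P : Set G) : Set G) (blockIdem heB.2.1) := by
    apply MonoidAlgebra.ext
    ext g
    by_cases hg : g ∈ Subgroup.centralizer (P : Set G)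
    · rw [coeff_cut_of_mem _ (show g ∈ (Subgroup.centralizer (P : Set G) : Set G) from hg),
        blockIdem, coeff_redFun, coeff_redFun]
      refine congrArg red (Subtype.ext ?_)
      simp [β, hg]
    · rw [coeff_cut_of_notMem _ hg, coeff_redFun_eq_zero_iff]
      simp only [β, if_neg hg]
      exact MemLocalIdeal.zero'
  have hcut : cut (H : Set G) (redFun β hβ) = redFun β hβ := by
    rw [hred, cut_cut]
    congr 1
    exact Set.inter_eq_right.2 hCH
  have hidem : redFun β hβ * redFun β hβ = redFun β hβ := by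
    rw [hred, ← cut_mul p hP (isFixedBy_blockIdem _ P) (isFixedBy_blockIdem _ P),
      blockIdem_mul_self]
  have hd := pairIdem_mul_dichotomy hb hβ (hres ▸ isClassFunction_brFun hHN hBc.1)
    (by rw [hcut]; exact hidem) hξ
  rw [hcut] at hd
  have hom : MemLocalIdeal M (omega (ξ : H → ℂ) (brFun P H (blockCoeff B)) - 1) := by
    rcases hd with ⟨h1, -⟩ | ⟨-, h1⟩
    · rwa [hres] at h1
    · exfalso
      apply pairIdem_ne_zero heB.1.2
      have h3 := (isBrauerPairOf_iff hpM heB.1 heB.2.1).1.1 heB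
      rw [← hred] at h3
      rw [← h3]
      conv_lhs => rw [← h]
      rw [mul_assoc, h1, mul_zero]
  have h2 := omega_res_sub_br_mem hpM hP hPH hHN hBc ξ
  have h4 := IsInducedBlock.omega_sub hB' hξ hχ hBc
  rw [omega_blockCoeff] at h4
  by_cases hχB : χ ∈ B
  · exact IsPBlock.eq_of_mem heB.2.1 hB'.2.1 hχB hχ
  · rw [if_neg hχB, sub_zero] at h4
    have h5 := MemLocalIdeal.sub' h4 (MemLocalIdeal.add' h2 hom)
    rw [sub_add_sub_cancel, sub_sub_cancel] at h5
    exact absurd h5 not_memLocalIdeal_one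

end NormalLocal

/-! ## Pairs on larger subgroups -/

theorem exists_pair_of_coeff (hpM : (p : AlgInt) ∈ M) {R : Subgroup G} (hR : IsPGroup p R)
    {β : G → ℂ} (hβ : ∀ g, β g ∈ loc M) (hRinv : ∀ u ∈ R, ∀ g, β (u * g * u⁻¹) = β g)
    (hCinv : ∀ u ∈ Subgroup.centralizer (R : Set G), ∀ g, β (u * g * u⁻¹) = β g)
    (hidem : redFun β hβ * redFun β hβ = redFun β hβ) {c : G}
    (hc : c ∈ Subgroup.centralizer (R : Set G)) (hne : ¬ MemLocalIdeal M (β c)) :
    ∃ (h : Set (IrrCharacter (Subgroup.centralizer (R : Set G)))) (hh : IsPBlock M h),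
      pairIdem hh * cut (Subgroup.centralizer (R : Set G) : Set G) (redFun β hβ) = pairIdem hh := by
  classical
  by_contra hcon
  apply hne
  rw [← coeff_redFun_eq_zero_iff β hβ c, ← coeff_cut_of_mem (S := (Subgroup.centralizer
    (R : Set G) : Set G)) (redFun β hβ) hc]
  have hsum := sum_pairIdem (M := M) (blockFinset M (Subgroup.centralizer (R : Set G))) rfl
    (fun f => if hf : IsPBlock M f then pairIdem hf else 0) (fun f hf => dif_pos hf)
  rw [← one_mul (cut _ (redFun β hβ)), ← hsum, Finset.sum_mul, Finset.sum_eq_zero]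
  · simp
  intro h hh
  rw [dif_pos (mem_blockFinset.1 hh)]
  exact (brauerOmega_dichotomy hpM hR hβ hRinv hCinv hidem
    (mem_blockFinset.1 hh)).2.resolve_left fun h' => hcon ⟨h, _, h'⟩

theorem exists_pair_on_defectGroup (hpM : (p : AlgInt) ∈ M) {B : Set (IrrCharacter G)}
    (hB : IsPBlock M B) {D : Subgroup G} (hD : IsDefectGroup p M B D) :
    ∃ h, IsBrauerPairOf p M B D h := by
  obtain ⟨g, hg, S, hS⟩ := id hD
  obtain ⟨h, hh, hmul⟩ := exists_pair_of_coeff hpM (IsDefectGroup.isPGroup hD)
    (blockCoeff_mem_loc hB) (fun u _ g => isClassFunction_blockCoeff B g u)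
    (fun u _ g => isClassFunction_blockCoeff B g u) (blockIdem_mul_self hB)
    (c := g) (hS ▸ mem_centralizer_sylow g S) hg.2.1
  exact ⟨h, (isBrauerPairOf_iff hpM ⟨IsDefectGroup.isPGroup hD, hh⟩ hB).1.2 hmul⟩

/-- A pair of a maximal pair's subgroup lies below a block of the normalizer with that defect
group. -/
theorem exists_local_block_of_maximal (hpM : (p : AlgInt) ∈ M) {B : Set (IrrCharacter G)}
    {P : Subgroup G} {e : Set (IrrCharacter (Subgroup.centralizer (P : Set G)))}
    (hmax : IsMaximalBrauerPair p M B P e) :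
    ∃ (b : Set (IrrCharacter (Subgroup.normalizer (P : Set G)))) (hb : IsPBlock M b),
      pairIdem hmax.1.1.2 * pairIdem hb = pairIdem hmax.1.1.2 ∧
      IsDefectGroup p M b (P.subgroupOf (Subgroup.normalizer (P : Set G))) ∧
      IsInducedBlock M (Subgroup.normalizer (P : Set G)) b B := by
  classical
  haveI := charP_resField (M := M) (Fact.out (p := p.Prime)) hpM
  set N := Subgroup.normalizer (P : Set G) with hN
  haveI := Fintype.ofFinite N
  have hP : IsPGroup p P := hmax.1.1.1
  have hPN : P ≤ N := Subgroup.le_normalizer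
  have hCN : Subgroup.centralizer (P : Set G) ≤ N := fun c hc => by
    rw [hN, Subgroup.mem_normalizer_iff]
    intro g
    constructor
    · intro hg
      rwa [show c * g * c⁻¹ = g by
        rw [← Subgroup.mem_centralizer_iff.1 hc g hg, mul_inv_cancel_right]]
    · intro hg
      have h1 := Subgroup.mem_centralizer_iff.1 hc _ hg
      have h2 : c * g * c⁻¹ = g := by
        have h3 : c⁻¹ * (c * g * c⁻¹) * c = c * g * c⁻¹ := by rw [mul_assoc c⁻¹, h1]; group
        rw [← h3]; group
      rwa [h2] at hg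
  obtain ⟨b, hb, hmul⟩ := exists_local_block hpM hP hPN hCN le_rfl hmax.1.1.2
  haveI : (P.subgroupOf N).Normal := (Subgroup.normal_subgroupOf_iff_le_normalizer hPN).2 le_rfl
  refine ⟨b, hb, hmul, ?_, isInducedBlock_of_pair hpM hP hPN hCN le_rfl hmax.1 hb hmul⟩
  obtain ⟨D, hD⟩ := exists_isDefectGroup (p := p) hb
  have hle := IsDefectGroup.normal_le hpM hb hD (isPGroup_subgroupOf hP hPN)
  obtain ⟨g, hg, S, hS⟩ := id hD
  set R := D.map N.subtype with hR
  have hRp : IsPGroup p R := isPGroup_map_subtype (IsDefectGroup.isPGroup hD)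
  have hRN : R ≤ N := Subgroup.map_subtype_le D
  have hPR : P ≤ R := by
    conv_lhs => rw [← map_subgroupOf_subtype hPN]
    exact Subgroup.map_mono hle
  have hgR : (g : G) ∈ Subgroup.centralizer (R : Set G) := by
    have h1 := mem_centralizer_sylow g S
    rw [← hS] at h1
    rw [Subgroup.mem_centralizer_iff]
    rintro _ ⟨u, hu, rfl⟩
    exact congrArg Subtype.val (Subgroup.mem_centralizer_iff.1 h1 u hu)
  have hRC : Subgroup.centralizer (R : Set G) ≤ N := (centralizer_antitone hPR).trans hCN
  obtain ⟨h, hh, hmulh⟩ := exists_pair_of_coeff hpM hRp (subgroupBlockCoeff_mem_loc hb)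
    (fun u hu x => subgroupBlockCoeff_conj_of_mem b (hRN hu) x)
    (fun u hu x => subgroupBlockCoeff_conj_of_mem b (hRC hu) x) (pairIdem_mul_self hb)
    hgR (by rw [subgroupBlockCoeff_coe]; exact hg.2.1)
  obtain ⟨e', he'⟩ := exists_isNormalSubpair hpM (Q := P) (e := h) ⟨hRp, hh⟩ hPR hRN
  have hmul' : pairIdem he'.1.2 * pairIdem hb = pairIdem he'.1.2 := by
    refine (pairIdem_mul_local hpM hP hPN hCN le_rfl he'.1.2 hb).resolve_right fun h0 => ?_
    have h1 := congrArg (cut (Subgroup.centralizer (R : Set G) : Set G)) h0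
    rw [cut_zero, cut_mul p hRp (isFixedBy_pairIdem_of_stab he'.1.2 he'.2.2.2.2.1)
      (isFixedBy_pairIdem hb fun u hu x => subgroupBlockCoeff_conj_of_mem b (hRN hu) x)] at h1
    apply pairIdem_ne_zero hh
    calc pairIdem hh = pairIdem hh *
          cut (Subgroup.centralizer (R : Set G) : Set G) (pairIdem hb) := hmulh.symm
      _ = pairIdem hh * cut (Subgroup.centralizer (R : Set G) : Set G) (pairIdem he'.1.2) *
          cut (Subgroup.centralizer (R : Set G) : Set G) (pairIdem hb) := by
          rw [IsNormalSubpair.mul_cut hpM he']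
      _ = 0 := by rw [mul_assoc, h1, mul_zero]
  obtain ⟨x, hx, hxe⟩ := exists_conj_of_local hCN le_rfl hmax.1.1.2 he'.1.2 hb hmul hmul'
  have hbelow : Relation.ReflTransGen (NormalSubpairRel p M) ⟨P, e⟩
      (conjPair x⁻¹ ⟨R, h⟩) := by
    have h1 := below_conj (Relation.ReflTransGen.single
      (show NormalSubpairRel p M ⟨P, e'⟩ ⟨R, h⟩ from he')) x⁻¹
    rwa [← hxe, conjPair_mul, inv_mul_cancel, conjPair_one] at h1
  have hof := (isBrauerPairOf_iff_of_below hpM hbelow B).1 hmax.1
  have hRP := hmax.2 _ _ hof hbelow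
  have hcard : Nat.card R = Nat.card P := by
    rw [← congrArg (fun K : Subgroup G => Nat.card K) hRP]
    exact (Base.card_map_conj _ _).symm
  have hReq : P = R := Subgroup.eq_of_le_of_card_ge hPR hcard.le
  rwa [show P.subgroupOf N = D by
    rw [hReq, hR, Subgroup.subgroupOf, Subgroup.comap_map_eq_self_of_injective
      N.subtype_injective]]

theorem isDefectGroup_of_maximal (hpM : (p : AlgInt) ∈ M) {B : Set (IrrCharacter G)}
    {P : Subgroup G} {e : Set (IrrCharacter (Subgroup.centralizer (P : Set G)))}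
    (hmax : IsMaximalBrauerPair p M B P e) : IsDefectGroup p M B P := by
  obtain ⟨b, hb, -, hdef, hind⟩ := exists_local_block_of_maximal hpM hmax
  obtain ⟨B', -, hD, hind'⟩ := first_main_induced hpM hmax.1.1.1 hb hdef
  rwa [IsInducedBlock.unique hind hind']

/-- All pairs of `B` on a maximal pair's subgroup are conjugate. -/
theorem exists_conj_pair_same_group (hpM : (p : AlgInt) ∈ M) {B : Set (IrrCharacter G)}
    {P : Subgroup G} {e e' : Set (IrrCharacter (Subgroup.centralizer (P : Set G)))}
    (hmax : IsMaximalBrauerPair p M B P e) (he' : IsBrauerPairOf p M B P e') :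
    ∃ x ∈ Subgroup.normalizer (P : Set G), conjPair x ⟨P, e⟩ = ⟨P, e'⟩ := by
  obtain ⟨b, hb, hmul, hdef, hind⟩ := exists_local_block_of_maximal hpM hmax
  have hP := hmax.1.1.1
  have hCN : Subgroup.centralizer (P : Set G) ≤ Subgroup.normalizer (P : Set G) := fun c hc => by
    have h1 : c⁻¹ ∈ Subgroup.centralizer (P : Set G) := inv_mem hc
    rw [Subgroup.mem_normalizer_iff]
    intro g
    constructor
    · intro hg
      rwa [← Subgroup.mem_centralizer_iff.1 hc g hg, mul_inv_cancel_right]
    · intro hg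
      have h2 := Subgroup.mem_centralizer_iff.1 h1 _ hg
      have h3 : g = c * g * c⁻¹ := by
        calc g = c⁻¹ * (c * g * c⁻¹) * c := by group
          _ = _ := by rw [← h2]; group
      rwa [h3]
  obtain ⟨b', hb', hmul'⟩ := exists_local_block hpM hP Subgroup.le_normalizer hCN le_rfl he'.1.2
  have hind' := isInducedBlock_of_pair hpM hP Subgroup.le_normalizer hCN le_rfl he' hb' hmul'
  obtain rfl := first_main_unique hpM hP hind hind' hdef
  exact exists_conj_of_local hCN le_rfl hmax.1.1.2 he'.1.2 hb hmul hmul'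

theorem isMaximal_of_defectGroup (hpM : (p : AlgInt) ∈ M) {B : Set (IrrCharacter G)}
    {D : Subgroup G} (hD : IsDefectGroup p M B D)
    {h : Set (IrrCharacter (Subgroup.centralizer (D : Set G)))}
    (hh : IsBrauerPairOf p M B D h) : IsMaximalBrauerPair p M B D h := by
  refine ⟨hh, fun R g hg hle => ?_⟩
  obtain ⟨c, hc, hmaxc⟩ := exists_maximal_above hpM ⟨R, g⟩ hg
  have h1 := isDefectGroup_of_maximal hpM hmaxc
  have hle' : Relation.ReflTransGen (NormalSubpairRel p M) ⟨D, h⟩ ⟨R, g⟩ := hle
  have e1 : Nat.card c.1 = Nat.card D := by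
    rw [BlockOrth.card_defectGroup hpM hh.2.1 h1, BlockOrth.card_defectGroup hpM hh.2.1 hD]
  refine (Subgroup.eq_of_le_of_card_ge (below_le hle') ?_).symm
  exact (Subgroup.card_le_of_le (below_le hc)).trans e1.le

/-- Maximal pairs of a block are conjugate. -/
theorem exists_conj_maximal (hpM : (p : AlgInt) ∈ M) {B : Set (IrrCharacter G)}
    {a c : BrauerPairIdx G} (ha : IsMaximalBrauerPair p M B a.1 a.2)
    (hc : IsMaximalBrauerPair p M B c.1 c.2) : ∃ x : G, conjPair x c = a := by
  obtain ⟨x, hx⟩ := IsDefectGroup.exists_conj_eq hpM ha.1.2.1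
    (isDefectGroup_of_maximal hpM hc) (isDefectGroup_of_maximal hpM ha)
  obtain ⟨P, e⟩ := a
  obtain rfl : c.1.map (MulAut.conj x).toMonoidHom = P := hx
  obtain ⟨y, -, hy⟩ := exists_conj_pair_same_group hpM ha (isBrauerPairOf_conj hc.1 x)
  refine ⟨y⁻¹ * x, ?_⟩
  have hy' : conjPair y ⟨c.1.map (MulAut.conj x).toMonoidHom, e⟩ = conjPair x c := hy
  rw [← conjPair_mul, ← hy', conjPair_mul, inv_mul_cancel, conjPair_one]

/-- Every pair of the block is conjugate to one below a given maximal pair. -/
theorem exists_conj_below (hpM : (p : AlgInt) ∈ M) {B : Set (IrrCharacter G)}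
    {a b : BrauerPairIdx G} (hmax : IsMaximalBrauerPair p M B b.1 b.2)
    (ha : IsBrauerPairOf p M B a.1 a.2) :
    ∃ x : G, Relation.ReflTransGen (NormalSubpairRel p M) (conjPair x a) b := by
  obtain ⟨c, hc, hmaxc⟩ := exists_maximal_above hpM a ha
  obtain ⟨x, hx⟩ := exists_conj_maximal hpM hmax hmaxc
  exact ⟨x, hx ▸ below_conj hc x⟩

end CfsgLib.Blocks
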