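import Cfsg.Agent.Lib.Blocks.BrauerPairs

/-!
# Blocks of a subgroup and of a normalized subgroup inside the group ring
-/

set_option linter.unusedSectionVars false
set_option linter.style.haveILetI false

namespace CfsgLib.Blocks

open Cfsg Chars

variable {G : Type*} [Group G] [Fintype G] {M : Ideal AlgInt} [M.IsPrime] {p : ℕ} [Fact p.Prime]

/-! ## Conjugation on the group ring -/

/-- Conjugation by `x` on the group ring. -/
noncomputable def conjAlg (x : G) :
    MonoidAlgebra (ResField M) G →+* MonoidAlgebra (ResField M) G :=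
  MonoidAlgebra.mapDomainRingHom (ResField M) (MulAut.conj x).toMonoidHom

theorem coeff_conjAlg (x : G) (F : MonoidAlgebra (ResField M) G) (g : G) :
    (conjAlg x F).coeff g = F.coeff (x⁻¹ * g * x) := by
  have h : (conjAlg (M := M) x F).coeff =
      Finsupp.mapDomain (MulAut.conj x).toMonoidHom F.coeff := by simp [conjAlg]
  rw [h]
  conv_lhs => rw [show g = (MulAut.conj x).toMonoidHom (x⁻¹ * g * x) by simp [mul_assoc]]
  exact Finsupp.mapDomain_apply (MulAut.conj x).injective _ _

theorem coeff_pairIdem {H : Subgroup G} {e : Set (IrrCharacter H)} (he : IsPBlock M e) (g : G) :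
    (pairIdem he).coeff g = red ⟨subgroupBlockCoeff H e g, subgroupBlockCoeff_mem_loc he g⟩ :=
  coeff_redFun _ _ _

theorem conjAlg_pairIdem {H H' : Subgroup G} {e : Set (IrrCharacter H)} (he : IsPBlock M e)
    {e' : Set (IrrCharacter H')} (he' : IsPBlock M e') (x : G)
    (h : ∀ g, subgroupBlockCoeff H' e' g = subgroupBlockCoeff H e (x⁻¹ * g * x)) :
    conjAlg x (pairIdem he) = pairIdem he' := by
  apply MonoidAlgebra.ext
  ext g
  rw [coeff_conjAlg, coeff_pairIdem, coeff_pairIdem]
  exact congrArg red (Subtype.ext (h g).symm)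

theorem subgroupBlockCoeff_conjImage' {H H' : Subgroup G} (x : G)
    (h : ∀ g, x * g * x⁻¹ ∈ H' ↔ g ∈ H) (e : Set (IrrCharacter H)) (g : G) :
    subgroupBlockCoeff H' (conjImage x h e) g = subgroupBlockCoeff H e (x⁻¹ * g * x) := by
  conv_lhs => rw [show g = x * (x⁻¹ * g * x) * x⁻¹ by group]
  rw [subgroupBlockCoeff_conjImage]

/-! ## The block of the big group over a block of the small one -/

section Over

variable {K V : Subgroup G} {f f' : Set (IrrCharacter V)} {h h' : Set (IrrCharacter K)}

theorem exists_mul_ne_zero_over (hf : IsPBlock M f) :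
    ∃ (h : Set (IrrCharacter K)) (hh : IsPBlock M h), pairIdem hf * pairIdem hh ≠ 0 := by
  classical
  haveI := Fintype.ofFinite K
  by_contra hcon
  push Not at hcon
  apply pairIdem_ne_zero hf
  rw [← mul_one (pairIdem hf), ← sum_pairIdem (M := M) (blockFinset M K) rfl
    (fun e => if he : IsPBlock M e then pairIdem he else 0) (fun e he => dif_pos he),
    Finset.mul_sum]
  refine Finset.sum_eq_zero fun e he => ?_
  rw [dif_pos (mem_blockFinset.1 he)]
  exact hcon e _

theorem exists_mul_ne_zero_under (hh : IsPBlock M h) :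
    ∃ (f : Set (IrrCharacter V)) (hf : IsPBlock M f), pairIdem hf * pairIdem hh ≠ 0 := by
  classical
  haveI := Fintype.ofFinite V
  by_contra hcon
  push Not at hcon
  apply pairIdem_ne_zero hh
  rw [← one_mul (pairIdem hh), ← sum_pairIdem (M := M) (blockFinset M V) rfl
    (fun e => if he : IsPBlock M e then pairIdem he else 0) (fun e he => dif_pos he),
    Finset.sum_mul]
  refine Finset.sum_eq_zero fun e he => ?_
  rw [dif_pos (mem_blockFinset.1 he)]
  exact hcon e _

theorem over_unique (hf : IsPBlock M f) (hh : IsPBlock M h) (hh' : IsPBlock M h')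
    (e : pairIdem hf * pairIdem hh = pairIdem hf)
    (e' : pairIdem hf * pairIdem hh' = pairIdem hf) : h = h' := by
  by_contra hne
  apply pairIdem_ne_zero hf
  rw [← e', ← e, mul_assoc, pairIdem_mul_of_ne _ _ hne, mul_zero]

theorem mul_pairIdem_dichotomy [Fintype V] (hVK : V ≤ K) (hf : IsPBlock M f) (hh : IsPBlock M h)
    (hsupp : cut (V : Set G) (pairIdem hh) = pairIdem hh) :
    pairIdem hf * pairIdem hh = pairIdem hf ∨ pairIdem hf * pairIdem hh = 0 := by
  obtain ⟨ξ, hξ⟩ := IsPBlock.nonempty hf
  have := pairIdem_mul_dichotomy hf (β := subgroupBlockCoeff K h) (subgroupBlockCoeff_mem_loc hh)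
    (isClassFunction_resFun_of_inv fun u hu g => subgroupBlockCoeff_conj_of_mem h (hVK hu) g)
    (by
      show cut (V : Set G) (pairIdem hh) * cut (V : Set G) (pairIdem hh) =
        cut (V : Set G) (pairIdem hh)
      rw [hsupp, pairIdem_mul_self]) hξ
  change _ ∨ _ at this
  rcases this with ⟨-, h1⟩ | ⟨-, h1⟩
  · exact Or.inl (by rwa [show redFun (subgroupBlockCoeff K h) (subgroupBlockCoeff_mem_loc hh) =
      pairIdem hh from rfl, hsupp] at h1)
  · exact Or.inr (by rwa [show redFun (subgroupBlockCoeff K h) (subgroupBlockCoeff_mem_loc hh) =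
      pairIdem hh from rfl, hsupp] at h1)

/-- The blocks below one block are conjugate. -/
theorem exists_conj_under (hVK : V ≤ K) (hKV : K ≤ Subgroup.normalizer (V : Set G))
    (he : IsPBlock M f) (he' : IsPBlock M f') (hb : IsPBlock M h)
    (h1 : pairIdem he * pairIdem hb = pairIdem he)
    (h1' : pairIdem he' * pairIdem hb = pairIdem he') :
    ∃ u ∈ K, ∀ g, subgroupBlockCoeff V f' g = subgroupBlockCoeff V f (u⁻¹ * g * u) := by
  classical
  haveI := Fintype.ofFinite K
  let F : K → Set (IrrCharacter V) := fun x =>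
    conjImage (x : G) (conj_mem_iff_of_mem_normalizer (hKV x.2)) f
  have hF : ∀ (x : K) g, subgroupBlockCoeff V (F x) g =
      subgroupBlockCoeff V f ((x : G)⁻¹ * g * x) := fun x g => subgroupBlockCoeff_conjImage' _ _ _ _
  have hFb : ∀ x, IsPBlock M (F x) := fun x => isPBlock_conjImage _ _ he
  by_contra hcon
  have hne : ∀ x, F x ≠ f' := fun x hx => hcon ⟨x, x.2, fun g => by rw [← hF, hx]⟩
  set O := Finset.univ.image F with hO
  have hOb : ∀ e ∈ O, IsPBlock M e := fun e he'' => by
    obtain ⟨x, -, rfl⟩ := Finset.mem_image.1 he''; exact hFb x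
  set β : G → ℂ := fun g => ∑ e ∈ O, subgroupBlockCoeff V e g with hβdef
  have hβ : ∀ g, β g ∈ loc M := fun g =>
    sum_mem fun e he'' => subgroupBlockCoeff_mem_loc (hOb e he'') g
  let E : Set (IrrCharacter V) → MonoidAlgebra (ResField M) G :=
    fun e => if he'' : IsPBlock M e then pairIdem he'' else 0
  have hE : ∀ e (he'' : IsPBlock M e), E e = pairIdem he'' := fun e he'' => dif_pos he''
  have hred : redFun β hβ = ∑ e ∈ O, E e := by
    apply MonoidAlgebra.ext
    ext g
    let z : Set (IrrCharacter V) → loc M := fun e =>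
      if he'' : IsPBlock M e then
        ⟨subgroupBlockCoeff V e g, subgroupBlockCoeff_mem_loc he'' g⟩ else 0
    have e1 : ∀ e ∈ O, (E e).coeff g = red (z e) := fun e he'' => by
      simp only [E, z, dif_pos (hOb e he''), pairIdem, coeff_redFun]
    rw [MonoidAlgebra.coeff_sum, Finsupp.finsetSum_apply, Finset.sum_congr rfl e1, ← map_sum,
      coeff_redFun]
    refine congrArg red (Subtype.ext ?_)
    rw [AddSubmonoidClass.coe_finsetSum]
    exact Finset.sum_congr rfl fun e he'' => by simp [z, dif_pos (hOb e he'')]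
  have hcut : cut (K : Set G) (redFun β hβ) = redFun β hβ := by
    rw [cut_eq_self_iff]
    intro g hg
    rw [coeff_redFun_eq_zero_iff]
    refine MemLocalIdeal.sum' fun e _ => ?_
    rw [subgroupBlockCoeff_of_notMem e fun h'' => hg (hVK h'')]
    exact MemLocalIdeal.zero'
  have hidem : redFun β hβ * redFun β hβ = redFun β hβ := by
    rw [hred, Finset.sum_mul]
    refine Finset.sum_congr rfl fun e he'' => ?_
    rw [Finset.mul_sum, Finset.sum_eq_single e]
    · rw [hE e (hOb e he''), pairIdem_mul_self]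
    · intro e₂ he₂ hne'
      rw [hE e (hOb e he''), hE e₂ (hOb e₂ he₂), pairIdem_mul_of_ne _ _ hne'.symm]
    · exact fun h'' => absurd he'' h''
  have hinv : ∀ u ∈ K, ∀ g, β (u * g * u⁻¹) = β g := by
    intro u hu g
    let σ : Set (IrrCharacter V) → Set (IrrCharacter V) := fun e =>
      conjImage u (conj_mem_iff_of_mem_normalizer (hKV hu)) e
    have hσ : ∀ x, σ (F x) = F (⟨u, hu⟩ * x) := fun x =>
      eq_of_subgroupBlockCoeff_eq (funext fun y => by
        rw [hF, subgroupBlockCoeff_conjImage', hF]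
        congr 1
        simp [mul_assoc])
    have hσO : O.image σ = O := by
      rw [hO, Finset.image_image]
      ext e
      simp only [Finset.mem_image, Finset.mem_univ, true_and, Function.comp_apply, hσ]
      exact ⟨fun ⟨x, hx⟩ => ⟨_, hx⟩, fun ⟨x, hx⟩ => ⟨⟨u, hu⟩⁻¹ * x, by
        rwa [mul_inv_cancel_left]⟩⟩
    show ∑ e ∈ O, _ = ∑ e ∈ O, _
    conv_lhs => rw [← hσO]
    rw [Finset.sum_image]
    · exact Finset.sum_congr rfl fun e _ => subgroupBlockCoeff_conjImage u _ e g
    · intro e _ e₂ _ hee
      refine eq_of_subgroupBlockCoeff_eq (funext fun y => ?_)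
      rw [← subgroupBlockCoeff_conjImage u (conj_mem_iff_of_mem_normalizer (hKV hu)) e y]
      show subgroupBlockCoeff V (σ e) _ = _
      rw [hee]
      exact subgroupBlockCoeff_conjImage u _ e₂ y
  have hself : pairIdem he * redFun β hβ = pairIdem he := by
    have h2 : f ∈ O := Finset.mem_image.2 ⟨1, Finset.mem_univ _,
      eq_of_subgroupBlockCoeff_eq (funext fun g => by simp [hF])⟩
    rw [hred, Finset.mul_sum, Finset.sum_eq_single f]
    · rw [hE f he, pairIdem_mul_self]
    · intro e he'' hne'
      rw [hE e (hOb e he''), pairIdem_mul_of_ne _ _ hne'.symm]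
    · exact fun h'' => absurd h2 h''
  have hzero : pairIdem he' * redFun β hβ = 0 := by
    rw [hred, Finset.mul_sum]
    refine Finset.sum_eq_zero fun e he'' => ?_
    rw [hE e (hOb e he'')]
    refine pairIdem_mul_of_ne _ _ fun hee => ?_
    obtain ⟨x, -, hx⟩ := Finset.mem_image.1 he''
    exact hne x (hx.trans hee.symm)
  obtain ⟨ξ, hξ⟩ := IsPBlock.nonempty hb
  have hd := pairIdem_mul_dichotomy hb hβ (isClassFunction_resFun_of_inv hinv)
    (by rw [hcut]; exact hidem) hξ
  rw [hcut] at hd
  rcases hd with ⟨-, hd⟩ | ⟨-, hd⟩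
  · apply pairIdem_ne_zero he'
    rw [← h1', ← hd]
    have hcomm : pairIdem hb * redFun β hβ = redFun β hβ * pairIdem hb := by
      rw [pairIdem_eq_incl hb, ← hcut, cut_redFun_eq_incl hβ, ← map_mul, ← map_mul,
        (commute_blockIdem hb _).eq]
    rw [hcomm, ← mul_assoc, hzero, zero_mul]
  · apply pairIdem_ne_zero he
    rw [← hself]
    conv_lhs => rw [← h1]
    rw [mul_assoc, hd, mul_zero]

end Over

end CfsgLib.Blocks
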