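import Cfsg.Agent.Lib.Blocks.PIndex
import Cfsg.Agent.Lib.Blocks.SubgroupBlocks
import Cfsg.Agent.Lib.Blocks.CentralizerPairs
import Cfsg.Agent.Lib.Blocks.InertialQuotient

/-!
# Nilpotency and normal subgroups of `p`-power index
-/

set_option linter.unusedSectionVars false
set_option linter.style.haveILetI false

namespace CfsgLib.Blocks

open Cfsg Chars

variable {G : Type*} [Group G] [Fintype G] {N : Subgroup G} [N.Normal]
  {M : Ideal AlgInt} [M.IsPrime] {p : ℕ} [Fact p.Prime] {k : ℕ}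

theorem le_normalizer_inf_normal (K : Subgroup G) :
    Subgroup.normalizer (K : Set G) ≤
      Subgroup.normalizer ((K ⊓ N : Subgroup G) : Set G) := fun x hx => by
  rw [Subgroup.mem_normalizer_iff]
  intro g
  refine and_congr ((Subgroup.mem_normalizer_iff.1 hx) g) ⟨fun h => ?_, fun h => ?_⟩
  · exact Subgroup.Normal.conj_mem inferInstance g h x
  · simpa [mul_assoc] using Subgroup.Normal.conj_mem (H := N) inferInstance _ h x⁻¹

theorem cut_inf_pairIdem (hpM : (p : AlgInt) ∈ M) (hk : N.index = p ^ k) {K : Subgroup G}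
    {h : Set (IrrCharacter K)} (hh : IsPBlock M h) :
    cut ((K ⊓ N : Subgroup G) : Set G) (pairIdem hh) = pairIdem hh := by
  rw [cut_eq_self_iff]
  intro g hg
  rw [coeff_pairIdem_eq_zero_iff]
  by_cases hgK : g ∈ K
  · haveI := Fintype.ofFinite K
    haveI := Fintype.ofFinite N
    have hgN : g ∉ N := fun h' => hg ⟨hgK, h'⟩
    have hd : p ∣ orderOf g := by
      by_contra hd
      exact hgN (mem_of_regular_of_index N hk hd)
    rw [show g = ((⟨g, hgK⟩ : K) : G) from rfl, subgroupBlockCoeff_coe,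
      blockCoeff_eq_zero_of_dvd Fact.out hpM hh (by rwa [← Subgroup.orderOf_coe])]
    exact MemLocalIdeal.zero'
  · rw [subgroupBlockCoeff_of_notMem _ hgK]
    exact MemLocalIdeal.zero'

theorem cut_centralizer_pairIdem [Fintype N] {R : Subgroup G} {c : Set (IrrCharacter N)} (hc : IsPBlock M c) :
    cut ((Subgroup.centralizer (R : Set G) ⊓ N : Subgroup G) : Set G) (pairIdem hc) =
      cut (Subgroup.centralizer (R : Set G) : Set G) (pairIdem hc) := by
  conv_rhs => rw [← cut_pairIdem hc, cut_cut]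
  rfl

section Lift

variable [Fintype N] {c : Set (IrrCharacter N)} {B : Set (IrrCharacter G)}

theorem blockIdem_eq_pairIdem (hc : IsPBlock M c) (hB : IsPBlock M B)
    (hBc : blockCoeff B = subgroupBlockCoeff N c) : blockIdem hB = pairIdem hc := by
  apply MonoidAlgebra.ext
  ext g
  rw [blockIdem, coeff_redFun, coeff_pairIdem]
  exact congrArg red (Subtype.ext (congrFun hBc g))

/-- Nilpotency descends. -/
theorem isNilpotentBlock_of_lift (hpM : (p : AlgInt) ∈ M) (hk : N.index = p ^ k)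
    (hc : IsPBlock M c) (hBc : blockCoeff B = subgroupBlockCoeff N c)
    (hnil : IsNilpotentBlock p M B) : IsNilpotentBlock p M c := by
  refine ⟨hc, fun R' r' hp x hxN hst hreg => ?_⟩
  haveI := Fintype.ofFinite (Subgroup.centralizer
    ((R'.map N.subtype : Subgroup G) : Set G) ⊓ N : Subgroup G)
  have hUV : ∀ u : N, u ∈ Subgroup.centralizer (R' : Set N) ↔
      (u : G) ∈ Subgroup.centralizer ((R'.map N.subtype : Subgroup G) : Set G) ⊓ N := by
    intro u
    refine ⟨fun hu => ⟨Subgroup.mem_centralizer_iff.2 ?_, u.2⟩, fun hu => ?_⟩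
    · rintro _ ⟨y, hy, rfl⟩
      exact congrArg Subtype.val (Subgroup.mem_centralizer_iff.1 hu y hy)
    · exact Subgroup.mem_centralizer_iff.2 fun y hy =>
        Subtype.ext (Subgroup.mem_centralizer_iff.1 hu.1 _ ⟨y, hy, rfl⟩)
  obtain ⟨f, hf, hcoef, hidem⟩ := exists_transBlock inf_le_right hUV hp.1.2
  have hfc : pairIdem hf *
      cut (Subgroup.centralizer ((R'.map N.subtype : Subgroup G) : Set G) : Set G)
        (blockIdem hnil.1) = pairIdem hf := by
    rw [blockIdem_eq_pairIdem hc hnil.1 hBc, ← cut_centralizer_pairIdem hc, hidem,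
      pairIdem_eq_incl hc, ← incl_cut_trans inf_le_right hUV, ← map_mul,
      (isBrauerPairOf_iff hpM hp.1 hp.2.1).1.1 hp]
  obtain ⟨h, hh, hne⟩ := exists_mul_ne_zero_over
    (K := Subgroup.centralizer ((R'.map N.subtype : Subgroup G) : Set G)) hf
  have hfh : pairIdem hf * pairIdem hh = pairIdem hf :=
    (mul_pairIdem_dichotomy inf_le_left hf hh (cut_inf_pairIdem hpM hk hh)).resolve_right hne
  have hR : IsPGroup p (R'.map N.subtype : Subgroup G) := isPGroup_map_subtype hp.1.1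
  have hpair : IsBrauerPairOf p M B (R'.map N.subtype) h := by
    refine (isBrauerPairOf_iff hpM ⟨hR, hh⟩ hnil.1).1.2 ?_
    refine (isBrauerPairOf_iff hpM ⟨hR, hh⟩ hnil.1).2.resolve_right fun h0 => ?_
    apply pairIdem_ne_zero hf
    calc pairIdem hf = pairIdem hf * cut (Subgroup.centralizer
          ((R'.map N.subtype : Subgroup G) : Set G) : Set G) (blockIdem hnil.1) := hfc.symm
      _ = pairIdem hf * pairIdem hh * cut (Subgroup.centralizer
          ((R'.map N.subtype : Subgroup G) : Set G) : Set G) (blockIdem hnil.1) := by rw [hfh]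
      _ = 0 := by rw [mul_assoc, h0, mul_zero]
  have hxR : (x : G) ∈ Subgroup.normalizer ((R'.map N.subtype : Subgroup G) : Set G) :=
    Subgroup.le_normalizer_map N.subtype ⟨x, hxN, rfl⟩
  have hxC := mem_normalizer_centralizer hxR
  have hfx : ∀ g, subgroupBlockCoeff (Subgroup.centralizer
      ((R'.map N.subtype : Subgroup G) : Set G) ⊓ N) f g =
      subgroupBlockCoeff (Subgroup.centralizer ((R'.map N.subtype : Subgroup G) : Set G) ⊓ N) f
        ((x : G)⁻¹ * g * x) := by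
    intro g
    by_cases hg : g ∈ N
    · have h1 := ((stabilizesBlock_iff hp.1.2).1 hst).2 (x⁻¹ * ⟨g, hg⟩ * x)
      rw [show x * (x⁻¹ * (⟨g, hg⟩ : N) * x) * x⁻¹ = ⟨g, hg⟩ by group] at h1
      rw [← hcoef, ← hcoef] at h1
      exact h1
    · rw [subgroupBlockCoeff_of_notMem _ (show g ∉ Subgroup.centralizer
          ((R'.map N.subtype : Subgroup G) : Set G) ⊓ N from fun h' => hg h'.2),
        subgroupBlockCoeff_of_notMem _ fun h' => hg ?_]
      have := Subgroup.Normal.conj_mem (H := N) inferInstance _ (Subgroup.mem_inf.1 h').2 (x : G)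
      simpa [mul_assoc] using this
  have hh' := isPBlock_conjImage (x : G) (conj_mem_iff_of_mem_normalizer hxC) hh
  have hst' : StabilizesBlock (Subgroup.centralizer ((R'.map N.subtype : Subgroup G) : Set G)) h
      (x : G) := by
    rw [stabilizesBlock_iff_conjImage hh hxC]
    refine over_unique hf hh' hh ?_ hfh
    rw [← conjAlg_pairIdem hh hh' (x : G) fun g => subgroupBlockCoeff_conjImage' _ _ _ g]
    conv_lhs => rw [← conjAlg_pairIdem hf hf (x : G) hfx]
    rw [← map_mul, hfh, conjAlg_pairIdem hf hf (x : G) hfx]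
  have h5 := hnil.2 _ h hpair (x : G) hxR hst' (by
    show ¬ p ∣ orderOf (x : G)
    rwa [Subgroup.orderOf_coe])
  exact (hUV x).2 ⟨h5, x.2⟩

/-- Nilpotency ascends. -/
theorem isNilpotentBlock_lift (hpM : (p : AlgInt) ∈ M) (hk : N.index = p ^ k)
    (hnil : IsNilpotentBlock p M c) (hB : IsPBlock M B)
    (hBc : blockCoeff B = subgroupBlockCoeff N c) : IsNilpotentBlock p M B := by
  refine ⟨hB, fun R h hRh x hxR hst hreg => ?_⟩
  have hxN : x ∈ N := mem_of_regular_of_index N hk hreg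
  obtain ⟨R₀, hR₀⟩ : ∃ R₀, R₀ = R ⊓ N := ⟨_, rfl⟩
  have hR₀R : R₀ ≤ R := hR₀ ▸ inf_le_left
  have hR₀N : R₀ ≤ N := hR₀ ▸ inf_le_right
  have hxR₀ : x ∈ Subgroup.normalizer (R₀ : Set G) := hR₀ ▸ le_normalizer_inf_normal R hxR
  obtain ⟨h₀, hle⟩ := exists_below (b := ⟨R, h⟩) hpM hRh.1 R₀ hR₀R
  have hpair₀ : IsBrauerPairOf p M B R₀ h₀ :=
    (isBrauerPairOf_iff_of_below hpM hle B).2 hRh
  have hxs : x ∈ stabPair ⟨R₀, h₀⟩ := inf_normalizer_le_stabPair hpM hRh.1 hle
    ⟨(mem_stabPair_iff hRh.1.2).2 ⟨hxR, hst⟩, hxR₀⟩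
  have hx₀ := (stabilizesBlock_iff hpair₀.1.2).1 ((mem_stabPair_iff hpair₀.1.2).1 hxs).2
  haveI := Fintype.ofFinite (Subgroup.centralizer (R₀ : Set G) ⊓ N : Subgroup G)
  obtain ⟨f, hf, hne⟩ := exists_mul_ne_zero_under
    (V := Subgroup.centralizer (R₀ : Set G) ⊓ N) hpair₀.1.2
  have hfh : pairIdem hf * pairIdem hpair₀.1.2 = pairIdem hf :=
    (mul_pairIdem_dichotomy inf_le_left hf hpair₀.1.2
      (cut_inf_pairIdem hpM hk hpair₀.1.2)).resolve_right hne
  have hfc : pairIdem hf * cut (Subgroup.centralizer (R₀ : Set G) : Set G) (blockIdem hB) =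
      pairIdem hf := by
    conv_lhs => rw [← hfh, mul_assoc, (isBrauerPairOf_iff hpM hpair₀.1 hB).1.1 hpair₀]
    exact hfh
  have hKV : Subgroup.centralizer (R₀ : Set G) ≤
      Subgroup.normalizer ((Subgroup.centralizer (R₀ : Set G) ⊓ N : Subgroup G) : Set G) :=
    Subgroup.le_normalizer.trans (le_normalizer_inf_normal _)
  have hxV : x ∈ Subgroup.normalizer
      ((Subgroup.centralizer (R₀ : Set G) ⊓ N : Subgroup G) : Set G) :=
    le_normalizer_inf_normal _ (mem_normalizer_centralizer hxR₀)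
  have hf' := isPBlock_conjImage x (conj_mem_iff_of_mem_normalizer hxV) hf
  have hf'h : pairIdem hf' * pairIdem hpair₀.1.2 = pairIdem hf' := by
    have hh : conjAlg x (pairIdem hpair₀.1.2) = pairIdem hpair₀.1.2 :=
      conjAlg_pairIdem _ _ x fun g => by
        conv_lhs => rw [show g = x * (x⁻¹ * g * x) * x⁻¹ by group]
        rw [hx₀.2]
    rw [← conjAlg_pairIdem hf hf' x fun g => subgroupBlockCoeff_conjImage' _ _ _ g]
    conv_lhs => rw [← hh]
    rw [← map_mul, hfh]
  obtain ⟨u, hu, huf⟩ := exists_conj_under inf_le_left hKV hf hf' hpair₀.1.2 hfh hf'h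
  set φ := subgroupBlockCoeff (Subgroup.centralizer (R₀ : Set G) ⊓ N) f with hφ
  have hxu : ∀ y, φ (x⁻¹ * y * x) = φ (u⁻¹ * y * u) := fun y => by
    rw [← huf, subgroupBlockCoeff_conjImage']
  have hV : ∀ v ∈ Subgroup.centralizer (R₀ : Set G) ⊓ N, ∀ y, φ (v * y * v⁻¹) = φ y :=
    fun v hv y => subgroupBlockCoeff_conj_of_mem f hv y
  have hun : ∀ n : ℕ, ∀ y, φ ((x ^ n)⁻¹ * y * x ^ n) = φ ((u ^ n)⁻¹ * y * u ^ n) := by
    intro n
    induction n with
    | zero => intro y; simp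
    | succ n ih =>
      intro y
      obtain ⟨w, hw⟩ : ∃ w, w = u ^ n := ⟨_, rfl⟩
      rw [← hw] at ih
      have hwC : w ∈ Subgroup.centralizer (R₀ : Set G) := hw ▸ pow_mem hu n
      have hv : (w * x)⁻¹ * (x * w) ∈ Subgroup.centralizer (R₀ : Set G) ⊓ N := by
        refine ⟨?_, ?_⟩
        · have h1 : x⁻¹ * w⁻¹ * x ∈ Subgroup.centralizer (R₀ : Set G) := by
            have := (conj_mem_centralizer_iff (inv_mem hxR₀) w⁻¹).2 (inv_mem hwC)
            simpa using this
          simpa [mul_assoc] using mul_mem h1 hwC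
        · have h1 := Subgroup.Normal.conj_mem (H := N) inferInstance x hxN w⁻¹
          simpa [mul_assoc] using N.mul_mem (N.inv_mem hxN) h1
      calc φ ((x ^ (n + 1))⁻¹ * y * x ^ (n + 1))
          = φ ((x ^ n)⁻¹ * (x⁻¹ * y * x) * x ^ n) := by
            congr 1; rw [pow_succ']; group
        _ = φ (w⁻¹ * (x⁻¹ * y * x) * w) := ih _
        _ = φ (((w * x)⁻¹ * (x * w)) * (w⁻¹ * (x⁻¹ * y * x) * w) *
              ((w * x)⁻¹ * (x * w))⁻¹) := (hV _ hv _).symm
        _ = φ (x⁻¹ * (w⁻¹ * y * w) * x) := by congr 1; group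
        _ = φ (u⁻¹ * (w⁻¹ * y * w) * u) := hxu _
        _ = φ ((u ^ (n + 1))⁻¹ * y * u ^ (n + 1)) := by congr 1; rw [pow_succ, ← hw]; group
  let S : Subgroup G :=
    { carrier := {g | ∀ y, φ (g⁻¹ * y * g) = φ y}
      one_mem' := fun y => by simp
      mul_mem' := fun {a b} ha hb y => by
        rw [show (a * b)⁻¹ * y * (a * b) = b⁻¹ * (a⁻¹ * y * a) * b by group, hb, ha]
      inv_mem' := fun {a} ha y => by
        have h1 := ha (a * y * a⁻¹)
        rw [show a⁻¹ * (a * y * a⁻¹) * a = y by group] at h1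
        rw [inv_inv, ← h1] }
  have h1 : u ^ orderOf x ∈ S := fun y => by
    rw [← hun, pow_orderOf_eq_one]
    simp
  have h2 : u ^ p ^ k ∈ S := fun y => by
    have hmem : u ^ p ^ k ∈ Subgroup.centralizer (R₀ : Set G) ⊓ N := by
      refine ⟨pow_mem hu _, ?_⟩
      show u ^ p ^ k ∈ N
      rw [← QuotientGroup.eq_one_iff, QuotientGroup.mk_pow]
      rw [← hk, Subgroup.index]
      exact pow_card_eq_one'
    have := hV _ (inv_mem hmem) y
    rwa [inv_inv] at this
  have hcop : (orderOf x).Coprime (p ^ k) :=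
    (Nat.Coprime.pow_left k (((Fact.out : p.Prime).coprime_iff_not_dvd).2 hreg)).symm
  have huS : u ∈ S := by
    have e : u = (u ^ orderOf x) ^ Nat.gcdA (orderOf x) (p ^ k) *
        (u ^ p ^ k) ^ Nat.gcdB (orderOf x) (p ^ k) := by
      have hgcd : ((orderOf x : ℕ) : ℤ) * Nat.gcdA (orderOf x) (p ^ k) +
          ((p ^ k : ℕ) : ℤ) * Nat.gcdB (orderOf x) (p ^ k) = 1 := by
        rw [← Nat.gcd_eq_gcd_ab, hcop.gcd_eq_one, Nat.cast_one]
      rw [← zpow_natCast u, ← zpow_natCast u, ← zpow_mul, ← zpow_mul, ← zpow_add, hgcd, zpow_one]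
    rw [e]
    exact mul_mem (zpow_mem h1 _) (zpow_mem h2 _)
  have hxf : ∀ y, φ (x * y * x⁻¹) = φ y := fun y => by
    have := hxu (x * y * x⁻¹)
    rw [huS, show x⁻¹ * (x * y * x⁻¹) * x = y by group] at this
    exact this.symm
  -- the pair of `c`
  have hUV : ∀ v : N, v ∈ Subgroup.centralizer (R₀.subgroupOf N : Set N) ↔
      (v : G) ∈ Subgroup.centralizer (R₀ : Set G) ⊓ N :=
    fun v => (mem_centralizer_subgroupOf_iff hR₀N v).trans ⟨fun h' => ⟨h', v.2⟩, And.left⟩
  haveI := Fintype.ofFinite (Subgroup.centralizer (R₀.subgroupOf N : Set N))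
  have hr' := isPBlock_image_pullIrr (transIso inf_le_right hUV) hf
  have hcoef : ∀ v : N, subgroupBlockCoeff (Subgroup.centralizer (R₀.subgroupOf N : Set N))
      (pullIrr (transIso inf_le_right hUV) '' f) v = φ (v : G) := fun v => by
    by_cases hv : v ∈ Subgroup.centralizer (R₀.subgroupOf N : Set N)
    · rw [show v = ((⟨v, hv⟩ : Subgroup.centralizer (R₀.subgroupOf N : Set N)) : N) from rfl,
        subgroupBlockCoeff_coe, blockCoeff_image_pullIrr, ← subgroupBlockCoeff_coe, hφ]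
      rfl
    · rw [subgroupBlockCoeff_of_notMem _ hv, hφ,
        subgroupBlockCoeff_of_notMem _ fun h' => hv ((hUV v).2 h')]
  have hincl : incl M N (pairIdem hr') = pairIdem hf := by
    apply MonoidAlgebra.ext
    ext g
    by_cases hg : g ∈ N
    · obtain ⟨v, rfl⟩ : ∃ v : N, (v : G) = g := ⟨⟨g, hg⟩, rfl⟩
      rw [coeff_incl, coeff_pairIdem, coeff_pairIdem]
      exact congrArg red (Subtype.ext (hcoef v))
    · rw [coeff_incl_of_notMem _ hg, eq_comm, coeff_pairIdem_eq_zero_iff,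
        subgroupBlockCoeff_of_notMem _ (show g ∉ Subgroup.centralizer (R₀ : Set G) ⊓ N from
          fun h' => hg h'.2)]
      exact MemLocalIdeal.zero'
  have hR₀p : IsPGroup p (R₀.subgroupOf N) :=
    isPGroup_subgroupOf (hRh.1.1.to_le hR₀R) hR₀N
  have hpc : IsBrauerPairOf p M c (R₀.subgroupOf N)
      (pullIrr (transIso inf_le_right hUV) '' f) := by
    refine (isBrauerPairOf_iff hpM ⟨hR₀p, hr'⟩ hnil.1).1.2 (incl_injective (M := M) ?_)
    rw [map_mul, incl_cut_trans inf_le_right hUV, hincl, ← pairIdem_eq_incl hnil.1,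
      cut_centralizer_pairIdem, ← blockIdem_eq_pairIdem hnil.1 hB hBc]
    exact hfc
  have hxn : (⟨x, hxN⟩ : N) ∈ Subgroup.normalizer ((R₀.subgroupOf N : Subgroup N) : Set N) := by
    rw [Subgroup.mem_normalizer_iff]
    exact fun v => Subgroup.mem_normalizer_iff.1 hxR₀ (v : G)
  have hxC₀ : x ∈ Subgroup.centralizer (R₀ : Set G) := by
    refine ((hUV ⟨x, hxN⟩).1 (hnil.2 _ _ hpc ⟨x, hxN⟩ hxn ?_ ?_)).1
    · refine (stabilizesBlock_iff hr').2 ⟨mem_normalizer_centralizer hxn, fun v => ?_⟩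
      rw [hcoef, hcoef]
      exact hxf _
    · show ¬ p ∣ orderOf (⟨x, hxN⟩ : N)
      rwa [Subgroup.orderOf_mk]
  -- coprime action
  rw [Subgroup.mem_centralizer_iff]
  intro r hr
  obtain ⟨z, hz⟩ : ∃ z, z = r⁻¹ * (x * r * x⁻¹) := ⟨_, rfl⟩
  have hzR : z ∈ R₀ := by
    rw [hR₀, hz]
    refine ⟨R.mul_mem (R.inv_mem hr) ((Subgroup.mem_normalizer_iff.1 hxR r).1 hr), ?_⟩
    have := N.mul_mem (Subgroup.Normal.conj_mem (H := N) inferInstance x hxN r⁻¹) (N.inv_mem hxN)
    simpa [mul_assoc] using this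
  have hzx : x * z = z * x := (Subgroup.mem_centralizer_iff.1 hxC₀ z hzR).symm
  have hn : ∀ n : ℕ, x ^ n * r * (x ^ n)⁻¹ = r * z ^ n := by
    intro n
    induction n with
    | zero => simp
    | succ n ih =>
      have hzn : x * z ^ n = z ^ n * x := (Commute.pow_right hzx n).eq
      calc x ^ (n + 1) * r * (x ^ (n + 1))⁻¹ = x * (x ^ n * r * (x ^ n)⁻¹) * x⁻¹ := by
            rw [pow_succ']; group
        _ = x * r * (x⁻¹ * (x * z ^ n)) * x⁻¹ := by rw [ih]; group
        _ = x * r * (x⁻¹ * (z ^ n * x)) * x⁻¹ := by rw [hzn]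
        _ = r * z * z ^ n := by rw [hz]; group
        _ = r * z ^ (n + 1) := by rw [pow_succ']; group
  have hz1 : z ^ orderOf x = 1 := by
    have := hn (orderOf x)
    rw [pow_orderOf_eq_one, one_mul, inv_one, mul_one] at this
    exact left_eq_mul.1 this
  obtain ⟨i, hi⟩ := hRh.1.1 ⟨z, hR₀R hzR⟩
  have hi' : z ^ p ^ i = 1 := congrArg Subtype.val hi
  have hz0 : z = 1 := by
    rw [← orderOf_eq_one_iff]
    exact Nat.eq_one_of_dvd_coprimes
      (Nat.Coprime.pow_left i (((Fact.out : p.Prime).coprime_iff_not_dvd).2 hreg))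
      (orderOf_dvd_of_pow_eq_one hi') (orderOf_dvd_of_pow_eq_one hz1)
  rw [hz, inv_mul_eq_one, eq_comm, mul_inv_eq_iff_eq_mul] at hz0
  exact hz0.symm

end Lift

end CfsgLib.Blocks
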