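import Cfsg.Agent.Lib.Blocks.CoveredDefectGroup
import Cfsg.Agent.Lib.Blocks.MaximalPairs
import Cfsg.Agent.Lib.Blocks.CentralizerPairs
import Cfsg.Agent.Lib.Blocks.PIndexPairs

/-!
# A single covering block

If the centralizer of a defect group of a block `c` of the normal subgroup `N` lies in `N`,
then only one block of `G` covers `c`.
-/

set_option linter.unusedSectionVars false
set_option linter.style.haveILetI false

namespace CfsgLib.Blocks

open Cfsg Chars

variable {G : Type*} [Group G] [Fintype G] {N : Subgroup G} [Fintype N]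
  {M : Ideal AlgInt} [M.IsPrime] {p : ℕ} [Fact p.Prime] {c : Set (IrrCharacter N)} {R : Subgroup G}

/-- A block of `C_G(R)`, for `C_G(R) ≤ N`, seen as a block of `C_N(R)`. -/
theorem exists_pair_of_restrict (hpM : (p : AlgInt) ∈ M) (hc : IsPBlock M c) (hR : IsPGroup p R)
    (hRN : R ≤ N) (hCN : Subgroup.centralizer (R : Set G) ≤ N)
    {h : Set (IrrCharacter (Subgroup.centralizer (R : Set G)))} (hh : IsPBlock M h)
    (hne : pairIdem hh * cut (Subgroup.centralizer (R : Set G) : Set G) (pairIdem hc) ≠ 0) :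
    ∃ r, IsBrauerPairOf p M c (R.subgroupOf N) r ∧ ∀ u : N,
      subgroupBlockCoeff (Subgroup.centralizer (R.subgroupOf N : Set N)) r u =
        subgroupBlockCoeff (Subgroup.centralizer (R : Set G)) h (u : G) := by
  classical
  have hUV : ∀ u : N, u ∈ (Subgroup.centralizer (R.subgroupOf N : Set N)) ↔ (u : G) ∈ (Subgroup.centralizer (R : Set G)) := fun u => mem_centralizer_subgroupOf_iff hRN u
  haveI := Fintype.ofFinite (Subgroup.centralizer (R.subgroupOf N : Set N))
  haveI := Fintype.ofFinite (Subgroup.centralizer (R : Set G))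
  have hr : IsPBlock M (pullIrr (transIso hCN hUV) '' h) := isPBlock_image_pullIrr _ hh
  have key : ∀ u : N, subgroupBlockCoeff (Subgroup.centralizer (R.subgroupOf N : Set N)) (pullIrr (transIso hCN hUV) '' h) u =
      subgroupBlockCoeff (Subgroup.centralizer (R : Set G)) h (u : G) := by
    intro u
    by_cases hu : u ∈ (Subgroup.centralizer (R.subgroupOf N : Set N))
    · rw [show u = ((⟨u, hu⟩ : (Subgroup.centralizer (R.subgroupOf N : Set N))) : N) from rfl, subgroupBlockCoeff_coe,
        blockCoeff_image_pullIrr,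
        show (((⟨u, hu⟩ : (Subgroup.centralizer (R.subgroupOf N : Set N))) : N) : G) = ((⟨(u : G), (hUV u).1 hu⟩ : (Subgroup.centralizer (R : Set G))) : G) from rfl,
        subgroupBlockCoeff_coe]
      rfl
    · rw [subgroupBlockCoeff_of_notMem _ hu,
        subgroupBlockCoeff_of_notMem _ fun h' => hu ((hUV u).2 h')]
  have hidem : pairIdem hh = incl M N (pairIdem hr) := by
    apply MonoidAlgebra.ext
    ext g
    by_cases hg : g ∈ N
    · obtain ⟨u, rfl⟩ : ∃ u : N, (u : G) = g := ⟨⟨g, hg⟩, rfl⟩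
      rw [coeff_incl, pairIdem, pairIdem, coeff_redFun, coeff_redFun]
      exact congrArg red (Subtype.ext (key u).symm)
    · rw [coeff_incl_of_notMem _ hg, coeff_pairIdem_eq_zero_iff,
        subgroupBlockCoeff_of_notMem _ fun h' => hg (hCN h')]
      exact MemLocalIdeal.zero'
  refine ⟨_, ?_, key⟩
  have hp' : IsBrauerPair p M (R.subgroupOf N) (pullIrr (transIso hCN hUV) '' h) :=
    ⟨isPGroup_subgroupOf hR hRN, hr⟩
  refine (isBrauerPairOf_iff hpM hp' hc).1.2
    ((isBrauerPairOf_iff hpM hp' hc).2.resolve_right fun h0 => hne ?_)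
  rw [hidem, pairIdem_eq_incl hc, ← incl_cut_trans hCN hUV, ← map_mul, h0, map_zero]

variable [N.Normal]

/-- The truncation of the product of a covering and a covered block idempotent. -/
theorem cut_mul_ne_zero_of_covered (hpM : (p : AlgInt) ∈ M) (hc : IsPBlock M c)
    {B : Set (IrrCharacter G)} (hB : IsPBlock M B) (hne : blockIdem hB * pairIdem hc ≠ 0)
    (hR : IsPGroup p R) (hRN : R ≤ N)
    (hcR : cut (Subgroup.centralizer (R : Set G) : Set G) (pairIdem hc) ≠ 0) :
    cut (Subgroup.centralizer (R : Set G) : Set G) (blockIdem hB * pairIdem hc) ≠ 0 := by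
  haveI := charP_resField (M := M) (Fact.out (p := p.Prime)) hpM
  intro h0
  refine hne (eq_zero_of_killed hpM hc hR hRN hcR ?_
    ((isFixedBy_blockIdem hB N).mul (isFixedBy_pairIdem_self hc)) ?_ h0)
  · rw [mul_assoc, ← mul_assoc (pairIdem hc), ← (commute_blockIdem hB (pairIdem hc)).eq,
      mul_assoc, pairIdem_mul_self, ← mul_assoc, blockIdem_mul_self]
  · rw [mul_assoc, pairIdem_mul_self]

/-- Each covering block has a pair at `R` restricting to a pair of the covered block. -/
theorem exists_pair_over (hpM : (p : AlgInt) ∈ M) (hc : IsPBlock M c)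
    (hRN : R ≤ N) (hR : IsDefectGroup p M c (R.subgroupOf N))
    (hCN : Subgroup.centralizer (R : Set G) ≤ N) {B : Set (IrrCharacter G)} (hB : IsPBlock M B)
    (hne : blockIdem hB * pairIdem hc ≠ 0) :
    ∃ h r, IsBrauerPairOf p M B R h ∧ IsMaximalBrauerPair p M c (R.subgroupOf N) r ∧ ∀ u : N,
      subgroupBlockCoeff (Subgroup.centralizer (R.subgroupOf N : Set N)) r u =
        subgroupBlockCoeff (Subgroup.centralizer (R : Set G)) h (u : G) := by
  classical
  haveI := charP_resField (M := M) (Fact.out (p := p.Prime)) hpM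
  haveI := Fintype.ofFinite (Subgroup.centralizer (R : Set G))
  have hRp : IsPGroup p R :=
    (IsDefectGroup.isPGroup hR).of_equiv (Subgroup.subgroupOfEquivOfLe hRN)
  obtain ⟨r', hr'⟩ := exists_pair_on_defectGroup hpM hc hR
  have hcR := cut_pairIdem_ne_zero_of_pair hpM hc hr'
  rw [map_subgroupOf_subtype hRN] at hcR
  have hcut := cut_mul_ne_zero_of_covered hpM hc hB hne hRp hRN hcR
  obtain ⟨h, hh, hne'⟩ : ∃ (h : Set (IrrCharacter (Subgroup.centralizer (R : Set G))))
      (hh : IsPBlock M h), pairIdem hh *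
        cut (Subgroup.centralizer (R : Set G) : Set G) (blockIdem hB * pairIdem hc) ≠ 0 := by
    by_contra hcon
    push Not at hcon
    apply hcut
    rw [← one_mul (cut _ (blockIdem hB * pairIdem hc)),
      ← sum_pairIdem (M := M) (blockFinset M (Subgroup.centralizer (R : Set G))) rfl
      (fun e => if he : IsPBlock M e then pairIdem he else 0) (fun e he => dif_pos he),
      Finset.sum_mul]
    refine Finset.sum_eq_zero fun e he => ?_
    rw [dif_pos (mem_blockFinset.1 he)]
    exact hcon e _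
  have hsplit : cut (Subgroup.centralizer (R : Set G) : Set G) (blockIdem hB * pairIdem hc) =
      cut (Subgroup.centralizer (R : Set G) : Set G) (blockIdem hB) *
        cut (Subgroup.centralizer (R : Set G) : Set G) (pairIdem hc) :=
    cut_mul p hRp (isFixedBy_blockIdem hB R) ((isFixedBy_pairIdem_self hc).mono hRN)
  rw [hsplit, ← mul_assoc] at hne'
  have hiff := isBrauerPairOf_iff hpM (⟨hRp, hh⟩ : IsBrauerPair p M R h) hB
  have e1 := hiff.2.resolve_right fun h0 => hne' (by rw [h0, zero_mul])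
  rw [e1] at hne'
  obtain ⟨r, hr, hcoef⟩ := exists_pair_of_restrict hpM hc hRp hRN hCN hh hne'
  exact ⟨h, r, hiff.1.2 e1, isMaximal_of_defectGroup hpM hR hr, hcoef⟩

/-- Only one block covers `c` when a defect group of `c` has its centralizer in `N`. -/
theorem covering_unique_of_centralizer_le (hpM : (p : AlgInt) ∈ M) (hc : IsPBlock M c)
    (hRN : R ≤ N) (hR : IsDefectGroup p M c (R.subgroupOf N))
    (hCN : Subgroup.centralizer (R : Set G) ≤ N) {B B' : Set (IrrCharacter G)}
    (hB : IsPBlock M B) (hB' : IsPBlock M B')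
    (hcov : ∃ χ ∈ B, ∃ θ ∈ c, classInner (fun n : N => (χ : G → ℂ) n) (θ : N → ℂ) ≠ 0)
    (hcov' : ∃ χ ∈ B', ∃ θ ∈ c, classInner (fun n : N => (χ : G → ℂ) n) (θ : N → ℂ) ≠ 0) :
    B = B' := by
  classical
  obtain ⟨h, r, hh, hr, hco⟩ := exists_pair_over hpM hc hRN hR hCN hB
    (mul_ne_zero_of_covers hc hB hcov)
  obtain ⟨h', r', hh', hr', hco'⟩ := exists_pair_over hpM hc hRN hR hCN hB'
    (mul_ne_zero_of_covers hc hB' hcov')
  obtain ⟨x, hx, hxe⟩ := exists_conj_pair_same_group hpM hr hr'.1
  have hmap : R.map (MulAut.conj (x : G)).toMonoidHom = R := by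
    have h1 := congrArg (Subgroup.map N.subtype) (congrArg Sigma.fst hxe)
    rw [map_subgroupOf_subtype hRN] at h1
    refine Eq.trans ?_ h1
    conv_lhs => rw [← map_subgroupOf_subtype hRN]
    show _ = ((R.subgroupOf N).map (MulAut.conj x).toMonoidHom).map N.subtype
    rw [Subgroup.map_map, Subgroup.map_map]
    rfl
  have hpair : conjPair (x : G) ⟨R, h⟩ = ⟨R, h'⟩ := by
    refine pair_ext hmap (funext fun g => ?_)
    rw [pairCoeff_conjPair]
    show subgroupBlockCoeff _ h _ = subgroupBlockCoeff _ h' g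
    by_cases hg : g ∈ N
    · have h1 := congrArg (fun a => pairCoeff a (⟨g, hg⟩ : N)) hxe
      simp only [pairCoeff_conjPair] at h1
      have h2 : subgroupBlockCoeff _ r (x⁻¹ * (⟨g, hg⟩ : N) * x) =
          subgroupBlockCoeff _ r' (⟨g, hg⟩ : N) := h1
      rw [hco, hco'] at h2
      simpa using h2
    · have hg' : (x : G)⁻¹ * g * x ∉ N := fun hm => hg (by
        simpa [mul_assoc] using ‹N.Normal›.conj_mem _ hm (x : G))
      rw [subgroupBlockCoeff_of_notMem _ fun hm => hg' (hCN hm),
        subgroupBlockCoeff_of_notMem _ fun hm => hg (hCN hm)]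
  have hB2 := isBrauerPairOf_conj (a := ⟨R, h⟩) hh (x : G)
  rw [show conjPair (x : G) ⟨R, h⟩ = ⟨R, h'⟩ from hpair] at hB2
  exact (existsUnique_block_of_pair hpM hh'.1).unique hB2 hh'

end CfsgLib.Blocks
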