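import Cfsg.Agent.Lib.Blocks.CubingFixed
import Cfsg.Agent.Lib.Blocks.PrincipalBlock
import Cfsg.Agent.Lib.Blocks.RegularTwist
import Cfsg.Agent.Lib.Chars.Quotient
import Cfsg.Agent.Lib.Transfer.Tate
import Cfsg.Agent.Lib.PGroups.Basic

/-!
# Normal `2`-complements from the fixed odd degree characters of the principal `2`-block
-/

set_option autoImplicit false
set_option linter.style.haveILetI false
set_option linter.unusedSectionVars false

namespace CfsgLib.Blocks.CubingComplement

open Cfsg CfsgLib.Chars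
open scoped ComplexConjugate

universe u

variable {G : Type u} [Group G] [Finite G] {M : Ideal AlgInt} [M.IsPrime]

/-- The forward direction. -/
theorem degree_one_of_complement (hM : ((2 : ℕ) : AlgInt) ∈ M) (h : HasNormalPComplement 2 G)
    {χ : IrrCharacter G} (hχ : χ ∈ principalBlock M G) (hodd : Odd (charDegree (χ : G → ℂ))) :
    charDegree (χ : G → ℂ) = 1 := by
  classical
  haveI : Fact (Nat.Prime 2) := ⟨Nat.prime_two⟩
  haveI := Fintype.ofFinite G
  obtain ⟨P, N, hN, hc⟩ := h
  haveI := hN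
  have hN2 : ¬ 2 ∣ Nat.card N := by rw [← hc.index_eq_card]; exact P.not_dvd_index
  obtain ⟨e, he, hee⟩ := exists_deflate_irr N χ.2
    (fun n hn => principalBlock_apply_normal hM hN2 hχ hn)
  obtain ⟨b, -, hb, hbdvd⟩ := irr_degree_dvd_card he
  obtain ⟨a, ha⟩ := P.2.exists_card_eq
  rw [← Subgroup.index_eq_card, hc.symm.index_eq_card, ha] at hbdvd
  obtain ⟨j, -, rfl⟩ := (Nat.dvd_prime_pow Nat.prime_two).mp hbdvd
  have h1 : (χ : G → ℂ) 1 = ((2 ^ j : ℕ) : ℂ) := by rw [hee, ← hb]; rfl
  rw [CharApps.deg_eq] at h1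
  rw [Nat.cast_injective h1] at hodd ⊢
  rcases j with _ | j
  · rfl
  · exact absurd hodd (Nat.not_odd_iff_even.mpr ⟨2 ^ j, by rw [pow_succ]; ring⟩)

/-- Every real linear character of a Sylow subgroup lies under a fixed odd degree character of
the principal block, with odd multiplicity. -/
theorem exists_fixed_over (hM : ((2 : ℕ) : AlgInt) ∈ M) (hev : Even (Nat.card G)) {k : ℕ}
    (hk₁ : ∀ g : G, (∃ j : ℕ, orderOf g = 2 ^ j) → g ^ k = g ^ 3)
    (hk₂ : ∀ g : G, Odd (orderOf g) → g ^ k = g) (P : Sylow 2 G) [Fintype (P : Subgroup G)]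
    (lam : (P : Subgroup G) →* ℂˣ) (hlam : ∀ x, lam x ^ 2 = 1) :
    ∃ χ : IrrCharacter G, χ ∈ principalBlock M G ∧ Odd (charDegree (χ : G → ℂ)) ∧
      (∀ g : G, (χ : G → ℂ) (g ^ k) = (χ : G → ℂ) g) ∧
      classInner (fun x : (P : Subgroup G) => (χ : G → ℂ) x) (fun x => (lam x : ℂ)) ≠ 0 := by
  classical
  haveI : Fact (Nat.Prime 2) := ⟨Nat.prime_two⟩
  haveI := Fintype.ofFinite G
  haveI : NeZero (Nat.card G) := ⟨Nat.card_pos.ne'⟩
  haveI := irrFintype G
  have hB := isPBlock_principalBlock (G := G) M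
  choose m hm using fun χ : IrrCharacter G => inner_irr_right_nat
    (isCharacter_restrict (P : Subgroup G) (isCharacter_of_irr χ.2))
    ⟨_, isIrrCharacter_linear lam⟩
  set B := Finset.univ.filter (· ∈ principalBlock M G) with hBdef
  set S := ∑ χ ∈ B, charDegree (χ : G → ℂ) ^ 2 with hS
  set T := ∑ χ ∈ B, charDegree (χ : G → ℂ) * m χ with hT
  have hST : S = Nat.card (P : Subgroup G) * T := by
    apply Nat.cast_injective (R := ℂ)
    rw [hS, hT, Nat.cast_mul, Nat.cast_sum, Nat.cast_sum, Finset.mul_sum]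
    have e : ∀ χ ∈ B, (Nat.card (P : Subgroup G) : ℂ) * ((charDegree (χ : G → ℂ) * m χ : ℕ) : ℂ) =
        ∑ x : (P : Subgroup G), conj (lam x : ℂ) * ((χ : G → ℂ) 1 * (χ : G → ℂ) x) := fun χ _ => by
      rw [Nat.cast_mul, ← hm χ, inner_def, ← CharApps.deg_eq]
      field_simp [card_ne_zero (P : Subgroup G)]
      rw [Finset.mul_sum]
      exact Finset.sum_congr rfl fun x _ => by ring
    rw [Finset.sum_congr rfl e, Finset.sum_comm]
    simp only [← Finset.mul_sum]
    rw [Finset.sum_eq_single (1 : (P : Subgroup G))]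
    · simp [CharApps.deg_eq, pow_two]
    · intro x _ hx
      have hxd : 2 ∣ orderOf (x : G)⁻¹ := by
        rw [orderOf_inv, Subgroup.orderOf_coe]
        exact P.2.dvd_orderOf hx
      have h := weak_orthogonality Nat.prime_two hM hB (x := (1 : G)) (by simp) hxd
      rw [BlockOrth.sum_mem_block] at h
      rw [mul_eq_zero]
      right
      rw [← h]
      refine Finset.sum_congr rfl fun χ _ => ?_
      rw [irr_inv, Complex.conj_conj]
    · simp
  have hTodd : Odd T := by
    have hf := BlockOrth.sum_degree_sq_factorization (p := 2) hM hB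
    have hmin : BlockOrth.blockMin 2 (principalBlock M G) = 0 := by
      refine Nat.le_zero.mp ((BlockOrth.blockMin_le (p := 2)
        (principal_mem_principalBlock (G := G) M)).trans (le_of_eq ?_))
      show (charDegree (principal G : G → ℂ)).factorization 2 = 0
      rw [(CharApps.deg_eq_one_iff (principal G)).mp (principal_apply 1)]
      simp
    rw [BlockOrth.sum_mem_block, hmin, add_zero, ← hBdef, ← hS, hST] at hf
    have hS0 : S ≠ 0 := by
      rw [hS]
      refine (Finset.sum_pos' (fun _ _ => Nat.zero_le _) ⟨principal G, ?_, ?_⟩).ne'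
      · simp [hBdef, principal_mem_principalBlock (G := G) M]
      · exact pow_pos (charDegree_pos _) 2
    have hT0 : T ≠ 0 := fun h => hS0 (by rw [hST, h, mul_zero])
    rw [P.card_eq_multiplicity, Nat.factorization_mul (pow_ne_zero _ two_ne_zero) hT0,
      Finsupp.add_apply, Nat.prime_two.factorization_pow, Finsupp.single_eq_same] at hf
    rw [← Nat.not_even_iff_odd, even_iff_two_dvd]
    intro h2
    have := (Nat.prime_two.dvd_iff_one_le_factorization hT0).mp h2
    omega
  obtain ⟨σ, hσ⟩ := CharApps.exists_galois_pow (Nat.card G)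
    (CubingFixed.coprime_of_pow_eq hev hk₁ hk₂)
  let f : Equiv.Perm (IrrCharacter G) := CharApps.galoisIrr σ
  have hf : ∀ χ g, (f χ : G → ℂ) g = (χ : G → ℂ) (g ^ k) := fun χ g => by
    show σ ((χ : G → ℂ) g) = _
    exact CharApps.galois_apply σ hσ (isCharacter_of_irr χ.2) g pow_card_eq_one'
  have hsl : ∀ x, σ (lam x : ℂ) = (lam x : ℂ) := fun x => by
    have h1 : (lam x : ℂ) ^ 2 = 1 := by rw [← Units.val_pow_eq_pow_val, hlam, Units.val_one]
    rcases sq_eq_one_iff.mp h1 with h | h <;> simp [h]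
  have hfm : ∀ χ, m (f χ) = m χ := fun χ => by
    apply Nat.cast_injective (R := ℂ)
    rw [← map_natCast σ (m χ), ← hm, ← hm, inner_def, inner_def, map_mul, map_inv₀, map_natCast,
      map_sum]
    congr 1
    refine Finset.sum_congr rfl fun x _ => ?_
    have hc : conj (lam x : ℂ) = (lam x : ℂ) := by
      have h1 : (lam x : ℂ) ^ 2 = 1 := by rw [← Units.val_pow_eq_pow_val, hlam, Units.val_one]
      rcases sq_eq_one_iff.mp h1 with h | h <;> simp [h]
    rw [map_mul, hc, hsl]
    rfl
  have hA : ∀ χ, (f χ ∈ principalBlock M G ∧ Odd (charDegree (f χ : G → ℂ) * m (f χ))) ↔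
      (χ ∈ principalBlock M G ∧ Odd (charDegree (χ : G → ℂ) * m χ)) := fun χ => by
    rw [show (f χ ∈ principalBlock M G) ↔ χ ∈ principalBlock M G from
      CharApps.galoisIrr_mem_principalBlock hM σ χ, hfm]
    have h1 : (f χ : G → ℂ) 1 = (χ : G → ℂ) 1 := by rw [hf, one_pow]
    rw [CharApps.deg_eq, CharApps.deg_eq, Nat.cast_inj] at h1
    rw [h1]
  have hiter : ∀ (i : ℕ) χ g, ((f ^ i) χ : G → ℂ) g = (χ : G → ℂ) (g ^ (k ^ i)) := by
    intro i
    induction i with
    | zero => simp
    | succ i ih =>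
      intro χ g
      rw [pow_succ', Equiv.Perm.mul_apply, hf, ih, ← pow_mul, ← pow_succ']
  let f' : Equiv.Perm {χ : IrrCharacter G //
      χ ∈ principalBlock M G ∧ Odd (charDegree (χ : G → ℂ) * m χ)} := f.subtypePerm hA
  have hord : f' ^ 2 ^ Nat.card G = 1 := by
    refine Equiv.ext fun χ => Subtype.ext (Subtype.ext (funext fun g => ?_))
    rw [Equiv.Perm.subtypePerm_pow]
    show ((f ^ 2 ^ Nat.card G) χ.1 : G → ℂ) g = _
    rw [hiter, CubingFixed.pow_pow_two_pow_eq hk₁ hk₂]
    rfl
  have hodd : Odd (Fintype.card {χ : IrrCharacter G //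
      χ ∈ principalBlock M G ∧ Odd (charDegree (χ : G → ℂ) * m χ)}) := by
    rw [hT, Finset.odd_sum_iff_odd_card_odd, hBdef, Finset.filter_filter] at hTodd
    rwa [Fintype.card_subtype]
  have hfix : f'.supportᶜ.Nonempty := by
    rw [← Finset.card_pos]
    have := Equiv.Perm.card_compl_support_modEq (p := 2) hord
    rcases Nat.eq_zero_or_pos f'.supportᶜ.card with h0 | h0
    · rw [h0, Nat.ModEq, Nat.zero_mod] at this
      rw [Nat.odd_iff] at hodd
      omega
    · exact h0
  obtain ⟨⟨χ, hχ, hχo⟩, hfx⟩ := hfix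
  rw [Finset.mem_compl, Equiv.Perm.mem_support, not_not] at hfx
  rw [Nat.odd_mul] at hχo
  refine ⟨χ, hχ, hχo.1, fun g => ?_, ?_⟩
  · rw [← hf]
    exact congrArg (fun y : IrrCharacter G => (y : G → ℂ) g) (congrArg Subtype.val hfx)
  · rw [hm χ, Nat.cast_ne_zero]
    exact (Nat.odd_iff.mp hχo.2 |> fun h => by omega)

/-- The criterion. -/
theorem hasNormalPComplement_iff (hM : ((2 : ℕ) : AlgInt) ∈ M) {k : ℕ}
    (hk₁ : ∀ g : G, (∃ j : ℕ, orderOf g = 2 ^ j) → g ^ k = g ^ 3)
    (hk₂ : ∀ g : G, Odd (orderOf g) → g ^ k = g) :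
    HasNormalPComplement 2 G ↔ ∀ χ ∈ principalBlock M G, Odd (charDegree (χ : G → ℂ)) →
      (∀ g : G, (χ : G → ℂ) (g ^ k) = (χ : G → ℂ) g) → charDegree (χ : G → ℂ) = 1 := by
  classical
  haveI : Fact (Nat.Prime 2) := ⟨Nat.prime_two⟩
  refine ⟨fun h χ hχ ho _ => degree_one_of_complement hM h hχ ho, fun h => ?_⟩
  rcases Nat.even_or_odd (Nat.card G) with hev | hodd
  swap
  · rw [Transfer.hasNormalPComplement_iff_pResidual]
    exact fun hd => Nat.not_even_iff_odd.mpr hodd
      (even_iff_two_dvd.mpr (hd.trans (Subgroup.card_subgroup_dvd_card _)))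
  haveI := Fintype.ofFinite G
  obtain ⟨P⟩ : Nonempty (Sylow 2 G) := inferInstance
  haveI := Fintype.ofFinite (P : Subgroup G)
  haveI := Transfer.pResidual_normal (G := G) (p := 2)
  -- a real linear character of `P` extends to one of `G` killing the odd order elements
  have hext : ∀ lam : (P : Subgroup G) →* ℂˣ, (∀ x, lam x ^ 2 = 1) →
      ∀ x : (P : Subgroup G), (x : G) ∈ pResidual 2 G → lam x = 1 := by
    intro lam hlam x hx
    obtain ⟨χ, hχ, ho, hfx, hin⟩ := exists_fixed_over hM hev hk₁ hk₂ P lam hlam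
    obtain ⟨L, hL⟩ := exists_hom_of_degree_one (isCharacter_of_irr χ.2)
      ((CharApps.deg_eq_one_iff χ).mpr (h χ hχ ho hfx))
    have hres : L.comp (P : Subgroup G).subtype = lam := by
      by_contra hne
      refine hin ?_
      rw [show (fun x : (P : Subgroup G) => (χ : G → ℂ) x) =
        fun x => ((L.comp (P : Subgroup G).subtype) x : ℂ) from funext fun x => by rw [hL]; rfl]
      exact inner_irr_ne (χ := ⟨_, isIrrCharacter_linear (L.comp (P : Subgroup G).subtype)⟩)
        (ψ := ⟨_, isIrrCharacter_linear lam⟩) fun he =>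
          hne (MonoidHom.ext fun y => Units.ext (congrFun (congrArg Subtype.val he) y))
    set a := (Nat.card G).factorization 2
    set m := Nat.card G / 2 ^ a with hm
    have hm2 : ¬ 2 ∣ m := Nat.not_dvd_ordCompl Nat.prime_two Nat.card_pos.ne'
    have hLm : pResidual 2 G ≤ (L ^ m).ker := by
      refine (Subgroup.closure_le _).mpr fun g hg => ?_
      rw [SetLike.mem_coe, MonoidHom.mem_ker]
      refine Transfer.eq_one_of_coprime_orderOf (p := 2) (K := Subgroup.zpowers ((L ^ m) g)) ?_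
        (x := ⟨_, Subgroup.mem_zpowers _⟩) ?_ |> congrArg Subtype.val
      · have h1 : (L ^ m) g ^ 2 ^ a = 1 := by
          rw [MonoidHom.pow_apply, ← pow_mul, ← map_pow, hm,
            Nat.div_mul_cancel (Nat.ordProj_dvd _ _), pow_card_eq_one', map_one]
        obtain ⟨i, -, hi⟩ := (Nat.dvd_prime_pow Nat.prime_two).mp (orderOf_dvd_of_pow_eq_one h1)
        exact IsPGroup.of_card (n := i) (by rw [Nat.card_zpowers, hi])
      · rw [Subgroup.orderOf_mk]
        exact Nat.Coprime.coprime_dvd_left (orderOf_map_dvd (L ^ m) g) hg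
    have h2 : lam x ^ m = 1 := by
      rw [← hres]
      exact hLm hx
    obtain ⟨c, hc⟩ : Odd m := Nat.odd_iff.mpr (Nat.two_dvd_ne_zero.mp hm2)
    rwa [hc, pow_succ, pow_mul, hlam, one_pow, one_mul] at h2
  have hΦ : pResidual 2 G ⊓ (P : Subgroup G) ≤
      (frattini (P : Subgroup G)).map (P : Subgroup G).subtype := by
    rintro x ⟨hxR, hxP⟩
    refine ⟨⟨x, hxP⟩, ?_, rfl⟩
    by_contra hne
    have hfr : commutator (P : Subgroup G) ≤ frattini (P : Subgroup G) :=
      PGroups.commutator_le_frattini P.2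
    let Q := (P : Subgroup G) ⧸ frattini (P : Subgroup G)
    letI : CommGroup Q := { (inferInstance : Group Q) with
      mul_comm := ((Subgroup.Normal.quotient_commutative_iff_commutator_le).mpr hfr).1.comm }
    haveI : NeZero (Monoid.exponent Q : ℂ) :=
      ⟨Nat.cast_ne_zero.mpr Monoid.exponent_ne_zero_of_finite⟩
    obtain ⟨φ, hφ⟩ := CommGroup.exists_apply_ne_one_of_hasEnoughRootsOfUnity Q ℂ
      (a := ((⟨x, hxP⟩ : (P : Subgroup G)) : Q)) (fun he => hne ((QuotientGroup.eq_one_iff _).mp he))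
    refine hφ (hext (φ.comp (QuotientGroup.mk' _)) (fun y => ?_) ⟨x, hxP⟩ hxR)
    rw [MonoidHom.comp_apply, ← map_pow, ← map_pow,
      show QuotientGroup.mk' (frattini (P : Subgroup G)) (y ^ 2) = 1 from
        (QuotientGroup.eq_one_iff _).mpr (PGroups.pow_mem_frattini P.2 y), map_one]
  have hR := Transfer.hasNormalPComplement_of_inf_le_frattini P (pResidual 2 G) hΦ
  rw [Transfer.hasNormalPComplement_iff_pResidual] at hR ⊢
  have htop : pResidual 2 (pResidual 2 G) = ⊤ := by
    apply Subgroup.map_injective (pResidual 2 G).subtype_injective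
    rw [← MonoidHom.range_eq_map, Subgroup.range_subtype]
    refine le_antisymm (Subgroup.map_subtype_le _) ((Subgroup.closure_le _).mpr fun g hg => ?_)
    exact ⟨⟨g, Transfer.mem_pResidual_of_coprime hg⟩,
      Transfer.mem_pResidual_of_coprime (by rwa [Subgroup.orderOf_mk]), rfl⟩
  rwa [htop, Subgroup.card_top] at hR

end CfsgLib.Blocks.CubingComplement
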