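import Cfsg.Agent.Lib.CharApps.PrincipalRational
import Cfsg.Agent.Lib.BlockOrth.Dimension
import Cfsg.Agent.Lib.Blocks.Degree
import Cfsg.Agent.Lib.Transfer.NormalPComplement

/-!
# Odd degree characters of the principal `2`-block fixed by the cubing automorphism
-/

set_option autoImplicit false
set_option linter.style.haveILetI false
set_option linter.unusedSectionVars false

namespace CfsgLib.Blocks.CubingFixed

open Cfsg CfsgLib.Chars

universe u

variable {G : Type u} [Group G] [Finite G]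

theorem coprime_of_pow_eq (hev : Even (Nat.card G)) {k : ℕ}
    (hk₁ : ∀ g : G, (∃ j : ℕ, orderOf g = 2 ^ j) → g ^ k = g ^ 3)
    (hk₂ : ∀ g : G, Odd (orderOf g) → g ^ k = g) : k.Coprime (Nat.card G) := by
  refine Nat.coprime_of_dvd fun q hq hqk hqG => ?_
  haveI := Fact.mk hq
  obtain ⟨g, hg⟩ := exists_prime_orderOf_dvd_card' q hqG
  have h0 : g ^ k = 1 := orderOf_dvd_iff_pow_eq_one.mp (hg ▸ hqk)
  have hne : g ≠ 1 := fun h => hq.ne_one (by rw [← hg, h, orderOf_one])
  rcases hq.eq_two_or_odd' with rfl | hodd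
  · rw [hk₁ g ⟨1, by rw [hg]; norm_num⟩] at h0
    have h2 : g ^ 2 = 1 := by rw [← hg]; exact pow_orderOf_eq_one g
    rw [pow_succ, h2, one_mul] at h0
    exact hne h0
  · exact hne ((hk₂ g (hg ▸ hodd)).symm.trans h0)

theorem pow_pow_two_pow_eq {k : ℕ} (hk₁ : ∀ g : G, (∃ j : ℕ, orderOf g = 2 ^ j) → g ^ k = g ^ 3)
    (hk₂ : ∀ g : G, Odd (orderOf g) → g ^ k = g) (g : G) :
    g ^ (k ^ (2 ^ Nat.card G)) = g := by
  obtain ⟨a, ha, b, hb, hab, ⟨e, he⟩, hcop⟩ := Transfer.exists_pPart_mul (p := 2) g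
  obtain ⟨i, -, hi⟩ := (Nat.dvd_prime_pow Nat.prime_two).mp he
  have hcomm : Commute a b := by
    obtain ⟨x, rfl⟩ := Subgroup.mem_zpowers_iff.mp ha
    obtain ⟨y, rfl⟩ := Subgroup.mem_zpowers_iff.mp hb
    exact Commute.zpow_zpow (Commute.refl g) x y
  have hbk : ∀ m, b ^ (k ^ m) = b := by
    intro m
    induction m with
    | zero => simp
    | succ m ih =>
      rw [pow_succ, pow_mul, ih, hk₂ b (Nat.coprime_two_right.mp hcop)]
  have hak : ∀ m, a ^ (k ^ m) = a ^ (3 ^ m) := by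
    intro m
    induction m with
    | zero => simp
    | succ m ih =>
      rw [pow_succ, pow_mul, ih, ← pow_mul, mul_comm, pow_mul, hk₁ a ⟨i, hi⟩, ← pow_mul,
        pow_succ', mul_comm]
  rw [← hab, hcomm.mul_pow, hbk, hak]
  congr 1
  rw [← pow_mod_orderOf, hi]
  rcases i with _ | i
  · rw [show a = 1 from orderOf_eq_one_iff.mp (by simpa using hi)]; simp
  have hle : i ≤ Nat.card G := by
    have h1 : 2 ^ (i + 1) ∣ Nat.card G := hi ▸ orderOf_dvd_natCard a
    have h2 := Nat.le_of_dvd Nat.card_pos h1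
    have h3 : i < 2 ^ (i + 1) := (Nat.lt_two_pow_self).trans (by gcongr <;> omega)
    omega
  obtain ⟨c, hc⟩ := pow_dvd_pow 2 hle
  have h3 : Nat.ModEq (2 ^ (i + 1)) (3 ^ 2 ^ i) 1 := by
    have h := Nat.ModEq.pow_totient (x := 3) (n := 2 ^ (i + 1))
      (Nat.Coprime.pow_right _ (by norm_num))
    rwa [Nat.totient_prime_pow_succ Nat.prime_two, show 2 ^ i * (2 - 1) = 2 ^ i from by simp] at h
  have h4 : Nat.ModEq (2 ^ (i + 1)) (3 ^ 2 ^ Nat.card G) 1 := by
    rw [hc, pow_mul]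
    simpa using h3.pow c
  rw [h4, Nat.one_mod_eq_one.mpr (by simp), pow_one]

variable {M : Ideal AlgInt} [M.IsPrime]

theorem even_card_odd_degree (hM : ((2 : ℕ) : AlgInt) ∈ M) (hev : Even (Nat.card G)) :
    Even (Nat.card {χ : IrrCharacter G //
      χ ∈ principalBlock M G ∧ Odd (charDegree (χ : G → ℂ))}) := by
  classical
  haveI : Fact (Nat.Prime 2) := ⟨Nat.prime_two⟩
  haveI := Fintype.ofFinite G
  haveI := irrFintype G
  have h := BlockOrth.sum_degree_sq_factorization (p := 2) (B := principalBlock M G) hM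
    (isPBlock_principalBlock M)
  have hsum : Even (∑ χ ∈ Finset.univ.filter (· ∈ principalBlock M G),
      charDegree (χ : G → ℂ) ^ 2) := by
    rw [BlockOrth.sum_mem_block] at h
    rw [even_iff_two_dvd] at hev ⊢
    refine Nat.dvd_of_factorization_pos ?_
    rw [h]
    have := (Nat.prime_two.dvd_iff_one_le_factorization Nat.card_pos.ne').mp hev
    omega
  rw [Nat.card_eq_fintype_card, Fintype.card_subtype, ← Finset.filter_filter]
  rw [Finset.even_sum_iff_even_card_odd] at hsum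
  simpa [Nat.odd_pow_iff] using hsum

/-- The count. -/
theorem even_card_fixed (hM : ((2 : ℕ) : AlgInt) ∈ M) (hev : Even (Nat.card G)) {k : ℕ}
    (hk₁ : ∀ g : G, (∃ j : ℕ, orderOf g = 2 ^ j) → g ^ k = g ^ 3)
    (hk₂ : ∀ g : G, Odd (orderOf g) → g ^ k = g) :
    Even (Nat.card {χ : IrrCharacter G // χ ∈ principalBlock M G ∧
      Odd (charDegree (χ : G → ℂ)) ∧ ∀ g : G, (χ : G → ℂ) (g ^ k) = (χ : G → ℂ) g}) := by
  classical
  haveI : Fact (Nat.Prime 2) := ⟨Nat.prime_two⟩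
  haveI := Fintype.ofFinite G
  haveI : NeZero (Nat.card G) := ⟨Nat.card_pos.ne'⟩
  haveI := irrFintype G
  obtain ⟨σ, hσ⟩ := CharApps.exists_galois_pow (Nat.card G) (coprime_of_pow_eq hev hk₁ hk₂)
  let f : Equiv.Perm (IrrCharacter G) := CharApps.galoisIrr σ
  have hf : ∀ χ g, (f χ : G → ℂ) g = (χ : G → ℂ) (g ^ k) := fun χ g => by
    show σ ((χ : G → ℂ) g) = _
    exact CharApps.galois_apply σ hσ (isCharacter_of_irr χ.2) g pow_card_eq_one'
  have hS : ∀ χ, (f χ ∈ principalBlock M G ∧ Odd (charDegree (f χ : G → ℂ))) ↔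
      (χ ∈ principalBlock M G ∧ Odd (charDegree (χ : G → ℂ))) := fun χ => by
    rw [show (f χ ∈ principalBlock M G) ↔ χ ∈ principalBlock M G from
      CharApps.galoisIrr_mem_principalBlock hM σ χ]
    have h1 : (f χ : G → ℂ) 1 = (χ : G → ℂ) 1 := by rw [hf, one_pow]
    rw [CharApps.deg_eq, CharApps.deg_eq, Nat.cast_inj] at h1
    rw [h1]
  let f' : Equiv.Perm {χ : IrrCharacter G //
      χ ∈ principalBlock M G ∧ Odd (charDegree (χ : G → ℂ))} := f.subtypePerm hS
  have hiter : ∀ (m : ℕ) χ g, ((f ^ m) χ : G → ℂ) g = (χ : G → ℂ) (g ^ (k ^ m)) := by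
    intro m
    induction m with
    | zero => simp
    | succ m ih =>
      intro χ g
      rw [pow_succ', Equiv.Perm.mul_apply, hf, ih, ← pow_mul, ← pow_succ']
  have hord : f' ^ 2 ^ Nat.card G = 1 := by
    refine Equiv.ext fun χ => Subtype.ext (Subtype.ext (funext fun g => ?_))
    rw [Equiv.Perm.subtypePerm_pow]
    show ((f ^ 2 ^ Nat.card G) χ.1 : G → ℂ) g = _
    rw [hiter, pow_pow_two_pow_eq hk₁ hk₂]
    rfl
  have hmod := Equiv.Perm.card_compl_support_modEq (p := 2) hord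
  have hcard : f'.supportᶜ.card = Nat.card {χ : IrrCharacter G // χ ∈ principalBlock M G ∧
      Odd (charDegree (χ : G → ℂ)) ∧ ∀ g : G, (χ : G → ℂ) (g ^ k) = (χ : G → ℂ) g} := by
    rw [← Fintype.card_coe, ← Nat.card_eq_fintype_card]
    refine Nat.card_congr (Equiv.ofBijective (fun χ => ⟨χ.1.1, χ.1.2.1, χ.1.2.2, fun g => ?_⟩)
      ⟨fun a b h => ?_, ?_⟩)
    · have h1 : f' χ.1 = χ.1 := by
        simpa only [Finset.mem_compl, Equiv.Perm.mem_support, not_not] using χ.2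
      rw [← hf, show f χ.1.1 = χ.1.1 from congrArg Subtype.val h1]
    · exact Subtype.ext (Subtype.ext (congrArg Subtype.val h :))
    · rintro ⟨χ, h1, h2, h3⟩
      refine ⟨⟨⟨χ, h1, h2⟩, ?_⟩, rfl⟩
      simp only [Finset.mem_compl, Equiv.Perm.mem_support, not_not]
      exact Subtype.ext (Subtype.ext (funext fun g => (hf χ g).trans (h3 g)))
  rw [← hcard, Nat.even_iff, hmod, ← Nat.card_eq_fintype_card, ← Nat.even_iff]
  exact even_card_odd_degree hM hev

end CfsgLib.Blocks.CubingFixed
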