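import Cfsg.Agent.Lib.Blocks.IdemLift
import Cfsg.Agent.Lib.Blocks.SubgroupBlocks

/-!
# Relative traces in the group ring and orbit representatives
-/

set_option linter.unusedSectionVars false
set_option linter.style.haveILetI false

namespace CfsgLib.Blocks

open Cfsg Chars

variable {G : Type*} [Group G] [Fintype G] {M : Ideal AlgInt} [M.IsPrime] {p : ℕ} [Fact p.Prime]

theorem conjAlg_conjAlg (x y : G) (F : MonoidAlgebra (ResField M) G) :
    conjAlg x (conjAlg y F) = conjAlg (x * y) F := by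
  apply MonoidAlgebra.ext
  ext g
  simp [coeff_conjAlg, mul_assoc]

theorem conjAlg_eq_self {P : Subgroup G} {F : MonoidAlgebra (ResField M) G} (hF : IsFixedBy P F)
    {u : G} (hu : u ∈ P) : conjAlg u F = F := by
  apply MonoidAlgebra.ext
  ext g
  rw [coeff_conjAlg]
  simpa using hF u⁻¹ (P.inv_mem hu) g

theorem isFixedBy_of_conjAlg {P : Subgroup G} {F : MonoidAlgebra (ResField M) G}
    (h : ∀ u ∈ P, conjAlg u F = F) : IsFixedBy P F := fun u hu g => by
  conv_rhs => rw [← h u⁻¹ (P.inv_mem hu)]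
  rw [coeff_conjAlg]
  simp

theorem conjAlg_smul (x : G) (c : ResField M) (F : MonoidAlgebra (ResField M) G) :
    conjAlg x (c • F) = c • conjAlg x F := by
  apply MonoidAlgebra.ext
  ext g
  simp [coeff_conjAlg]

theorem isFixedBy_conjAlg {S T : Subgroup G} (hST : S ≤ Subgroup.normalizer (T : Set G)) {x : G}
    (hx : x ∈ S) {F : MonoidAlgebra (ResField M) G} (hF : IsFixedBy T F) :
    IsFixedBy T (conjAlg x F) := by
  refine isFixedBy_of_conjAlg fun u hu => ?_
  rw [conjAlg_conjAlg, show u * x = x * (x⁻¹ * u * x) by group, ← conjAlg_conjAlg,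
    conjAlg_eq_self hF]
  simpa using (Subgroup.mem_normalizer_iff.1 (hST (S.inv_mem hx)) u).1 hu

/-- Elements supported on a subgroup commute with the idempotents of its blocks. -/
theorem commute_pairIdem_of_cut {H : Subgroup G} {e : Set (IrrCharacter H)} (he : IsPBlock M e)
    {z : MonoidAlgebra (ResField M) G} (hz : cut (H : Set G) z = z) :
    Commute z (pairIdem he) := by
  classical
  haveI := Fintype.ofFinite H
  have e1 : z = incl M H (MonoidAlgebra.ofCoeff (Finsupp.equivFunOnFinite.symm fun h : H =>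
      z.coeff (h : G))) := by
    apply MonoidAlgebra.ext
    ext g
    by_cases hg : g ∈ H
    · obtain ⟨h, rfl⟩ : ∃ h : H, (h : G) = g := ⟨⟨g, hg⟩, rfl⟩
      rw [coeff_incl]; simp
    · rw [coeff_incl_of_notMem _ hg, cut_eq_self_iff.1 hz g hg]
  rw [e1, pairIdem_eq_incl]
  exact ((commute_blockIdem he _).map (incl M H)).symm

/-- The relative trace from `T` to `S`. -/
noncomputable def trOver (S T : Subgroup G) (F : MonoidAlgebra (ResField M) G) :
    MonoidAlgebra (ResField M) G :=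
  haveI := Fintype.ofFinite (S ⧸ T.subgroupOf S)
  ∑ q : S ⧸ T.subgroupOf S, conjAlg ((q.out : S) : G) F

variable {S T : Subgroup G} {F : MonoidAlgebra (ResField M) G}

theorem conjAlg_out (hF : IsFixedBy T F) (u : S) :
    conjAlg (((QuotientGroup.mk u : S ⧸ T.subgroupOf S).out : S) : G) F = conjAlg (u : G) F := by
  obtain ⟨t, ht⟩ := QuotientGroup.mk_out_eq_mul (T.subgroupOf S) u
  rw [ht, Subgroup.coe_mul, ← conjAlg_conjAlg, conjAlg_eq_self hF (Subgroup.mem_subgroupOf.1 t.2)]

theorem isFixedBy_trOver (hF : IsFixedBy T F) : IsFixedBy S (trOver S T F) := by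
  letI := Fintype.ofFinite (S ⧸ T.subgroupOf S)
  refine isFixedBy_of_conjAlg fun u hu => ?_
  rw [trOver, map_sum]
  conv_rhs => rw [← Equiv.sum_comp (MulAction.toPerm (⟨u, hu⟩ : S))]
  refine Finset.sum_congr rfl fun q _ => ?_
  have e : MulAction.toPerm (⟨u, hu⟩ : S) q = QuotientGroup.mk (⟨u, hu⟩ * q.out) := by
    conv_lhs => rw [← QuotientGroup.out_eq' q]
    rfl
  rw [conjAlg_conjAlg, e, conjAlg_out hF]
  rfl

theorem trOver_mul_left {z : MonoidAlgebra (ResField M) G} (hz : IsFixedBy S z) :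
    z * trOver S T F = trOver S T (z * F) := by
  rw [trOver, trOver, Finset.mul_sum]
  refine Finset.sum_congr rfl fun q _ => ?_
  rw [map_mul, conjAlg_eq_self hz (q.out : S).2]

theorem trOver_mul_right {z : MonoidAlgebra (ResField M) G} (hz : IsFixedBy S z) :
    trOver S T F * z = trOver S T (F * z) := by
  rw [trOver, trOver, Finset.sum_mul]
  refine Finset.sum_congr rfl fun q _ => ?_
  rw [map_mul, conjAlg_eq_self hz (q.out : S).2]

theorem coeff_trOver (g : G) [Fintype (S ⧸ T.subgroupOf S)] : (trOver S T F).coeff g =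
    ∑ q : S ⧸ T.subgroupOf S, F.coeff (((q.out : S) : G)⁻¹ * g * ((q.out : S) : G)) := by
  rw [trOver, MonoidAlgebra.coeff_sum, Finsupp.finsetSum_apply]
  exact Finset.sum_congr (Finset.ext fun _ => by simp) fun q _ => coeff_conjAlg _ _ _

/-- The Brauer image at an element outside a normal subgroup kills the traces from it. -/
theorem cut_trOver_eq_zero (hpM : (p : AlgInt) ∈ M) (hS : IsPGroup p S)
    (hn : S ≤ Subgroup.normalizer (T : Set G)) {s : G} (hs : s ∈ S) (hsT : s ∉ T)
    (hF : IsFixedBy T F) :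
    cut (Subgroup.centralizer (Subgroup.zpowers s : Set G) : Set G) (trOver S T F) = 0 := by
  classical
  haveI := charP_resField (M := M) (Fact.out (p := p.Prime)) hpM
  haveI := Fintype.ofFinite (S ⧸ T.subgroupOf S)
  apply MonoidAlgebra.ext
  ext g
  by_cases hg : g ∈ Subgroup.centralizer (Subgroup.zpowers s : Set G)
  swap
  · rw [coeff_cut_of_notMem _ hg]; simp
  rw [coeff_cut_of_mem _ hg, coeff_trOver, MonoidAlgebra.coeff_zero, Finsupp.coe_zero,
    Pi.zero_apply]
  set P : Subgroup S := Subgroup.zpowers (⟨s, hs⟩ : S) with hP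
  have hcg : ∀ u : P, ((u : S) : G) * g = g * ((u : S) : G) := by
    intro u
    obtain ⟨k, hk⟩ := Subgroup.mem_zpowers_iff.1 u.2
    refine Subgroup.mem_centralizer_iff.1 hg _ ?_
    rw [← hk, Subgroup.coe_zpow]
    exact Subgroup.zpow_mem_zpowers s k
  rw [sum_eq_sum_fixedPoints p (hS.to_subgroup P)
    (fun q : S ⧸ T.subgroupOf S => F.coeff (((q.out : S) : G)⁻¹ * g * ((q.out : S) : G)))
    (fun u q => ?_)]
  · refine Finset.sum_eq_zero fun q hq => absurd ((Finset.mem_filter.1 hq).2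
      ⟨⟨s, hs⟩, Subgroup.mem_zpowers _⟩) fun h => hsT ?_
    obtain ⟨r, rfl⟩ := QuotientGroup.mk_surjective q
    have h1 : (QuotientGroup.mk ((⟨s, hs⟩ : S) * r) : S ⧸ T.subgroupOf S) = QuotientGroup.mk r := h
    rw [QuotientGroup.eq, Subgroup.mem_subgroupOf] at h1
    have h2 := (Subgroup.mem_normalizer_iff.1 (hn r.2) _).1 h1
    simpa [mul_assoc] using T.inv_mem h2
  · obtain ⟨r, rfl⟩ := QuotientGroup.mk_surjective q
    have hout := fun w : S => congrArg (fun z : MonoidAlgebra (ResField M) G => z.coeff g)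
      (conjAlg_out (S := S) hF w)
    simp only [coeff_conjAlg] at hout
    show F.coeff (_⁻¹ * g * _) = F.coeff (_⁻¹ * g * _)
    rw [show u • (QuotientGroup.mk r : S ⧸ T.subgroupOf S) = QuotientGroup.mk ((u : S) * r) from rfl,
      hout, hout, Subgroup.coe_mul, mul_inv_rev]
    congr 1
    have h1 : ((u : S) : G)⁻¹ * g * ((u : S) : G) = g := by
      rw [mul_assoc, ← hcg, inv_mul_cancel_left]
    conv_rhs => rw [← h1]
    group

/-- A representative of the orbit of an element under conjugation by a subgroup. -/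
noncomputable def orbRep (P : Subgroup G) (g : G) : G :=
  Classical.epsilon fun w => ∃ u ∈ P, u * g * u⁻¹ = w

theorem orbRep_spec (P : Subgroup G) (g : G) : ∃ u ∈ P, u * g * u⁻¹ = orbRep P g :=
  Classical.epsilon_spec (p := fun w => ∃ u ∈ P, u * g * u⁻¹ = w) ⟨g, 1, P.one_mem, by simp⟩

theorem orbRep_conj (P : Subgroup G) {u : G} (hu : u ∈ P) (g : G) :
    orbRep P (u * g * u⁻¹) = orbRep P g := by
  unfold orbRep
  congr 1
  funext w
  apply propext
  constructor
  · rintro ⟨v, hv, rfl⟩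
    exact ⟨v * u, P.mul_mem hv hu, by group⟩
  · rintro ⟨v, hv, rfl⟩
    exact ⟨v * u⁻¹, P.mul_mem hv (P.inv_mem hu), by group⟩

theorem orbRep_of_eq {P : Subgroup G} {g w : G} (h : ∃ u ∈ P, u * g * u⁻¹ = w) :
    orbRep P w = orbRep P g := by
  obtain ⟨u, hu, rfl⟩ := h
  exact orbRep_conj P hu g

/-- An element lifts through the Brauer image at `Q` when it is supported on elements whose
stabilizer in `N_S(Q)` is exactly `Q`. -/
theorem exists_trOver_cut_eq {Q : Subgroup G} (hS : IsPGroup p S) (hQS : Q ≤ S)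
    {x : MonoidAlgebra (ResField M) G}
    (hx : IsFixedBy (S ⊓ Subgroup.normalizer (Q : Set G)) x)
    (hsupp : ∀ g, x.coeff g ≠ 0 → g ∈ Subgroup.centralizer (Q : Set G) ∧
      S ⊓ Subgroup.normalizer (Q : Set G) ⊓ Subgroup.centralizer ({g} : Set G) ≤ Q) :
    ∃ y : MonoidAlgebra (ResField M) G, IsFixedBy S y ∧
      cut (Subgroup.centralizer (Q : Set G) : Set G) y = x := by
  classical
  set N := S ⊓ Subgroup.normalizer (Q : Set G) with hN
  haveI := Fintype.ofFinite (S ⧸ Q.subgroupOf S)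
  obtain ⟨x', hx'⟩ : ∃ x' : MonoidAlgebra (ResField M) G,
      ∀ g, x'.coeff g = if orbRep N g = g then x.coeff g else 0 :=
    ⟨MonoidAlgebra.ofCoeff (Finsupp.equivFunOnFinite.symm fun g =>
      if orbRep N g = g then x.coeff g else 0), fun g => by simp⟩
  have hx'C : ∀ g, x'.coeff g ≠ 0 → g ∈ Subgroup.centralizer (Q : Set G) := fun g hg => by
    rw [hx'] at hg
    split_ifs at hg with h
    · exact (hsupp g hg).1
    · exact absurd rfl hg
  have hx'fix : IsFixedBy Q x' := fun u hu g => by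
    by_cases hg : g ∈ Subgroup.centralizer (Q : Set G)
    · rw [Subgroup.mem_centralizer_iff.1 hg u hu, mul_inv_cancel_right]
    · have hg' : u * g * u⁻¹ ∉ Subgroup.centralizer (Q : Set G) :=
        mt (conj_mem_centralizer_iff (Subgroup.le_normalizer hu) g).1 hg
      rw [not_not.1 (mt (hx'C g) hg), not_not.1 (mt (hx'C _) hg')]
  refine ⟨trOver S Q x', isFixedBy_trOver hx'fix, ?_⟩
  apply MonoidAlgebra.ext
  ext g
  by_cases hg : g ∈ Subgroup.centralizer (Q : Set G)
  swap
  · rw [coeff_cut_of_notMem _ hg, not_not.1 (mt (fun h => (hsupp g h).1) hg)]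
  rw [coeff_cut_of_mem _ hg, coeff_trOver]
  obtain ⟨u, hu, hur⟩ := orbRep_spec N g
  have huS : u⁻¹ ∈ S := S.inv_mem hu.1
  rw [Finset.sum_eq_single (QuotientGroup.mk (⟨u⁻¹, huS⟩ : S) : S ⧸ Q.subgroupOf S)]
  · have h1 := congrArg (fun z : MonoidAlgebra (ResField M) G => z.coeff g)
      (conjAlg_out (S := S) hx'fix (⟨u⁻¹, huS⟩ : S))
    simp only [coeff_conjAlg] at h1
    rw [h1, hx', inv_inv]
    rw [if_pos (by rw [orbRep_conj N hu, hur]), hx u hu]
  · intro q _ hq
    obtain ⟨h, rfl⟩ := QuotientGroup.mk_surjective q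
    have h1 := congrArg (fun z : MonoidAlgebra (ResField M) G => z.coeff g)
      (conjAlg_out (S := S) hx'fix h)
    simp only [coeff_conjAlg] at h1
    rw [h1]
    obtain ⟨w, hw⟩ : ∃ w, w = (h : G)⁻¹ * g * (h : G) := ⟨_, rfl⟩
    rw [← hw]
    by_contra hne
    rw [hx'] at hne
    split_ifs at hne with hrep
    swap
    · exact hne rfl
    obtain ⟨hwC, hwN⟩ := hsupp w hne
    -- the stabilizer of `w` in `S` is `Q`
    have hstab : S ⊓ Subgroup.centralizer ({w} : Set G) = Q := by
      have hle : Q ≤ S ⊓ Subgroup.centralizer ({w} : Set G) := le_inf hQS fun a ha =>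
        Subgroup.mem_centralizer_singleton_iff.2 (Subgroup.mem_centralizer_iff.1 hwC a ha)
      by_contra hne'
      have hlt := exists_lt_le_normalizer (hS.to_le (inf_le_left : _ ≤ S))
        (lt_of_le_of_ne hle (Ne.symm hne'))
      exact hlt.not_ge (le_trans (le_of_eq (by rw [hN]; simp only [inf_assoc, inf_left_comm, inf_comm])) hwN)
    have hhN : (h : G) ∈ Subgroup.normalizer (Q : Set G) := by
      have key : ∀ a ∈ Q, (h : G)⁻¹ * a * (h : G) ∈ Q := by
        intro a ha
        have hag := Subgroup.mem_centralizer_iff.1 hg a ha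
        have : (h : G)⁻¹ * a * (h : G) ∈ S ⊓ Subgroup.centralizer ({w} : Set G) := by
          refine ⟨S.mul_mem (S.mul_mem (S.inv_mem h.2) (hQS ha)) h.2,
            Subgroup.mem_centralizer_singleton_iff.2 ?_⟩
          rw [hw]
          calc (h : G)⁻¹ * a * h * ((h : G)⁻¹ * g * h) = (h : G)⁻¹ * (a * g) * h := by group
            _ = (h : G)⁻¹ * g * h * ((h : G)⁻¹ * a * h) := by rw [hag]; group
        rwa [hstab] at this
      have hmap : Q.map (MulAut.conj (h : G)⁻¹).toMonoidHom = Q := by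
        refine Subgroup.eq_of_le_of_card_ge (Subgroup.map_le_iff_le_comap.2 fun a ha => ?_)
          (le_of_eq (Subgroup.card_map_of_injective (MulAut.conj (h : G)⁻¹).injective).symm)
        show MulAut.conj (h : G)⁻¹ a ∈ Q
        simpa [MulAut.conj_apply] using key a ha
      rw [← inv_inv (h : G)]
      refine Subgroup.inv_mem _ (Subgroup.mem_normalizer_iff.2 fun a => ⟨fun ha => ?_, fun ha => ?_⟩)
      · simpa using key a ha
      · have ha' : (h : G)⁻¹ * a * (h : G)⁻¹⁻¹ ∈ Q.map (MulAut.conj (h : G)⁻¹).toMonoidHom := by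
          rw [hmap]; exact ha
        obtain ⟨b, hb, hab⟩ := ha'
        have : b = a := (MulAut.conj (h : G)⁻¹).injective (hab.trans (by simp [MulAut.conj_apply]))
        exact this ▸ hb
    have hhN' : (h : G)⁻¹ ∈ N := N.inv_mem ⟨h.2, hhN⟩
    have hwrep : w = orbRep N g := by
      conv_lhs => rw [← hrep]
      exact orbRep_of_eq ⟨_, hhN', by rw [hw]; group⟩
    apply hq
    rw [QuotientGroup.eq, Subgroup.mem_subgroupOf, ← hstab]
    refine ⟨S.mul_mem (S.inv_mem h.2) huS, Subgroup.mem_centralizer_singleton_iff.2 ?_⟩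
    push_cast
    calc (h : G)⁻¹ * u⁻¹ * w = (h : G)⁻¹ * g * u⁻¹ := by rw [hwrep, ← hur]; group
      _ = w * ((h : G)⁻¹ * u⁻¹) := by rw [hw]; group
  · simp

/-- A proper subgroup of a `p`-group lies in a normal subgroup of index `p`. -/
theorem exists_index_p_over (hS : IsPGroup p S) {X : Subgroup G} (hX : X < S) :
    ∃ T : Subgroup G, X ≤ T ∧ T < S ∧ S ≤ Subgroup.normalizer (T : Set G) ∧
      Nat.card S = p * Nat.card T := by
  have hp : p.Prime := Fact.out
  obtain ⟨n, hn⟩ := IsPGroup.iff_card.1 hS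
  obtain ⟨m, hm⟩ := IsPGroup.iff_card.1 (hS.to_le hX.le)
  have hlt : m < n := by
    have := Set.Finite.card_lt_card (Set.toFinite _) hX
    change Nat.card X < Nat.card S at this
    rw [hn, hm] at this
    exact (Nat.pow_lt_pow_iff_right hp.one_lt).1 this
  obtain ⟨K, hK, hle⟩ := Sylow.exists_subgroup_card_pow_prime_le p (n := m) (m := n - 1)
    (hn ▸ pow_dvd_pow p (Nat.sub_le n 1)) (X.subgroupOf S)
    (by rw [Nat.card_congr (Subgroup.subgroupOfEquivOfLe hX.le).toEquiv, hm]) (by omega)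
  have hpow : p ^ n = p * p ^ (n - 1) := by rw [← pow_succ']; congr 1; omega
  have hidx : K.index = (Nat.card S).minFac := by
    have h := K.card_mul_index
    rw [hn, hK, hpow, mul_comm p] at h
    rw [Nat.eq_of_mul_eq_mul_left (pow_pos hp.pos _) h, hn, hp.pow_minFac (by omega)]
  haveI := Subgroup.normal_of_index_eq_minFac_card hidx
  have hcard : Nat.card (K.map S.subtype) = p ^ (n - 1) := by
    rw [Subgroup.card_map_of_injective S.subtype_injective, hK]
  refine ⟨K.map S.subtype, fun a ha => ⟨⟨a, hX.le ha⟩, hle ha, rfl⟩,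
    lt_of_le_of_ne (Subgroup.map_subtype_le K) fun h => ?_, fun a ha => ?_, by
      rw [hn, hcard, hpow]⟩
  · rw [h, hn] at hcard
    exact absurd (Nat.pow_right_injective hp.two_le hcard) (by omega)
  · refine Subgroup.mem_normalizer_iff.2 fun b => ⟨?_, ?_⟩
    · rintro ⟨b, hb, rfl⟩
      exact ⟨⟨a, ha⟩ * b * ⟨a, ha⟩⁻¹, Subgroup.Normal.conj_mem inferInstance b hb _, by simp⟩
    · rintro ⟨c, hc, hcb⟩
      refine ⟨⟨a, ha⟩⁻¹ * c * ⟨a, ha⟩, by
        simpa using Subgroup.Normal.conj_mem inferInstance c hc (⟨a, ha⟩ : S)⁻¹, ?_⟩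
      simp only [Subgroup.coe_subtype, Subgroup.coe_mul, InvMemClass.coe_inv] at hcb ⊢
      rw [hcb]
      group

/-- **The kernel of the Brauer map** consists of sums of traces from subgroups of index `p`. -/
theorem exists_trOver_of_cut_eq_zero (hS : IsPGroup p S) {z : MonoidAlgebra (ResField M) G}
    (hz : IsFixedBy S z) (h0 : cut (Subgroup.centralizer (S : Set G) : Set G) z = 0) :
    ∃ (Ts : Finset (Subgroup G)) (c : Subgroup G → MonoidAlgebra (ResField M) G),
      (∀ T ∈ Ts, T < S ∧ S ≤ Subgroup.normalizer (T : Set G) ∧ Nat.card S = p * Nat.card T ∧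
        IsFixedBy T (c T)) ∧
      z = ∑ T ∈ Ts, trOver S T (c T) := by
  classical
  have hchoose : ∀ g : G, z.coeff g ≠ 0 → ∃ T : Subgroup G,
      S ⊓ Subgroup.centralizer ({g} : Set G) ≤ T ∧ T < S ∧
        S ≤ Subgroup.normalizer (T : Set G) ∧ Nat.card S = p * Nat.card T := by
    intro g hg
    refine exists_index_p_over hS (lt_of_le_of_ne inf_le_left fun h => hg ?_)
    have hgC : g ∈ Subgroup.centralizer (S : Set G) := Subgroup.mem_centralizer_iff.2 fun u hu =>
      Subgroup.mem_centralizer_singleton_iff.1 ((h.ge hu).2)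
    have := congrArg (fun w : MonoidAlgebra (ResField M) G => w.coeff g) h0
    simpa [coeff_cut_of_mem (S := (Subgroup.centralizer (S : Set G) : Set G)) z hgC] using this
  choose! Tg hTle hTlt hTn hTc using hchoose
  obtain ⟨c, hc⟩ : ∃ c : Subgroup G → MonoidAlgebra (ResField M) G, ∀ T g, (c T).coeff g =
      if z.coeff g ≠ 0 ∧ Tg (orbRep S g) = T ∧ orbRep T (orbRep S g) = orbRep T g then z.coeff g
      else 0 :=
    ⟨fun T => MonoidAlgebra.ofCoeff (Finsupp.equivFunOnFinite.symm fun g =>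
      if z.coeff g ≠ 0 ∧ Tg (orbRep S g) = T ∧ orbRep T (orbRep S g) = orbRep T g then z.coeff g
      else 0), fun T g => by simp⟩
  have hzrep : ∀ g, z.coeff (orbRep S g) = z.coeff g := fun g => by
    obtain ⟨u, hu, h⟩ := orbRep_spec S g
    rw [← h, hz u hu]
  let Ts : Finset (Subgroup G) :=
    (Finset.univ.filter fun g : G => z.coeff g ≠ 0).image fun g => Tg (orbRep S g)
  have hTs : ∀ T ∈ Ts, T < S ∧ S ≤ Subgroup.normalizer (T : Set G) ∧
      Nat.card S = p * Nat.card T := by
    intro T hT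
    obtain ⟨g, hg, rfl⟩ := Finset.mem_image.1 hT
    have hg' : z.coeff (orbRep S g) ≠ 0 := by rw [hzrep]; exact (Finset.mem_filter.1 hg).2
    exact ⟨hTlt _ hg', hTn _ hg', hTc _ hg'⟩
  have hfix : ∀ T ∈ Ts, IsFixedBy T (c T) := fun T hT u hu g => by
    rw [hc, hc, hz u ((hTs T hT).1.le hu), orbRep_conj S ((hTs T hT).1.le hu),
      orbRep_conj T hu]
  refine ⟨Ts, c, fun T hT => ⟨(hTs T hT).1, (hTs T hT).2.1, (hTs T hT).2.2, hfix T hT⟩, ?_⟩
  apply MonoidAlgebra.ext
  ext g
  rw [MonoidAlgebra.coeff_sum, Finsupp.finsetSum_apply]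
  by_cases hg : z.coeff g = 0
  · rw [hg]
    symm
    refine Finset.sum_eq_zero fun T _ => ?_
    haveI := Fintype.ofFinite (S ⧸ T.subgroupOf S)
    rw [coeff_trOver]
    refine Finset.sum_eq_zero fun q _ => ?_
    rw [hc, if_neg]
    intro h
    refine h.1 ?_
    have := hz ((q.out : S) : G) (q.out : S).2 ((((q.out : S) : G))⁻¹ * g * ((q.out : S) : G))
    rw [show ((q.out : S) : G) * (((q.out : S) : G)⁻¹ * g * ((q.out : S) : G)) * ((q.out : S) : G)⁻¹ = g by group, hg] at this
    exact this.symm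
  obtain ⟨w, hw⟩ : ∃ w, w = orbRep S g := ⟨_, rfl⟩
  have hwz : z.coeff w ≠ 0 := by rwa [hw, hzrep]
  rw [Finset.sum_eq_single (Tg w)]
  · haveI := Fintype.ofFinite (S ⧸ (Tg w).subgroupOf S)
    obtain ⟨u, hu, hur⟩ := orbRep_spec S g
    have hcw : IsFixedBy (Tg w) (c (Tg w)) :=
      hfix _ (Finset.mem_image.2 ⟨g, Finset.mem_filter.2 ⟨Finset.mem_univ _, hg⟩, by rw [hw]⟩)
    rw [coeff_trOver, Finset.sum_eq_single
      (QuotientGroup.mk (⟨u⁻¹, S.inv_mem hu⟩ : S) : S ⧸ (Tg w).subgroupOf S)]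
    · have h1 := congrArg (fun z : MonoidAlgebra (ResField M) G => z.coeff g)
        (conjAlg_out (S := S) hcw (⟨u⁻¹, S.inv_mem hu⟩ : S))
      simp only [coeff_conjAlg] at h1
      rw [h1, inv_inv, hc, if_pos ⟨by rwa [hz u hu], by rw [orbRep_conj S hu, ← hw],
        by rw [orbRep_conj S hu, hur]⟩, hz u hu]
    · intro q _ hq
      obtain ⟨h, rfl⟩ := QuotientGroup.mk_surjective q
      have h1 := congrArg (fun z : MonoidAlgebra (ResField M) G => z.coeff g)
        (conjAlg_out (S := S) hcw h)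
      simp only [coeff_conjAlg] at h1
      rw [h1, hc, if_neg]
      rintro ⟨-, -, h3⟩
      apply hq
      have hSrep : orbRep S ((h : G)⁻¹ * g * (h : G)) = w := by
        rw [hw]
        exact orbRep_of_eq ⟨_, S.inv_mem h.2, by group⟩
      rw [hSrep] at h3
      obtain ⟨a, ha, ha'⟩ := orbRep_spec (Tg w) w
      obtain ⟨b, hb, hb'⟩ := orbRep_spec (Tg w) ((h : G)⁻¹ * g * (h : G))
      have haS := (hTlt w hwz).le ha
      have hbS := (hTlt w hwz).le hb
      -- `v` fixes `w` and lies in `S`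
      have hv : u * (h : G) * b⁻¹ * a ∈ S ⊓ Subgroup.centralizer ({w} : Set G) := by
        refine ⟨S.mul_mem (S.mul_mem (S.mul_mem hu h.2) (S.inv_mem hbS)) haS,
          Subgroup.mem_centralizer_singleton_iff.2 ?_⟩
        have hwu : w = u * g * u⁻¹ := by rw [hw, hur]
        have e : a * w * a⁻¹ = b * ((h : G)⁻¹ * g * (h : G)) * b⁻¹ := by rw [ha', hb', h3]
        calc u * (h : G) * b⁻¹ * a * w = u * (h : G) * b⁻¹ * (a * w * a⁻¹) * a := by group
          _ = u * g * u⁻¹ * (u * (h : G) * b⁻¹ * a) := by rw [e]; group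
          _ = w * (u * (h : G) * b⁻¹ * a) := by rw [hwu]
      have hT := hTle w hwz hv
      have huhT : u * (h : G) ∈ Tg w := by
        have := (Tg w).mul_mem ((Tg w).mul_mem hT ((Tg w).inv_mem ha)) hb
        simpa [mul_assoc] using this
      rw [QuotientGroup.eq, Subgroup.mem_subgroupOf]
      push_cast
      simpa using (Tg w).inv_mem huhT
    · simp
  · intro T hT hne
    haveI := Fintype.ofFinite (S ⧸ T.subgroupOf S)
    rw [coeff_trOver]
    refine Finset.sum_eq_zero fun q _ => ?_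
    rw [hc, if_neg]
    rintro ⟨-, h2, -⟩
    apply hne
    rw [← h2, hw]
    congr 1
    exact orbRep_of_eq ⟨_, S.inv_mem (q.out : S).2, by group⟩
  · intro h
    exact absurd (Finset.mem_image.2 ⟨g, Finset.mem_filter.2 ⟨Finset.mem_univ _, hg⟩, by rw [hw]⟩) h

end CfsgLib.Blocks
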