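import Cfsg.Agent.Lib.Blocks.RankOneAlgebra
import Cfsg.Agent.Lib.Blocks.RelTrace
import Mathlib.GroupTheory.Coset.Card

/-!
# Cyclic defect groups: the corners of the block algebra have cyclic radicals

The block idempotent is a relative trace from a defect group `D`, so every module of the block is
a direct summand of one induced from `D`. If `D` is cyclic only finitely many modules are needed,
and their dimensions bound the number of the pairwise different two-dimensional modules which a
corner with a radical on two generators would have.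
-/

set_option autoImplicit false
set_option linter.unusedSectionVars false
set_option linter.style.haveILetI false

namespace CfsgLib.Blocks

open Cfsg Chars Modular Module

section jordan

variable {k : Type*} [Field k]

/-- The shift on `k ^ m`. -/
def shiftEnd (k : Type*) [Field k] (m : ℕ) : (Fin m → k) →ₗ[k] (Fin m → k) where
  toFun h i := if hi : (i : ℕ) + 1 < m then h ⟨(i : ℕ) + 1, hi⟩ else 0
  map_add' h h' := by funext i; by_cases hi : (i : ℕ) + 1 < m <;> simp [hi]
  map_smul' c h := by funext i; by_cases hi : (i : ℕ) + 1 < m <;> simp [hi]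

/-- The identity is a sum of retractions to shifts. -/
theorem exists_shift_retracts (n : ℕ) : ∀ (d : ℕ) {V : Type*} [AddCommGroup V] [Module k V]
    [FiniteDimensional k V] (N : V →ₗ[k] V), finrank k V ≤ d → N ^ n = 0 →
    ∃ (r : ℕ) (m : Fin r → Fin (n + 1)) (a : ∀ j, (Fin (m j) → k) →ₗ[k] V)
      (b : ∀ j, V →ₗ[k] (Fin (m j) → k)),
      (∀ j v, b j (N v) = shiftEnd k (m j) (b j v)) ∧
      (∀ j h, a j (shiftEnd k (m j) h) = N (a j h)) ∧
      ∀ v, ∑ j, a j (b j v) = v := by
  intro d
  induction d with
  | zero =>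
    intro V _ _ _ N hd _
    haveI : Subsingleton V := Module.finrank_zero_iff.1 (Nat.le_zero.1 hd)
    exact ⟨0, Fin.elim0, fun j => j.elim0, fun j => j.elim0, fun j => j.elim0,
      fun j => j.elim0, fun v => Subsingleton.elim _ _⟩
  | succ d ih =>
    intro V _ _ _ N hd hN
    classical
    rcases subsingleton_or_nontrivial V with hV | hV
    · exact ⟨0, Fin.elim0, fun j => j.elim0, fun j => j.elim0, fun j => j.elim0,
        fun j => j.elim0, fun v => Subsingleton.elim _ _⟩
    have hex : ∃ m, N ^ m = 0 := ⟨n, hN⟩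
    set m := Nat.find hex with hm
    have hmn : m ≤ n := Nat.find_le hN
    have hm0 : 0 < m := by
      refine Nat.pos_of_ne_zero fun h => ?_
      have h1 := Nat.find_spec hex
      rw [← hm, h, pow_zero] at h1
      exact one_ne_zero h1
    have hzero : ∀ l, m ≤ l → ∀ v, (N ^ l) v = 0 := fun l hl v => by
      obtain ⟨t, rfl⟩ := Nat.exists_eq_add_of_le hl
      rw [add_comm, pow_add, Module.End.mul_apply,
        show (N ^ m) v = 0 by rw [hm, Nat.find_spec hex]; rfl, map_zero]
    obtain ⟨v₀, hv₀⟩ : ∃ v, (N ^ (m - 1)) v ≠ 0 := by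
      by_contra hno
      simp only [not_exists, not_not] at hno
      exact Nat.find_min hex (show m - 1 < m by omega) (LinearMap.ext hno)
    let a : (Fin m → k) →ₗ[k] V :=
      ∑ i : Fin m, (LinearMap.proj i).smulRight ((N ^ (m - 1 - (i : ℕ))) v₀)
    have ha : ∀ h, a h = ∑ i : Fin m, h i • (N ^ (m - 1 - (i : ℕ))) v₀ := fun h => by
      simp [a, LinearMap.sum_apply]
    have hainj : ∀ h, a h = 0 → h = 0 := fun h h0 => by
      by_contra hne
      obtain ⟨i₀, hi₀, hmax⟩ := (Finset.univ.filter fun i : Fin m => h i ≠ 0).exists_max_image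
        (fun i => (i : ℕ)) (by
          obtain ⟨i, hi⟩ := Function.ne_iff.1 hne
          exact ⟨i, Finset.mem_filter.2 ⟨Finset.mem_univ _, hi⟩⟩)
      have h1 := congrArg (N ^ (i₀ : ℕ)) h0
      rw [ha, map_sum, map_zero, Finset.sum_eq_single i₀ (fun i _ hi => ?_)
        (fun hni => absurd (Finset.mem_univ i₀) hni), map_smul, ← Module.End.mul_apply,
        ← pow_add, show (i₀ : ℕ) + (m - 1 - (i₀ : ℕ)) = m - 1 by omega] at h1
      · exact hv₀ ((smul_eq_zero.1 h1).resolve_left (Finset.mem_filter.1 hi₀).2)
      by_cases hhi : h i = 0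
      · rw [hhi, zero_smul, map_zero]
      · have hle := hmax i (Finset.mem_filter.2 ⟨Finset.mem_univ _, hhi⟩)
        have hne' : (i : ℕ) ≠ (i₀ : ℕ) := fun h' => hi (Fin.ext h')
        rw [map_smul, ← Module.End.mul_apply, ← pow_add, hzero _ (by omega), smul_zero]
    obtain ⟨g, hg⟩ := a.exists_leftInverse_of_injective (LinearMap.ker_eq_bot'.2 hainj)
    have hga : ∀ h, g (a h) = h := fun h => LinearMap.congr_fun hg h
    let φ : V →ₗ[k] k := (LinearMap.proj (⟨0, hm0⟩ : Fin m)).comp g
    have hφ : ∀ l, l < m → φ ((N ^ l) v₀) = if l = m - 1 then 1 else 0 := fun l hl => by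
      have e : (N ^ l) v₀ = a (Pi.single ⟨m - 1 - l, by omega⟩ 1) := by
        rw [ha, Finset.sum_eq_single (⟨m - 1 - l, by omega⟩ : Fin m)
          (fun i _ hi => by rw [Pi.single_eq_of_ne hi, zero_smul])
          (fun hni => absurd (Finset.mem_univ _) hni), Pi.single_eq_same, one_smul]
        congr 2
        show l = m - 1 - (m - 1 - l)
        omega
      show g ((N ^ l) v₀) ⟨0, hm0⟩ = _
      rw [e, hga, Pi.single_apply]
      refine if_congr ?_ rfl rfl
      rw [Fin.mk.injEq]
      omega
    let b : V →ₗ[k] (Fin m → k) := LinearMap.pi fun i => φ ∘ₗ (N ^ (i : ℕ))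
    have hb : ∀ v i, b v i = φ ((N ^ (i : ℕ)) v) := fun v i => rfl
    have hbN : ∀ v, b (N v) = shiftEnd k m (b v) := fun v => by
      funext i
      rw [hb, ← Module.End.mul_apply, ← pow_succ]
      show _ = dite _ _ _
      split_ifs with hi
      · rfl
      · rw [hzero _ (by omega), map_zero]
    have hba : ∀ h, b (a h) = h := fun h => by
      funext i
      rw [hb, ha, map_sum, map_sum, Finset.sum_eq_single i (fun l _ hl => ?_)
        (fun hni => absurd (Finset.mem_univ i) hni)]
      · rw [map_smul, map_smul, ← Module.End.mul_apply, ← pow_add,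
          show (i : ℕ) + (m - 1 - (i : ℕ)) = m - 1 by omega, hφ _ (by omega), if_pos rfl,
          smul_eq_mul, mul_one]
      · rw [map_smul, map_smul, ← Module.End.mul_apply, ← pow_add]
        have hne' : (l : ℕ) ≠ (i : ℕ) := fun h' => hl (Fin.ext h')
        by_cases hbig : m ≤ (i : ℕ) + (m - 1 - (l : ℕ))
        · rw [hzero _ hbig, map_zero, smul_zero]
        · rw [hφ _ (by omega), if_neg (by omega), smul_zero]
    have haS : ∀ h, a (shiftEnd k m h) = N (a h) := fun h => by
      rw [ha, ha, map_sum]
      obtain ⟨m', hm'⟩ : ∃ m', m = m' + 1 := ⟨m - 1, by omega⟩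
      have e0 : ∀ i : Fin m, N (h i • (N ^ (m - 1 - (i : ℕ))) v₀) =
          h i • (N ^ (m - (i : ℕ))) v₀ := fun i => by
        rw [map_smul, ← Module.End.mul_apply, ← pow_succ',
          show m - 1 - (i : ℕ) + 1 = m - (i : ℕ) by omega]
      simp only [e0]
      clear_value m
      subst hm'
      rw [Fin.sum_univ_castSucc, Fin.sum_univ_succ (n := m')]
      have hlast : shiftEnd k (m' + 1) h (Fin.last m') = 0 := by
        show dite _ _ _ = _
        rw [dif_neg (by simp)]
      have hfirst : (N ^ (m' + 1 - ((0 : Fin (m' + 1)) : ℕ))) v₀ = 0 := hzero _ (by simp) _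
      rw [hlast, zero_smul, add_zero, hfirst, smul_zero, zero_add]
      refine Finset.sum_congr rfl fun i _ => ?_
      have e1 : shiftEnd k (m' + 1) h i.castSucc = h i.succ := by
        show dite _ _ _ = _
        rw [dif_pos (show (i.castSucc : ℕ) + 1 < m' + 1 by simp)]
        congr 1
      rw [e1]
      congr 3
      simp only [Fin.coe_castSucc, Fin.val_succ]
      omega
    -- the complement
    have hK : ∀ v ∈ LinearMap.ker b, N v ∈ LinearMap.ker b := fun v hv => by
      rw [LinearMap.mem_ker] at hv ⊢
      rw [hbN, hv, map_zero]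
    have hproj : ∀ v, v - a (b v) ∈ LinearMap.ker b := fun v => by
      rw [LinearMap.mem_ker, map_sub, hba, sub_self]
    have hlt : finrank k (LinearMap.ker b) ≤ d := by
      have hne : LinearMap.ker b < ⊤ := lt_top_iff_ne_top.2 fun h => hv₀ (by
        have h1 := LinearMap.ker_eq_top.1 h
        have h2 := hba (Pi.single ⟨0, hm0⟩ 1)
        rw [h1] at h2
        have := congrFun h2 ⟨0, hm0⟩
        simp at this)
      have := Submodule.finrank_lt hne.ne
      omega
    obtain ⟨r, ms, as, bs, h1, h2, h3⟩ := ih (N.restrict hK) hlt (by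
      refine LinearMap.ext fun v => Subtype.ext ?_
      rw [Module.End.pow_restrict n hK]
      show (N ^ n) (v : V) = 0
      rw [hN]; rfl)
    let π : V →ₗ[k] LinearMap.ker b := (LinearMap.id - a ∘ₗ b).codRestrict _ hproj
    refine ⟨r + 1, Fin.cons ⟨m, by omega⟩ ms,
      Fin.cons (α := fun j => (Fin ((Fin.cons ⟨m, by omega⟩ ms : Fin (r + 1) → Fin (n + 1)) j) → k) →ₗ[k] V)
        a (fun j => (LinearMap.ker b).subtype ∘ₗ as j),
      Fin.cons (α := fun j => V →ₗ[k] (Fin ((Fin.cons ⟨m, by omega⟩ ms : Fin (r + 1) → Fin (n + 1)) j) → k))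
        b (fun j => bs j ∘ₗ π), ?_, ?_, fun v => ?_⟩
    · intro j
      refine Fin.cases ?_ ?_ j
      · exact hbN
      · intro j v
        show bs j (π (N v)) = shiftEnd k (ms j) (bs j (π v))
        rw [← h1]
        congr 1
        refine Subtype.ext ?_
        show N v - a (b (N v)) = N (v - a (b v))
        rw [hbN, haS, map_sub]
    · intro j
      refine Fin.cases ?_ ?_ j
      · exact haS
      · intro j h
        show ((as j (shiftEnd k (ms j) h) : LinearMap.ker b) : V) = N (as j h : V)
        exact congrArg Subtype.val (h2 j h)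
    · rw [Fin.sum_univ_succ]
      show a (b v) + ∑ j, ((as j (bs j (π v)) : LinearMap.ker b) : V) = v
      rw [← Submodule.coe_sum, h3]
      show a (b v) + (v - a (b v)) = v
      rw [add_sub_cancel]

end jordan

variable {G : Type*} [Group G] [Fintype G] {M : Ideal AlgInt} [M.IsPrime] {p : ℕ} [Fact p.Prime]
  {B : Set (IrrCharacter G)} {D : Subgroup G}

/-- The block idempotent is a relative trace from a defect group. -/
theorem exists_blockIdem_eq_trace (hpM : (p : AlgInt) ∈ M) (hB : IsPBlock M B)
    (hD : IsDefectGroup p M B D) [Fintype (G ⧸ D)] :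
    ∃ γ : MonoidAlgebra (ResField M) G,
      (∀ u ∈ D, Commute (MonoidAlgebra.single u (1 : ResField M)) γ) ∧
      blockIdem hB = ∑ q : G ⧸ D, MonoidAlgebra.single q.out (1 : ResField M) * γ *
        MonoidAlgebra.single (q.out)⁻¹ 1 := by
  classical
  haveI := charP_resField (M := M) (Fact.out : p.Prime) hpM
  obtain ⟨g, hg, hP⟩ := hD
  obtain ⟨χ₀, hχ₀⟩ := IsPBlock.nonempty hB
  set C := Subgroup.centralizer ({g} : Set G) with hC
  obtain ⟨P, hDP⟩ := hP
  have hDC : D ≤ C := hDP ▸ Subgroup.map_subtype_le _
  obtain ⟨w, hw, hEw⟩ := exists_blockIdem_eq_mul hB (isLocClassFun_classInd g) hχ₀ (by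
    rw [omega_classInd]
    exact hg.2.2 χ₀ hχ₀)
  set n := D.relIndex C with hn
  have hnp : ¬ p ∣ n := by
    have h1 : D.subgroupOf C = (P : Subgroup C) := by
      rw [hDP]
      exact Subgroup.comap_map_eq_self_of_injective C.subtype_injective _
    rw [hn, Subgroup.relIndex, h1]
    exact Sylow.not_dvd_index P
  have hn0 : (n : ResField M) ≠ 0 := fun h => hnp ((CharP.cast_eq_zero_iff (ResField M) p n).1 h)
  set A0 := redFun (classInd g) (isLocClassFun_classInd (M := M) g).2 with hA0
  have hsum : ∑ q : G ⧸ D, MonoidAlgebra.single q.out (1 : ResField M) *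
      MonoidAlgebra.single g 1 * MonoidAlgebra.single (q.out)⁻¹ 1 = (n : ResField M) • A0 := by
    apply MonoidAlgebra.ext
    ext y
    rw [MonoidAlgebra.coeff_sum, Finsupp.finsetSum_apply, MonoidAlgebra.coeff_smul,
      Finsupp.smul_apply, coeff_redFun]
    simp only [MonoidAlgebra.single_mul_single, mul_one, MonoidAlgebra.coeff_single,
      Finsupp.single_apply, classInd_apply]
    rw [Finset.sum_boole]
    by_cases hc : IsConj g y
    · simp only [if_pos hc]
      rw [show red (⟨(1 : ℂ), one_mem _⟩ : loc M) = 1 from map_one red, smul_eq_mul, mul_one]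
      congr 1
      have hfib : ∀ q ∈ Finset.univ.filter (fun q : G ⧸ D => q.out * g * (q.out)⁻¹ = y),
          ((Finset.univ.filter fun x : G => x * g * x⁻¹ = y).filter
            fun x => (QuotientGroup.mk x : G ⧸ D) = q).card = Nat.card D := by
        intro q hq
        rw [Finset.filter_filter, ← Fintype.card_subtype, ← Nat.card_eq_fintype_card]
        refine (Nat.card_congr (?_ : D ≃ _)).symm
        refine
          { toFun := fun d => ⟨q.out * d, ?_⟩
            invFun := fun x => ⟨(q.out)⁻¹ * x.1, ?_⟩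
            left_inv := fun d => Subtype.ext (by simp)
            right_inv := fun x => Subtype.ext (by simp) }
        · refine ⟨?_, ?_⟩
          · have hdg := Subgroup.mem_centralizer_singleton_iff.1 (hDC d.2)
            calc q.out * (d : G) * g * (q.out * (d : G))⁻¹
                = q.out * ((d : G) * g) * (d : G)⁻¹ * (q.out)⁻¹ := by group
              _ = q.out * (g * (d : G)) * (d : G)⁻¹ * (q.out)⁻¹ := by rw [hdg]
              _ = q.out * g * (q.out)⁻¹ := by group
              _ = y := (Finset.mem_filter.1 hq).2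
          · rw [QuotientGroup.mk_mul_of_mem _ d.2, QuotientGroup.out_eq']
        · have := x.2.2
          rw [← QuotientGroup.eq, QuotientGroup.out_eq']
          exact this.symm
      have htot : (Finset.univ.filter fun x : G => x * g * x⁻¹ = y).card = Nat.card C := by
        obtain ⟨x₀, hx₀⟩ := isConj_iff.1 hc
        rw [← Fintype.card_subtype, ← Nat.card_eq_fintype_card]
        refine Nat.card_congr
          { toFun := fun x => ⟨x₀⁻¹ * x.1, ?_⟩
            invFun := fun c => ⟨x₀ * c.1, ?_⟩
            left_inv := fun x => Subtype.ext (by simp)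
            right_inv := fun c => Subtype.ext (by simp) }
        · rw [hC, Subgroup.mem_centralizer_singleton_iff]
          have hx := x.2
          calc x₀⁻¹ * (x : G) * g = x₀⁻¹ * ((x : G) * g * (x : G)⁻¹) * (x : G) := by group
            _ = x₀⁻¹ * (x₀ * g * x₀⁻¹) * (x : G) := by rw [hx, hx₀]
            _ = _ := by group
        · have hcg := Subgroup.mem_centralizer_singleton_iff.1 c.2
          calc x₀ * (c : G) * g * (x₀ * (c : G))⁻¹
              = x₀ * ((c : G) * g) * (c : G)⁻¹ * x₀⁻¹ := by group
            _ = x₀ * (g * (c : G)) * (c : G)⁻¹ * x₀⁻¹ := by rw [hcg]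
            _ = x₀ * g * x₀⁻¹ := by group
            _ = y := hx₀
      have hmaps : ∀ x ∈ Finset.univ.filter (fun x : G => x * g * x⁻¹ = y),
          (QuotientGroup.mk x : G ⧸ D) ∈
            Finset.univ.filter fun q : G ⧸ D => q.out * g * (q.out)⁻¹ = y := by
        intro x hx
        obtain ⟨⟨d, hd⟩, hd'⟩ := QuotientGroup.mk_out_eq_mul D x
        refine Finset.mem_filter.2 ⟨Finset.mem_univ _, ?_⟩
        have hdg := Subgroup.mem_centralizer_singleton_iff.1 (hDC hd)
        rw [hd']
        calc x * d * g * (x * d)⁻¹ = x * (d * g) * d⁻¹ * x⁻¹ := by group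
          _ = x * (g * d) * d⁻¹ * x⁻¹ := by rw [hdg]
          _ = x * g * x⁻¹ := by group
          _ = y := (Finset.mem_filter.1 hx).2
      have hcard := Finset.card_eq_sum_card_fiberwise hmaps
      rw [Finset.sum_congr rfl hfib, Finset.sum_const, smul_eq_mul, htot,
        ← Subgroup.card_mul_index (D.subgroupOf C),
        Nat.card_congr (Subgroup.subgroupOfEquivOfLe hDC).toEquiv, mul_comm] at hcard
      exact (Nat.eq_of_mul_eq_mul_right Nat.card_pos hcard).symm
    · simp only [if_neg hc]
      rw [show red (⟨(0 : ℂ), zero_mem _⟩ : loc M) = 0 from map_zero red, smul_zero,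
        Finset.filter_eq_empty_iff.2 fun q _ h => hc (isConj_iff.2 ⟨q.out, h⟩), Finset.card_empty,
        Nat.cast_zero]
  refine ⟨(n : ResField M)⁻¹ • (MonoidAlgebra.single g 1 * (blockIdem hB * w)), fun u hu => ?_, ?_⟩
  · refine Commute.smul_right ?_ _
    refine Commute.mul_right ?_ (((commute_blockIdem hB _).symm).mul_right (hw _).symm)
    show _ * _ = _ * _
    rw [MonoidAlgebra.single_mul_single, MonoidAlgebra.single_mul_single,
      Subgroup.mem_centralizer_singleton_iff.1 (hDC hu)]
  · have hz : ∀ z, Commute (blockIdem hB * w) z := fun z => (commute_blockIdem hB z).mul_left (hw z)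
    calc blockIdem hB = A0 * (blockIdem hB * w) := by
          rw [← mul_assoc, (commute_redFun (isLocClassFun_classInd g) (blockIdem hB)).eq]
          exact hEw
      _ = (n : ResField M)⁻¹ • ((∑ q : G ⧸ D, MonoidAlgebra.single q.out (1 : ResField M) *
            MonoidAlgebra.single g 1 * MonoidAlgebra.single (q.out)⁻¹ 1) *
            (blockIdem hB * w)) := by
          rw [hsum, smul_mul_assoc, smul_smul, inv_mul_cancel₀ hn0, one_smul]
      _ = _ := by
          rw [Finset.sum_mul, Finset.smul_sum]
          refine Finset.sum_congr rfl fun q _ => ?_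
          rw [mul_smul_comm, smul_mul_assoc]
          congr 1
          simp only [mul_assoc]
          rw [(hz (MonoidAlgebra.single (q.out)⁻¹ 1)).symm.eq]
          simp only [mul_assoc]

/-- **Corners of blocks with cyclic defect group have cyclic radicals.** -/
theorem cornerCyclic_of_cyclic (hpM : (p : AlgInt) ∈ M) (hB : IsPBlock M B)
    (hD : IsDefectGroup p M B D) (hDp : IsPGroup p D) {u : G} (hu : D = Subgroup.zpowers u) :
    CornerCyclic hB := by
  classical
  intro f J hff hef hfJ hJJ hfix hdec x hxJ hxQ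
  haveI := charP_resField (M := M) (Fact.out : p.Prime) hpM
  haveI : Infinite (ResField M) := IsAlgClosed.instInfinite
  haveI := Fintype.ofFinite (G ⧸ D)
  haveI : FiniteDimensional (ResField M) (MonoidAlgebra (ResField M) G) := inferInstance
  obtain ⟨γ, hγ, hγsum⟩ := exists_blockIdem_eq_trace hpM hB hD
  by_contra hne
  have hle : J * J ⊔ Submodule.span (ResField M) {x} ≤ J :=
    sup_le hJJ ((Submodule.span_singleton_le_iff_mem _ _).2 hxJ)
  obtain ⟨y, hyJ, hy⟩ := SetLike.exists_of_lt (lt_of_le_of_ne hle hne)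
  have hxy : x ∉ J * J ⊔ Submodule.span (ResField M) {y} := fun h => by
    obtain ⟨q, hq, _, hs, hqs⟩ := Submodule.mem_sup.1 h
    obtain ⟨t, rfl⟩ := Submodule.mem_span_singleton.1 hs
    by_cases ht : t = 0
    · exact hxQ (by rw [← hqs, ht, zero_smul, add_zero]; exact hq)
    · refine hy ?_
      have : y = t⁻¹ • x - t⁻¹ • q := by
        rw [← hqs, smul_add, add_sub_cancel_left, smul_smul, inv_mul_cancel₀ ht, one_smul]
      rw [this]
      exact sub_mem (Submodule.mem_sup_right (Submodule.smul_mem _ _
        (Submodule.mem_span_singleton_self x))) (Submodule.mem_sup_left (Submodule.smul_mem _ _ hq))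
  obtain ⟨φ1', h1x, h1⟩ := Submodule.exists_dual_map_eq_bot_of_notMem hxy inferInstance
  obtain ⟨φ2', h2y, h2⟩ := Submodule.exists_dual_map_eq_bot_of_notMem hy inferInstance
  set φ1 := (φ1' x)⁻¹ • φ1' with hφ1
  set φ2 := (φ2' y)⁻¹ • φ2' with hφ2
  have e1 : ∀ z ∈ J * J ⊔ Submodule.span (ResField M) {y}, φ1 z = 0 := fun z hz => by
    have h0 := Submodule.mem_map_of_mem (f := φ1') hz
    rw [h1, Submodule.mem_bot] at h0
    rw [hφ1, LinearMap.smul_apply, h0, smul_zero]
  have e2 : ∀ z ∈ J * J ⊔ Submodule.span (ResField M) {x}, φ2 z = 0 := fun z hz => by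
    have h0 := Submodule.mem_map_of_mem (f := φ2') hz
    rw [h2, Submodule.mem_bot] at h0
    rw [hφ2, LinearMap.smul_apply, h0, smul_zero]
  have e1x : φ1 x = 1 := by simp [hφ1, h1x]
  have e2y : φ2 y = 1 := by simp [hφ2, h2y]
  have e1y : φ1 y = 0 := e1 y (Submodule.mem_sup_right (Submodule.mem_span_singleton_self y))
  have e2x : φ2 x = 0 := e2 x (Submodule.mem_sup_right (Submodule.mem_span_singleton_self x))
  clear_value φ1 φ2
  set q := p ^ (Nat.card G).factorization p with hq
  have huq : u ^ q = 1 := by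
    obtain ⟨j, hj⟩ := IsPGroup.iff_card.1 hDp
    have hjn : j ≤ (Nat.card G).factorization p :=
      ((Fact.out : p.Prime).pow_dvd_iff_le_factorization Nat.card_pos.ne').1
        (hj ▸ Subgroup.card_subgroup_dvd_card D)
    refine orderOf_dvd_iff_pow_eq_one.1 ?_
    rw [← Nat.card_zpowers, ← hu, hj, hq]
    exact Nat.pow_dvd_pow p hjn
  set N0 : MonoidAlgebra (ResField M) G := MonoidAlgebra.single u 1 - 1 with hN0
  have hN0q : N0 ^ q = 0 := by
    haveI : CharP (MonoidAlgebra (ResField M) G) p := charP_of_injective_algebraMap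
      (FaithfulSMul.algebraMap_injective (ResField M) (MonoidAlgebra (ResField M) G)) p
    rw [hN0, hq, sub_pow_char_pow_of_commute _ _ (Commute.one_right _), one_pow,
      MonoidAlgebra.single_pow, one_pow, ← hq, huq, ← MonoidAlgebra.one_def, sub_self]
  -- one vector for every scalar
  have hkey : ∀ lam : ResField M, ∃ (m : Fin (q + 1)) (i : G → Fin (m : ℕ) → ResField M)
      (Φ : (G → Fin (m : ℕ) → ResField M) →ₗ[ResField M] ResField M), Φ i ≠ 0 ∧
      (∀ g, i (g * u) + shiftEnd (ResField M) m (i (g * u)) = i g) ∧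
      (∀ g, ∑ z, (y - lam • x).coeff z • i (z⁻¹ * g) = 0) ∧
      (∀ g, ∑ z, f.coeff z • i (z⁻¹ * g) = i g) ∧
      ∀ h : G → Fin (m : ℕ) → ResField M,
        (∀ g, h (g * u) + shiftEnd (ResField M) m (h (g * u)) = h g) →
        ∀ mu : ResField M, mu ≠ lam →
          (∀ g, ∑ z, (y - mu • x).coeff z • h (z⁻¹ * g) = 0) →
          (∀ g, ∑ z, f.coeff z • h (z⁻¹ * g) = h g) → Φ h = 0 := by
    intro lam
    set θ := φ1 + lam • φ2 with hθ
    set I := J ⊓ LinearMap.ker θ with hI
    have hQI : J * J ≤ I := fun z hz => ⟨hJJ hz, by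
      rw [SetLike.mem_coe, LinearMap.mem_ker, hθ, LinearMap.add_apply, LinearMap.smul_apply,
        e1 z (Submodule.mem_sup_left hz), e2 z (Submodule.mem_sup_left hz), smul_zero, add_zero]⟩
    have hzI : y - lam • x ∈ I := ⟨sub_mem hyJ (Submodule.smul_mem _ _ hxJ), by
      rw [SetLike.mem_coe, LinearMap.mem_ker, hθ, LinearMap.add_apply, LinearMap.smul_apply,
        map_sub, map_sub, map_smul, map_smul, e1y, e1x, e2y, e2x]
      simp⟩
    have hθx : θ x = 1 := by rw [hθ, LinearMap.add_apply, LinearMap.smul_apply, e1x, e2x]; simp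
    have hxI : x ∉ I := fun h => one_ne_zero (hθx.symm.trans h.2)
    have hθI : ∀ j ∈ J, j - θ j • x ∈ I := fun j hj =>
      ⟨sub_mem hj (Submodule.smul_mem _ _ hxJ), by
        rw [SetLike.mem_coe, LinearMap.mem_ker, map_sub, map_smul, hθx, smul_eq_mul, mul_one,
          sub_self]⟩
    set U := LinearMap.range (LinearMap.mulRight (ResField M)
      (1 - f : MonoidAlgebra (ResField M) G)) ⊔ ⊤ * I with hU
    have hUl : ∀ a v, v ∈ U → a * v ∈ U := by
      intro a v hv
      obtain ⟨_, ⟨b, rfl⟩, w, hw, rfl⟩ := Submodule.mem_sup.1 hv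
      rw [mul_add]
      refine add_mem (Submodule.mem_sup_left ⟨a * b, ?_⟩) (Submodule.mem_sup_right ?_)
      · simp [mul_assoc]
      · refine Submodule.mul_induction_on hw (fun c _ d hd => ?_) fun c d hc hd => ?_
        · rw [← mul_assoc]
          exact Submodule.mul_mem_mul Submodule.mem_top hd
        · rw [mul_add]
          exact add_mem hc hd
    have hUinv : IsInvar (leftRep (ResField M) G) U := fun g v hv => hUl _ v hv
    have hIU : ∀ z ∈ I, z ∈ U := fun z hz => Submodule.mem_sup_right (by
      simpa using Submodule.mul_mem_mul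
        (Submodule.mem_top (x := (1 : MonoidAlgebra (ResField M) G))) hz)
    have hfUf : ∀ v ∈ U, f * v * f ∈ I := by
      intro v hv
      obtain ⟨_, ⟨b, rfl⟩, w, hw, rfl⟩ := Submodule.mem_sup.1 hv
      have h0 : f * (LinearMap.mulRight (ResField M) (1 - f) b) * f = 0 := by
        simp only [LinearMap.mulRight_apply, mul_sub, sub_mul, mul_one, mul_assoc, hff, sub_self]
      rw [mul_add, add_mul, h0, zero_add]
      refine Submodule.mul_induction_on hw (fun c _ d hd => ?_) fun c d hc hd => ?_
      · obtain ⟨s, hs⟩ := hdec c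
        have h3 : f * (c * d) * f = f * c * f * d := by
          rw [mul_assoc f (c * d) f, mul_assoc c d f, (hfix d hd.1).2, mul_assoc (f * c) f d,
            (hfix d hd.1).1, mul_assoc f c d]
        rw [h3, show f * c * f * d = (f * c * f - s • f) * d + s • d by
          rw [sub_mul, smul_mul_assoc, (hfix d hd.1).1, sub_add_cancel]]
        exact add_mem (hQI (Submodule.mul_mem_mul hs hd.1)) (Submodule.smul_mem _ s hd)
      · rw [mul_add, add_mul]
        exact add_mem hc hd
    have hxU : x ∉ U := fun h => hxI (by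
      have := hfUf x h
      rwa [(hfix x hxJ).1, (hfix x hxJ).2] at this)
    have hfU : f ∉ U ⊔ Submodule.span (ResField M) {x} := fun h => hfJ (by
      obtain ⟨v, hv, _, ht, hvt⟩ := Submodule.mem_sup.1 h
      obtain ⟨t, rfl⟩ := Submodule.mem_span_singleton.1 ht
      have h5 := congrArg (fun z => f * z * f) hvt
      simp only [mul_add, add_mul, mul_smul_comm, smul_mul_assoc, (hfix x hxJ).1, (hfix x hxJ).2,
        hff] at h5
      rw [← h5]
      exact add_mem (hfUf v hv).1 (Submodule.smul_mem _ t hxJ))
    obtain ⟨c', hc'f, hc'⟩ := Submodule.exists_dual_map_eq_bot_of_notMem hfU inferInstance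
    have hc0 : ∀ z ∈ U ⊔ Submodule.span (ResField M) {x}, c' z = 0 := fun z hz => by
      have h0 := Submodule.mem_map_of_mem (f := c') hz
      rwa [hc', Submodule.mem_bot] at h0
    set c := U.liftQ c' (fun z hz => hc0 z (Submodule.mem_sup_left hz)) with hc
    have hcmk : ∀ z, c (Submodule.Quotient.mk z) = c' z := fun z => U.liftQ_apply c' z
    set σ := quoRep (leftRep (ResField M) G) U hUinv with hσ
    have hσalg : ∀ a v, σ.asAlgebraHom a (Submodule.Quotient.mk v) =
        Submodule.Quotient.mk (a * v) := fun a v => by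
      rw [hσ, asAlgebraHom_quoRep, asAlgebraHom_leftRep]
    have hone : σ.asAlgebraHom (blockIdem hB) = 1 := by
      refine LinearMap.ext fun v => ?_
      obtain ⟨v, rfl⟩ := Submodule.Quotient.mk_surjective U v
      rw [hσalg, Module.End.one_apply, Submodule.Quotient.eq]
      refine Submodule.mem_sup_left ⟨blockIdem hB * v - v, ?_⟩
      rw [LinearMap.mulRight_apply, mul_sub, mul_one, sub_mul,
        (commute_blockIdem hB v).eq, mul_assoc v, hef, sub_self, sub_zero]
    set N := σ.asAlgebraHom N0 with hN
    have hNq : N ^ q = 0 := by rw [hN, ← map_pow, hN0q, map_zero]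
    obtain ⟨r, m, a, b, hb, ha, hab⟩ := exists_shift_retracts q _ N le_rfl hNq
    set α := σ.asAlgebraHom γ with hα
    have hσu : ∀ v, σ u v = v + N v := fun v => by
      rw [hN, hN0, map_sub, map_one, Representation.asAlgebraHom_single_one, LinearMap.sub_apply,
        Module.End.one_apply, add_sub_cancel]
    have hαu : ∀ v, σ u (α v) = α (σ u v) := fun v => by
      rw [hα, ← Representation.asAlgebraHom_single_one σ u, ← Module.End.mul_apply,
        ← Module.End.mul_apply, ← map_mul, ← map_mul,
        (hγ u (hu ▸ Subgroup.mem_zpowers u)).eq]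
    have hσmul : ∀ g g' v, σ (g * g') v = σ g (σ g' v) := fun g g' v => by
      rw [map_mul, Module.End.mul_apply]
    let F : ∀ j, (G → Fin (m j : ℕ) → ResField M) → G → _ :=
      fun j h g => σ g (α (a j (h g)))
    let A : ∀ j, (G → Fin (m j : ℕ) → ResField M) →ₗ[ResField M] _ :=
      fun j => ∑ t : G ⧸ D, (σ t.out ∘ₗ α ∘ₗ a j) ∘ₗ LinearMap.proj t.out
    have hA : ∀ j h, A j h = ∑ t : G ⧸ D, F j h t.out := fun j h => by
      simp [A, F, LinearMap.sum_apply]
    have hFconst : ∀ j h, (∀ g, h (g * u) + shiftEnd (ResField M) (m j) (h (g * u)) = h g) →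
        ∀ g, ∀ d ∈ D, F j h (g * d) = F j h g := by
      intro j h hh g d hd
      rw [hu, ← mem_powers_iff_mem_zpowers, Submonoid.mem_powers_iff] at hd
      obtain ⟨l, rfl⟩ := hd
      induction l with
      | zero => rw [pow_zero, mul_one]
      | succ l ih =>
        rw [pow_succ, ← mul_assoc, ← ih]
        show σ (g * u ^ l * u) (α (a j (h (g * u ^ l * u)))) = σ (g * u ^ l) (α (a j (h (g * u ^ l))))
        conv_rhs => rw [← hh (g * u ^ l), map_add, ha, ← hσu, ← hαu, ← hσmul]
    have hAact : ∀ j h, (∀ g, h (g * u) + shiftEnd (ResField M) (m j) (h (g * u)) = h g) →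
        ∀ e : MonoidAlgebra (ResField M) G,
          A j (fun g => ∑ z, e.coeff z • h (z⁻¹ * g)) = σ.asAlgebraHom e (A j h) := by
      intro j h hh e
      have h6 : (fun g => ∑ z, e.coeff z • h (z⁻¹ * g)) =
          ∑ z, e.coeff z • fun g => h (z⁻¹ * g) := by
        funext g
        simp [Finset.sum_apply]
      rw [h6, map_sum]
      conv_rhs => rw [sum_single_coeff e, map_sum, LinearMap.sum_apply]
      refine Finset.sum_congr rfl fun z _ => ?_
      rw [map_smul, Representation.asAlgebraHom_single, LinearMap.smul_apply]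
      congr 1
      rw [hA, hA, map_sum]
      refine Fintype.sum_equiv (MulAction.toPerm (z⁻¹ : G)) _ _ fun t => ?_
      show σ t.out (α (a j (h (z⁻¹ * t.out)))) = σ z (F j h (z⁻¹ • t).out)
      have h7 : (QuotientGroup.mk (z⁻¹ * t.out) : G ⧸ D) = z⁻¹ • t := by
        conv_rhs => rw [← QuotientGroup.out_eq' t]
        rfl
      obtain ⟨⟨d, hd⟩, hd'⟩ := QuotientGroup.mk_out_eq_mul D (z⁻¹ * t.out)
      rw [← h7, hd', hFconst j h hh _ d hd]
      show _ = σ z (σ (z⁻¹ * t.out) (α (a j (h (z⁻¹ * t.out)))))
      rw [← hσmul, mul_inv_cancel_left]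
    let Bv : ∀ j, (_ ⧸ U) → G → Fin (m j : ℕ) → ResField M := fun j v g => b j (σ g⁻¹ v)
    have hBc : ∀ j v g, Bv j v (g * u) + shiftEnd (ResField M) (m j) (Bv j v (g * u)) =
        Bv j v g := fun j v g => by
      show b j (σ (g * u)⁻¹ v) + shiftEnd (ResField M) (m j) (b j (σ (g * u)⁻¹ v)) = b j (σ g⁻¹ v)
      rw [← hb, ← map_add, ← hσu, ← hσmul, mul_inv_rev, mul_inv_cancel_left]
    have hBact : ∀ j v (e : MonoidAlgebra (ResField M) G) g,
        ∑ z, e.coeff z • Bv j v (z⁻¹ * g) = Bv j (σ.asAlgebraHom e v) g := fun j v e g => by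
      show _ = b j (σ g⁻¹ (σ.asAlgebraHom e v))
      conv_rhs => rw [sum_single_coeff e, map_sum, LinearMap.sum_apply, map_sum, map_sum]
      refine Finset.sum_congr rfl fun z _ => ?_
      rw [Representation.asAlgebraHom_single, LinearMap.smul_apply, map_smul, map_smul, ← hσmul]
      show _ • b j (σ (z⁻¹ * g)⁻¹ v) = _
      rw [mul_inv_rev, inv_inv]
    set w0 : _ ⧸ U := Submodule.Quotient.mk f with hw0
    have hsum : ∑ j, A j (Bv j w0) = w0 := by
      simp only [hA, F, Bv]
      rw [Finset.sum_comm]
      simp only [← map_sum, hab]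
      conv_rhs => rw [← Module.End.one_apply (R := ResField M) w0, ← hone, hγsum, map_sum,
        LinearMap.sum_apply]
      refine Finset.sum_congr rfl fun t _ => ?_
      rw [map_mul, map_mul, Module.End.mul_apply, Module.End.mul_apply,
        Representation.asAlgebraHom_single_one, Representation.asAlgebraHom_single_one]
    obtain ⟨j, hj⟩ : ∃ j, c (A j (Bv j w0)) ≠ 0 := by
      by_contra hno
      simp only [not_exists, not_not] at hno
      have h8 := congrArg c hsum
      rw [map_sum, Finset.sum_eq_zero fun j _ => hno j, hw0, hcmk] at h8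
      exact hc'f h8.symm
    refine ⟨m j, Bv j w0, c ∘ₗ A j, hj, hBc j w0, fun g => ?_, fun g => ?_,
      fun h hh mu hmu h1' h2' => ?_⟩
    · have h9 : σ.asAlgebraHom (y - lam • x) w0 = 0 := by
        rw [hw0, hσalg, (hfix _ hzI.1).2]
        exact (Submodule.Quotient.mk_eq_zero U).2 (hIU _ hzI)
      rw [hBact, h9]
      show b j (σ g⁻¹ 0) = 0
      rw [map_zero, map_zero]
    · rw [hBact, hw0, hσalg, hff]
    · show c (A j h) = 0
      have hfv : σ.asAlgebraHom f (A j h) = A j h := by
        rw [← hAact j h hh]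
        congr 1
        exact funext h2'
      have hzv : σ.asAlgebraHom (y - mu • x) (A j h) = 0 := by
        rw [← hAact j h hh, show (fun g => ∑ z, (y - mu • x).coeff z • h (z⁻¹ * g)) = 0 from
          funext h1', map_zero]
      obtain ⟨v, hv⟩ := Submodule.Quotient.mk_surjective U (A j h)
      obtain ⟨s, hs⟩ := hdec v
      have hvs : A j h = Submodule.Quotient.mk (s • f + θ (f * v * f - s • f) • x) := by
        rw [← hfv, ← hv, hσalg, Submodule.Quotient.eq]
        rw [show f * v - (s • f + θ (f * v * f - s • f) • x) =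
            (f * v - f * v * f) + (f * v * f - s • f - θ (f * v * f - s • f) • x) by abel]
        refine add_mem (Submodule.mem_sup_left ⟨f * v, ?_⟩) (hIU _ (hθI _ hs))
        rw [LinearMap.mulRight_apply, mul_sub, mul_one]
      rw [hvs, hσalg, Submodule.Quotient.mk_eq_zero] at hzv
      have h10 : (s * (lam - mu)) • x ∈ U := by
        have e : (y - mu • x) * (s • f + θ (f * v * f - s • f) • x) =
            s • (y - lam • x) + (s * (lam - mu)) • x +
              θ (f * v * f - s • f) • ((y - mu • x) * x) := by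
          rw [mul_add, mul_smul_comm, mul_smul_comm, sub_mul y (mu • x) f, smul_mul_assoc,
            (hfix y hyJ).2, (hfix x hxJ).2]
          simp only [smul_sub, smul_smul, mul_sub, sub_smul]
          abel
        rw [e] at hzv
        have h11 : θ (f * v * f - s • f) • ((y - mu • x) * x) ∈ U := Submodule.smul_mem _ _
          (hIU _ (hQI (Submodule.mul_mem_mul (sub_mem hyJ (Submodule.smul_mem _ _ hxJ)) hxJ)))
        have h12 : s • (y - lam • x) ∈ U := Submodule.smul_mem _ _ (hIU _ hzI)
        have h13 := sub_mem (sub_mem hzv h11) h12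
        rwa [add_sub_cancel_right, add_sub_cancel_left] at h13
      have hs0 : s = 0 := by
        by_contra hs0
        have hne' : s * (lam - mu) ≠ 0 := mul_ne_zero hs0 (sub_ne_zero.2 (Ne.symm hmu))
        exact hxU (by
          have := Submodule.smul_mem U (s * (lam - mu))⁻¹ h10
          rwa [smul_smul, inv_mul_cancel₀ hne', one_smul] at this)
      rw [hvs, hcmk, hs0, zero_smul, zero_add, map_smul,
        hc0 x (Submodule.mem_sup_right (Submodule.mem_span_singleton_self x)), smul_zero]
  choose m i Φ hΦ hicon hiz hif hΦ0 using hkey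
  let V := ∀ t : Fin (q + 1), G → Fin (t : ℕ) → ResField M
  let vec : ResField M → V := fun lam => Pi.single (m lam) (i lam)
  have hli : LinearIndependent (ResField M) vec := by
    rw [linearIndependent_iff']
    intro s c hc lam hlam
    have h1 := congrArg (Φ lam) (congrFun hc (m lam))
    rw [Finset.sum_apply, map_sum, Pi.zero_apply, map_zero, Finset.sum_eq_single lam
      (fun mu _ hmu => ?_) (fun hn => absurd hlam hn)] at h1
    · rw [Pi.smul_apply, map_smul, smul_eq_mul] at h1
      have hv : vec lam (m lam) = i lam := Pi.single_eq_same _ _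
      rw [hv] at h1
      exact (mul_eq_zero.1 h1).resolve_right (hΦ lam)
    rw [Pi.smul_apply, map_smul]
    by_cases hm : m mu = m lam
    · suffices ∀ (t : Fin (q + 1)) (ht : m mu = t)
          (Ψ : (G → Fin (t : ℕ) → ResField M) →ₗ[ResField M] ResField M),
          (∀ h : G → Fin (t : ℕ) → ResField M,
            (∀ g, h (g * u) + shiftEnd (ResField M) t (h (g * u)) = h g) →
            ∀ nu : ResField M, nu ≠ lam → (∀ g, ∑ z, (y - nu • x).coeff z • h (z⁻¹ * g) = 0) →
              (∀ g, ∑ z, f.coeff z • h (z⁻¹ * g) = h g) → Ψ h = 0) →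
          Ψ (vec mu t) = 0 by rw [this _ hm _ (hΦ0 lam), smul_zero]
      rintro _ rfl Ψ hΨ
      have hv : vec mu (m mu) = i mu := Pi.single_eq_same _ _
      rw [hv]
      exact hΨ _ (hicon mu) mu hmu (hiz mu) (hif mu)
    · have hv : vec mu (m lam) = 0 := Pi.single_eq_of_ne (Ne.symm hm) _
      rw [hv, map_zero, smul_zero]
  have : Finite (ResField M) := hli.finite
  exact not_finite (ResField M)

end CfsgLib.Blocks
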