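import Cfsg.Agent.Lib.Blocks.CyclicSocleBasic
import Mathlib.GroupTheory.GroupAction.Quotient

/-!
# The Mackey step for a subgroup containing the normalizer of a subgroup of order `p`

Outside `H` the double cosets only contribute traces from the trivial subgroup, because every
nontrivial subgroup of the cyclic defect group contains `Z`.
-/

set_option autoImplicit false
set_option linter.unusedSectionVars false
set_option linter.style.haveILetI false

namespace CfsgLib.Blocks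

open Cfsg Chars Modular Module

variable {k G V W : Type*} [Field k] [Group G] [Fintype G] [AddCommGroup V] [Module k V]
  [AddCommGroup W] [Module k W]

/-- An equivariant family over a free set sums to a trace. -/
theorem exists_trHom_of_free (K : Subgroup G) (σ : Representation k G V)
    (τ : Representation k G W) {α : Type*} [MulAction G α] (S : Finset α)
    (hS : ∀ h ∈ K, ∀ a ∈ S, h • a ∈ S) (hfree : ∀ h ∈ K, ∀ a ∈ S, h • a = a → h = 1)
    (Y : α → V →ₗ[k] W) (hY : ∀ h ∈ K, ∀ a ∈ S, Y (h • a) = τ h ∘ₗ Y a ∘ₗ σ h⁻¹) :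
    ∃ θ, ∑ a ∈ S, Y a = trHom K σ τ θ := by
  classical
  induction S using Finset.strongInduction with
  | _ S ih =>
  rcases S.eq_empty_or_nonempty with rfl | ⟨a, ha⟩
  · refine ⟨0, ?_⟩
    simp [trHom]
  set O := (Finset.univ.filter (· ∈ K)).image (fun h => h • a) with hO
  have hOS : O ⊆ S := fun b hb => by
    obtain ⟨h, hh, rfl⟩ := Finset.mem_image.1 hb
    exact hS h (Finset.mem_filter.1 hh).2 a ha
  have hinv : ∀ h ∈ K, ∀ b ∈ S \ O, h • b ∈ S \ O := fun h hh b hb => by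
    obtain ⟨hb1, hb2⟩ := Finset.mem_sdiff.1 hb
    refine Finset.mem_sdiff.2 ⟨hS h hh b hb1, fun hmem => hb2 ?_⟩
    obtain ⟨h', hh', he⟩ := Finset.mem_image.1 hmem
    refine Finset.mem_image.2 ⟨h⁻¹ * h', Finset.mem_filter.2 ⟨Finset.mem_univ _,
      K.mul_mem (K.inv_mem hh) (Finset.mem_filter.1 hh').2⟩, ?_⟩
    rw [mul_smul, he, inv_smul_smul]
  obtain ⟨θ, hθ⟩ := ih (S \ O) (Finset.sdiff_ssubset hOS ⟨a, Finset.mem_image.2
      ⟨1, Finset.mem_filter.2 ⟨Finset.mem_univ _, K.one_mem⟩, one_smul G a⟩⟩) hinv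
    (fun h hh b hb => hfree h hh b (Finset.mem_sdiff.1 hb).1)
    (fun h hh b hb => hY h hh b (Finset.mem_sdiff.1 hb).1)
  refine ⟨θ + Y a, ?_⟩
  rw [trHom_add, ← hθ, ← Finset.sum_sdiff hOS]
  congr 1
  rw [hO, Finset.sum_image]
  · rw [trHom]
    exact Finset.sum_congr rfl fun h hh => hY h (Finset.mem_filter.1 hh).2 a ha
  · intro h hh h' hh' he
    have h1 := hfree (h'⁻¹ * h) (K.mul_mem (K.inv_mem (Finset.mem_filter.1 hh').2)
      (Finset.mem_filter.1 hh).2) a ha (by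
        rw [mul_smul, show h • a = h' • a from he, inv_smul_smul])
    exact (inv_mul_eq_one.1 h1).symm

open scoped Classical in
/-- **The Mackey step.** -/
theorem exists_mackey {Z P H : Subgroup G} (hZP : Z ≤ P) (hPH : P ≤ H) (hZ1 : Z ≠ ⊥)
    (hHN : H ≤ Subgroup.normalizer (Z : Set G))
    (hmin : ∀ R : Subgroup G, R ≤ P → R ≠ ⊥ → Z ≤ R) {ε γ : MonoidAlgebra k G}
    (hεH : ∀ h ∈ H, Commute (MonoidAlgebra.single h (1 : k)) ε) (hεε : ε * ε = ε)
    (hγ : ∀ v ∈ P, Commute (MonoidAlgebra.single v (1 : k)) γ)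
    (hsum : ε = ∑ q ∈ Finset.univ.filter (fun q : G ⧸ P => q.out ∈ H),
      MonoidAlgebra.single q.out (1 : k) * γ * MonoidAlgebra.single (q.out)⁻¹ 1)
    (hout : ∀ g ∈ Subgroup.normalizer (Z : Set G), g ∉ H →
      ε * MonoidAlgebra.single g 1 * ε = 0)
    (σ : Representation k G V) (Ψ : V →ₗ[k] V) (hΨH : ∀ h ∈ H, ∀ v, Ψ (σ h v) = σ h (Ψ v))
    (hεΨ : ∀ v, σ.asAlgebraHom ε (Ψ v) = Ψ v) (hΨε : ∀ v, Ψ (σ.asAlgebraHom ε v) = Ψ v) :
    ∃ Φ θ : V →ₗ[k] V, (∀ g v, Φ (σ g v) = σ g (Φ v)) ∧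
      ∀ v, σ.asAlgebraHom ε (Φ (σ.asAlgebraHom ε v)) - Ψ v = trHom H σ σ θ v := by
  set R := σ.asAlgebraHom with hR
  have hRm : ∀ a b v, R (a * b) v = R a (R b v) := fun a b v => by rw [map_mul]; rfl
  have hRg : ∀ g v, R (MonoidAlgebra.single g 1) v = σ g v := fun g v => by
    rw [hR, Representation.asAlgebraHom_single_one]
  have hσm : ∀ g g' v, σ (g * g') v = σ g (σ g' v) := fun g g' v => by rw [map_mul]; rfl
  have hεσ : ∀ h ∈ H, ∀ v, R ε (σ h v) = σ h (R ε v) := fun h hh v => by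
    rw [← hRg, ← hRm, ← (hεH h hh).eq, hRm, hRg]
  -- conjugates
  let X : G → V →ₗ[k] V := fun g => σ g ∘ₗ Ψ ∘ₗ R γ ∘ₗ σ g⁻¹
  have hXap : ∀ g v, X g v = σ g (Ψ (R γ (σ g⁻¹ v))) := fun g v => rfl
  have hXP : ∀ g, ∀ w ∈ P, ∀ v, X (g * w) v = X g v := fun g w hw v => by
    rw [hXap, hXap, mul_inv_rev, hσm, hσm]
    congr 1
    rw [← hΨH w (hPH hw)]
    congr 1
    rw [← hRg w⁻¹, ← hRg w, ← hRm, ← hRm, (hγ w hw).eq, mul_assoc,
      MonoidAlgebra.single_mul_single, mul_inv_cancel, one_mul, ← MonoidAlgebra.one_def, mul_one]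
  have hXout : ∀ h : G, ∀ r : G ⧸ P, ∀ v, X (h • r).out v = σ h (X r.out (σ h⁻¹ v)) := by
    intro h r v
    obtain ⟨⟨w, hw⟩, hw'⟩ := QuotientGroup.mk_out_eq_mul P (h * r.out)
    have e1 : (QuotientGroup.mk (h * r.out) : G ⧸ P) = h • r := by
      conv_rhs => rw [← QuotientGroup.out_eq' r]
      rfl
    rw [← e1, hw', hXP _ w hw, hXap, hXap, mul_inv_rev, hσm h, hσm (r.out)⁻¹]
  have hC : ∀ h : G, ∀ r : G ⧸ P, MonoidAlgebra.single (h • r).out (1 : k) * γ *
      MonoidAlgebra.single ((h • r).out)⁻¹ 1 = MonoidAlgebra.single h 1 *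
        (MonoidAlgebra.single r.out 1 * γ * MonoidAlgebra.single (r.out)⁻¹ 1) *
          MonoidAlgebra.single h⁻¹ 1 := by
    intro h r
    obtain ⟨⟨w, hw⟩, hw'⟩ := QuotientGroup.mk_out_eq_mul P (h * r.out)
    have e1 : (QuotientGroup.mk (h * r.out) : G ⧸ P) = h • r := by
      conv_rhs => rw [← QuotientGroup.out_eq' r]
      rfl
    rw [← e1, hw', mul_inv_rev, mul_inv_rev]
    have e2 : ∀ a b : G, MonoidAlgebra.single (a * b) (1 : k) =
        MonoidAlgebra.single a 1 * MonoidAlgebra.single b 1 := fun a b => by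
      rw [MonoidAlgebra.single_mul_single, one_mul]
    rw [show MonoidAlgebra.single (h * r.out * w) (1 : k) * γ =
      MonoidAlgebra.single (h * r.out) 1 * γ * MonoidAlgebra.single w 1 by
        rw [e2, mul_assoc, (hγ w hw).eq, mul_assoc]]
    rw [mul_assoc _ (MonoidAlgebra.single w 1), MonoidAlgebra.single_mul_single, one_mul,
      mul_inv_cancel_left, e2, e2]
    simp only [mul_assoc]
  let Φ : V →ₗ[k] V := ∑ r : G ⧸ P, X r.out
  have hΦap : ∀ v, Φ v = ∑ r : G ⧸ P, X r.out v := fun v => by simp [Φ, LinearMap.sum_apply]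
  have hΦG : ∀ g v, Φ (σ g v) = σ g (Φ v) := fun g v => by
    rw [hΦap, hΦap, map_sum]
    refine Fintype.sum_equiv (MulAction.toPerm (g⁻¹ : G)) _ _ fun r => ?_
    show _ = σ g (X (g⁻¹ • r).out v)
    rw [hXout g⁻¹ r, inv_inv, ← hσm, mul_inv_cancel, map_one]
    rfl
  set NS : Finset (G ⧸ P) := Finset.univ.filter fun r =>
    r.out ∉ Subgroup.normalizer (Z : Set G) with hNS
  set HS : Finset (G ⧸ P) := Finset.univ.filter fun r => r.out ∈ H with hHS
  have hmemH : ∀ h ∈ H, ∀ r : G ⧸ P, ((h • r).out ∈ H ↔ r.out ∈ H) ∧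
      ((h • r).out ∈ Subgroup.normalizer (Z : Set G) ↔ r.out ∈ Subgroup.normalizer (Z : Set G)) := by
    intro h hh r
    obtain ⟨⟨w, hw⟩, hw'⟩ := QuotientGroup.mk_out_eq_mul P (h * r.out)
    have e1 : (QuotientGroup.mk (h * r.out) : G ⧸ P) = h • r := by
      conv_rhs => rw [← QuotientGroup.out_eq' r]
      rfl
    rw [← e1, hw']
    exact ⟨⟨fun h2 => by
      have := H.mul_mem (H.mul_mem (H.inv_mem hh) h2) (H.inv_mem (hPH hw))
      simpa [mul_assoc] using this, fun h2 => H.mul_mem (H.mul_mem hh h2) (hPH hw)⟩,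
      ⟨fun h2 => by
        have := mul_mem (mul_mem (inv_mem (hHN hh)) h2) (inv_mem (hHN (hPH hw)))
        simpa [mul_assoc] using this, fun h2 => mul_mem (mul_mem (hHN hh) h2) (hHN (hPH hw))⟩⟩
  let Y : (G ⧸ P) × (G ⧸ P) → V →ₗ[k] V := fun rs => R ε ∘ₗ X rs.1.out ∘ₗ
    R (MonoidAlgebra.single rs.2.out 1 * γ * MonoidAlgebra.single (rs.2.out)⁻¹ 1) ∘ₗ R ε
  have hYap : ∀ r s v, Y (r, s) v = R ε (X r.out
      (R (MonoidAlgebra.single s.out 1 * γ * MonoidAlgebra.single (s.out)⁻¹ 1) (R ε v))) :=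
    fun r s v => rfl
  obtain ⟨θ, hθ⟩ := exists_trHom_of_free H σ σ (NS ×ˢ HS) (fun h hh a ha => by
      obtain ⟨ha1, ha2⟩ := Finset.mem_product.1 ha
      exact Finset.mem_product.2 ⟨Finset.mem_filter.2 ⟨Finset.mem_univ _, fun h2 =>
        (Finset.mem_filter.1 ha1).2 ((hmemH h hh a.1).2.1 h2)⟩, Finset.mem_filter.2
          ⟨Finset.mem_univ _, (hmemH h hh a.2).1.2 (Finset.mem_filter.1 ha2).2⟩⟩)
    (fun h hh a ha hfix => by
      obtain ⟨ha1, ha2⟩ := Finset.mem_product.1 ha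
      have hs := (Finset.mem_filter.1 ha2).2
      have hr := (Finset.mem_filter.1 ha1).2
      have hst : ∀ r : G ⧸ P, h • r = r → (r.out)⁻¹ * h * r.out ∈ P := fun r hr' => by
        rw [mul_assoc, ← QuotientGroup.eq, QuotientGroup.out_eq']
        conv_lhs => rw [← hr', ← QuotientGroup.out_eq' r]
        rfl
      by_contra hne
      set g := a.1.out
      set s := a.2.out
      have h1 : g⁻¹ * h * g ∈ P := hst a.1 (congrArg Prod.fst hfix)
      have h2 : s⁻¹ * h * s ∈ P := hst a.2 (congrArg Prod.snd hfix)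
      have hZs : Z ≤ Subgroup.zpowers (s⁻¹ * h * s) := hmin _ (Subgroup.zpowers_le.2 h2) fun hb => by
        refine hne ?_
        have h3 := Subgroup.zpowers_eq_bot.1 hb
        calc h = s * (s⁻¹ * h * s) * s⁻¹ := by group
          _ = 1 := by rw [h3]; group
      have hZg : Z.map (MulAut.conj g⁻¹).toMonoidHom ≤ P := by
        rintro _ ⟨z, hz, rfl⟩
        have hz' : s⁻¹ * z * s ∈ Z := by
          have := (Subgroup.mem_normalizer_iff.1 (inv_mem (hHN hs)) z).1 hz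
          simpa using this
        obtain ⟨j, hj⟩ := Subgroup.mem_zpowers_iff.1 (hZs hz')
        have hzj : z = h ^ j := by
          rw [show s⁻¹ * h * s = MulAut.conj s⁻¹ h by simp, ← map_zpow] at hj
          simp only [MulAut.conj_apply, inv_inv] at hj
          exact (mul_left_cancel (mul_right_cancel hj)).symm
        show MulAut.conj g⁻¹ z ∈ P
        rw [hzj, map_zpow]
        refine P.zpow_mem ?_ j
        simpa using h1
      have hle := hmin _ hZg (fun hb => hZ1 (Subgroup.map_eq_bot_iff_of_injective _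
        (MulAut.conj g⁻¹).injective |>.1 hb))
      have heq := Subgroup.eq_of_le_of_card_ge hle (le_of_eq (Base.card_map_conj g⁻¹ Z))
      refine hr (inv_mem_iff.1 (Subgroup.mem_normalizer_iff.2 fun z => ?_))
      constructor
      · intro hz
        rw [heq]
        exact ⟨z, hz, rfl⟩
      · intro hz
        rw [heq] at hz
        obtain ⟨z', hz', he⟩ := hz
        change g⁻¹ * z' * g⁻¹⁻¹ = g⁻¹ * z * g⁻¹⁻¹ at he
        rwa [← mul_left_cancel (mul_right_cancel he)])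
    Y (fun h hh a _ => LinearMap.ext fun v => by
      obtain ⟨r, s⟩ := a
      show Y (h • r, h • s) v = σ h (Y (r, s) (σ h⁻¹ v))
      rw [hYap, hYap, hXout h r, hεσ h hh, hC, hRm _ (MonoidAlgebra.single h⁻¹ 1), hRg,
        hRm (MonoidAlgebra.single h 1), hRg, ← hσm h⁻¹ h, inv_mul_cancel, map_one,
        Module.End.one_apply, hεσ h⁻¹ (H.inv_mem hh)])
  refine ⟨Φ, θ, hΦG, fun v => ?_⟩
  rw [← hθ, Finset.sum_product]
  simp only [LinearMap.sum_apply, hΦap, map_sum]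
  rw [← Finset.sum_filter_add_sum_filter_not Finset.univ
      (fun r : G ⧸ P => r.out ∈ Subgroup.normalizer (Z : Set G))]
  have e1 : ∑ r ∈ Finset.univ.filter (fun r : G ⧸ P => r.out ∈ Subgroup.normalizer (Z : Set G)),
      R ε (X r.out (R ε v)) = Ψ v := by
    rw [← Finset.sum_subset (s₁ := HS) (fun r hr => Finset.mem_filter.2
      ⟨Finset.mem_univ _, hHN (Finset.mem_filter.1 hr).2⟩) fun r hr hr' => ?_]
    · have e2 : ∀ r ∈ HS, R ε (X r.out (R ε v)) = Ψ (R (MonoidAlgebra.single r.out 1 * γ *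
          MonoidAlgebra.single (r.out)⁻¹ 1) (R ε v)) := fun r hr => by
        rw [hXap, hεσ _ (Finset.mem_filter.1 hr).2, hεΨ, ← hΨH _ (Finset.mem_filter.1 hr).2,
          hRm, hRm, hRg, hRg]
      rw [Finset.sum_congr rfl e2, ← map_sum, ← LinearMap.sum_apply, ← map_sum, hHS, ← hsum,
        ← hRm, hεε, hΨε]
    · have hN := (Finset.mem_filter.1 hr).2
      have hH : r.out ∉ H := fun h2 => hr' (Finset.mem_filter.2 ⟨Finset.mem_univ _, h2⟩)
      rw [hXap, ← hεΨ, ← hRg, ← hRm, ← hRm, hout _ hN hH, map_zero,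
        LinearMap.zero_apply]
  rw [e1, add_sub_cancel_left]
  refine Finset.sum_congr rfl fun r _ => ?_
  simp only [hYap]
  rw [← map_sum, ← map_sum, ← LinearMap.sum_apply, ← map_sum, hHS, ← hsum, ← hRm, hεε]

end CfsgLib.Blocks
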