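import Cfsg.Agent.Lib.Blocks.CyclicSocleBasic

/-!
# Socles of simple modules at a cyclic corner

For a twisted corner `k[x] * ⟨u⟩` each eigenvalue of `u` occurs in the non-projective socle of
some simple module of the block, and no simple module has two of them.
-/

set_option autoImplicit false
set_option linter.unusedSectionVars false
set_option linter.style.haveILetI false

namespace CfsgLib.Blocks

open Cfsg Chars Modular Module

universe v

variable {k G : Type*} [Field k] [Group G] [Fintype G]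

/-- A vector of eigenvalue `ζ` in the socle of the corner and outside its projective part. -/
def EigenTop {V : Type*} [AddCommGroup V] [Module k V] (σ : Representation k G V)
    (f x u s : MonoidAlgebra k G) (ζ : k) (w : V) : Prop :=
  σ.asAlgebraHom f w = w ∧ σ.asAlgebraHom x w = 0 ∧ σ.asAlgebraHom u w = ζ • w ∧
    ∀ v, σ.asAlgebraHom s v ≠ w

/-- If all maps into the simple modules of a block are traces, so are all maps into its modules. -/
theorem eq_trHom_of_simple {E : MonoidAlgebra k G} {W : Type*} [AddCommGroup W] [Module k W]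
    (ρ : Representation k G W)
    (hyp : ∀ (V : Type v) [AddCommGroup V] [Module k V] [FiniteDimensional k V]
      (σ : Representation k G V), IsSimpleRep σ → σ.asAlgebraHom E = 1 →
        ∀ φ : W →ₗ[k] V, (∀ g w, φ (ρ g w) = σ g (φ w)) → ∃ θ, trHom ⊤ ρ σ θ = φ) :
    ∀ (d : ℕ) (V : Type v) [AddCommGroup V] [Module k V] [FiniteDimensional k V]
      (σ : Representation k G V), finrank k V ≤ d → σ.asAlgebraHom E = 1 →
        ∀ φ : W →ₗ[k] V, (∀ g w, φ (ρ g w) = σ g (φ w)) → ∃ θ, trHom ⊤ ρ σ θ = φ := by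
  intro d
  induction d with
  | zero =>
    intro V _ _ _ σ hd _ φ _
    haveI : Subsingleton V := Module.finrank_zero_iff.1 (Nat.le_zero.1 hd)
    exact ⟨0, LinearMap.ext fun w => Subsingleton.elim _ _⟩
  | succ d ih =>
    intro V _ _ _ σ hd hE φ hφ
    rcases subsingleton_or_nontrivial V with hV | hV
    · exact ⟨0, LinearMap.ext fun w => Subsingleton.elim _ _⟩
    obtain ⟨S, hS, -, hSs⟩ := exists_simple_le (ρ := σ) (U := ⊤) (fun g v _ => Submodule.mem_top)
      top_ne_bot
    have hE1 : ∀ v, σ.asAlgebraHom E v = v := fun v => by rw [hE]; rfl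
    have hquo : finrank k (V ⧸ S) ≤ d := by
      have h1 := S.finrank_quotient_add_finrank
      have h2 : 0 < finrank k S := by
        haveI := hSs.nontrivial
        exact Module.finrank_pos
      omega
    obtain ⟨θ₁, hθ₁⟩ := ih (V ⧸ S) (quoRep σ S hS) hquo (LinearMap.ext fun v => by
      obtain ⟨v, rfl⟩ := Submodule.Quotient.mk_surjective S v
      rw [asAlgebraHom_quoRep, hE1]; rfl) (S.mkQ ∘ₗ φ) (fun g w => by
        show S.mkQ (φ (ρ g w)) = quoRep σ S hS g (S.mkQ (φ w))
        rw [hφ]; rfl)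
    obtain ⟨sec, hsec⟩ := S.mkQ.exists_rightInverse_of_surjective (Submodule.range_mkQ S)
    have hmk : ∀ g v, S.mkQ (σ g v) = quoRep σ S hS g (S.mkQ v) := fun _ _ => rfl
    set φ₁ := φ - trHom ⊤ ρ σ (sec ∘ₗ θ₁) with hφ₁
    have hmem : ∀ w, φ₁ w ∈ S := fun w => by
      rw [← Submodule.Quotient.mk_eq_zero S, ← Submodule.mkQ_apply]
      have h1 : S.mkQ ∘ₗ trHom ⊤ ρ σ (sec ∘ₗ θ₁) = S.mkQ ∘ₗ φ := by
        rw [comp_trHom ⊤ ρ σ (quoRep σ S hS) _ hmk, ← hθ₁, ← LinearMap.comp_assoc, hsec,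
          LinearMap.id_comp]
      rw [hφ₁, LinearMap.sub_apply, map_sub, ← LinearMap.comp_apply, ← LinearMap.comp_apply, h1,
        sub_self]
    obtain ⟨θ₂, hθ₂⟩ := hyp S (subRep σ S hS) hSs (LinearMap.ext fun v => Subtype.ext (by
        rw [asAlgebraHom_subRep, hE1]; rfl)) (φ₁.codRestrict S hmem) (fun g w => Subtype.ext (by
      show φ₁ (ρ g w) = σ g (φ₁ w)
      rw [hφ₁, LinearMap.sub_apply, LinearMap.sub_apply, hφ, trHom_comm ⊤ ρ σ _ (Subgroup.mem_top g),
        map_sub]))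
    refine ⟨S.subtype ∘ₗ θ₂ + sec ∘ₗ θ₁, ?_⟩
    rw [trHom_add, ← comp_trHom ⊤ ρ (subRep σ S hS) σ θ₂ (f := S.subtype) (fun _ _ => rfl), hθ₂]
    refine LinearMap.ext fun w => ?_
    show φ₁ w + trHom ⊤ ρ σ (sec ∘ₗ θ₁) w = φ w
    rw [hφ₁, LinearMap.sub_apply, sub_add_cancel]

namespace SocleData

variable {C H : Subgroup G} {f x u : MonoidAlgebra k G} {c0 : MonoidAlgebra k G →ₗ[k] k} {ω : k}
  {n e : ℕ}

/-- The projection onto an eigenspace of `u`. -/
noncomputable def eigProj (f u : MonoidAlgebra k G) (e : ℕ) (η : k) : MonoidAlgebra k G :=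
  (e : k)⁻¹ • ∑ i ∈ Finset.range e, η⁻¹ ^ i • (u ^ i * f)

theorem ne_zero_of_pow {η : k} (D : SocleData C H f x u c0 ω n e) (hη : η ^ e = 1) : η ≠ 0 :=
  fun h => by
  rw [h, zero_pow D.he0.ne'] at hη
  exact zero_ne_one hη

theorem u_mul_eigProj (D : SocleData C H f x u c0 ω n e) {η : k} (hη : η ^ e = 1) :
    u * eigProj f u e η = η • eigProj f u e η := by
  have h0 := ne_zero_of_pow D hη
  rw [eigProj, mul_smul_comm, smul_comm, Finset.mul_sum, Finset.smul_sum]
  congr 1
  have e1 : ∀ i, u * (η⁻¹ ^ i • (u ^ i * f)) = η • (η⁻¹ ^ (i + 1) • (u ^ (i + 1) * f)) := fun i => by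
    rw [mul_smul_comm, ← mul_assoc, ← pow_succ', smul_smul]
    congr 1
    rw [pow_succ', ← mul_assoc, mul_inv_cancel₀ h0, one_mul]
  simp only [e1]
  rw [← Finset.smul_sum, ← Finset.smul_sum]
  have h1 := Finset.sum_range_succ' (fun i => η⁻¹ ^ i • (u ^ i * f)) e
  rw [Finset.sum_range_succ, inv_pow η e, hη, inv_one, one_smul, D.hue, D.hff, pow_zero, pow_zero,
    one_smul, one_mul] at h1
  rw [add_right_cancel h1]

theorem f_mul_eigProj (D : SocleData C H f x u c0 ω n e) (η : k) :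
    f * eigProj f u e η = eigProj f u e η := by
  rw [eigProj, mul_smul_comm, Finset.mul_sum]
  congr 1
  refine Finset.sum_congr rfl fun i _ => ?_
  rw [mul_smul_comm, ← mul_assoc, D.u_pow_f, mul_assoc, D.hff]

theorem eigProj_apply (D : SocleData C H f x u c0 ω n e) {η : k} (hη : η ^ e = 1) {V : Type*}
    [AddCommGroup V] [Module k V] {σ : Representation k G V} {w : V}
    (hf : σ.asAlgebraHom f w = w) (hu : σ.asAlgebraHom u w = η • w) :
    σ.asAlgebraHom (eigProj f u e η) w = w := by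
  have h0 := ne_zero_of_pow D hη
  have hpow : ∀ i, σ.asAlgebraHom (u ^ i) w = η ^ i • w := by
    intro i
    induction i with
    | zero => rw [pow_zero, pow_zero, map_one, one_smul]; rfl
    | succ i ih => rw [pow_succ', map_mul, Module.End.mul_apply, ih, map_smul, hu, smul_smul,
        ← pow_succ]
  simp only [eigProj, map_smul, map_sum, LinearMap.smul_apply, LinearMap.sum_apply]
  rw [Finset.sum_congr rfl (g := fun _ => w) fun i _ => by
    rw [map_mul, Module.End.mul_apply, hf, hpow, smul_smul, ← mul_pow, inv_mul_cancel₀ h0,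
      one_pow, one_smul]]
  rw [Finset.sum_const, Finset.card_range, ← Nat.cast_smul_eq_nsmul k, smul_smul,
    inv_mul_cancel₀ D.hek, one_smul]

theorem x_pow_eigProj (D : SocleData C H f x u c0 ω n e) (m : ℕ) (η : k) :
    x ^ m * eigProj f u e η = eigProj f u e (η * ω ^ m) * x ^ m := by
  simp only [eigProj, mul_smul_comm, smul_mul_assoc, Finset.mul_sum, Finset.sum_mul]
  congr 1
  refine Finset.sum_congr rfl fun i _ => ?_
  rw [← mul_assoc, D.x_u_pow, smul_mul_assoc, smul_smul, mul_assoc, ← D.x_pow_f m, ← mul_assoc]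
  congr 1
  rw [inv_pow, inv_pow, inv_pow, ← mul_inv, mul_pow, ← pow_mul, ← pow_mul, mul_comm i m]

open scoped Classical in
/-- A root of unity of order dividing `e` occurs in the socle of a simple module of the block,
outside the projective part. -/
theorem exists_simple_eigen {k : Type} [Field k] {G : Type v} [Group G] [Fintype G]
    {C H : Subgroup G} {f x u : MonoidAlgebra k G} {c0 : MonoidAlgebra k G →ₗ[k] k} {ω : k}
    {n e : ℕ} (D : SocleData C H f x u c0 ω n e) {ε : MonoidAlgebra k G} {ι : Type*} [Fintype ι]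
    (al bl : ι → MonoidAlgebra k G) (hal : ∀ i, cut (C : Set G) (al i) = al i)
    (hdec : ε = ∑ i, al i * f * bl i) (hεf : ε * f = f)
    (hεC : ∀ a, cut (C : Set G) a = a → a * ε = ε * a)
    {E : MonoidAlgebra k G} (hEc : ∀ a, E * a = a * E) (hEE : E * E = E)
    (hcut : ∀ j < e, c0 (f * cut (C : Set G) (E * (u ^ j * f)) * f) = if j = 0 then 1 else 0)
    {ζ : k} (hζ : ζ ^ e = 1) :
    ∃ (V : Type v) (_ : AddCommGroup V) (_ : Module k V) (_ : FiniteDimensional k V)
      (σ : Representation k G V), IsSimpleRep σ ∧ σ.asAlgebraHom E = 1 ∧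
        ∃ w, EigenTop σ f x u (x ^ n * f) ζ w := by
  classical
  have hfix : ∀ j, f * (u ^ j * f) = u ^ j * f := fun j => by
    rw [← mul_assoc, D.u_pow_f, mul_assoc, D.hff]
  -- the functional
  let F : MonoidAlgebra k G → ℕ → k := fun y j => c0 (f * cut (C : Set G) (y * (E * (u ^ j * f))) * f)
  let Λ : MonoidAlgebra k G → k := fun y => ∑ i ∈ Finset.range e, ζ ^ i * F y (e - i)
  have hFadd : ∀ y y' j, F (y + y') j = F y j + F y' j := fun y y' j => by
    simp only [F, add_mul, cut_add, mul_add, map_add]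
  have hΛadd : ∀ y y', Λ (y + y') = Λ y + Λ y' := fun y y' => by
    simp only [Λ, hFadd, mul_add, Finset.sum_add_distrib]
  have hspan : ∀ y, f * cut (C : Set G) y * f ∈
      Submodule.span k (Set.range fun i : Fin (n + 1) => x ^ (i : ℕ) * f) := fun y =>
    D.spanC _ (by rw [cut_cut, Set.inter_self])
  have hc0mul : ∀ r ∈ Submodule.span k (Set.range fun i : Fin (n + 1) => x ^ (i : ℕ) * f),
      ∀ m, 0 < m → c0 (x ^ m * r) = 0 ∧ c0 (r * x ^ m) = 0 := by
    intro r hr m hm
    refine Submodule.span_induction ?_ ?_ ?_ ?_ hr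
    · rintro _ ⟨i, rfl⟩
      obtain ⟨m', rfl⟩ : ∃ m', m = m' + 1 := ⟨m - 1, by omega⟩
      constructor
      · rw [← mul_assoc, ← pow_add, show m' + 1 + (i : ℕ) = (m' + i) + 1 by omega, D.hc0x]
      · rw [mul_assoc, D.x_pow_f, ← mul_assoc, ← pow_add,
          show (i : ℕ) + (m' + 1) = (i + m') + 1 by omega, D.hc0x]
    · simp
    · intro a b _ _ ha hb
      simp [mul_add, add_mul, ha.1, ha.2, hb.1, hb.2]
    · intro c a _ ha
      simp [ha.1, ha.2]
  have hΛE : ∀ y, Λ (y * (1 - E)) = 0 := fun y => by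
    refine Finset.sum_eq_zero fun i _ => ?_
    simp only [F]
    rw [mul_assoc y (1 - E), sub_mul, one_mul, ← mul_assoc E E, hEE, sub_self, mul_zero, cut_zero,
      mul_zero, zero_mul, map_zero, mul_zero]
  have hΛx : ∀ y, Λ (y * x) = 0 := fun y => by
    refine Finset.sum_eq_zero fun i _ => ?_
    simp only [F]
    have h1 : x * (E * (u ^ (e - i) * f)) = (ω ^ (e - i))⁻¹ • (E * (u ^ (e - i) * f) * x) := by
      rw [← mul_assoc, ← hEc, mul_assoc, ← mul_assoc x]
      rw [show x * u ^ (e - i) = (ω ^ (e - i))⁻¹ • (u ^ (e - i) * x) by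
        simpa using D.x_u_pow 1 (e - i)]
      rw [smul_mul_assoc, mul_smul_comm, mul_assoc _ x f, D.hxf]
      congr 1
      simp only [mul_assoc, D.hfx]
    rw [mul_assoc y x, h1, mul_smul_comm, cut_smul, ← mul_assoc y, cut_mul_right C D.cutx,
      mul_smul_comm, smul_mul_assoc, map_smul]
    have h2 : f * (cut (C : Set G) (y * (E * (u ^ (e - i) * f))) * x) * f =
        f * cut (C : Set G) (y * (E * (u ^ (e - i) * f))) * f * x ^ 1 := by
      simp only [pow_one, mul_assoc, D.hxf, D.hfx]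
    rw [h2, (hc0mul _ (hspan _) 1 one_pos).2, smul_zero, mul_zero]
  have hΛu : ∀ y, Λ (y * u) = ζ * Λ y := fun y => by
    have hstep : ∀ i, i < e → F (y * u) (e - i) = F y (e - i + 1) := fun i _ => by
      simp only [F]
      congr 4
      rw [mul_assoc, ← mul_assoc u E, ← hEc, mul_assoc E u, ← mul_assoc u, ← pow_succ']
    have h0 : F y (e + 1) = F y 1 := by
      simp only [F]
      congr 5
      rw [pow_succ, D.hue, D.hfu, pow_one]
    obtain ⟨e', he'⟩ : ∃ e', e = e' + 1 := ⟨e - 1, by have := D.he0; omega⟩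
    simp only [Λ]
    rw [Finset.sum_congr rfl fun i hi => by rw [hstep i (Finset.mem_range.1 hi)]]
    rw [Finset.mul_sum, he', Finset.sum_range_succ', Finset.sum_range_succ]
    congr 1
    · refine Finset.sum_congr rfl fun i hi => ?_
      have := Finset.mem_range.1 hi
      rw [show e' + 1 - (i + 1) + 1 = e' + 1 - i by omega]
      ring
    · rw [pow_zero, one_mul, Nat.sub_zero, ← he', h0, ← mul_assoc, ← pow_succ', ← he', hζ,
        one_mul, show e - e' = 1 by omega]
  have hΛf : Λ (f * f * f) = 1 := by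
    simp only [Λ, D.hff]
    rw [Finset.sum_eq_single 0 (fun i hi hi0 => ?_) (fun h => absurd (Finset.mem_range.2 D.he0) h)]
    · simp only [F, Nat.sub_zero, pow_zero, one_mul, D.hue, D.hff]
      rw [cut_mul_left C D.cutf, ← mul_assoc f f, D.hff]
      have := hcut 0 D.he0
      rwa [pow_zero, one_mul, if_pos rfl] at this
    · simp only [F]
      rw [cut_mul_left C D.cutf, ← mul_assoc f f, D.hff]
      have hi' := Finset.mem_range.1 hi
      rw [hcut (e - i) (by omega), if_neg (by omega), mul_zero]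
  have hΛtop : ∀ a, Λ (f * (x ^ n * f * a) * f) = 0 := fun a => by
    refine Finset.sum_eq_zero fun i _ => ?_
    simp only [F]
    have h1 : f * (x ^ n * f * a) * f * (E * (u ^ (e - i) * f)) =
        x ^ n * f * (a * f * (E * (u ^ (e - i) * f))) := by
      rw [← mul_assoc f, ← mul_assoc f, D.x_pow_f]
      simp only [mul_assoc]
      rw [← mul_assoc f f, D.hff]
    have h2 : ∀ z, f * (x ^ n * f * z) * f = x ^ n * (f * z * f) := fun z => by
      simp only [← mul_assoc]
      rw [D.x_pow_f, mul_assoc (x ^ n) f f, D.hff]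
    rw [h1, cut_mul_left C D.cut_top, h2, (hc0mul _ (hspan _) n D.hn).1, mul_zero]
  -- the module
  set U : Submodule k (MonoidAlgebra k G) :=
    LinearMap.range (LinearMap.mulRight k (1 - f : MonoidAlgebra k G)) ⊔
      LinearMap.range (LinearMap.mulRight k (1 - E : MonoidAlgebra k G)) ⊔
      LinearMap.range (LinearMap.mulRight k x) ⊔
      LinearMap.range (LinearMap.mulRight k (u - ζ • f)) with hU
  have hmemU : ∀ z, z ∈ U ↔ ∃ a b c d,
      a * (1 - f) + b * (1 - E) + c * x + d * (u - ζ • f) = z := fun z => by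
    simp only [hU, Submodule.mem_sup, LinearMap.mem_range, LinearMap.mulRight_apply]
    constructor
    · rintro ⟨_, ⟨_, ⟨_, ⟨a, rfl⟩, _, ⟨b, rfl⟩, rfl⟩, _, ⟨c, rfl⟩, rfl⟩, _, ⟨d, rfl⟩, rfl⟩
      exact ⟨a, b, c, d, rfl⟩
    · rintro ⟨a, b, c, d, rfl⟩
      exact ⟨_, ⟨_, ⟨_, ⟨a, rfl⟩, _, ⟨b, rfl⟩, rfl⟩, _, ⟨c, rfl⟩, rfl⟩, _, ⟨d, rfl⟩, rfl⟩
  have hUinv : IsInvar (leftRep k G) U := fun g z hz => by
    obtain ⟨a, b, c, d, rfl⟩ := (hmemU z).1 hz
    refine (hmemU _).2 ⟨MonoidAlgebra.single g 1 * a, MonoidAlgebra.single g 1 * b,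
      MonoidAlgebra.single g 1 * c, MonoidAlgebra.single g 1 * d, ?_⟩
    simp only [leftRep_apply, mul_add, mul_assoc]
  have hfU : ∀ z ∈ U, Λ (f * z * f) = 0 := fun z hz => by
    obtain ⟨a, b, c, d, rfl⟩ := (hmemU z).1 hz
    have e1 : f * (a * (1 - f)) * f = 0 := by
      simp only [mul_assoc, sub_mul, one_mul, D.hff, sub_self, mul_zero]
    have e2 : f * (b * (1 - E)) * f = f * b * f * (1 - E) := by
      simp only [mul_assoc, sub_mul, mul_sub, one_mul, mul_one, hEc f]
    have e3 : f * (c * x) * f = f * c * f * x := by simp only [mul_assoc, D.hxf, D.hfx]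
    have e4 : f * (d * (u - ζ • f)) * f = f * d * f * u + (-ζ) • (f * d * f) := by
      have h : (u - ζ • f) * f = u - ζ • f := by rw [sub_mul, smul_mul_assoc, D.huf, D.hff]
      rw [mul_assoc f, mul_assoc d, h, mul_sub, mul_smul_comm, mul_sub, mul_smul_comm, neg_smul,
        ← sub_eq_add_neg]
      simp only [mul_assoc, D.hfu]
    have hsmul : ∀ (c : k) y, Λ (c • y) = c * Λ y := fun c y => by
      simp only [Λ, F, smul_mul_assoc, cut_smul, mul_smul_comm, map_smul, Finset.mul_sum,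
        smul_eq_mul]
      exact Finset.sum_congr rfl fun i _ => by ring
    rw [mul_add, mul_add, mul_add, add_mul, add_mul, add_mul, hΛadd, hΛadd, hΛadd, e1, e2, e3, e4,
      hΛE, hΛx, hΛadd, hΛu, hsmul]
    have : Λ 0 = 0 := by simpa using hsmul 0 0
    rw [this]
    ring
  set ρ := quoRep (leftRep k G) U hUinv with hρ
  have hρap : ∀ a z, ρ.asAlgebraHom a (Submodule.Quotient.mk z) = Submodule.Quotient.mk (a * z) :=
    fun a z => by rw [hρ, asAlgebraHom_quoRep, asAlgebraHom_leftRep]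
  set w₀ : MonoidAlgebra k G ⧸ U := Submodule.Quotient.mk f with hw₀
  have hmkf : ∀ a, (Submodule.Quotient.mk a : MonoidAlgebra k G ⧸ U) = Submodule.Quotient.mk (a * f) :=
    fun a => (Submodule.Quotient.eq U).2 ((hmemU _).2 ⟨a, 0, 0, 0, by
      simp [mul_sub]⟩)
  have hw0f : ρ.asAlgebraHom f w₀ = w₀ := by rw [hρap, D.hff]
  have hw0u : ρ.asAlgebraHom u w₀ = ζ • w₀ := by
    rw [hρap, D.huf, hw₀, ← Submodule.Quotient.mk_smul, Submodule.Quotient.eq]
    exact (hmemU _).2 ⟨0, 0, 0, 1, by simp⟩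
  have hw0x : ρ.asAlgebraHom x w₀ = 0 := by
    rw [hρap, D.hxf, Submodule.Quotient.mk_eq_zero]
    exact (hmemU _).2 ⟨0, 0, 1, 0, by simp⟩
  have hρE : ρ.asAlgebraHom E = 1 := LinearMap.ext fun z => by
    obtain ⟨z, rfl⟩ := Submodule.Quotient.mk_surjective U z
    rw [hρap, Module.End.one_apply, Submodule.Quotient.eq]
    exact (hmemU _).2 ⟨0, -z, 0, 0, by
      rw [hEc z, zero_mul, zero_mul, zero_mul, zero_add, add_zero, add_zero, neg_mul, mul_sub,
        mul_one, neg_sub]⟩
  have hnp : ∀ v, ρ.asAlgebraHom (x ^ n * f) v ≠ w₀ := fun v hv => by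
    obtain ⟨a, rfl⟩ := Submodule.Quotient.mk_surjective U v
    rw [hρap, hw₀, Submodule.Quotient.eq] at hv
    have h := hfU _ hv
    rw [mul_sub, sub_mul] at h
    have hneg : Λ (f * (x ^ n * f * a) * f - f * f * f) =
        Λ (f * (x ^ n * f * a) * f) - Λ (f * f * f) :=
      eq_sub_of_add_eq (by rw [← hΛadd, sub_add_cancel])
    rw [hneg, hΛf, hΛtop, zero_sub, neg_eq_zero] at h
    exact one_ne_zero h
  -- some simple module receives a map which is not a trace
  by_contra hno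
  have hno' : ∀ (V : Type v) [AddCommGroup V] [Module k V] [FiniteDimensional k V]
      (σ : Representation k G V), IsSimpleRep σ → σ.asAlgebraHom E = 1 →
      ∀ w, σ.asAlgebraHom f w = w → σ.asAlgebraHom x w = 0 → σ.asAlgebraHom u w = ζ • w →
        ∃ v, σ.asAlgebraHom (x ^ n * f) v = w := by
    intro V _ _ _ σ hσ hσE w h1 h2 h3
    by_contra h
    exact hno ⟨V, inferInstance, inferInstance, inferInstance, σ, hσ, hσE, w, h1, h2, h3,
      fun v hv => h ⟨v, hv⟩⟩
  haveI : FiniteDimensional k (MonoidAlgebra k G) := inferInstance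
  obtain ⟨θ, hθ⟩ := eq_trHom_of_simple (E := E) ρ (fun V _ _ _ σ hσ hσE φ hφ => by
    obtain ⟨v', hv'⟩ := hno' V σ hσ hσE (φ w₀)
      (by rw [← asAlgebraHom_intertwine hφ, hw0f])
      (by rw [← asAlgebraHom_intertwine hφ, hw0x, map_zero])
      (by rw [← asAlgebraHom_intertwine hφ, hw0u, map_smul])
    set a0 := eigProj f u e ζ * (x ^ n * f) * E with ha0
    have hπw : ρ.asAlgebraHom (eigProj f u e ζ) w₀ = w₀ := D.eigProj_apply hζ hw0f hw0u
    have hφa : ∀ a, φ (Submodule.Quotient.mk a) = σ.asAlgebraHom (a * a0) v' := fun a => by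
      rw [hmkf a, ← hρap, asAlgebraHom_intertwine hφ]
      conv_lhs => rw [← hw₀, ← hπw, asAlgebraHom_intertwine hφ, ← hv']
      rw [map_mul _ a, ha0, map_mul _ _ E, hσE, mul_one, map_mul _ (eigProj f u e ζ)]
      rfl
    have hker : U ≤ LinearMap.ker (LinearMap.mulRight k a0) := fun z hz => by
      obtain ⟨a, b, c, d, rfl⟩ := (hmemU z).1 hz
      have k1 : (1 - f) * a0 = 0 := by
        rw [ha0, ← mul_assoc, ← mul_assoc, sub_mul 1 f, one_mul, D.f_mul_eigProj, sub_self, zero_mul,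
          zero_mul]
      have k2 : (1 - E) * a0 = 0 := by
        rw [ha0, ← hEc, ← mul_assoc, sub_mul, one_mul, hEE, sub_self, zero_mul]
      have k3 : x * a0 = 0 := by
        have hxP := D.x_pow_eigProj 1 ζ
        rw [pow_one] at hxP
        rw [ha0, ← mul_assoc, ← mul_assoc, hxP, mul_assoc _ x, ← mul_assoc x, ← pow_succ', D.hnil,
          zero_mul, mul_zero, zero_mul]
      have k4 : (u - ζ • f) * a0 = 0 := by
        rw [ha0, ← mul_assoc, ← mul_assoc, sub_mul, D.u_mul_eigProj hζ, smul_mul_assoc,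
          D.f_mul_eigProj, sub_self, zero_mul, zero_mul]
      simp [add_mul, mul_assoc, k1, k2, k3, k4]
    let ψ1 := U.liftQ (LinearMap.mulRight k a0) hker
    let lam : MonoidAlgebra k G →ₗ[k] k :=
      { toFun := fun z => z.coeff 1
        map_add' := fun a b => by simp
        map_smul' := fun r a => by simp }
    refine ⟨(lam ∘ₗ ψ1).smulRight v', LinearMap.ext fun z => ?_⟩
    obtain ⟨a, rfl⟩ := Submodule.Quotient.mk_surjective U z
    rw [trHom_apply, hφa, sum_single_coeff (a * a0), map_sum, LinearMap.sum_apply,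
      show Finset.univ.filter (fun g : G => g ∈ (⊤ : Subgroup G)) = Finset.univ by simp]
    refine Finset.sum_congr rfl fun g _ => ?_
    rw [Representation.asAlgebraHom_single, LinearMap.smul_apply,
      ← Representation.asAlgebraHom_single_one ρ g⁻¹, hρap]
    show σ g ((lam (ψ1 (Submodule.Quotient.mk (MonoidAlgebra.single g⁻¹ 1 * a)))) • v') = _
    rw [map_smul]
    congr 1
    show (MonoidAlgebra.single g⁻¹ 1 * a * a0).coeff 1 = _
    rw [mul_assoc, MonoidAlgebra.coeff_single_mul_apply, one_mul, inv_inv, mul_one])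
    (finrank k (MonoidAlgebra k G ⧸ U)) (MonoidAlgebra k G ⧸ U) ρ le_rfl hρE LinearMap.id
    (fun _ _ => rfl)
  obtain ⟨w, hw⟩ := SocleData.trHom_mem (s := x ^ n * f) D.cutf D.cutx
    (fun a ha ha' => D.exists_eq_top_mul al bl hal hdec hεf hεC ha ha') le_top ρ ρ θ hw0f hw0x
  rw [hθ] at hw
  exact hnp w hw.symm

/-- A simple module has at most one eigenvalue outside the projective part of its socle. -/
theorem eigen_unique [IsAlgClosed k] (D : SocleData C H f x u c0 ω n e) (hCH : C ≤ H)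
    {ε : MonoidAlgebra k G} {ι : Type*} [Fintype ι] (al bl : ι → MonoidAlgebra k G)
    (hal : ∀ i, cut (C : Set G) (al i) = al i) (hbl : ∀ i, cut (C : Set G) (bl i) = bl i)
    (hdec : ε = ∑ i, al i * f * bl i) (hεf : ε * f = f) (hεε : ε * ε = ε)
    (hεH : ∀ a, cut (H : Set G) a = a → a * ε = ε * a)
    {V : Type*} [AddCommGroup V] [Module k V] [FiniteDimensional k V] {σ : Representation k G V}
    (hσ : IsSimpleRep σ)
    (hMackey : ∀ Ψ : V →ₗ[k] V, (∀ h ∈ H, ∀ v, Ψ (σ h v) = σ h (Ψ v)) →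
      (∀ v, σ.asAlgebraHom ε (Ψ v) = Ψ v) → (∀ v, Ψ (σ.asAlgebraHom ε v) = Ψ v) →
      ∃ Φ θ : V →ₗ[k] V, (∀ g v, Φ (σ g v) = σ g (Φ v)) ∧
        ∀ v, σ.asAlgebraHom ε (Φ (σ.asAlgebraHom ε v)) - Ψ v = trHom H σ σ θ v)
    {ζ ζ' : k} (hζ : ζ ^ e = 1) (hζ' : ζ' ^ e = 1) {w w' : V}
    (hw : EigenTop σ f x u (x ^ n * f) ζ w) (hw' : EigenTop σ f x u (x ^ n * f) ζ' w') :
    ζ = ζ' := by
  classical
  by_contra hne
  obtain ⟨hwf, hwx, hwu, hwp⟩ := hw
  obtain ⟨hw'f, hw'x, hw'u, hw'p⟩ := hw'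
  set R := σ.asAlgebraHom with hR
  have hRm : ∀ a b v, R (a * b) v = R a (R b v) := fun a b v => by rw [map_mul]; rfl
  obtain ⟨m, hm1, hm2⟩ : ∃ m, (∃ v, R (x ^ m * f) v = w) ∧ ¬ ∃ v, R (x ^ (m + 1) * f) v = w := by
    by_contra hcon
    push Not at hcon
    have hall : ∀ m, ∃ v, R (x ^ m * f) v = w := fun m => by
      induction m with
      | zero => exact ⟨w, by rw [pow_zero, one_mul, hwf]⟩
      | succ m ih => exact hcon m ih
    obtain ⟨v, hv⟩ := hall n
    exact hwp v hv
  obtain ⟨v₀, hv₀⟩ := hm1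
  have hmn : m < n := by
    rcases lt_trichotomy m n with h | h | h
    · exact h
    · exact absurd (h ▸ hv₀) (hwp v₀)
    · obtain ⟨t, ht⟩ := Nat.exists_eq_add_of_le (Nat.succ_le_of_lt h)
      have hw0 : w = 0 := by
        rw [← hv₀, ht, pow_add, D.hnil, zero_mul, zero_mul, map_zero, LinearMap.zero_apply]
      exact absurd (by rw [map_zero, hw0]) (hwp 0)
  have hω := D.omega_ne_zero
  set η := ζ * (ω ^ m)⁻¹ with hη
  have hηe : η ^ e = 1 := by
    rw [hη, mul_pow, hζ, one_mul, inv_pow, ← pow_mul, mul_comm m e, pow_mul, D.omega_pow, one_pow,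
      inv_one]
  set v₁ := R (eigProj f u e η) v₀ with hv₁
  have hv₁f : R f v₁ = v₁ := by rw [hv₁, ← hRm, D.f_mul_eigProj]
  have hv₁u : R u v₁ = η • v₁ := by
    rw [hv₁, ← hRm, D.u_mul_eigProj hηe, map_smul, LinearMap.smul_apply]
  have hv₁w : R (x ^ m) v₁ = w := by
    rw [hv₁, ← hRm, D.x_pow_eigProj, hη, inv_mul_cancel_right₀ (pow_ne_zero _ hω), hRm]
    have h1 : R (x ^ m) v₀ = R (x ^ m * f) v₀ + R (x ^ m * (1 - f)) v₀ := by
      rw [← LinearMap.add_apply, ← map_add, ← mul_add, add_sub_cancel, mul_one]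
    have h2 : eigProj f u e ζ * (x ^ m * (1 - f)) = 0 := by
      have : eigProj f u e ζ * f = eigProj f u e ζ := by
        rw [eigProj, smul_mul_assoc, Finset.sum_mul]
        congr 1
        exact Finset.sum_congr rfl fun i _ => by rw [smul_mul_assoc, mul_assoc, D.hff]
      rw [← this, mul_assoc, ← mul_assoc f, D.x_pow_f, mul_assoc, mul_sub, mul_one, D.hff,
        sub_self, mul_zero, mul_zero]
    rw [h1, map_add, hv₀, ← hRm _ (x ^ m * (1 - f)), h2, map_zero, LinearMap.zero_apply, add_zero]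
    exact D.eigProj_apply hζ hwf hwu
  -- the functional
  obtain ⟨φ', hφw, hφ0⟩ := Submodule.exists_dual_map_eq_bot_of_notMem
    (x := w) (p := LinearMap.range (R (x ^ (m + 1) * f))) (fun ⟨v, hv⟩ => hm2 ⟨v, hv⟩) inferInstance
  have hφ0' : ∀ v, φ' (R (x ^ (m + 1) * f) v) = 0 := fun v => by
    have h0 := Submodule.mem_map_of_mem (f := φ') (LinearMap.mem_range_self (R (x ^ (m + 1) * f)) v)
    rwa [hφ0, Submodule.mem_bot] at h0
  set φ : V →ₗ[k] k := (φ' w)⁻¹ • φ' ∘ₗ R (eigProj f u e ζ) with hφ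
  have hφap : ∀ v, φ v = (φ' w)⁻¹ * φ' (R (eigProj f u e ζ) v) := fun v => rfl
  have hφ1 : φ w = 1 := by rw [hφap, D.eigProj_apply hζ hwf hwu, inv_mul_cancel₀ hφw]
  have hcomm : ∀ j, eigProj f u e ζ * u ^ j = ζ ^ j • eigProj f u e ζ := by
    have hu1 : eigProj f u e ζ * u = u * eigProj f u e ζ := by
      simp only [eigProj, smul_mul_assoc, mul_smul_comm, Finset.sum_mul, Finset.mul_sum]
      congr 1
      refine Finset.sum_congr rfl fun i _ => ?_
      rw [mul_assoc, D.hfu, ← mul_assoc u, ← pow_succ', pow_succ, mul_assoc, D.huf]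
    intro j
    induction j with
    | zero => rw [pow_zero, pow_zero, mul_one, one_smul]
    | succ j ih =>
      rw [pow_succ, ← mul_assoc, ih, smul_mul_assoc, hu1, D.u_mul_eigProj hζ, smul_smul, ← pow_succ]
  have hφu : ∀ v, φ (R u v) = ζ * φ v := fun v => by
    have h := hcomm 1
    rw [pow_one, pow_one] at h
    rw [hφap, hφap, ← hRm, h, map_smul, LinearMap.smul_apply, map_smul, smul_eq_mul]
    ring
  have hφtop : ∀ v, φ (R (x ^ (m + 1) * f) v) = 0 := fun v => by
    have h1 : eigProj f u e ζ * (x ^ (m + 1) * f) =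
        x ^ (m + 1) * f * eigProj f u e (ζ * (ω ^ (m + 1))⁻¹) := by
      rw [mul_assoc, D.f_mul_eigProj, D.x_pow_eigProj, inv_mul_cancel_right₀ (pow_ne_zero _ hω)]
      rw [← mul_assoc]
      have h2 : x ^ (m + 1) * f = x ^ (m + 1) := by
        rw [pow_succ, mul_assoc, D.hxf]
      rw [mul_assoc, h2]
    rw [hφap, ← hRm, h1, hRm, hφ0', mul_zero]
  clear_value φ
  -- the endomorphism of the corner
  set ψ : V →ₗ[k] V := ∑ i ∈ Finset.range (m + 1),
    (φ ∘ₗ R (x ^ i * f)).smulRight (R (x ^ (m - i)) v₁) with hψ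
  have hψap : ∀ v, ψ v = ∑ i ∈ Finset.range (m + 1), φ (R (x ^ i * f) v) • R (x ^ (m - i)) v₁ :=
    fun v => by simp [hψ, LinearMap.sum_apply]
  clear_value ψ
  have hψf : ∀ v, ψ (R f v) = ψ v := fun v => by
    rw [hψap, hψap]
    exact Finset.sum_congr rfl fun i _ => by rw [← hRm, mul_assoc, D.hff]
  have hfψ : ∀ v, R f (ψ v) = ψ v := fun v => by
    rw [hψap, map_sum]
    refine Finset.sum_congr rfl fun i _ => ?_
    rw [map_smul, ← hRm f, D.x_pow_f]
    congr 1
    rw [hRm, hv₁f]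
  have hψx : ∀ v, R x (ψ v) = ψ (R x v) := fun v => by
    rw [hψap, hψap, map_sum]
    simp only [map_smul, ← hRm, ← pow_succ', mul_assoc, D.hfx]
    rw [Finset.sum_range_succ', Finset.sum_range_succ]
    simp only [Nat.sub_zero]
    congr 1
    · refine Finset.sum_congr rfl fun i hi => ?_
      have := Finset.mem_range.1 hi
      rw [show m - (i + 1) + 1 = m - i by omega, pow_succ x i, mul_assoc, D.hxf]
    · have h1 : R (x ^ (m + 1)) v₁ = 0 := by rw [pow_succ', hRm, hv₁w, hwx]
      rw [h1, smul_zero]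
      have h2 := hφtop v
      rw [show x ^ (m + 1) * f = x ^ m * x by rw [pow_succ, mul_assoc, D.hxf]] at h2
      rw [h2, zero_smul]
  have hψu : ∀ v, R u (ψ v) = ψ (R u v) := fun v => by
    rw [hψap, hψap, map_sum]
    refine Finset.sum_congr rfl fun i hi => ?_
    have hi' := Finset.mem_range.1 hi
    have h2 : ∀ j, u * x ^ j = ω ^ j • (x ^ j * u) := fun j => by
      induction j with
      | zero => rw [pow_zero, pow_zero, mul_one, one_mul, one_smul]
      | succ j ih =>
        rw [pow_succ, ← mul_assoc, ih, smul_mul_assoc, mul_assoc, D.hux, mul_smul_comm, smul_smul,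
          ← pow_succ, ← mul_assoc]
    have h3 : x ^ i * f * u = (ω ^ i)⁻¹ • (u * (x ^ i * f)) := by
      rw [← mul_assoc u, h2, smul_mul_assoc, smul_smul, inv_mul_cancel₀ (pow_ne_zero _ hω),
        one_smul, mul_assoc, mul_assoc, D.hfu, D.huf]
    rw [← hRm _ u, h3, map_smul R, LinearMap.smul_apply, hRm u, map_smul φ, hφu, map_smul,
      ← hRm, h2, map_smul R, LinearMap.smul_apply, hRm (x ^ (m - i)) u, hv₁u, map_smul, smul_smul,
      smul_smul]
    congr 1
    rw [hη, smul_eq_mul, show ω ^ m = ω ^ (m - i) * ω ^ i by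
      rw [← pow_add]; congr 1; omega, mul_inv]
    field_simp
  have hcornerH : ∀ a, cut (H : Set G) a = a → ∀ v, ψ (R (f * a * f) v) = R (f * a * f) (ψ v) := by
    intro a ha
    have hpx : ∀ i v, ψ (R (x ^ i) v) = R (x ^ i) (ψ v) := fun i => by
      induction i with
      | zero => intro v; simp
      | succ i ih => intro v; rw [pow_succ', hRm, hRm, ← hψx, ih]
    have hpu : ∀ i v, ψ (R (u ^ i) v) = R (u ^ i) (ψ v) := fun i => by
      induction i with
      | zero => intro v; simp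
      | succ i ih => intro v; rw [pow_succ', hRm, hRm, ← hψu, ih]
    refine Submodule.span_induction ?_ ?_ ?_ ?_ (D.spanH a ha)
    · rintro _ ⟨q, rfl⟩ v
      rw [hRm, hRm, hpx, hpu, hψf, hRm, hRm, hfψ]
    · intro v; simp
    · intro a b _ _ hx hy v; simp [hx, hy]
    · intro c a _ hx v; simp [hx]
  set Ψ : V →ₗ[k] V := ∑ l, R (al l) ∘ₗ ψ ∘ₗ R (f * bl l) with hΨ
  have hΨap : ∀ v, Ψ v = ∑ l, R (al l) (ψ (R (f * bl l) v)) := fun v => by
    simp [hΨ, LinearMap.sum_apply]
  clear_value Ψ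
  have hCs : ∀ a : MonoidAlgebra k G, cut (C : Set G) a = a → cut (H : Set G) a = a := fun a ha =>
    cut_eq_self_iff.2 fun g hg => cut_eq_self_iff.1 ha g fun h => hg (hCH h)
  have hεa : ∀ a, cut (C : Set G) a = a → a * ε = ε * a := fun a ha => hεH a (hCs a ha)
  have hεΨ : ∀ v, R ε (Ψ v) = Ψ v := fun v => by
    rw [hΨap, map_sum]
    refine Finset.sum_congr rfl fun l _ => ?_
    rw [← hfψ, ← hRm ε, ← hRm, ← hRm, ← hεa _ (hal l), mul_assoc, hεf]
  have hΨε : ∀ v, Ψ (R ε v) = Ψ v := fun v => by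
    rw [hΨap, hΨap]
    refine Finset.sum_congr rfl fun l _ => ?_
    rw [← hRm, mul_assoc, hεa _ (hbl l), ← mul_assoc f, hεa f D.cutf, hεf]
  have hΨH : ∀ h ∈ H, ∀ v, Ψ (σ h v) = σ h (Ψ v) := by
    intro h hh v
    set a := MonoidAlgebra.single h (1 : k) with ha
    have haH : cut (H : Set G) a = a := cut_eq_self_iff.2 fun g hg => by
      rw [ha, MonoidAlgebra.coeff_single, Finsupp.single_eq_of_ne]
      rintro rfl; exact hg hh
    have hσa : ∀ v, σ h v = R a v := fun v => by
      rw [hR, ha, Representation.asAlgebraHom_single_one]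
    rw [hσa, hσa]
    have hmid : ∀ l l', cut (H : Set G) (bl l * a * al l') = bl l * a * al l' := fun l l' =>
      cut_prod (cut_prod (hCs _ (hbl l)) haH) (hCs _ (hal l'))
    calc Ψ (R a v) = ∑ l, R (al l) (ψ (R (f * bl l * a * ε) v)) := by
          rw [← hΨε, hΨap]
          refine Finset.sum_congr rfl fun l _ => ?_
          rw [← hRm, ← hRm]
          simp only [mul_assoc, hεH a haH]
      _ = ∑ l, ∑ l', R (al l) (ψ (R (f * (bl l * a * al l') * f) (R (f * bl l') v))) := by
          refine Finset.sum_congr rfl fun l _ => ?_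
          rw [hdec, Finset.mul_sum, map_sum R, LinearMap.sum_apply, map_sum, map_sum]
          refine Finset.sum_congr rfl fun l' _ => ?_
          rw [← hRm]
          simp only [mul_assoc]
          rw [← mul_assoc f f, D.hff]
      _ = ∑ l', ∑ l, R (al l * (f * (bl l * a * al l') * f)) (ψ (R (f * bl l') v)) := by
          rw [Finset.sum_comm]
          refine Finset.sum_congr rfl fun l' _ => Finset.sum_congr rfl fun l _ => ?_
          rw [hcornerH _ (hmid _ _), hRm (al l)]
      _ = R a (Ψ v) := by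
          rw [hΨap, map_sum]
          refine Finset.sum_congr rfl fun l' _ => ?_
          rw [← LinearMap.sum_apply, ← map_sum, ← hRm a]
          have h1 : ∑ l, al l * (f * (bl l * a * al l') * f) = a * al l' * f := by
            calc ∑ l, al l * (f * (bl l * a * al l') * f) = ε * (a * al l' * f) := by
                  rw [hdec, Finset.sum_mul]; simp only [mul_assoc]
              _ = _ := by
                  rw [← mul_assoc, ← mul_assoc, ← hεH a haH, mul_assoc a ε, ← hεa _ (hal l'),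
                    mul_assoc a, mul_assoc (al l'), hεf, ← mul_assoc]
          rw [h1, hRm _ f, hfψ]
  obtain ⟨Φ, θ, hΦ, hΦθ⟩ := hMackey Ψ hΨH hεΨ hΨε
  obtain ⟨c, hc⟩ := hσ.schur hΦ
  have hεfix : ∀ v, R f v = v → R ε v = v := fun v hv => by
    conv_lhs => rw [← hv, ← hRm, hεf, hv]
  have hproj : ∀ v, R f v = v → R x v = 0 → ∃ y, c • v - Ψ v = R (x ^ n * f) y := fun v hv hvx => by
    obtain ⟨y, hy⟩ := SocleData.trHom_mem (s := x ^ n * f) D.cutf D.cutx
      (fun a ha ha' => D.exists_eq_top_mul al bl hal hdec hεf hεa ha ha') hCH σ σ θ hv hvx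
    refine ⟨y, ?_⟩
    rw [← hy, ← hΦθ v, hεfix v hv, hc, LinearMap.smul_apply, LinearMap.id_apply, map_smul,
      hεfix v hv]
  have hΨcorner : ∀ v, R f v = v → Ψ v = ψ v := fun v hv => by
    rw [hΨap]
    have : ∀ l, R (al l) (ψ (R (f * bl l) v)) = R (al l * f * bl l) (ψ v) := fun l => by
      conv_lhs => rw [← hv, ← hRm, hcornerH _ (hCs _ (hbl l))]
      rw [hRm _ f, hfψ, ← hRm, ← mul_assoc]
    simp only [this]
    rw [← LinearMap.sum_apply, ← map_sum, ← hdec]
    exact hεfix _ (hfψ v)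
  have hψw : ψ w = w := by
    rw [hψap, Finset.sum_eq_single 0 (fun i _ hi => ?_) (fun h => absurd (by simp) h)]
    · rw [pow_zero, one_mul, hwf, hφ1, one_smul, Nat.sub_zero, hv₁w]
    · obtain ⟨i', rfl⟩ : ∃ i', i = i' + 1 := ⟨i - 1, by omega⟩
      rw [hRm, hwf, pow_succ, hRm, hwx, map_zero, map_zero, zero_smul]
  have hψw' : ψ w' = 0 := by
    rw [hψap, Finset.sum_eq_zero]
    intro i _
    rcases Nat.eq_zero_or_pos i with rfl | hi
    · rw [pow_zero, one_mul, hw'f]
      have h1 := hφu w'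
      rw [hw'u, map_smul, smul_eq_mul] at h1
      rw [(mul_eq_mul_right_iff.1 h1).resolve_left (Ne.symm hne), zero_smul]
    · obtain ⟨i', rfl⟩ : ∃ i', i = i' + 1 := ⟨i - 1, by omega⟩
      rw [hRm, hw'f, pow_succ, hRm, hw'x, map_zero, map_zero, zero_smul]
  obtain ⟨y', hy'⟩ := hproj w' hw'f hw'x
  rw [hΨcorner w' hw'f, hψw', sub_zero] at hy'
  have hc0 : c = 0 := by
    by_contra hc0
    refine hw'p (c⁻¹ • y') ?_
    rw [map_smul, ← hy', smul_smul, inv_mul_cancel₀ hc0, one_smul]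
  obtain ⟨y, hy⟩ := hproj w hwf hwx
  rw [hΨcorner w hwf, hψw, hc0, zero_smul, zero_sub] at hy
  exact hwp (-y) (by rw [map_neg, ← hy, neg_neg])

end SocleData

end CfsgLib.Blocks
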