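import Cfsg.Agent.Lib.Blocks.CyclicSocleBasic
import Mathlib.FieldTheory.IsAlgClosed.Basic
import Mathlib.Algebra.CharP.Lemmas

/-!
# The twisted structure of a local corner

A local corner `f k[C] f = k[x₀]` inside `k[H]`, where `H / C` is cyclic of order `e` prime to
`p`, has an element `u` on the generating coset with `u ^ e = f` and a generator `x` of the
radical which `u` multiplies by a root of unity.
-/

set_option autoImplicit false
set_option linter.unusedSectionVars false
set_option linter.style.haveILetI false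

namespace CfsgLib.Blocks

open Cfsg Chars Modular Module

variable {k G : Type*} [Field k] [Group G] [Fintype G]

/-- Supports multiply. -/
theorem cut_mul_supp {S S' S'' : Set G} (h : ∀ a ∈ S, ∀ b ∈ S', a * b ∈ S'')
    {a b : MonoidAlgebra k G} (ha : cut S a = a) (hb : cut S' b = b) :
    cut S'' (a * b) = a * b := by
  rw [cut_eq_self_iff]
  intro g hg
  rw [coeff_mul_eq_sum]
  refine Finset.sum_eq_zero fun y _ => ?_
  by_cases hy : y ∈ S
  · by_cases hy' : y⁻¹ * g ∈ S'
    · exact absurd (by simpa using h y hy _ hy') hg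
    · rw [cut_eq_self_iff.1 hb _ hy', mul_zero]
  · rw [cut_eq_self_iff.1 ha _ hy, zero_mul]

theorem cut_single_self {S : Set G} {g : G} (hg : g ∈ S) (r : k) :
    cut S (MonoidAlgebra.single g r) = MonoidAlgebra.single g r := by
  rw [cut_eq_self_iff]
  intro y hy
  rw [MonoidAlgebra.coeff_single, Finsupp.single_eq_of_ne]
  rintro rfl
  exact hy hg

/-- The coset of `t ^ i`. -/
def cosetSet (C : Subgroup G) (t : G) (i : ℕ) : Set G := {g | (t ^ i)⁻¹ * g ∈ C}

theorem cosetSet_zero (C : Subgroup G) (t : G) : cosetSet C t 0 = (C : Set G) := by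
  ext g; simp [cosetSet]

theorem cosetSet_eq (C : Subgroup G) {t : G} {i : ℕ} (h : t ^ i ∈ C) :
    cosetSet C t i = (C : Set G) := by
  ext g
  exact ⟨fun hg => by simpa using C.mul_mem h hg, fun hg => C.mul_mem (C.inv_mem h) hg⟩

theorem cosetSet_mul {C : Subgroup G} {t : G} (ht : ∀ c, c ∈ C ↔ t * c * t⁻¹ ∈ C) {i j : ℕ}
    {a b : G} (ha : a ∈ cosetSet C t i) (hb : b ∈ cosetSet C t j) :
    a * b ∈ cosetSet C t (i + j) := by
  have hpow : ∀ (j : ℕ) (c : G), c ∈ C → (t ^ j)⁻¹ * c * t ^ j ∈ C := by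
    intro j
    induction j with
    | zero => intro c hc; simpa using hc
    | succ j ih =>
      intro c hc
      have h1 : t⁻¹ * c * t ∈ C := (ht _).2 (by simpa [mul_assoc] using hc)
      have h2 := ih _ h1
      rw [show (t ^ (j + 1))⁻¹ * c * t ^ (j + 1) = (t ^ j)⁻¹ * (t⁻¹ * c * t) * t ^ j by
        rw [pow_succ' t j]; group]
      exact h2
  show (t ^ (i + j))⁻¹ * (a * b) ∈ C
  rw [show (t ^ (i + j))⁻¹ * (a * b) = (t ^ j)⁻¹ * ((t ^ i)⁻¹ * a) * t ^ j * ((t ^ j)⁻¹ * b) by
    rw [pow_add]; group]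
  exact C.mul_mem (hpow j _ ha) hb

/-- A local corner gives the twisted structure. -/
theorem exists_socleData [IsAlgClosed k] {p : ℕ} [Fact p.Prime] [CharP k p] {C H : Subgroup G}
    (hCH : C ≤ H) {t : G} (htH : t ∈ H) (htC : ∀ c, c ∈ C ↔ t * c * t⁻¹ ∈ C) {e : ℕ} (he0 : 0 < e)
    (hep : e ∣ p - 1) (hgen : ∀ h ∈ H, ∃ i, i < e ∧ (t ^ i)⁻¹ * h ∈ C)
    (hte : ∀ i, t ^ i ∈ C ↔ e ∣ i) {ε f x₀ : MonoidAlgebra k G} {ι : Type*} [Fintype ι]
    (al bl : ι → MonoidAlgebra k G) (hal : ∀ i, cut (C : Set G) (al i) = al i)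
    (hbl : ∀ i, cut (C : Set G) (bl i) = bl i) (hdec : ε = ∑ i, al i * f * bl i)
    (hεf : ε * f = f) (hεC : ∀ a, cut (C : Set G) a = a → a * ε = ε * a)
    (hεt : MonoidAlgebra.single t (1 : k) * ε = ε * MonoidAlgebra.single t 1)
    (hf : cut (C : Set G) f = f) (hx : cut (C : Set G) x₀ = x₀) (hff : f * f = f) (hf0 : f ≠ 0)
    (hfx : f * x₀ = x₀) (hxf : x₀ * f = x₀) (hnil : IsNilpotent x₀) (hx0 : x₀ ≠ 0)
    (hspan : ∀ a, cut (C : Set G) a = a →
      f * a * f ∈ Submodule.span k (Set.range fun i : ℕ => x₀ ^ i * f)) :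
    ∃ (x u : MonoidAlgebra k G) (c0 : MonoidAlgebra k G →ₗ[k] k) (ω : k) (n : ℕ),
      SocleData C H f x u c0 ω n e ∧
      (∀ j, cut (cosetSet C t j) (u ^ j * f) = u ^ j * f) ∧
      ∀ a, cut (C : Set G) a = a → c0 (f * a * f) ≠ 0 →
        ∀ b, f * a * f * b = 0 → f * b = 0 := by
  classical
  have hp : p.Prime := Fact.out
  haveI : CharP (MonoidAlgebra k G) p := charP_of_injective_algebraMap
    (FaithfulSMul.algebraMap_injective k (MonoidAlgebra k G)) p
  set X := Submodule.span k (Set.range fun i : ℕ => x₀ ^ i * f) with hX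
  have hfpow : ∀ i, f * x₀ ^ i = x₀ ^ i * f := fun i => by
    induction i with
    | zero => rw [pow_zero, mul_one, one_mul]
    | succ i ih => rw [pow_succ, ← mul_assoc, ih, mul_assoc, hfx, mul_assoc, hxf]
  -- the corner
  have hgenX : ∀ i j, x₀ ^ i * f * (x₀ ^ j * f) = x₀ ^ (i + j) * f := fun i j => by
    rw [mul_assoc, ← mul_assoc f, hfpow, mul_assoc _ f f, hff, ← mul_assoc, ← pow_add]
  have hXmul : ∀ r ∈ X, ∀ s ∈ X, r * s ∈ X ∧ r * s = s * r := by
    intro r hr s hs
    induction hr using Submodule.span_induction with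
    | zero => simp [zero_mem]
    | add a b _ _ ha hb => exact ⟨by rw [add_mul]; exact add_mem ha.1 hb.1,
        by rw [add_mul, mul_add, ha.2, hb.2]⟩
    | smul c a _ ha => exact ⟨by rw [smul_mul_assoc]; exact Submodule.smul_mem _ _ ha.1,
        by rw [smul_mul_assoc, mul_smul_comm, ha.2]⟩
    | mem a ha =>
      obtain ⟨i, rfl⟩ := ha
      induction hs using Submodule.span_induction with
      | zero => simp [zero_mem]
      | add a b _ _ ha hb => exact ⟨by rw [mul_add]; exact add_mem ha.1 hb.1,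
          by rw [mul_add, add_mul, ha.2, hb.2]⟩
      | smul c a _ ha => exact ⟨by rw [mul_smul_comm]; exact Submodule.smul_mem _ _ ha.1,
          by rw [smul_mul_assoc, mul_smul_comm, ha.2]⟩
      | mem b hb =>
        obtain ⟨j, rfl⟩ := hb
        exact ⟨by rw [hgenX]; exact Submodule.subset_span ⟨i + j, rfl⟩,
          by rw [hgenX, hgenX, add_comm]⟩
  have hfX : f ∈ X := Submodule.subset_span ⟨0, by simp⟩
  have hxX : x₀ ∈ X := Submodule.subset_span ⟨1, by simp [hxf]⟩
  have hXfix : ∀ r ∈ X, f * r = r ∧ r * f = r ∧ cut (C : Set G) r = r := by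
    intro r hr
    induction hr using Submodule.span_induction with
    | zero => simp [cut_zero]
    | add a b _ _ ha hb => simp [mul_add, add_mul, cut_add, ha, hb]
    | smul c a _ ha => simp [cut_smul, ha]
    | mem a ha =>
      obtain ⟨i, rfl⟩ := ha
      refine ⟨?_, by rw [mul_assoc, hff], cut_prod (cut_pow_sub hx i) hf⟩
      rw [← mul_assoc, hfpow, mul_assoc, hff]
  have hXpow : ∀ r ∈ X, ∀ i, r ^ i * f ∈ X := fun r hr i => by
    induction i with
    | zero => rwa [pow_zero, one_mul]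
    | succ i ih => rw [pow_succ', mul_assoc]; exact (hXmul r hr _ ih).1
  -- the coefficient of the idempotent
  set X1 := Submodule.span k (Set.range fun i : ℕ => x₀ ^ (i + 1) * f) with hX1
  have hX1mem : ∀ w ∈ X, x₀ * w ∈ X1 := by
    intro w hw
    induction hw using Submodule.span_induction with
    | zero => simp
    | add a b _ _ ha hb => rw [mul_add]; exact add_mem ha hb
    | smul c a _ ha => rw [mul_smul_comm]; exact Submodule.smul_mem _ _ ha
    | mem a ha =>
      obtain ⟨i, rfl⟩ := ha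
      exact Submodule.subset_span ⟨i, by simp only [← mul_assoc, ← pow_succ']⟩
  have hX1ex : ∀ r ∈ X1, ∃ w ∈ X, r = x₀ * w := by
    intro r hr
    induction hr using Submodule.span_induction with
    | zero => exact ⟨0, zero_mem _, by rw [mul_zero]⟩
    | add a b _ _ ha hb =>
      obtain ⟨w, hw, rfl⟩ := ha
      obtain ⟨w', hw', rfl⟩ := hb
      exact ⟨w + w', add_mem hw hw', by rw [mul_add]⟩
    | smul c a _ ha =>
      obtain ⟨w, hw, rfl⟩ := ha
      exact ⟨c • w, Submodule.smul_mem _ _ hw, by rw [mul_smul_comm]⟩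
    | mem a ha =>
      obtain ⟨i, rfl⟩ := ha
      exact ⟨x₀ ^ i * f, Submodule.subset_span ⟨i, rfl⟩, by rw [← mul_assoc, ← pow_succ']⟩
  obtain ⟨m₀, hm₀⟩ := hnil
  have hfX1 : f ∉ X1 := fun h => by
    obtain ⟨w, hw, hfw⟩ := hX1ex f h
    have hpow : ∀ i, f = x₀ ^ i * (w ^ i * f) := fun i => by
      induction i with
      | zero => rw [pow_zero, pow_zero, one_mul, one_mul]
      | succ i ih =>
        have hc : w * x₀ = x₀ * w := ((hXmul x₀ hxX w hw).2).symm
        calc f = f * f := hff.symm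
          _ = x₀ ^ i * (w ^ i * f) * (x₀ * w) := by rw [← ih, ← hfw]
          _ = _ := by
            rw [mul_assoc, mul_assoc _ f, ← mul_assoc f, hfx, ← mul_assoc (w ^ i) x₀,
              ((show Commute w x₀ from hc).pow_left i).eq, mul_assoc, ← mul_assoc (x₀ ^ i),
              ← pow_succ, ← pow_succ, pow_succ w i, mul_assoc (w ^ i) w f, (hXfix w hw).2.1]
    exact hf0 ((hpow m₀).trans (by rw [hm₀, zero_mul]))
  obtain ⟨φ, hφf, hφ1⟩ := Submodule.exists_dual_map_eq_bot_of_notMem hfX1 inferInstance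
  set c0 : MonoidAlgebra k G →ₗ[k] k := (φ f)⁻¹ • φ with hc0def
  have hc0f : c0 f = 1 := by rw [hc0def, LinearMap.smul_apply, smul_eq_mul, inv_mul_cancel₀ hφf]
  have hc0X1 : ∀ r ∈ X1, c0 r = 0 := fun r hr => by
    have h0 := Submodule.mem_map_of_mem (f := φ) hr
    rw [hφ1, Submodule.mem_bot] at h0
    rw [hc0def, LinearMap.smul_apply, h0, smul_zero]
  clear_value c0
  have hsplit : ∀ r ∈ X, ∃ w ∈ X, r = c0 r • f + x₀ * w := by
    intro r hr
    induction hr using Submodule.span_induction with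
    | zero => exact ⟨0, zero_mem _, by simp⟩
    | add a b _ _ ha hb =>
      obtain ⟨w, hw, ha'⟩ := ha
      obtain ⟨w', hw', hb'⟩ := hb
      refine ⟨w + w', add_mem hw hw', ?_⟩
      rw [map_add, add_smul, mul_add]
      conv_lhs => rw [ha', hb']
      abel
    | smul c a _ ha =>
      obtain ⟨w, hw, ha'⟩ := ha
      refine ⟨c • w, Submodule.smul_mem _ _ hw, ?_⟩
      rw [map_smul, smul_eq_mul, mul_smul_comm]
      conv_lhs => rw [ha', smul_add, smul_smul]
    | mem a ha =>
      obtain ⟨i, rfl⟩ := ha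
      rcases i with _ | i
      · exact ⟨0, zero_mem _, by simp [hc0f]⟩
      · refine ⟨x₀ ^ i * f, Submodule.subset_span ⟨i, rfl⟩, ?_⟩
        rw [hc0X1 _ (Submodule.subset_span ⟨i, rfl⟩), zero_smul, zero_add, ← mul_assoc, ← pow_succ']
  have hc0mul : ∀ w ∈ X, c0 (x₀ * w) = 0 := fun w hw => hc0X1 _ (hX1mem w hw)
  -- a power of `p` congruent to one killing the radical
  set q := p ^ m₀ with hqdef
  have hq0 : q ≠ 0 := pow_ne_zero _ hp.ne_zero
  have hqm : m₀ ≤ q := (Nat.lt_pow_self hp.one_lt).le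
  have hq1 : e ∣ q - 1 := hep.trans (by
    simpa using Nat.sub_dvd_pow_sub_pow p 1 m₀)
  have hxq : x₀ ^ q = 0 := by
    obtain ⟨s, hs⟩ := Nat.exists_eq_add_of_le hqm
    rw [hs, pow_add, hm₀, zero_mul]
  have hfq : ∀ i, i ≠ 0 → f ^ i = f := fun i hi => by
    obtain ⟨i, rfl⟩ : ∃ j, i = j + 1 := ⟨i - 1, by omega⟩
    induction i with
    | zero => rw [pow_one]
    | succ i ih => rw [pow_succ, ih (by omega), hff]
  have hrq : ∀ r ∈ X, r ^ q = c0 r ^ q • f := by
    intro r hr
    obtain ⟨w, hw, hrw⟩ := hsplit r hr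
    have hc : Commute (c0 r • f) (x₀ * w) := (hXmul _ (Submodule.smul_mem _ _ hfX) _
      (hXmul x₀ hxX w hw).1).2
    conv_lhs => rw [hrw]
    rw [hqdef, add_pow_char_pow_of_commute _ _ hc, smul_pow,
      hfq _ (pow_ne_zero _ hp.ne_zero), (show Commute x₀ w from (hXmul x₀ hxX w hw).2).mul_pow,
      ← hqdef, hxq, zero_mul, add_zero]
  have hc0pow : ∀ r ∈ X, c0 (r ^ q) = c0 r ^ q := fun r hr => by
    rw [hrq r hr, map_smul, hc0f, smul_eq_mul, mul_one]
  have hinv : ∀ r ∈ X, c0 r ≠ 0 → ∃ r' ∈ X, r * r' = f := fun r hr h0 => by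
    refine ⟨(c0 r ^ q)⁻¹ • (r ^ (q - 1) * f), Submodule.smul_mem _ _ (hXpow r hr _), ?_⟩
    rw [mul_smul_comm, ← mul_assoc, ← pow_succ', show q - 1 + 1 = q by omega, hrq r hr,
      smul_mul_assoc, hff, smul_smul, inv_mul_cancel₀ (pow_ne_zero _ h0), one_smul]
  have hc0nil : ∀ r ∈ X, IsNilpotent r → c0 r = 0 := fun r hr ⟨m, hm⟩ => by
    by_contra h0
    obtain ⟨r', hr', hrr⟩ := hinv r hr h0
    refine hf0 ?_
    have h1 : ∀ i, r ^ i * (r' ^ i * f) = f := fun i => by
      induction i with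
      | zero => rw [pow_zero, pow_zero, one_mul, one_mul]
      | succ i ih =>
        rw [pow_succ r, pow_succ' r', mul_assoc (r ^ i), mul_assoc r', ← mul_assoc r r', hrr,
          ← mul_assoc f]
        have : f * r' ^ i * f = r' ^ i * f := by
          rw [mul_assoc]
          exact (hXfix _ (hXpow r' hr' i)).1
        rw [this, ih]
    rw [← h1 m, hm, zero_mul]
  -- elements of the cosets
  have hmul : ∀ {i j : ℕ} {a b : MonoidAlgebra k G}, cut (cosetSet C t i) a = a →
      cut (cosetSet C t j) b = b → cut (cosetSet C t (i + j)) (a * b) = a * b :=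
    fun {i j a b} ha hb => cut_mul_supp (fun g hg g' hg' => cosetSet_mul htC hg hg') ha hb
  have hC0 : ∀ {a : MonoidAlgebra k G}, cut (C : Set G) a = a → cut (cosetSet C t 0) a = a :=
    fun {a} ha => by rwa [cosetSet_zero]
  have hspan' : ∀ a i, e ∣ i → cut (cosetSet C t i) a = a → f * a = a → a * f = a → a ∈ X :=
    fun a i hi ha h1 h2 => by
      rw [cosetSet_eq C ((hte i).2 hi)] at ha
      have := hspan a ha
      rwa [h1, h2] at this
  obtain ⟨y, y', hy, hy', hfy, hyf, hfy', hy'f, hyy⟩ : ∃ y y' : MonoidAlgebra k G,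
      cut (cosetSet C t 1) y = y ∧ cut (cosetSet C t (e - 1)) y' = y' ∧ f * y = y ∧ y * f = y ∧
        f * y' = y' ∧ y' * f = y' ∧ c0 (y * y') ≠ 0 := by
    set T := MonoidAlgebra.single t (1 : k)
    set T' := MonoidAlgebra.single t⁻¹ (1 : k)
    have hT : cut (cosetSet C t 1) T = T := cut_single_self (by simp [cosetSet]) 1
    have hT' : cut (cosetSet C t (e - 1)) T' = T' := cut_single_self (by
      show (t ^ (e - 1))⁻¹ * t⁻¹ ∈ C
      rw [← mul_inv_rev, ← pow_succ', show e - 1 + 1 = e by omega]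
      exact C.inv_mem ((hte e).2 dvd_rfl)) 1
    have hs1 : ∀ l, cut (cosetSet C t 1) (f * (T * al l) * f) = f * (T * al l) * f := fun l =>
      hmul (i := 1) (j := 0) (hmul (i := 0) (j := 1) (hC0 hf)
        (hmul (i := 1) (j := 0) hT (hC0 (hal l)))) (hC0 hf)
    have hs2 : ∀ l, cut (cosetSet C t (e - 1)) (f * (bl l * T') * f) = f * (bl l * T') * f :=
      fun l => by
      have h' := hmul (i := 0) (j := e - 1) (hC0 (hbl l)) hT'
      rw [Nat.zero_add] at h'
      have h := hmul (i := 0) (j := e - 1) (hC0 hf) h'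
      rw [Nat.zero_add] at h
      exact hmul (i := e - 1) (j := 0) h (hC0 hf)
    by_contra hno
    have hzero : ∀ l, c0 (f * (T * al l) * f * (f * (bl l * T') * f)) = 0 := fun l => by
      by_contra h
      refine hno ⟨_, _, hs1 l, hs2 l, ?_, ?_, ?_, ?_, h⟩ <;>
        simp only [← mul_assoc, hff] <;> simp only [mul_assoc, hff]
    refine one_ne_zero (α := k) ?_
    rw [← hc0f, show f = ∑ l, f * (T * al l) * f * (f * (bl l * T') * f) from ?_, map_sum,
      Finset.sum_eq_zero fun l _ => hzero l]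
    have hTT : T * T' = 1 := by
      rw [MonoidAlgebra.single_mul_single, mul_inv_cancel, one_mul, MonoidAlgebra.one_def]
    have e1 : ∀ l, f * (T * al l) * f * (f * (bl l * T') * f) =
        f * T * (al l * f * bl l) * T' * f := fun l => by
      simp only [← mul_assoc]
      rw [mul_assoc (f * T * al l) f f, hff]
    simp only [e1]
    rw [← Finset.sum_mul, ← Finset.sum_mul, ← Finset.mul_sum, ← hdec, mul_assoc f T ε, hεt,
      ← mul_assoc, mul_assoc (f * ε) T T', hTT, mul_one, mul_assoc f ε f, hεf, hff]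
  have hyy' : y * y' ∈ X := hspan' _ (1 + (e - 1)) (by rw [show 1 + (e - 1) = e by omega])
    (hmul hy hy') (by rw [← mul_assoc, hfy]) (by rw [mul_assoc, hy'f])
  obtain ⟨r', hr', hrr⟩ := hinv _ hyy' hyy
  have hye : ∀ i, cut (cosetSet C t i) (y ^ i) = y ^ i := fun i => by
    induction i with
    | zero => rw [pow_zero, cosetSet_zero, cut_one]
    | succ i ih => rw [pow_succ]; exact hmul ih hy
  have hfyi : ∀ i, 0 < i → f * y ^ i = y ^ i ∧ y ^ i * f = y ^ i := fun i hi => by
    obtain ⟨i, rfl⟩ : ∃ j, i = j + 1 := ⟨i - 1, by omega⟩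
    exact ⟨by rw [pow_succ', ← mul_assoc, hfy], by rw [pow_succ, mul_assoc, hyf]⟩
  have hyeX : y ^ e ∈ X := hspan' _ e dvd_rfl (hye e) (hfyi e he0).1 (hfyi e he0).2
  have hc : c0 (y ^ e) ≠ 0 := fun h0 => by
    obtain ⟨w, hw, hwe⟩ := hsplit _ hyeX
    rw [h0, zero_smul, zero_add] at hwe
    refine hf0 ?_
    set z := y' * r' with hz
    have hyz : y * z = f := by rw [hz, ← mul_assoc, hrr]
    have hfz : f * z = z := by rw [hz, ← mul_assoc, hfy']
    have h1 : ∀ i, y ^ i * (z ^ i * f) = f := fun i => by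
      induction i with
      | zero => rw [pow_zero, pow_zero, one_mul, one_mul]
      | succ i ih =>
        rw [pow_succ y, pow_succ' z, mul_assoc (y ^ i), mul_assoc z, ← mul_assoc y z, hyz]
        have : f * (z ^ i * f) = z ^ i * f := by
          rcases i with _ | i
          · rw [pow_zero, one_mul, hff]
          · rw [pow_succ', mul_assoc, ← mul_assoc f, hfz]
        rw [this, ih]
    rw [← h1 (e * m₀), pow_mul, hwe, (show Commute x₀ w from (hXmul x₀ hxX w hw).2).mul_pow, hm₀,
      zero_mul, zero_mul]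
  obtain ⟨lam, hlam⟩ := IsAlgClosed.exists_pow_nat_eq (c0 (y ^ e) ^ q)⁻¹ he0
  set u := lam • y ^ q with hu
  have hfu : f * u = u := by rw [hu, mul_smul_comm, (hfyi q (Nat.pos_of_ne_zero hq0)).1]
  have huf : u * f = u := by rw [hu, smul_mul_assoc, (hfyi q (Nat.pos_of_ne_zero hq0)).2]
  have hue : u ^ e = f := by
    rw [hu, smul_pow, ← pow_mul, mul_comm q e, pow_mul, hrq _ hyeX, smul_smul, hlam,
      inv_mul_cancel₀ (pow_ne_zero _ hc), one_smul]
  have hut : cut (cosetSet C t 1) u = u := by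
    rw [hu, cut_smul]
    congr 1
    have hset : cosetSet C t q = cosetSet C t 1 := by
      have hq : t ^ (q - 1) ∈ C := (hte _).2 hq1
      have e1 : t ^ q = t * t ^ (q - 1) := by rw [← pow_succ', show q - 1 + 1 = q by omega]
      ext g
      simp only [cosetSet, Set.mem_setOf_eq, pow_one, e1, mul_inv_rev, mul_assoc]
      exact ⟨fun h => by simpa [mul_assoc] using C.mul_mem hq h, fun h => C.mul_mem (C.inv_mem hq) h⟩
    rw [← hset]
    exact hye q
  clear_value u
  have hui : ∀ i, cut (cosetSet C t i) (u ^ i * f) = u ^ i * f := fun i => by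
    induction i with
    | zero => rw [pow_zero, one_mul]; exact hC0 hf
    | succ i ih => rw [pow_succ', mul_assoc, add_comm]; exact hmul hut ih
  have hufi : ∀ i, f * (u ^ i * f) = u ^ i * f := fun i => by
    induction i with
    | zero => rw [pow_zero, one_mul, hff]
    | succ i ih => rw [pow_succ', mul_assoc, ← mul_assoc f, hfu]
  have hue' : ∀ i, i ≤ e → (u ^ (e - i) * f) * (u ^ i * f) = f := fun i hi => by
    rw [mul_assoc, hufi, ← mul_assoc, ← pow_add, Nat.sub_add_cancel hi, hue, hff]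
  -- conjugation by `u`
  set α : MonoidAlgebra k G → MonoidAlgebra k G := fun r => u * r * (u ^ (e - 1) * f) with hα
  have hαX : ∀ r ∈ X, α r ∈ X := fun r hr => by
    refine hspan' _ (1 + 0 + (e - 1)) (by rw [show 1 + 0 + (e - 1) = e by omega])
      (hmul (hmul hut (hC0 (hXfix r hr).2.2)) (hui _)) ?_ ?_
    · simp only [hα, ← mul_assoc, hfu]
    · simp only [hα, mul_assoc, hff]
  have hvu : (u ^ (e - 1) * f) * u = f := by
    rw [mul_assoc, hfu, ← pow_succ, show e - 1 + 1 = e by omega, hue]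
  have hαmul : ∀ r ∈ X, ∀ s ∈ X, α (r * s) = α r * α s := fun r hr s hs => by
    simp only [hα]
    rw [show u * r * (u ^ (e - 1) * f) * (u * s * (u ^ (e - 1) * f)) =
      u * r * ((u ^ (e - 1) * f) * u) * s * (u ^ (e - 1) * f) by simp only [mul_assoc], hvu,
      mul_assoc (u * r) f s, (hXfix s hs).1, ← mul_assoc u r s]
  have huv : u * (u ^ (e - 1) * f) = f := by
    rw [← mul_assoc, ← pow_succ', show e - 1 + 1 = e by omega, hue, hff]
  have hαf : α f = f := by simp only [hα, huf, huv]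
  have hαx : IsNilpotent (α x₀) := by
    have h1 : ∀ i, α x₀ ^ i * f = α (x₀ ^ i * f) := fun i => by
      induction i with
      | zero => rw [pow_zero, one_mul, pow_zero, one_mul, hαf]
      | succ i ih =>
        rw [pow_succ', mul_assoc, ih, ← hαmul _ hxX _ (Submodule.subset_span ⟨i, rfl⟩),
          ← mul_assoc, ← pow_succ']
    refine ⟨m₀ + 1, ?_⟩
    have h3 := h1 (m₀ + 1)
    rw [pow_succ x₀, hm₀, zero_mul, zero_mul, pow_succ, mul_assoc,
      (hXfix _ (hαX _ hxX)).2.1, ← pow_succ] at h3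
    rw [h3]
    simp [hα]
  obtain ⟨w₁, hw₁, hαx₁⟩ := hsplit _ (hαX _ hxX)
  rw [hc0nil _ (hαX _ hxX) hαx, zero_smul, zero_add] at hαx₁
  set ω := c0 w₁ with hω
  obtain ⟨w₂, hw₂, hw₁₂⟩ := hsplit w₁ hw₁
  have hαlin : ∀ (c : k) (r s : MonoidAlgebra k G), α (c • r + s) = c • α r + α s := fun c r s => by
    simp only [hα, mul_add, add_mul, mul_smul_comm, smul_mul_assoc]
  have hαi : ∀ i, ∃ w ∈ X, (α^[i]) x₀ = ω ^ i • x₀ + x₀ * (x₀ * w) := by
    intro i
    induction i with
    | zero => exact ⟨0, zero_mem _, by simp⟩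
    | succ i ih =>
      obtain ⟨w, hw, hwi⟩ := ih
      rw [Function.iterate_succ_apply', hwi]
      have hxw := (hXmul x₀ hxX w hw).1
      have h2 : α (x₀ * (x₀ * w)) = x₀ * (x₀ * (w₁ * (w₁ * α w))) := by
        rw [hαmul _ hxX _ hxw, hαmul _ hxX _ hw, hαx₁, mul_assoc x₀ w₁, ← mul_assoc w₁ (x₀ * w₁),
          ← mul_assoc w₁ x₀ w₁, (hXmul w₁ hw₁ x₀ hxX).2]
        simp only [mul_assoc]
      refine ⟨ω ^ i • w₂ + w₁ * (w₁ * α w), add_mem (Submodule.smul_mem _ _ hw₂)
        (hXmul _ hw₁ _ (hXmul _ hw₁ _ (hαX _ hw)).1).1, ?_⟩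
      rw [hαlin, h2]
      conv_lhs => rw [hαx₁, hw₁₂]
      rw [mul_add x₀, mul_smul_comm, hxf, smul_add, smul_smul, ← hω, ← pow_succ, ← hw₁₂]
      simp only [mul_add, mul_smul_comm]
      abel
  have hαiu : ∀ i, i ≤ e → (α^[i]) x₀ = u ^ i * f * x₀ * (u ^ (e - i) * f) := fun i => by
    induction i with
    | zero => intro _; rw [Function.iterate_zero_apply, pow_zero, one_mul, hfx, Nat.sub_zero, hue,
        hff, hxf]
    | succ i ih =>
      intro hi
      rw [Function.iterate_succ_apply', ih (by omega)]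
      simp only [hα]
      rw [show u * (u ^ i * f * x₀ * (u ^ (e - i) * f)) * (u ^ (e - 1) * f) =
        (u * (u ^ i * f)) * x₀ * (u ^ (e - i) * (f * (u ^ (e - 1) * f))) by simp only [mul_assoc],
        hufi, ← mul_assoc u, ← pow_succ', ← mul_assoc (u ^ (e - i)), ← pow_add,
        show e - i + (e - 1) = (e - (i + 1)) + e by omega, pow_add u (e - (i + 1)) e, hue, mul_assoc _ f f, hff]
  have hαe : (α^[e]) x₀ = x₀ := by
    rw [hαiu e le_rfl, Nat.sub_self, pow_zero, one_mul, hue, hff, hfx, hxf]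
  have hx2 : ∀ w ∈ X, x₀ ≠ x₀ * (x₀ * w) := fun w hw h => hx0 (by
    have hc : Commute x₀ w := (hXmul x₀ hxX w hw).2
    have hpow : ∀ i, x₀ = x₀ ^ (i + 1) * w ^ i := fun i => by
      induction i with
      | zero => rw [pow_zero, mul_one, pow_one]
      | succ i ih =>
        calc x₀ = x₀ * (x₀ * w) := h
          _ = (x₀ ^ (i + 1) * w ^ i) * (x₀ * w) := by rw [← ih]
          _ = _ := by
            rw [mul_assoc, ← mul_assoc (w ^ i), (hc.symm.pow_left i).eq, mul_assoc x₀,
              ← mul_assoc, ← pow_succ, ← pow_succ]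
    rw [hpow m₀, pow_succ, hm₀, zero_mul, zero_mul])
  have hωe : ω ^ e = 1 := by
    by_contra hne
    obtain ⟨w, hw, hwe⟩ := hαi e
    rw [hαe] at hwe
    refine hx2 ((1 - ω ^ e)⁻¹ • w) (Submodule.smul_mem _ _ hw) ?_
    rw [mul_smul_comm, mul_smul_comm, show x₀ * (x₀ * w) = (1 - ω ^ e) • x₀ by
      rw [sub_smul, one_smul]; exact eq_sub_of_add_eq' hwe.symm, smul_smul,
      inv_mul_cancel₀ (sub_ne_zero.2 (Ne.symm hne)), one_smul]
  have hω0 : ω ≠ 0 := fun h => by rw [h, zero_pow he0.ne'] at hωe; exact zero_ne_one hωe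
  have hek : (e : k) ≠ 0 := fun h => by
    have h1 := Nat.le_of_dvd (by have := hp.two_le; omega) hep
    have h2 := Nat.le_of_dvd he0 ((CharP.cast_eq_zero_iff k p e).1 h)
    have := hp.two_le
    omega
  -- the eigengenerator
  set x := ∑ i ∈ Finset.range e, ω⁻¹ ^ i • (α^[i]) x₀ with hxdef
  choose wi hwi hwi' using hαi
  obtain ⟨w', hw', hw'0, hxw⟩ : ∃ w' ∈ X, c0 w' ≠ 0 ∧ x = x₀ * w' := by
    refine ⟨(e : k) • f + x₀ * ∑ i ∈ Finset.range e, ω⁻¹ ^ i • wi i, add_mem
      (Submodule.smul_mem _ _ hfX) (hXmul _ hxX _ (Submodule.sum_mem _ fun i _ =>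
        Submodule.smul_mem _ _ (hwi i))).1, ?_, ?_⟩
    · rw [map_add, map_smul, hc0f, hc0mul _ (Submodule.sum_mem _ fun i _ =>
        Submodule.smul_mem _ _ (hwi i)), smul_eq_mul, mul_one, add_zero]
      exact hek
    · rw [hxdef, Finset.sum_congr rfl fun i _ => by
        rw [hwi', smul_add, smul_smul, ← mul_pow, inv_mul_cancel₀ hω0, one_pow, one_smul],
        Finset.sum_add_distrib, Finset.sum_const, Finset.card_range, mul_add, mul_smul_comm, hxf,
        Nat.cast_smul_eq_nsmul]
      simp only [Finset.mul_sum, mul_smul_comm]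
  obtain ⟨w'', hw'', hww⟩ := hinv w' hw' hw'0
  have hcomm : Commute x₀ w' := (hXmul x₀ hxX w' hw').2
  have hxX' : x ∈ X := hxw ▸ (hXmul x₀ hxX w' hw').1
  have hx0' : x₀ = x * w'' := by rw [hxw, mul_assoc, hww, hxf]
  have hxfix := hXfix x hxX'
  set Y := Submodule.span k (Set.range fun i : ℕ => x ^ i * f) with hY
  have hxYi : ∀ s ∈ Y, x * s ∈ Y := fun s hs => by
    induction hs using Submodule.span_induction with
    | zero => simp
    | add a b _ _ ha hb => rw [mul_add]; exact add_mem ha hb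
    | smul c a _ ha => rw [mul_smul_comm]; exact Submodule.smul_mem _ _ ha
    | mem a ha =>
      obtain ⟨i, rfl⟩ := ha
      exact Submodule.subset_span ⟨i + 1, by simp only [← mul_assoc, ← pow_succ']⟩
  have hXY : ∀ m, ∀ r ∈ X, ∃ s ∈ Y, ∃ r₁ ∈ X, r = s + x ^ m * r₁ := by
    intro m
    induction m with
    | zero => exact fun r hr => ⟨0, zero_mem _, r, hr, by rw [pow_zero, one_mul, zero_add]⟩
    | succ m ih =>
      intro r hr
      obtain ⟨w, hw, hrw⟩ := hsplit r hr
      obtain ⟨s, hs, r₁, hr₁, hsr⟩ := ih (w'' * w) (hXmul _ hw'' _ hw).1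
      refine ⟨c0 r • f + x * s, add_mem (Submodule.smul_mem _ _ (Submodule.subset_span
        ⟨0, by simp⟩)) (hxYi s hs), r₁, hr₁, ?_⟩
      conv_lhs => rw [hrw, hx0', mul_assoc, hsr]
      rw [mul_add, ← mul_assoc, ← pow_succ', add_assoc]
  have hexm : ∃ m, x₀ ^ m * f = 0 := ⟨m₀, by rw [hm₀, zero_mul]⟩
  set N := Nat.find hexm with hN
  have hN2 : 2 ≤ N := by
    by_contra hlt
    have hspec := Nat.find_spec hexm
    rw [← hN] at hspec
    rcases (show N = 0 ∨ N = 1 by omega) with h | h <;> rw [h] at hspec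
    · exact hf0 (by simpa using hspec)
    · exact hx0 (by rwa [pow_one, hxf] at hspec)
  have hxN : x ^ N = 0 := by
    have h1 : x₀ ^ N = 0 := by
      obtain ⟨N', hN'⟩ : ∃ N', N = N' + 1 := ⟨N - 1, by omega⟩
      have hspec := Nat.find_spec hexm
      rw [← hN, hN'] at hspec
      rw [hN', ← hspec, pow_succ, mul_assoc, hxf]
    rw [hxw, hcomm.mul_pow, h1, zero_mul]
  have hxtop : x ^ (N - 1) * f ≠ 0 := fun h => by
    refine Nat.find_min hexm (show N - 1 < N by omega) ?_
    have hc' : Commute x w'' := (hXmul x hxX' w'' hw'').2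
    rw [hx0', hc'.mul_pow, (hc'.pow_pow (N - 1) (N - 1)).eq, mul_assoc, h, mul_zero]
  have hYfin : ∀ r ∈ X, r ∈ Submodule.span k (Set.range fun i : Fin (N - 1 + 1) =>
      x ^ (i : ℕ) * f) := fun r hr => by
    obtain ⟨s, hs, r₁, -, rfl⟩ := hXY N r hr
    rw [hxN, zero_mul, add_zero]
    refine Submodule.span_le.2 ?_ hs
    rintro _ ⟨i, rfl⟩
    by_cases hi : i < N
    · exact Submodule.subset_span ⟨⟨i, by omega⟩, rfl⟩
    · obtain ⟨d, rfl⟩ := Nat.exists_eq_add_of_le (not_lt.1 hi)
      simp only [pow_add, hxN, zero_mul]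
      exact zero_mem _
  have hux : u * x = ω • (x * u) := by
    rw [hxdef, Finset.mul_sum, Finset.sum_mul, Finset.smul_sum]
    have e1 : ∀ i < e, u * (ω⁻¹ ^ i • (α^[i]) x₀) =
        ω • (ω⁻¹ ^ (i + 1) • (α^[i + 1]) x₀ * u) := fun i hi => by
      rw [Function.iterate_succ_apply', mul_smul_comm, smul_mul_assoc, smul_smul, pow_succ',
        ← mul_assoc ω, mul_inv_cancel₀ hω0, one_mul]
      congr 1
      simp only [hα]
      rw [mul_assoc (u * (α^[i]) x₀), hvu, mul_assoc u]
      congr 1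
      rw [hαiu i hi.le]
      simp only [mul_assoc, hff]
    rw [Finset.sum_congr rfl fun i hi => e1 i (Finset.mem_range.1 hi), ← Finset.smul_sum,
      ← Finset.smul_sum]
    congr 1
    have h1 := Finset.sum_range_succ' (fun i => ω⁻¹ ^ i • (α^[i]) x₀ * u) e
    rw [Finset.sum_range_succ, hαe, inv_pow, hωe, inv_one, pow_zero,
      Function.iterate_zero_apply] at h1
    exact (add_right_cancel h1).symm
  refine ⟨x, u, c0, ω, N - 1,
    { cutf := hf
      cutx := hxfix.2.2
      hff := hff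
      hfx := hxfix.1
      hxf := hxfix.2.1
      hfu := hfu
      huf := huf
      hux := hux
      hue := hue
      he0 := he0
      hek := hek
      hn := by omega
      htop := hxtop
      hnil := by rw [show N - 1 + 1 = N by omega]; exact hxN
      spanC := fun a ha => hYfin _ (hspan a ha)
      spanH := fun a ha => ?_
      hc0 := hc0f
      hc0x := fun i => ?_ }, hui, fun a ha h0 b hb => ?_⟩
  · -- the cosets
    have hsum : a = ∑ i ∈ Finset.range e, cut (cosetSet C t i) a := by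
      apply MonoidAlgebra.ext
      ext g
      rw [MonoidAlgebra.coeff_sum, Finsupp.finsetSum_apply]
      by_cases hg : g ∈ H
      · obtain ⟨i, hi, hgi⟩ := hgen g hg
        rw [Finset.sum_eq_single i (fun j hj hji => ?_)
          (fun h => absurd (Finset.mem_range.2 hi) h),
          coeff_cut_of_mem a (show g ∈ cosetSet C t i from hgi)]
        refine coeff_cut_of_notMem a fun hgj => hji ?_
        have hj' := Finset.mem_range.1 hj
        have h1 : (t ^ i)⁻¹ * t ^ j ∈ C := by
          have := C.mul_mem hgi (C.inv_mem (show (t ^ j)⁻¹ * g ∈ C from hgj))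
          simpa [mul_assoc] using this
        rcases le_total i j with hij | hij
        · obtain ⟨d, rfl⟩ := Nat.exists_eq_add_of_le hij
          rw [pow_add, inv_mul_cancel_left] at h1
          have := Nat.eq_zero_of_dvd_of_lt ((hte d).1 h1) (by omega)
          omega
        · obtain ⟨d, rfl⟩ := Nat.exists_eq_add_of_le hij
          rw [pow_add, mul_inv_rev, mul_assoc, inv_mul_cancel, mul_one, inv_mem_iff] at h1
          have := Nat.eq_zero_of_dvd_of_lt ((hte d).1 h1) (by omega)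
          omega
      · rw [cut_eq_self_iff.1 ha g hg, Finset.sum_eq_zero]
        intro i _
        by_cases hgi : g ∈ cosetSet C t i
        · rw [coeff_cut_of_mem a hgi, cut_eq_self_iff.1 ha g hg]
        · exact coeff_cut_of_notMem a hgi
    rw [hsum, Finset.mul_sum, Finset.sum_mul]
    refine Submodule.sum_mem _ fun i hi => ?_
    have hie := Finset.mem_range.1 hi
    set b := f * cut (cosetSet C t i) a * f with hb
    have hbc : cut (cosetSet C t i) b = b :=
      hmul (i := i) (j := 0) (by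
        have h := hmul (i := 0) (j := i) (hC0 hf)
          (show cut (cosetSet C t i) (cut (cosetSet C t i) a) = cut (cosetSet C t i) a by
            rw [cut_cut, Set.inter_self])
        simpa using h) (hC0 hf)
    have hbu : b * (u ^ (e - i) * f) ∈ X := hspan' _ (i + (e - i))
      (by rw [show i + (e - i) = e by omega]) (hmul hbc (hui _))
      (by simp only [hb, ← mul_assoc, hff]) (by simp only [mul_assoc, hff])
    have hb' : b = b * (u ^ (e - i) * f) * (u ^ i * f) := by
      rw [mul_assoc, hue' i hie.le, hb, mul_assoc _ f f, hff]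
    rw [hb']
    obtain ⟨c, hc'⟩ := (Submodule.mem_span_range_iff_exists_fun k).1 (hYfin _ hbu)
    rw [← hc', Finset.sum_mul]
    refine Submodule.sum_mem _ fun l _ => ?_
    rw [smul_mul_assoc, mul_assoc, hufi]
    exact Submodule.smul_mem _ _ (Submodule.subset_span ⟨(l, ⟨i, hie⟩), rfl⟩)
  · have h := hXpow x hxX' i
    have e1 : x ^ (i + 1) * f = x₀ * (w' * (x ^ i * f)) := by
      rw [pow_succ', mul_assoc]
      conv_lhs => arg 1; rw [hxw]
      rw [mul_assoc]
    rw [e1]
    exact hc0mul _ (hXmul _ hw' _ h).1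
  · obtain ⟨r, hr, hrr'⟩ := hinv _ (hspan a ha) h0
    have h1 := congrArg (r * ·) hb
    simp only [← mul_assoc, mul_zero] at h1
    rw [show r * f * a * f = f * a * f * r from ?_, hrr'] at h1
    · exact h1
    · rw [(hXmul _ (hspan a ha) r hr).2]; simp only [mul_assoc]

end CfsgLib.Blocks
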