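import Cfsg.Agent.Lib.Blocks.OrbitSum

/-!
# Traces of idempotents of a group ring

Two vanishing results proved by counting cyclic words:
* the sum of the coefficients of an idempotent over a `p`-singular class vanishes;
* if an idempotent `f` commutes with a `p`-element `x` and its coefficients at elements commuting
  with `x` are topologically nilpotent, then every class function vanishes on `x * f`.
-/

namespace CfsgLib.Blocks

open Finset

section Words

variable {G : Type*} [Group G]

/-- The twisted periodic extension of a word of length `n + 1`. -/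
def extWord (x : G) {n : ℕ} (w : Fin (n + 1) → G) (i : ℕ) : G :=
  x ^ (i / (n + 1)) * w ⟨i % (n + 1), Nat.mod_lt _ n.succ_pos⟩ * (x ^ (i / (n + 1)))⁻¹

/-- Twisted rotation of a word. -/
def rotWord (x : G) {n : ℕ} (w : Fin (n + 1) → G) : Fin (n + 1) → G :=
  Fin.snoc (Fin.tail w) (x * w 0 * x⁻¹)

theorem extWord_fin (x : G) {n : ℕ} (w : Fin (n + 1) → G) (i : Fin (n + 1)) :
    extWord x w i = w i := by
  simp [extWord, Nat.div_eq_of_lt i.isLt, Nat.mod_eq_of_lt i.isLt]

theorem extWord_add_mul (x : G) {n : ℕ} (w : Fin (n + 1) → G) (i q : ℕ) :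
    extWord x w (i + q * (n + 1)) = x ^ q * extWord x w i * (x ^ q)⁻¹ := by
  simp only [extWord, Nat.add_mul_div_right _ _ n.succ_pos, Nat.add_mul_mod_self_right,
    add_comm _ q, pow_add, mul_inv_rev, mul_assoc]

theorem extWord_rot (x : G) {n : ℕ} (w : Fin (n + 1) → G) (i : ℕ) :
    extWord x (rotWord x w) i = extWord x w (i + 1) := by
  have key : ∀ r : Fin (n + 1), rotWord x w r = extWord x w (r + 1) := by
    intro r
    induction r using Fin.lastCases with
    | last =>
      have h : (Fin.last n : ℕ) + 1 = 0 + 1 * (n + 1) := by simp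
      rw [rotWord, Fin.snoc_last, h, extWord_add_mul]
      simp [extWord]
    | cast r =>
      rw [rotWord, Fin.snoc_castSucc, Fin.tail, ← extWord_fin x w r.succ]
      simp
  have hi : i + 1 = (i % (n + 1) + 1) + (i / (n + 1)) * (n + 1) := by
    have := Nat.mod_add_div i (n + 1)
    rw [mul_comm] at this
    omega
  conv_rhs => rw [hi, extWord_add_mul]
  rw [extWord, key]

theorem extWord_rot_iterate (x : G) {n : ℕ} (w : Fin (n + 1) → G) (k i : ℕ) :
    extWord x ((rotWord x)^[k] w) i = extWord x w (i + k) := by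
  induction k generalizing w i with
  | zero => simp
  | succ k ih => rw [Function.iterate_succ_apply, ih, extWord_rot, add_assoc]

theorem rot_iterate_apply (x : G) {n : ℕ} (w : Fin (n + 1) → G) (k : ℕ) (i : Fin (n + 1)) :
    (rotWord x)^[k] w i = extWord x w (i + k) := by
  rw [← extWord_rot_iterate, extWord_fin]

theorem rot_iterate_mul (x : G) {n : ℕ} (w : Fin (n + 1) → G) (q : ℕ) (i : Fin (n + 1)) :
    (rotWord x)^[q * (n + 1)] w i = x ^ q * w i * (x ^ q)⁻¹ := by
  rw [rot_iterate_apply, extWord_add_mul, extWord_fin]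

/-- The twisted rotation as a permutation of the words. -/
def rotPerm (x : G) (n e : ℕ) (he : x ^ e = 1) (he0 : 0 < e) : Equiv.Perm (Fin (n + 1) → G) where
  toFun := rotWord x
  invFun := (rotWord x)^[e * (n + 1) - 1]
  left_inv w := by
    show (rotWord x)^[e * (n + 1) - 1] (rotWord x w) = w
    rw [← Function.iterate_succ_apply, Nat.succ_eq_add_one,
      Nat.sub_add_cancel (Nat.one_le_iff_ne_zero.2 (Nat.mul_pos he0 n.succ_pos).ne')]
    ext i
    rw [rot_iterate_mul, he]
    simp
  right_inv w := by
    show rotWord x ((rotWord x)^[e * (n + 1) - 1] w) = w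
    rw [← Function.iterate_succ_apply' (rotWord x), Nat.succ_eq_add_one,
      Nat.sub_add_cancel (Nat.one_le_iff_ne_zero.2 (Nat.mul_pos he0 n.succ_pos).ne')]
    ext i
    rw [rot_iterate_mul, he]
    simp

theorem prod_rotWord (x : G) {n : ℕ} (w : Fin (n + 1) → G) :
    x * (List.ofFn (rotWord x w)).prod =
      x * (x * w 0)⁻¹ * (x * (List.ofFn w).prod) * (x * (x * w 0)⁻¹)⁻¹ ∧
    x * (List.ofFn w).prod = x * w 0 * (List.ofFn (Fin.tail w)).prod := by
  have h1 : (List.ofFn w).prod = w 0 * (List.ofFn (Fin.tail w)).prod := by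
    rw [List.ofFn_succ, List.prod_cons]; rfl
  have h2 : (List.ofFn (rotWord x w)).prod = (List.ofFn (Fin.tail w)).prod * (x * w 0 * x⁻¹) := by
    rw [List.ofFn_succ', List.prod_concat]
    simp [rotWord]
  constructor
  · rw [h1, h2]; group
  · rw [h1, mul_assoc]

theorem prod_periodic {n q k : ℕ} (w : Fin (n + 1) → G) (hn : n + 1 = k * q)
    (hw : (rotWord (1 : G))^[q] w = w) :
    ∃ y, (List.ofFn w).prod = y ^ k := by
  have hper : ∀ i, extWord (1 : G) w (i + q) = extWord 1 w i := fun i => by
    rw [← extWord_rot_iterate, hw]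
  have hper' : ∀ j i, extWord (1 : G) w (i + j * q) = extWord 1 w i := by
    intro j
    induction j with
    | zero => simp
    | succ j ih => intro i; rw [add_mul, one_mul, ← add_assoc, hper, ih]
  refine ⟨(List.ofFn fun i : Fin q => extWord 1 w i).prod, ?_⟩
  have : List.ofFn w = List.ofFn fun i : Fin (k * q) => extWord (1 : G) w i := by
    rw [List.ofFn_congr hn.symm]
    congr 1
    ext i
    exact (extWord_fin 1 w _).symm.trans rfl
  rw [this, List.ofFn_mul, List.prod_flatten, List.map_ofFn]
  have : (List.prod ∘ fun i : Fin k => List.ofFn fun j : Fin q => extWord (1 : G) w (i * q + j)) =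
      fun _ => (List.ofFn fun i : Fin q => extWord (1 : G) w i).prod := by
    funext i
    simp only [Function.comp]
    congr 2
    funext j
    rw [add_comm, hper']
  rw [this, List.ofFn_const, List.prod_replicate]

end Words

section Expansion

variable {G R : Type*} [Group G] [Fintype G] [CommRing R]

omit [Group G] in
theorem sum_single_coeff (f : MonoidAlgebra R G) :
    f = ∑ g, MonoidAlgebra.single g (f.coeff g) := by
  classical
  apply MonoidAlgebra.ext
  ext h
  simp

theorem pow_eq_sum_words (f : MonoidAlgebra R G) (N : ℕ) :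
    f ^ N = ∑ w : Fin N → G,
      MonoidAlgebra.single (List.ofFn w).prod (∏ i, f.coeff (w i)) := by
  induction N with
  | zero => simp [MonoidAlgebra.one_def]
  | succ N ih =>
    rw [pow_succ', ih]
    conv_lhs => rw [sum_single_coeff f]
    rw [Finset.sum_mul_sum, ← (Fin.consEquiv fun _ => G).sum_comp, Fintype.sum_prod_type]
    refine Finset.sum_congr rfl fun g _ => Finset.sum_congr rfl fun w _ => ?_
    rw [MonoidAlgebra.single_mul_single]
    simp [Fin.consEquiv, List.ofFn_succ, Fin.prod_univ_succ]

theorem trace_eq_sum_words {f : MonoidAlgebra R G} (hf : f * f = f) (θ : G → R) (n : ℕ) :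
    ∑ g, θ g * f.coeff g = ∑ w : Fin (n + 1) → G, θ (List.ofFn w).prod * ∏ i, f.coeff (w i) := by
  classical
  have hpow : ∀ m, f ^ (m + 1) = f := by
    intro m
    induction m with
    | zero => simp
    | succ m ih => rw [pow_succ, ih, hf]
  conv_lhs => rw [← hpow n, pow_eq_sum_words]
  have : ∀ g, (∑ w : Fin (n + 1) → G,
      MonoidAlgebra.single (List.ofFn w).prod (∏ i, f.coeff (w i))).coeff g =
      ∑ w : Fin (n + 1) → G, if (List.ofFn w).prod = g then ∏ i, f.coeff (w i) else 0 := by
    intro g
    simp [Finsupp.finsetSum_apply, Finsupp.single_apply]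
  simp only [this, Finset.mul_sum]
  rw [Finset.sum_comm]
  simp [mul_ite]

/-- **Vanishing of idempotents on singular classes**: if a class function vanishes at every
`p`-regular element, its value at an idempotent of the group ring is zero. -/
theorem trace_idempotent_eq_zero_of_regular {p : ℕ} (hp : p.Prime)
    (hR : ∀ r : R, (∀ n : ℕ, (p : R) ^ n ∣ r) → r = 0)
    {f : MonoidAlgebra R G} (hf : f * f = f) (θ : G → R)
    (hθ : ∀ g h, θ (h * g * h⁻¹) = θ g) (hreg : ∀ g, ¬ p ∣ orderOf g → θ g = 0) :
    ∑ g, θ g * f.coeff g = 0 := by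
  refine hR _ fun j => ?_
  set a := (Nat.card G).factorization p
  have hN : 0 < p ^ (a + j) := pow_pos hp.pos _
  obtain ⟨n, hn⟩ := Nat.exists_eq_add_of_le hN
  rw [trace_eq_sum_words hf θ n]
  set σ := rotPerm (1 : G) n 1 (one_pow _) one_pos with hσdef
  refine pow_dvd_sum_of_perm hp (a + j) j σ ?_ _ ?_ ?_
  · ext w i
    rw [Equiv.Perm.coe_pow]
    show (rotWord (1 : G))^[p ^ (a + j)] w i = w i
    have h1 : p ^ (a + j) = 1 * (n + 1) := by omega
    rw [h1, rot_iterate_mul]
    simp
  · intro w
    show θ (List.ofFn (rotWord 1 w)).prod * ∏ i, f.coeff (rotWord 1 w i) = _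
    congr 1
    · have := (prod_rotWord (1 : G) w).1
      simp only [one_mul] at this
      rw [this, hθ]
    · rw [Fin.prod_univ_succ (f := fun i => f.coeff (w i)), Fin.prod_univ_castSucc]
      simp [rotWord, Fin.tail, mul_comm]
  · intro w hw
    rw [Equiv.Perm.coe_pow] at hw
    replace hw : (rotWord (1 : G))^[p ^ (j - 1)] w = w := hw
    have hle : j - 1 ≤ a + j := by omega
    obtain ⟨y, hy⟩ := prod_periodic (k := p ^ (a + j - (j - 1))) w
      (by rw [← pow_add, Nat.sub_add_cancel hle]; omega) hw
    rw [hy, hreg, zero_mul]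
    · exact dvd_zero _
    intro hdvd
    obtain ⟨b, hb⟩ : ∃ b, a + j - (j - 1) = a + b := ⟨_, (Nat.add_sub_of_le (by omega)).symm⟩
    have hyo : orderOf y ∣ Nat.card G := orderOf_dvd_natCard y
    have hcard : p ^ a * (Nat.card G / p ^ a) = Nat.card G := Nat.ordProj_mul_ordCompl_eq_self _ _
    have h1 : orderOf (y ^ p ^ (a + j - (j - 1))) ∣ Nat.card G / p ^ a := by
      rw [orderOf_dvd_iff_pow_eq_one, ← pow_mul, hb, pow_add, mul_assoc, mul_comm (p ^ b),
        ← mul_assoc, hcard, pow_mul, pow_card_eq_one', one_pow]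
    exact Nat.not_dvd_ordCompl hp Nat.card_pos.ne' (hdvd.trans h1)

/-- **Twisted vanishing**: if the idempotent `f` commutes with the `p`-element `x` and its
coefficients at elements commuting with `x` have a power divisible by `p`, then every class
function vanishes on `x * f`. -/
theorem trace_twisted_idempotent_eq_zero {p : ℕ} (hp : p.Prime)
    (hR : ∀ r : R, (∀ n : ℕ, (p : R) ^ n ∣ r) → r = 0)
    {f : MonoidAlgebra R G} (hf : f * f = f) {x : G} (hx : ∃ k : ℕ, x ^ p ^ k = 1)
    (hinv : ∀ g, f.coeff (x * g * x⁻¹) = f.coeff g)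
    (hnil : ∀ g, x * g = g * x → ∃ m : ℕ, (p : R) ∣ f.coeff g ^ m)
    (θ : G → R) (hθ : ∀ g h, θ (h * g * h⁻¹) = θ g) :
    ∑ g, θ (x * g) * f.coeff g = 0 := by
  classical
  obtain ⟨k, hk⟩ := hx
  choose m hm using hnil
  set μ : ℕ := ∑ g, if h : x * g = g * x then m g h else 0 with hμ
  have hμm : ∀ g, x * g = g * x → (p : R) ∣ f.coeff g ^ μ := by
    intro g hg
    refine (hm g hg).trans (pow_dvd_pow _ ?_)
    rw [hμ]
    refine le_trans (le_of_eq ?_) (Finset.single_le_sum (fun _ _ => Nat.zero_le _) (Finset.mem_univ g))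
    rw [dif_pos hg]
  refine hR _ fun j => ?_
  set L := max j ((j * μ + 1) * Fintype.card G) with hL
  have hN : 0 < p ^ L := pow_pos hp.pos _
  obtain ⟨n, hn⟩ := Nat.exists_eq_add_of_le hN
  rw [trace_eq_sum_words hf (fun g => θ (x * g)) n]
  set σ := rotPerm x n (p ^ k) hk (pow_pos hp.pos _) with hσdef
  refine pow_dvd_sum_of_perm hp (L + k) j σ ?_ _ ?_ ?_
  · ext w i
    rw [Equiv.Perm.coe_pow]
    show (rotWord x)^[p ^ (L + k)] w i = w i
    have h1 : p ^ (L + k) = p ^ k * (n + 1) := by
      rw [pow_add, mul_comm]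
      congr 1
      omega
    rw [h1, rot_iterate_mul, hk]
    simp
  · intro w
    show θ (x * (List.ofFn (rotWord x w)).prod) * ∏ i, f.coeff (rotWord x w i) = _
    congr 1
    · rw [(prod_rotWord x w).1, hθ]
    · rw [Fin.prod_univ_succ (f := fun i => f.coeff (w i)), Fin.prod_univ_castSucc]
      simp [rotWord, Fin.tail, hinv, mul_comm]
  · intro w hw
    rw [Equiv.Perm.coe_pow] at hw
    replace hw : (rotWord x)^[p ^ (j - 1)] w = w := hw
    -- `w` consists of elements commuting with `x`
    have hfix : ∀ i, x * w i = w i * x := by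
      intro i
      have hd : p ^ (j - 1) ∣ n + 1 := by
        rw [show n + 1 = p ^ L by omega]
        exact pow_dvd_pow p (by omega)
      obtain ⟨c, hc⟩ := hd
      have h2 : (rotWord x)^[1 * (n + 1)] w = w := by
        rw [show 1 * (n + 1) = p ^ (j - 1) * c by omega, Function.iterate_mul]
        exact Function.iterate_fixed hw c
      have h3 := congrFun h2 i
      rw [rot_iterate_mul, pow_one] at h3
      exact mul_inv_eq_iff_eq_mul.1 h3
    refine Dvd.dvd.mul_left ?_ _
    have hsize : (j * μ + 1) * Fintype.card G ≤ n + 1 := by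
      calc (j * μ + 1) * Fintype.card G ≤ L := le_max_right _ _
        _ ≤ p ^ L := (Nat.lt_pow_self hp.one_lt).le
        _ = n + 1 := by omega
    -- some letter occurs often
    obtain ⟨g, hg⟩ : ∃ g, j * μ + 1 ≤ (Finset.univ.filter fun i => w i = g).card := by
      by_contra hcon
      simp only [not_exists, not_le] at hcon
      have h1 : n + 1 = ∑ g, (Finset.univ.filter fun i => w i = g).card := by
        rw [← Finset.card_eq_sum_card_fiberwise (fun i _ => Finset.mem_univ (w i))]
        simp
      have h2 : ∑ g, (Finset.univ.filter fun i => w i = g).card < (j * μ + 1) * Fintype.card G := by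
        refine lt_of_lt_of_eq (Finset.sum_lt_sum_of_nonempty ⟨1, Finset.mem_univ _⟩
          (g := fun _ : G => j * μ + 1) fun g _ => hcon g) ?_
        rw [Finset.sum_const, Finset.card_univ, smul_eq_mul, mul_comm]
      omega
    have hgc : x * g = g * x := by
      obtain ⟨i, hi⟩ := Finset.card_pos.1 (lt_of_lt_of_le (Nat.succ_pos _) hg)
      rw [← (Finset.mem_filter.1 hi).2]
      exact hfix i
    rw [← Finset.prod_filter_mul_prod_filter_not Finset.univ (fun i => w i = g)]
    refine Dvd.dvd.mul_right ?_ _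
    rw [Finset.prod_congr rfl (g := fun _ => f.coeff g) (fun i hi => by rw [(Finset.mem_filter.1 hi).2]),
      Finset.prod_const]
    refine dvd_trans ?_ (pow_dvd_pow (f.coeff g) (Nat.le_of_succ_le hg))
    rw [mul_comm, pow_mul]
    exact pow_dvd_pow_of_dvd (hμm g hgc) j

end Expansion

end CfsgLib.Blocks
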