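import Cfsg.Agent.Lib.Blocks.Omega
import Cfsg.Agent.Lib.Blocks.Idempotent

/-!
# Blocks: the partition, Osima's theorem and weak block orthogonality
-/

set_option linter.unusedSectionVars false
set_option linter.style.haveILetI false

namespace CfsgLib.Blocks

open Cfsg Chars
open scoped ComplexConjugate

variable {G : Type*} [Group G] {M : Ideal AlgInt} [M.IsPrime]

/-! ## The partition into blocks -/

theorem SameBlock.refl (χ : G → ℂ) : SameBlock M χ χ := fun g => by
  rw [sub_self]; exact MemLocalIdeal.zero'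

theorem SameBlock.symm {χ ψ : G → ℂ} (h : SameBlock M χ ψ) : SameBlock M ψ χ := fun g => by
  rw [← neg_sub]; exact MemLocalIdeal.neg' (h g)

theorem SameBlock.trans {χ ψ φ : G → ℂ} (h : SameBlock M χ ψ) (h' : SameBlock M ψ φ) :
    SameBlock M χ φ := fun g => by
  have := MemLocalIdeal.add' (h g) (h' g)
  rwa [sub_add_sub_cancel] at this

theorem mem_blockOf {χ : G → ℂ} {ψ : IrrCharacter G} :
    ψ ∈ blockOf M χ ↔ SameBlock M χ (ψ : G → ℂ) := Iff.rfl

theorem mem_blockOf_self (χ : IrrCharacter G) : χ ∈ blockOf M (χ : G → ℂ) :=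
  SameBlock.refl (χ : G → ℂ)

theorem blockOf_eq_of_sameBlock {χ ψ : G → ℂ} (h : SameBlock M χ ψ) : blockOf M χ = blockOf M ψ :=
  Set.ext fun _ => ⟨fun h1 => SameBlock.trans (SameBlock.symm h) h1, fun h1 => SameBlock.trans h h1⟩

theorem isPBlock_blockOf (χ : IrrCharacter G) : IsPBlock M (blockOf M (χ : G → ℂ)) := ⟨χ, rfl⟩

theorem IsPBlock.eq_blockOf {B : Set (IrrCharacter G)} (hB : IsPBlock M B) {χ : IrrCharacter G}
    (h : χ ∈ B) : B = blockOf M (χ : G → ℂ) := by
  obtain ⟨ψ, rfl⟩ := hB
  exact blockOf_eq_of_sameBlock h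

theorem IsPBlock.sameBlock {B : Set (IrrCharacter G)} (hB : IsPBlock M B) {χ ψ : IrrCharacter G}
    (h : χ ∈ B) (h' : ψ ∈ B) : SameBlock M (χ : G → ℂ) (ψ : G → ℂ) := by
  rw [IsPBlock.eq_blockOf hB h] at h'
  exact h'

theorem IsPBlock.mem_of_sameBlock {B : Set (IrrCharacter G)} (hB : IsPBlock M B)
    {χ ψ : IrrCharacter G} (h : χ ∈ B) (h' : SameBlock M (χ : G → ℂ) (ψ : G → ℂ)) : ψ ∈ B := by
  rw [IsPBlock.eq_blockOf hB h]
  exact h'

theorem IsPBlock.nonempty {B : Set (IrrCharacter G)} (hB : IsPBlock M B) : B.Nonempty := by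
  obtain ⟨χ, rfl⟩ := hB
  exact ⟨χ, mem_blockOf_self χ⟩

theorem IsPBlock.eq_of_mem {B B' : Set (IrrCharacter G)} (hB : IsPBlock M B) (hB' : IsPBlock M B')
    {χ : IrrCharacter G} (h : χ ∈ B) (h' : χ ∈ B') : B = B' := by
  rw [IsPBlock.eq_blockOf hB h, IsPBlock.eq_blockOf hB' h']

/-! ## Local integrality -/

theorem irr_mem_loc [Finite G] (χ : IrrCharacter G) (g : G) : (χ : G → ℂ) g ∈ loc M :=
  isIntegral_mem_loc (char_isIntegral (isCharacter_of_irr χ.2) g)

theorem conj_irr_mem_loc [Finite G] (χ : IrrCharacter G) (g : G) :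
    conj ((χ : G → ℂ) g) ∈ loc M := by
  rw [← irr_inv]; exact irr_mem_loc χ g⁻¹

theorem centralChar_mem_loc [Fintype G] (χ : IrrCharacter G) (g : G) :
    centralChar (χ : G → ℂ) g ∈ loc M :=
  isIntegral_mem_loc (isIntegral_centralChar χ g)

variable (M)

/-- A class function with values in the local ring. -/
def IsLocClassFun (a : G → ℂ) : Prop := IsClassFunction G a ∧ ∀ g, a g ∈ loc M

variable {M}

variable [Fintype G]

theorem omega_mem_loc (χ : IrrCharacter G) {a : G → ℂ} (ha : IsLocClassFun M a) :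
    omega (χ : G → ℂ) a ∈ loc M := by
  haveI := Fintype.ofFinite (ConjClasses G)
  rw [omega_eq_sum_centralChar χ ha.1]
  exact sum_mem fun C _ => mul_mem (ha.2 _) (centralChar_mem_loc χ _)

/-- Congruent central characters have congruent values at every locally integral class function. -/
theorem omega_sub_mem {χ ψ : IrrCharacter G} (h : SameBlock M (χ : G → ℂ) (ψ : G → ℂ))
    {a : G → ℂ} (ha : IsLocClassFun M a) :
    MemLocalIdeal M (omega (χ : G → ℂ) a - omega (ψ : G → ℂ) a) := by
  haveI := Fintype.ofFinite (ConjClasses G)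
  rw [omega_eq_sum_centralChar χ ha.1, omega_eq_sum_centralChar ψ ha.1, ← Finset.sum_sub_distrib]
  refine MemLocalIdeal.sum' fun C _ => ?_
  rw [← mul_sub]
  exact MemLocalIdeal.mul_left' (ha.2 _) (h _)

theorem isLocClassFun_classInd (g : G) : IsLocClassFun M (classInd g) :=
  ⟨isClassFunction_classInd g, fun x => by
    rw [classInd_apply]; split_ifs <;> simp⟩

theorem IsLocClassFun.conv {a b : G → ℂ} (ha : IsLocClassFun M a) (hb : IsLocClassFun M b) :
    IsLocClassFun M (Blocks.conv a b) :=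
  ⟨isClassFunction_conv ha.1 hb.1, fun _ => sum_mem fun _ _ => mul_mem (ha.2 _) (hb.2 _)⟩

theorem IsLocClassFun.add {a b : G → ℂ} (ha : IsLocClassFun M a) (hb : IsLocClassFun M b) :
    IsLocClassFun M (a + b) :=
  ⟨isClassFunction_add ha.1 hb.1, fun g => add_mem (ha.2 g) (hb.2 g)⟩

theorem IsLocClassFun.smul {a : G → ℂ} {c : ℂ} (hc : c ∈ loc M) (ha : IsLocClassFun M a) :
    IsLocClassFun M (c • a) :=
  ⟨isClassFunction_smul c ha.1, fun g => mul_mem hc (ha.2 g)⟩

variable (M G)

/-- The functions on irreducible characters realised by locally integral class functions. -/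
def Realised : Subring (IrrCharacter G → ℂ) where
  carrier := {f | ∃ a : G → ℂ, IsLocClassFun M a ∧ ∀ χ : IrrCharacter G, omega (χ : G → ℂ) a = f χ}
  one_mem' := ⟨classInd 1, isLocClassFun_classInd 1, fun χ => by
    rw [omega_classInd, centralChar_one]; rfl⟩
  mul_mem' := by
    rintro f f' ⟨a, ha, h⟩ ⟨b, hb, h'⟩
    exact ⟨conv a b, ha.conv hb, fun χ => by rw [omega_conv χ ha.1, h, h']; rfl⟩
  add_mem' := by
    rintro f f' ⟨a, ha, h⟩ ⟨b, hb, h'⟩
    exact ⟨a + b, ha.add hb, fun χ => by rw [omega_add, h, h']; rfl⟩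
  zero_mem' := ⟨(0 : ℂ) • classInd 1, (isLocClassFun_classInd 1).smul (zero_mem _), fun χ => by
    rw [omega_smul, zero_mul]; rfl⟩
  neg_mem' := by
    rintro f ⟨a, ha, h⟩
    exact ⟨(-1 : ℂ) • a, ha.smul (neg_mem (one_mem _)), fun χ => by rw [omega_smul, h]; simp⟩

variable {M G}

theorem const_mem_realised {c : ℂ} (hc : c ∈ loc M) : (fun _ => c) ∈ Realised G M :=
  ⟨c • classInd 1, (isLocClassFun_classInd 1).smul hc, fun χ => by
    rw [omega_smul, omega_classInd, centralChar_one, mul_one]⟩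

theorem centralChar_mem_realised (g : G) :
    (fun χ : IrrCharacter G => centralChar (χ : G → ℂ) g) ∈ Realised G M :=
  ⟨classInd g, isLocClassFun_classInd g, fun χ => omega_classInd χ g⟩

open scoped Classical in
/-- The indicator of a block is realised. -/
theorem blockInd_mem_realised {B : Set (IrrCharacter G)} (hB : IsPBlock M B) :
    (fun χ : IrrCharacter G => if χ ∈ B then (1 : ℂ) else 0) ∈ Realised G M := by
  haveI := irrFintype G
  obtain ⟨χ₀, hχ₀⟩ := IsPBlock.nonempty hB
  have hsep : ∀ ψ : IrrCharacter G, ∃ g : G, ψ ∉ B →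
      ¬ MemLocalIdeal M (centralChar (χ₀ : G → ℂ) g - centralChar (ψ : G → ℂ) g) := by
    intro ψ
    by_cases h : ψ ∈ B
    · exact ⟨1, fun h' => absurd h h'⟩
    · by_contra hcon
      simp only [not_exists, Classical.not_imp, not_not] at hcon
      exact h (IsPBlock.mem_of_sameBlock hB hχ₀ fun g => (hcon g).2)
  choose gs hgs using hsep
  -- vanishes off `B`, is a unit on `B`
  let u : IrrCharacter G → ℂ := fun χ => ∏ ψ ∈ Finset.univ.filter (· ∉ B),
    (centralChar (χ : G → ℂ) (gs ψ) - centralChar (ψ : G → ℂ) (gs ψ))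
  have hu : u ∈ Realised G M := by
    have : u = ∏ ψ ∈ Finset.univ.filter (· ∉ B),
        ((fun χ : IrrCharacter G => centralChar (χ : G → ℂ) (gs ψ)) -
          fun _ => centralChar (ψ : G → ℂ) (gs ψ)) := by
      funext χ; simp [u, Finset.prod_apply]
    rw [this]
    exact prod_mem fun ψ _ =>
      sub_mem (centralChar_mem_realised _) (const_mem_realised (centralChar_mem_loc ψ _))
  have hu0 : ∀ χ, χ ∉ B → u χ = 0 := fun χ hχ =>
    Finset.prod_eq_zero (i := χ) (by simp [hχ]) (sub_self _)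
  have huloc : ∀ χ, u χ ∈ loc M := fun χ =>
    prod_mem fun ψ _ => sub_mem (centralChar_mem_loc χ _) (centralChar_mem_loc ψ _)
  have huunit : ∀ χ ∈ B, ¬ MemLocalIdeal M (u χ) := by
    intro χ hχ hmem
    have hmem' : (⟨u χ, huloc χ⟩ : loc M) ∈ locIdeal M := hmem
    have heq : (⟨u χ, huloc χ⟩ : loc M) = ∏ ψ ∈ Finset.univ.filter (· ∉ B),
        (⟨_, sub_mem (centralChar_mem_loc χ (gs ψ)) (centralChar_mem_loc ψ (gs ψ))⟩ : loc M) := by
      apply Subtype.ext
      simp [u]
    rw [heq, Ideal.IsPrime.prod_mem_iff] at hmem'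
    obtain ⟨ψ, hψ, hψmem⟩ := hmem'
    apply hgs ψ (Finset.mem_filter.1 hψ).2
    have hmem2 : MemLocalIdeal M (centralChar (χ : G → ℂ) (gs ψ) - centralChar (ψ : G → ℂ) (gs ψ)) :=
      hψmem
    have := MemLocalIdeal.add' (IsPBlock.sameBlock hB hχ₀ hχ (gs ψ)) hmem2
    rwa [sub_add_sub_cancel] at this
  have heq : (fun χ : IrrCharacter G => if χ ∈ B then (1 : ℂ) else 0) =
      1 - ∏ ψ ∈ Finset.univ.filter (· ∈ B), (1 - (fun _ => (u ψ)⁻¹) * u) := by
    funext χ
    simp only [Pi.sub_apply, Pi.one_apply, Finset.prod_apply, Pi.mul_apply]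
    by_cases hχ : χ ∈ B
    · rw [if_pos hχ, Finset.prod_eq_zero (i := χ) (by simp [hχ]), sub_zero]
      have hne : u χ ≠ 0 := fun h0 => huunit χ hχ (by rw [h0]; exact MemLocalIdeal.zero')
      rw [inv_mul_cancel₀ hne, sub_self]
    · rw [if_neg hχ, Finset.prod_eq_one fun ψ _ => by rw [hu0 χ hχ, mul_zero, sub_zero], sub_self]
  rw [heq]
  exact sub_mem (one_mem _) (prod_mem fun ψ hψ => sub_mem (one_mem _)
    (mul_mem (const_mem_realised (inv_mem_loc (huloc ψ) (huunit ψ (Finset.mem_filter.1 hψ).2))) hu))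

/-! ## The block idempotent -/

open scoped Classical in
theorem blockCoeff_eq [Fintype (IrrCharacter G)] (B : Set (IrrCharacter G)) (g : G) :
    blockCoeff B g =
      ∑ χ : IrrCharacter G, (if χ ∈ B then 1 else 0) * idemCoeff (χ : G → ℂ) g := by
  rw [blockCoeff, finsum_mem_eq_sum_of_inter_support_eq
    (t := Finset.univ.filter (· ∈ B)) _ (by ext; simp), Finset.mul_sum, Finset.sum_filter]
  refine Finset.sum_congr rfl fun χ _ => ?_
  simp only [idemCoeff, ite_mul, one_mul, zero_mul]

theorem isClassFunction_blockCoeff (B : Set (IrrCharacter G)) :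
    IsClassFunction G (blockCoeff B) := by
  classical
  haveI := irrFintype G
  intro g h
  simp only [blockCoeff_eq, isClassFunction_idemCoeff _ g h]

open scoped Classical in
/-- The block idempotent acts by one on the block and by zero elsewhere. -/
theorem omega_blockCoeff (B : Set (IrrCharacter G)) (ψ : IrrCharacter G) :
    omega (ψ : G → ℂ) (blockCoeff B) = if ψ ∈ B then 1 else 0 := by
  haveI := irrFintype G
  have : blockCoeff B = ∑ χ : IrrCharacter G, (if χ ∈ B then (1 : ℂ) else 0) • idemCoeff (χ : G → ℂ) := by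
    funext g
    rw [blockCoeff_eq, Finset.sum_apply]
    rfl
  rw [this, omega_sum]
  simp only [omega_smul, idemCoeff_omega]
  rw [Finset.sum_eq_single ψ (fun χ _ h => by rw [if_neg h, mul_zero]) (by simp), if_pos rfl, mul_one]

theorem conv_blockCoeff_self (B : Set (IrrCharacter G)) :
    conv (blockCoeff B) (blockCoeff B) = blockCoeff B := by
  classical
  refine classFun_ext_omega (isClassFunction_conv (isClassFunction_blockCoeff B)
    (isClassFunction_blockCoeff B)) (isClassFunction_blockCoeff B) fun χ => ?_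
  rw [omega_conv χ (isClassFunction_blockCoeff B), omega_blockCoeff]
  split_ifs <;> simp

theorem eq_blockCoeff {B : Set (IrrCharacter G)} {a : G → ℂ} (ha : IsClassFunction G a)
    [DecidablePred (· ∈ B)]
    (h : ∀ χ : IrrCharacter G, omega (χ : G → ℂ) a = if χ ∈ B then 1 else 0) :
    a = blockCoeff B :=
  classFun_ext_omega ha (isClassFunction_blockCoeff B) fun χ => by
    rw [h, omega_blockCoeff]; split_ifs <;> rfl

/-- **Osima's theorem**: block idempotents have locally integral coefficients. -/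
theorem isLocClassFun_blockCoeff {B : Set (IrrCharacter G)} (hB : IsPBlock M B) :
    IsLocClassFun M (blockCoeff B) := by
  classical
  obtain ⟨a, ha, h⟩ := blockInd_mem_realised hB
  exact eq_blockCoeff ha.1 h ▸ ha

theorem blockCoeff_mem_loc {B : Set (IrrCharacter G)} (hB : IsPBlock M B) (g : G) :
    blockCoeff B g ∈ loc M :=
  (isLocClassFun_blockCoeff hB).2 g

theorem union_blocks_of_mem_loc {A : Set (IrrCharacter G)} (hA : ∀ g, MemLocalRing M (blockCoeff A g))
    {χ ψ : IrrCharacter G} (hχ : χ ∈ A) (h : SameBlock M (χ : G → ℂ) (ψ : G → ℂ)) : ψ ∈ A := by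
  classical
  have h1 := omega_sub_mem h ⟨isClassFunction_blockCoeff A, hA⟩
  rw [omega_blockCoeff, omega_blockCoeff, if_pos hχ] at h1
  by_contra hψ
  rw [if_neg hψ, sub_zero] at h1
  exact not_memLocalIdeal_one h1

/-! ## Group ring elements -/

/-- A locally integral function as an element of the group ring over the local ring. -/
noncomputable def toAlg (a : G → ℂ) (ha : ∀ g, a g ∈ loc M) : MonoidAlgebra (loc M) G :=
  MonoidAlgebra.ofCoeff (Finsupp.equivFunOnFinite.symm fun g => ⟨a g, ha g⟩)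

@[simp] theorem coeff_toAlg (a : G → ℂ) (ha : ∀ g, a g ∈ loc M) (g : G) :
    ((toAlg a ha).coeff g : ℂ) = a g := by
  simp [toAlg]

theorem coeff_mul_eq_conv {f h : MonoidAlgebra (loc M) G} (x : G) :
    ((f * h).coeff x : ℂ) = conv (fun g => (f.coeff g : ℂ)) (fun g => (h.coeff g : ℂ)) x := by
  classical
  conv_lhs => rw [sum_single_coeff f, Finset.sum_mul]
  simp only [MonoidAlgebra.coeff_sum, Finsupp.finsetSum_apply, AddSubmonoidClass.coe_finsetSum, Blocks.conv]
  refine Finset.sum_congr rfl fun y _ => ?_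
  simp [MonoidAlgebra.coeff_single_mul_apply]

theorem toAlg_mul_self {a : G → ℂ} (ha : ∀ g, a g ∈ loc M) (h : conv a a = a) :
    toAlg a ha * toAlg a ha = toAlg a ha := by
  apply MonoidAlgebra.ext
  ext x
  rw [coeff_mul_eq_conv]
  simp [h]

variable {p : ℕ}

theorem loc_eq_zero_of_forall_dvd (hp : p.Prime) (hpM : (p : AlgInt) ∈ M) (r : loc M)
    (h : ∀ n : ℕ, (p : loc M) ^ n ∣ r) : r = 0 :=
  Subtype.ext (eq_zero_of_forall_dvd hp hpM fun n => by
    obtain ⟨c, hc⟩ := h n
    exact ⟨c, c.2, by rw [hc]; push_cast; rfl⟩)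

/-- A locally integral idempotent function has zero sum over every class of `p`-singular
elements. -/
theorem sum_idem_classInd_eq_zero (hp : p.Prime) (hpM : (p : AlgInt) ∈ M) {a : G → ℂ}
    (ha : ∀ g, a g ∈ loc M) (h : conv a a = a) {y : G} (hy : p ∣ orderOf y) :
    ∑ g, classInd y g * a g = 0 := by
  have hθ : ∀ g, classInd y g ∈ loc M := (isLocClassFun_classInd y).2
  have := trace_idempotent_eq_zero_of_regular hp (loc_eq_zero_of_forall_dvd hp hpM)
    (toAlg_mul_self ha h) (fun g => (⟨classInd y g, hθ g⟩ : loc M))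
    (fun g h => Subtype.ext ((isClassFunction_classInd y) g h)) (fun g hg => Subtype.ext ?_)
  · have h2 := congrArg Subtype.val this
    push_cast at h2
    simpa using h2
  · show classInd y g = 0
    rw [classInd_apply, if_neg]
    intro hc
    obtain ⟨c, rfl⟩ := isConj_iff.1 hc
    exact hg (by rwa [← (SemiconjBy.conj_mk c y).orderOf_eq])

/-- Block idempotents are supported on `p`-regular elements. -/
theorem blockCoeff_eq_zero_of_dvd (hp : p.Prime) (hpM : (p : AlgInt) ∈ M)
    {B : Set (IrrCharacter G)} (hB : IsPBlock M B) {y : G} (hy : p ∣ orderOf y) :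
    blockCoeff B y = 0 := by
  classical
  have h := sum_idem_classInd_eq_zero hp hpM (blockCoeff_mem_loc hB) (conv_blockCoeff_self B) hy
  have h' : ∀ g, classInd y g * blockCoeff B g = classInd y g * blockCoeff B y := fun g => by
    rw [classInd_apply]
    split_ifs with hc
    · rw [classFun_of_isConj (isClassFunction_blockCoeff B) hc]
    · simp
  rw [Finset.sum_congr rfl fun g _ => h' g, ← Finset.sum_mul] at h
  refine (mul_eq_zero.1 h).resolve_left ?_
  have hsum : (∑ i, classInd y i) = ((Finset.univ.filter fun g => IsConj y g).card : ℂ) := by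
    rw [Finset.card_filter, Nat.cast_sum]
    refine Finset.sum_congr rfl fun g _ => ?_
    rw [classInd_apply]
    split_ifs <;> simp
  rw [hsum, ← ne_eq, Nat.cast_ne_zero]
  exact Finset.card_ne_zero.2 ⟨y, Finset.mem_filter.2 ⟨Finset.mem_univ _, IsConj.refl y⟩⟩

/-- The `B`-part of a function supported on one coset of central elements. -/
theorem sum_mul_blockCoeff (B : Set (IrrCharacter G)) (χ : IrrCharacter G) [DecidablePred (· ∈ B)]
    (x : G) : ∑ g, blockCoeff B g * (χ : G → ℂ) (g * x) =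
      if χ ∈ B then (χ : G → ℂ) x else 0 := by
  rw [sum_mul_irr χ (isClassFunction_blockCoeff B), omega_blockCoeff]
  split_ifs <;> simp

end CfsgLib.Blocks
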