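import Cfsg.Agent.Lib.Blocks.Center

/-!
# The local ring is integrally closed in `ℂ`; idempotent polynomials in the group ring
-/

set_option linter.unusedSectionVars false
set_option linter.style.haveILetI false

namespace CfsgLib.Blocks

open Cfsg Chars Polynomial

variable {M : Ideal AlgInt} [M.IsPrime]

/-- A complex root of a monic polynomial over the local ring lies in the local ring. -/
theorem mem_loc_of_root {P : (loc M)[X]} (hP : P.Monic) {r : ℂ}
    (hr : P.eval₂ (loc M).subtype r = 0) : r ∈ loc M := by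
  classical
  choose a b hb hab using fun i : ℕ => ((P.coeff i).2 : MemLocalRing M _)
  obtain ⟨c, hcdef⟩ : ∃ c : AlgInt, c = ∏ i ∈ Finset.range P.natDegree, b i := ⟨_, rfl⟩
  have hc : c ∉ M := fun h => by
    obtain ⟨i, -, hi⟩ := (Ideal.IsPrime.prod_mem_iff (p := M)).1 (hcdef ▸ h)
    exact hb i hi
  set s : loc M := ⟨(c : ℂ), algInt_mem_loc c⟩ with hs
  set Q := (P.scaleRoots s).map (loc M).subtype with hQ
  have hQr : Q.eval ((c : ℂ) * r) = 0 := by
    rw [hQ, eval_map]
    exact scaleRoots_eval₂_eq_zero (s := s) (loc M).subtype hr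
  have hQint : ∀ i, IsIntegral ℤ (Q.coeff i) := by
    intro i
    rw [hQ, coeff_map, coeff_scaleRoots]
    rcases lt_trichotomy i P.natDegree with hi | hi | hi
    · obtain ⟨j, hj⟩ : ∃ j, P.natDegree - i = j + 1 := ⟨P.natDegree - i - 1, by omega⟩
      have hdvd : b i ∣ c := hcdef ▸ Finset.dvd_prod_of_mem b (Finset.mem_range.2 hi)
      obtain ⟨d, hd⟩ := hdvd
      have e : ((loc M).subtype (P.coeff i * s ^ (P.natDegree - i))) =
          ((a i * d * c ^ j : AlgInt) : ℂ) := by
        rw [map_mul, map_pow, hj, pow_succ]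
        show ((P.coeff i : loc M) : ℂ) * ((c : ℂ) ^ j * (c : ℂ)) = _
        rw [← hab i, hd]
        push_cast
        field_simp [coe_ne_zero_of_notMem (hb i)]
      rw [e]
      exact (a i * d * c ^ j : AlgInt).2
    · subst hi
      simp [hP.coeff_natDegree, isIntegral_one]
    · simp [coeff_eq_zero_of_natDegree_lt hi, isIntegral_zero]
  have hQm : Q.Monic := ((monic_scaleRoots_iff s).2 hP).map _
  obtain ⟨Q', hQ'map, -, hQ'm⟩ := lifts_and_degree_eq_and_monic
    (f := algebraMap AlgInt ℂ) (p := Q) ((lifts_iff_coeff_lifts Q).2 fun i => ⟨⟨_, hQint i⟩, rfl⟩) hQm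
  have hint : IsIntegral AlgInt ((c : ℂ) * r) := ⟨Q', hQ'm, by rw [← eval_map, hQ'map, hQr]⟩
  haveI : Algebra.IsIntegral ℤ AlgInt := inferInstance
  have hint' : IsIntegral ℤ ((c : ℂ) * r) := isIntegral_trans _ hint
  refine ⟨⟨_, hint'⟩, c, hc, ?_⟩
  show (c : ℂ) * r / c = r
  field_simp [coe_ne_zero_of_notMem hc]

/-- A monic polynomial over the local ring of positive degree has a root in it. -/
theorem exists_root_loc {P : (loc M)[X]} (hP : P.Monic) (hdeg : P.natDegree ≠ 0) :
    ∃ r : loc M, P.IsRoot r := by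
  obtain ⟨r, hr⟩ := IsAlgClosed.exists_root (P.map (loc M).subtype) (by
    rw [degree_eq_natDegree (hP.map _).ne_zero, hP.natDegree_map]
    exact_mod_cast hdeg)
  rw [IsRoot, eval_map] at hr
  refine ⟨⟨r, mem_loc_of_root hP hr⟩, Subtype.val_injective ?_⟩
  show ((P.eval _ : loc M) : ℂ) = ((0 : loc M) : ℂ)
  rw [ZeroMemClass.coe_zero, ← hr]
  exact hom_eval₂ P (RingHom.id _) (loc M).subtype ⟨r, _⟩

instance instIsAlgClosedResField : IsAlgClosed (ResField M) := by
  refine IsAlgClosed.of_exists_root _ fun q hq hirr => ?_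
  obtain ⟨Q, hQ, hdeg, hQm⟩ := lifts_and_degree_eq_and_monic (f := red (M := M)) (p := q)
    ((lifts_iff_coeff_lifts q).2 fun i => IsLocalRing.residue_surjective _) hq
  obtain ⟨r, hr⟩ := exists_root_loc hQm (by
    rw [natDegree_eq_of_degree_eq hdeg]; exact hirr.natDegree_pos.ne')
  exact ⟨red r, by rw [← hQ, eval_map, eval₂_at_apply, hr, map_zero]⟩

/-- A monic polynomial over the local ring is the product of coprime parts: one with all its
roots in the local ideal and one with none of them there. -/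
theorem exists_split {g : (loc M)[X]} (hg : g.Monic) :
    ∃ gM gU : (loc M)[X], g = gM * gU ∧ IsCoprime gM gU ∧
      (∀ r : ℂ, gM.eval₂ (loc M).subtype r = 0 → MemLocalIdeal M r) ∧
      (∃ m, gM.map red = X ^ m) ∧ red (gU.eval 0) ≠ 0 := by
  induction hn : g.natDegree generalizing g with
  | zero =>
    obtain rfl := hg.natDegree_eq_zero.1 hn
    exact ⟨1, 1, (one_mul _).symm, isCoprime_one_left, fun r h => by simp at h, ⟨0, by simp⟩, by simp⟩
  | succ n ih =>
    obtain ⟨r, hr⟩ := exists_root_loc hg (by omega)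
    obtain ⟨g', rfl⟩ := dvd_iff_isRoot.2 hr
    have hg' : g'.Monic := (monic_X_sub_C r).of_mul_monic_left hg
    have hdeg : g'.natDegree = n := by
      rw [(monic_X_sub_C r).natDegree_mul hg', natDegree_X_sub_C] at hn
      omega
    obtain ⟨gM, gU, e, hco, hroot, ⟨m, hm⟩, h0⟩ := ih hg' hdeg
    have hgMr : red (gM.eval r) = red r ^ m := by
      rw [← eval₂_at_apply, ← eval_map, hm, eval_pow, eval_X]
    -- a polynomial with a unit value at `r` is coprime to `X - C r`
    have hcop : ∀ P : (loc M)[X], red (P.eval r) ≠ 0 → IsCoprime (X - C r) P := by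
      intro P hP
      obtain ⟨w, hw⟩ : IsUnit (P.eval r) :=
        isUnit_of_notMem_locIdeal fun hmem => hP (red_eq_zero_iff.2 hmem)
      obtain ⟨q, hq⟩ : X - C r ∣ P - C (P.eval r) := dvd_iff_isRoot.2 (by simp)
      refine ⟨-(C (↑w⁻¹ : loc M) * q), C (↑w⁻¹ : loc M), ?_⟩
      rw [show P = (X - C r) * q + C (w : loc M) by rw [hw, ← hq]; ring]
      have : C (↑w⁻¹ : loc M) * C (w : loc M) = 1 := by rw [← C_mul, Units.inv_mul, C_1]
      linear_combination this
    by_cases hrM : MemLocalIdeal M (r : ℂ)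
    · have hr0 : red r = 0 := red_eq_zero_iff.2 hrM
      refine ⟨(X - C r) * gM, gU, by rw [e, mul_assoc], IsCoprime.mul_left (hcop gU ?_) hco,
        fun z hz => ?_, ⟨m + 1, ?_⟩, h0⟩
      · rw [← eval₂_at_apply, hr0, ← map_zero (red (M := M)), eval₂_at_apply]
        exact h0
      · rw [eval₂_mul, mul_eq_zero] at hz
        rcases hz with hz | hz
        · rw [eval₂_sub, eval₂_X, eval₂_C, sub_eq_zero] at hz
          subst hz
          exact hrM
        · exact hroot z hz
      · rw [Polynomial.map_mul, hm, Polynomial.map_sub, map_X, map_C, hr0, map_zero, sub_zero,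
          pow_succ']
    · have hr0 : red r ≠ 0 := fun h => hrM (red_eq_zero_iff.1 h)
      refine ⟨gM, (X - C r) * gU, by rw [e]; ring,
        IsCoprime.mul_right (hcop gM ?_).symm hco, hroot, ⟨m, hm⟩, ?_⟩
      · rw [hgMr]; exact pow_ne_zero _ hr0
      · rw [eval_mul, map_mul]
        refine mul_ne_zero ?_ h0
        rw [eval_sub, eval_X, eval_C, zero_sub, map_neg, neg_ne_zero]
        exact hr0

end CfsgLib.Blocks
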