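import Cfsg.Agent.Lib.Blocks.StarTau
import Cfsg.Agent.Lib.Blocks.SecondMain
import Cfsg.Agent.Lib.BlockOrth.SubsectionCount

/-!
# The Broué–Puig product of a character with a stable function on the defect group
-/

set_option linter.unusedSectionVars false
set_option linter.style.haveILetI false

namespace CfsgLib.Blocks

open Cfsg Chars BlockOrth
open scoped ComplexConjugate

variable {G : Type*} [Group G] [Fintype G] {M : Ideal AlgInt} [M.IsPrime] {p : ℕ} [Fact p.Prime]

/-- The value of the part of `θ` cut out by a pair. -/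
noncomputable def secVal (a : BrauerPairIdx G) (θ : G → ℂ) (g : G) : ℂ :=
  ∑ w : G, pairCoeff a w * θ (w * g)

variable (M) in
/-- The Broué–Puig product: on the section of a `p`-element the parts of `θ` cut out by the
pairs are weighted by `η`. -/
noncomputable def starFun (p : ℕ) [Fact p.Prime] (c : BrauerPairIdx G) (η θ : G → ℂ) : G → ℂ :=
  fun g => ∑ a ∈ pairsAt M (pPartElt p g), pairWeight p M c η a (pPartElt p g) * secVal a θ g

variable {c : BrauerPairIdx G} {η η' θ θ' : G → ℂ} {B : Set (IrrCharacter G)}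

theorem exists_pow_eq_one_pPartElt (g : G) : ∃ k : ℕ, pPartElt p g ^ p ^ k = 1 := by
  obtain ⟨k, hk⟩ := exists_orderOf_pPartElt (p := p) g
  exact ⟨k, by rw [← hk]; exact pow_orderOf_eq_one _⟩

theorem commute_pPartElt_pPrimePart (g : G) : Commute (pPartElt p g) (pPrimePart p g) ∧
    pPartElt p g * pPrimePart p g = g := by
  obtain ⟨u, h1, h2, -, -⟩ := isPPrimePart_pPrimePart (p := p) g
  have e : pPartElt p g = u := by rw [pPartElt, mul_inv_eq_iff_eq_mul]; exact h1.symm
  exact ⟨e ▸ h2, by rw [e]; exact h1⟩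

theorem pPartElt_mul {x y : G} (h : Commute x y) (hx : ∃ k : ℕ, x ^ p ^ k = 1)
    (hy : ¬ p ∣ orderOf y) : pPartElt p (x * y) = x := by
  obtain ⟨k, hk⟩ := hx
  obtain ⟨i, -, hi⟩ := (Nat.dvd_prime_pow (Fact.out (p := p.Prime))).1 (orderOf_dvd_of_pow_eq_one hk)
  rw [pPartElt, pPrimePart_mul h ⟨i, hi⟩ hy, mul_inv_cancel_right]

theorem secVal_conj (hθ : IsClassFunction G θ) (x : G) (a : BrauerPairIdx G) (g : G) :
    secVal (conjPair x a) θ (x * g * x⁻¹) = secVal a θ g := by
  rw [secVal, secVal, ← Equiv.sum_comp (MulAut.conj x).toEquiv]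
  refine Finset.sum_congr rfl fun w _ => ?_
  show pairCoeff (conjPair x a) (x * w * x⁻¹) * θ (x * w * x⁻¹ * (x * g * x⁻¹)) = _
  rw [pairCoeff_conjPair, show x⁻¹ * (x * w * x⁻¹) * x = w by group,
    show x * w * x⁻¹ * (x * g * x⁻¹) = x * (w * g) * x⁻¹ by group, hθ]

theorem map_zpowers_conj (x t : G) : (Subgroup.zpowers t).map (MulAut.conj x).toMonoidHom =
    Subgroup.zpowers (x * t * x⁻¹) := by rw [MonoidHom.map_zpowers]; rfl

theorem sum_pairsAt_conj {f : BrauerPairIdx G → ℂ} (x t : G) :
    ∑ a ∈ pairsAt M (x * t * x⁻¹), f a = ∑ a ∈ pairsAt M t, f (conjPair x a) := by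
  refine Finset.sum_bij' (fun a _ => conjPair x⁻¹ a) (fun a _ => conjPair x a) (fun a ha => ?_)
    (fun a ha => ?_) (fun a _ => by rw [conjPair_mul, mul_inv_cancel, conjPair_one])
    (fun a _ => by rw [conjPair_mul, inv_mul_cancel, conjPair_one])
    (fun a _ => by rw [conjPair_mul, mul_inv_cancel, conjPair_one])
  · obtain ⟨h1, h2⟩ := mem_pairsAt.1 ha
    refine mem_pairsAt.2 ⟨?_, isPBlock_conjBlock h2 _⟩
    show a.1.map _ = _
    rw [h1, map_zpowers_conj]
    congr 1
    group
  · obtain ⟨h1, h2⟩ := mem_pairsAt.1 ha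
    refine mem_pairsAt.2 ⟨?_, isPBlock_conjBlock h2 _⟩
    show a.1.map _ = _
    rw [h1, map_zpowers_conj]

theorem isClassFunction_starFun (hη : IsPairStable p M c η) (hθ : IsClassFunction G θ) :
    IsClassFunction G (starFun M p c η θ) := by
  intro g x
  rw [starFun, pPartElt_conj, sum_pairsAt_conj]
  refine Finset.sum_congr rfl fun a ha => ?_
  rw [secVal_conj hθ, pairWeight_conj hη]
  rw [(mem_pairsAt.1 ha).1]
  exact Subgroup.mem_zpowers _

theorem starFun_mul_regular {x y : G} (hxy : Commute x y) (hx : ∃ k : ℕ, x ^ p ^ k = 1)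
    (hy : ¬ p ∣ orderOf y) : starFun M p c η θ (x * y) =
      ∑ a ∈ pairsAt M x, pairWeight p M c η a x * secVal a θ (x * y) := by
  rw [starFun, pPartElt_mul hxy hx hy]

theorem starFun_smul_left (r : ℂ) (g : G) :
    starFun M p c (fun u => r * η u) θ g = r * starFun M p c η θ g := by
  rw [starFun, starFun, Finset.mul_sum]
  refine Finset.sum_congr rfl fun a _ => ?_
  rw [pairWeight, pairWeight]
  split_ifs <;> ring

/-! ## The parts cut out by the pairs -/

theorem secVal_eq_blockPart {x : G} {b : Set (IrrCharacter (Subgroup.centralizer (Subgroup.zpowers x : Set G)))}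
    (hθ : IsClassFunction G θ) (y : Subgroup.centralizer (Subgroup.zpowers x : Set G)) :
    secVal ⟨Subgroup.zpowers x, b⟩ θ (x * (y : G)) =
      blockPart b (secFun (Subgroup.centralizer (Subgroup.zpowers x : Set G)) x θ) y := by
  classical
  haveI := Fintype.ofFinite (Subgroup.centralizer (Subgroup.zpowers x : Set G))
  have hcl : IsClassFunction (Subgroup.centralizer (Subgroup.zpowers x : Set G))
      (secFun (Subgroup.centralizer (Subgroup.zpowers x : Set G)) x θ) := by
    intro g h
    show θ (x * ((h : G) * g * (h : G)⁻¹)) = θ (x * g)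
    have hc : x * (h : G) = (h : G) * x :=
      Subgroup.mem_centralizer_iff.1 h.2 x (Subgroup.mem_zpowers x)
    rw [← hθ (x * g) h]
    congr 1
    rw [← mul_assoc, ← mul_assoc, hc, mul_assoc (h : G) x]
  rw [secVal, blockPart_eq_sum b hcl]
  symm
  refine Finset.sum_bij_ne_zero (fun h _ _ => (h : G)) (by simp) (by simp) (fun w _ hw => ?_)
    (fun h _ _ => ?_)
  · have hwC : w ∈ Subgroup.centralizer (Subgroup.zpowers x : Set G) := by
      by_contra h
      exact hw (by rw [pairCoeff, subgroupBlockCoeff_of_notMem _ h, zero_mul])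
    obtain ⟨w, rfl⟩ : ∃ w' : Subgroup.centralizer (Subgroup.zpowers x : Set G), (w' : G) = w :=
      ⟨⟨w, hwC⟩, rfl⟩
    have e : blockCoeff b w * θ (x * ((w : G) * (y : G))) = pairCoeff ⟨Subgroup.zpowers x, b⟩ (w : G) *
        θ ((w : G) * (x * (y : G))) := by
      rw [pairCoeff, subgroupBlockCoeff_coe, ← mul_assoc, ← mul_assoc,
        Subgroup.mem_centralizer_iff.1 w.2 x (Subgroup.mem_zpowers x)]
    exact ⟨w, Finset.mem_univ _, fun h => hw (e ▸ h), rfl⟩
  · show blockCoeff b h * θ (x * ((h : G) * (y : G))) = pairCoeff _ (h : G) * θ ((h : G) * (x * (y : G)))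
    rw [pairCoeff, subgroupBlockCoeff_coe, ← mul_assoc, ← mul_assoc,
      Subgroup.mem_centralizer_iff.1 h.2 x (Subgroup.mem_zpowers x)]

/-- **Second main theorem**: a character has no part in the pairs of other blocks. -/
theorem secVal_eq_zero (hpM : (p : AlgInt) ∈ M) (hB : IsPBlock M B) {χ : IrrCharacter G}
    (hχ : χ ∈ B) {x y : G} (hxy : Commute x y) (hx : ∃ k : ℕ, x ^ p ^ k = 1)
    (hy : ¬ p ∣ orderOf y) {a : BrauerPairIdx G} (ha : a ∈ pairsAt M x)
    (hnot : ¬ IsBrauerPairOf p M B a.1 a.2) : secVal a (χ : G → ℂ) (x * y) = 0 := by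
  classical
  obtain ⟨Q, b⟩ := a
  obtain ⟨rfl, hb⟩ := mem_pairsAt.1 ha
  have hbb : IsBrauerPair p M (Subgroup.zpowers x) b := ⟨isPGroup_zpowers hx, hb⟩
  haveI := Fintype.ofFinite (Subgroup.centralizer (Subgroup.zpowers x : Set G))
  have hω : ∀ ξ ∈ b, MemLocalIdeal M (omega (ξ : Subgroup.centralizer (Subgroup.zpowers x : Set G) → ℂ)
      (resFun (Subgroup.centralizer (Subgroup.zpowers x : Set G)) (blockCoeff B))) := by
    intro ξ hξ
    haveI := charP_resField (M := M) (Fact.out (p := p.Prime)) hpM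
    rcases pairIdem_mul_dichotomy hb (blockCoeff_mem_loc hB)
      (isClassFunction_resFun_of_inv fun u _ g => isClassFunction_blockCoeff B g u) (by
        show cut _ (blockIdem hB) * cut _ (blockIdem hB) = cut _ (blockIdem hB)
        rw [← cut_mul p hbb.1 (isFixedBy_blockIdem hB _) (isFixedBy_blockIdem hB _),
          blockIdem_mul_self]) hξ with ⟨-, h2⟩ | ⟨h1, -⟩
    · exact absurd ((isBrauerPairOf_iff hpM hbb hB).1.2 h2) hnot
    · exact h1
  have hC : Subgroup.centralizer ({x} : Set G) ≤ Subgroup.centralizer (Subgroup.zpowers x : Set G) :=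
    le_of_eq (by rw [Subgroup.zpowers_eq_closure, Subgroup.centralizer_closure])
  have h := second_main_core hpM hb (isLocClassFun_blockCoeff hB) (conv_blockCoeff_self B) hω hx hy
    hxy.symm (hC (Subgroup.mem_centralizer_singleton_iff.2 rfl)) hC (isClassFunction_irr χ)
  simp only [sum_mul_blockCoeff, if_pos hχ] at h
  rw [← h, secVal, ← sum_extFun_mul _ (blockCoeff b) (fun g => (χ : G → ℂ) (g * (x * y)))]
  refine Finset.sum_congr rfl fun w _ => ?_
  rw [show pairCoeff ⟨Subgroup.zpowers x, b⟩ w = extFun _ (blockCoeff b) w from ?_]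
  by_cases hw : w ∈ Subgroup.centralizer (Subgroup.zpowers x : Set G)
  · rw [pairCoeff, show w = ((⟨w, hw⟩ : Subgroup.centralizer (Subgroup.zpowers x : Set G)) : G) from rfl,
      subgroupBlockCoeff_coe, extFun_coe]
  · rw [pairCoeff, subgroupBlockCoeff_of_notMem _ hw, extFun_of_notMem _ hw]

open scoped Classical in
theorem pairCoeff_sum (x : G) (w : G) :
    ∑ a ∈ pairsAt M x, pairCoeff a w = if w = 1 then 1 else 0 := by
  classical
  haveI := Fintype.ofFinite (Subgroup.centralizer (Subgroup.zpowers x : Set G))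
  rw [show ∑ a ∈ pairsAt M x, pairCoeff a w =
    ∑ b ∈ blockFinset M (Subgroup.centralizer (Subgroup.zpowers x : Set G)),
      pairCoeff (⟨Subgroup.zpowers x, b⟩ : BrauerPairIdx G) w from ?_]
  · by_cases hw : w ∈ Subgroup.centralizer (Subgroup.zpowers x : Set G)
    · have e3 := congrFun (sum_blockFinset_blockCoeff (M := M)
        (G := Subgroup.centralizer (Subgroup.zpowers x : Set G))) ⟨w, hw⟩
      rw [Finset.sum_apply, classInd_apply] at e3
      rw [Finset.sum_congr rfl fun b _ => show pairCoeff (⟨Subgroup.zpowers x, b⟩ : BrauerPairIdx G) w =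
        blockCoeff b ⟨w, hw⟩ from subgroupBlockCoeff_coe b ⟨w, hw⟩, e3]
      by_cases h1 : w = 1
      · subst h1
        rw [if_pos rfl, if_pos]
        exact IsConj.refl 1
      · rw [if_neg h1, if_neg fun hc => h1 (congrArg Subtype.val (isConj_one_right.1 hc))]
    · rw [if_neg fun (h : w = 1) => hw (h ▸ one_mem _)]
      exact Finset.sum_eq_zero fun b _ => subgroupBlockCoeff_of_notMem _ hw
  · symm
    refine Finset.sum_bij (fun b _ => (⟨Subgroup.zpowers x, b⟩ : BrauerPairIdx G)) (fun b hb => ?_)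
      (fun b _ b' _ h => eq_of_heq (Sigma.mk.inj_iff.1 h).2) (fun a ha => ?_) fun _ _ => rfl
    · exact mem_pairsAt.2 ⟨rfl, mem_blockFinset.1 hb⟩
    · obtain ⟨Q, b⟩ := a
      obtain ⟨rfl, hb⟩ := mem_pairsAt.1 ha
      exact ⟨b, mem_blockFinset.2 hb, rfl⟩

theorem sum_secVal (θ : G → ℂ) (x g : G) : ∑ a ∈ pairsAt M x, secVal a θ g = θ g := by
  classical
  simp only [secVal]
  rw [Finset.sum_comm]
  simp only [← Finset.sum_mul, pairCoeff_sum]
  simp

/-- The product with the principal function is the identity on the block. -/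
theorem starFun_one (hpM : (p : AlgInt) ∈ M) (hmax : IsMaximalBrauerPair p M B c.1 c.2)
    {χ : IrrCharacter G} (hχ : χ ∈ B) : starFun M p c (fun _ => 1) (χ : G → ℂ) = (χ : G → ℂ) := by
  funext g
  have h2 : ∑ a ∈ pairsAt M (pPartElt p g), secVal a (χ : G → ℂ) g = (χ : G → ℂ) g :=
    sum_secVal _ _ g
  conv_rhs => rw [← h2]
  refine Finset.sum_congr rfl fun a ha => ?_
  by_cases h : ∃ x : G, Relation.ReflTransGen (NormalSubpairRel p M) (conjPair x a) c
  · rw [pairWeight, dif_pos h, one_mul]
  rw [pairWeight_of_not h, zero_mul]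
  obtain ⟨hc, hgeq⟩ := commute_pPartElt_pPrimePart (p := p) g
  have := secVal_eq_zero hpM hmax.1.2.1 hχ hc (exists_pow_eq_one_pPartElt g)
    (not_dvd_orderOf_pPrimePart g) ha fun hB => h (exists_conj_below hpM hmax hB)
  rw [hgeq] at this
  exact this.symm

theorem isClassFunction_blockPart {H : Type*} [Group H] [Finite H] (b : Set (IrrCharacter H))
    (φ : H → ℂ) : IsClassFunction H (blockPart b φ) := fun g h => by
  simp only [blockPart]
  exact finsum_congr fun θ => finsum_congr fun _ => by rw [isClassFunction_irr θ g h]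

theorem inner_blockPart {H : Type*} [Group H] [Fintype H] (b : Set (IrrCharacter H))
    [DecidablePred (· ∈ b)] (φ : H → ℂ) (ξ : IrrCharacter H) :
    classInner (blockPart b φ) (ξ : H → ℂ) = if ξ ∈ b then classInner φ (ξ : H → ℂ) else 0 := by
  classical
  haveI := irrFintype H
  have hbp : blockPart b φ = ∑ θ ∈ Finset.univ.filter (· ∈ b),
      classInner φ (θ : H → ℂ) • (θ : H → ℂ) := by
    funext g
    rw [blockPart, sum_mem_block, Finset.sum_apply]
    refine Finset.sum_congr rfl fun θ _ => ?_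
    rw [Pi.smul_apply, smul_eq_mul, inner_congr_inst]
  rw [hbp, Chars.inner_sum_left]
  simp only [Chars.inner_smul_left, inner_irr, mul_ite, mul_one, mul_zero]
  rw [Finset.sum_ite_eq' (Finset.univ.filter (· ∈ b)) ξ]
  simp

theorem isClassFunction_secFun_zpowers (hθ : IsClassFunction G θ) (x : G) :
    IsClassFunction (Subgroup.centralizer (Subgroup.zpowers x : Set G))
      (secFun (Subgroup.centralizer (Subgroup.zpowers x : Set G)) x θ) := by
  intro g h
  show θ (x * ((h : G) * g * (h : G)⁻¹)) = θ (x * g)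
  have hc : x * (h : G) = (h : G) * x :=
    Subgroup.mem_centralizer_iff.1 h.2 x (Subgroup.mem_zpowers x)
  rw [← hθ (x * g) h]
  congr 1
  rw [← mul_assoc, ← mul_assoc, hc, mul_assoc (h : G) x]

/-- The parts of a product are the weighted parts. -/
theorem secVal_starFun (hpM : (p : AlgInt) ∈ M) (hη : IsPairStable p M c η)
    (hθ : IsClassFunction G θ) {x y : G} (hxy : Commute x y) (hx : ∃ k : ℕ, x ^ p ^ k = 1)
    (hy : ¬ p ∣ orderOf y) {a : BrauerPairIdx G} (ha : a ∈ pairsAt M x) :
    secVal a (starFun M p c η θ) (x * y) = pairWeight p M c η a x * secVal a θ (x * y) := by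
  classical
  obtain ⟨Q, b⟩ := a
  obtain ⟨rfl, hb⟩ := mem_pairsAt.1 ha
  haveI := Fintype.ofFinite (Subgroup.centralizer (Subgroup.zpowers x : Set G))
  haveI := irrFintype (Subgroup.centralizer (Subgroup.zpowers x : Set G))
  have hyC : y ∈ Subgroup.centralizer (Subgroup.zpowers x : Set G) := by
    rw [Subgroup.zpowers_eq_closure, Subgroup.centralizer_closure]
    exact Subgroup.mem_centralizer_singleton_iff.2 hxy.symm.eq
  obtain ⟨y, rfl⟩ : ∃ y' : Subgroup.centralizer (Subgroup.zpowers x : Set G), (y' : G) = y :=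
    ⟨⟨y, hyC⟩, rfl⟩
  rw [secVal_eq_blockPart (isClassFunction_starFun hη hθ), secVal_eq_blockPart hθ]
  set ψ := secFun (Subgroup.centralizer (Subgroup.zpowers x : Set G)) x θ with hψ
  obtain ⟨Φ, hΦ⟩ : ∃ Φ : Subgroup.centralizer (Subgroup.zpowers x : Set G) → ℂ,
      Φ = fun h => ∑ d ∈ blockFinset M (Subgroup.centralizer (Subgroup.zpowers x : Set G)),
        pairWeight p M c η ⟨Subgroup.zpowers x, d⟩ x * blockPart d ψ h := ⟨_, rfl⟩
  have hΦc : IsClassFunction _ Φ := fun g h => by
    rw [hΦ]; exact Finset.sum_congr rfl fun d _ => by rw [isClassFunction_blockPart]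
  have hsec := isClassFunction_secFun_zpowers (isClassFunction_starFun (p := p) (M := M) hη hθ) x
  have hreg : ∀ h, ¬ p ∣ orderOf h → secFun (Subgroup.centralizer (Subgroup.zpowers x : Set G)) x
      (starFun M p c η θ) h - Φ h = 0 := by
    intro h hh
    have hc : Commute x (h : G) := Subgroup.mem_centralizer_iff.1 h.2 x (Subgroup.mem_zpowers x)
    rw [sub_eq_zero, secFun, starFun_mul_regular hc hx (by rwa [Subgroup.orderOf_coe]), hΦ]
    symm
    refine Finset.sum_bij (fun d _ => (⟨Subgroup.zpowers x, d⟩ : BrauerPairIdx G)) (fun d hd => ?_)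
      (fun d _ d' _ h => eq_of_heq (Sigma.mk.inj_iff.1 h).2) (fun d hd => ?_) fun d _ => ?_
    · exact mem_pairsAt.2 ⟨rfl, mem_blockFinset.1 hd⟩
    · obtain ⟨Q, d⟩ := d
      obtain ⟨rfl, hd⟩ := mem_pairsAt.1 hd
      exact ⟨d, mem_blockFinset.2 hd, rfl⟩
    · rw [secVal_eq_blockPart hθ]
  have hz := blockPart_eq_zero_of_regular (Fact.out (p := p.Prime)) hpM hb
    (θ := fun h => secFun (Subgroup.centralizer (Subgroup.zpowers x : Set G)) x
      (starFun M p c η θ) h - Φ h) (fun g h => by simp only [hsec g h, hΦc g h]) hreg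
    (s := y) (by rwa [← Subgroup.orderOf_coe])
  rw [blockPart_eq_sum b (θ := fun h => secFun _ x (starFun M p c η θ) h - Φ h)
    (fun g h => by simp only [hsec g h, hΦc g h])] at hz
  simp only [mul_sub, Finset.sum_sub_distrib, sub_eq_zero] at hz
  rw [blockPart_eq_sum b hsec, hz, hΦ]
  simp only [Finset.mul_sum]
  rw [Finset.sum_comm, Finset.sum_eq_single b]
  · rw [Finset.sum_congr rfl fun g _ => mul_left_comm _ _ _, ← Finset.mul_sum]
    congr 1
    rw [← blockPart_eq_sum b (isClassFunction_blockPart b ψ)]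
    have : blockPart b (blockPart b ψ) = blockPart b ψ := by
      refine ext_inner_irr (isClassFunction_blockPart _ _) (isClassFunction_blockPart _ _) fun ξ => ?_
      rw [inner_blockPart, inner_blockPart]
      split_ifs <;> rfl
    rw [this]
  · intro d hd hne
    rw [Finset.sum_congr rfl fun g _ => mul_left_comm _ _ _, ← Finset.mul_sum,
      ← blockPart_eq_sum b (isClassFunction_blockPart d ψ)]
    have : blockPart b (blockPart d ψ) = 0 := by
      refine ext_inner_irr (isClassFunction_blockPart _ _) isClassFunction_zero fun ξ => ?_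
      rw [inner_blockPart, inner_blockPart, Chars.inner_zero_left]
      split_ifs with h1 h2
      · exact absurd (IsPBlock.eq_of_mem (mem_blockFinset.1 hd) hb h2 h1) hne
      · rfl
      · rfl
    rw [this]
    simp
  · exact fun h => absurd (mem_blockFinset.2 hb) h

theorem starFun_starFun (hpM : (p : AlgInt) ∈ M) (hη : IsPairStable p M c η)
    (hη' : IsPairStable p M c η') (hθ : IsClassFunction G θ) :
    starFun M p c η' (starFun M p c η θ) = starFun M p c (fun u => η' u * η u) θ := by
  funext g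
  obtain ⟨hc, hgeq⟩ := commute_pPartElt_pPrimePart (p := p) g
  refine Finset.sum_congr rfl fun a ha => ?_
  have h := secVal_starFun hpM hη hθ hc (exists_pow_eq_one_pPartElt g)
    (not_dvd_orderOf_pPrimePart g) ha
  rw [hgeq] at h
  rw [h, ← mul_assoc, pairWeight, pairWeight, pairWeight]
  split_ifs <;> ring

/-! ## Inner products -/

/-- The norm of the part of a pair on the section of `x`. -/
noncomputable def secPair (p : ℕ) (x : G) (a : BrauerPairIdx G) (θ θ' : G → ℂ) : ℂ := by
  classical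
  exact ∑ y ∈ Finset.univ.filter (fun y : G => Commute x y ∧ ¬ p ∣ orderOf y),
    secVal a θ (x * y) * conj (secVal a θ' (x * y))

theorem sum_secVal_mul_conj_of_ne (hpM : (p : AlgInt) ∈ M) (hθ : IsClassFunction G θ)
    (hθ' : IsClassFunction G θ') {x : G} {a a' : BrauerPairIdx G} (ha : a ∈ pairsAt M x)
    (ha' : a' ∈ pairsAt M x) (hne : a ≠ a') [DecidablePred fun y : G => Commute x y ∧ ¬ p ∣ orderOf y] :
    ∑ y ∈ Finset.univ.filter (fun y : G => Commute x y ∧ ¬ p ∣ orderOf y),
      secVal a θ (x * y) * conj (secVal a' θ' (x * y)) = 0 := by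
  classical
  obtain ⟨Q, b⟩ := a
  obtain ⟨rfl, hb⟩ := mem_pairsAt.1 ha
  obtain ⟨Q', b'⟩ := a'
  obtain ⟨rfl, hb'⟩ := mem_pairsAt.1 ha'
  have hbne : b ≠ b' := fun h => hne (by rw [h])
  haveI := Fintype.ofFinite (Subgroup.centralizer (Subgroup.zpowers x : Set G))
  haveI := irrFintype (Subgroup.centralizer (Subgroup.zpowers x : Set G))
  set ψ := secFun (Subgroup.centralizer (Subgroup.zpowers x : Set G)) x θ with hψ
  set ψ' := secFun (Subgroup.centralizer (Subgroup.zpowers x : Set G)) x θ' with hψ'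
  have hi : classInner (pRegularPart p (blockPart b ψ)) (pRegularPart p (blockPart b' ψ')) = 0 := by
    rw [inner_eq_sum (isClassFunction_pRegularPart (isClassFunction_blockPart _ _))]
    refine Finset.sum_eq_zero fun ξ _ => ?_
    rw [inner_pRegularPart_blockPart hpM hb (isClassFunction_secFun_zpowers hθ x),
      inner_pRegularPart_blockPart hpM hb' (isClassFunction_secFun_zpowers hθ' x)]
    split_ifs with h1 h2
    · exact absurd (IsPBlock.eq_of_mem hb hb' h1 h2) hbne
    all_goals simp
  rw [inner_def, mul_eq_zero] at hi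
  replace hi := hi.resolve_left (inv_ne_zero (card_ne_zero _))
  rw [← hi]
  have hmem : ∀ y : G, y ∈ Subgroup.centralizer (Subgroup.zpowers x : Set G) ↔ Commute x y := fun y => by
    rw [Subgroup.zpowers_eq_closure, Subgroup.centralizer_closure,
      Subgroup.mem_centralizer_singleton_iff]
    exact eq_comm
  symm
  refine Finset.sum_bij_ne_zero (fun h _ _ => (h : G)) (fun h _ hh => ?_) (by simp) (fun y hy hne' => ?_)
    (fun h _ hh => ?_)
  · refine Finset.mem_filter.2 ⟨Finset.mem_univ _, (hmem h).1 h.2, fun hreg => hh ?_⟩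
    rw [Subgroup.orderOf_coe] at hreg
    rw [pRegularPart_apply, if_neg (not_not.2 hreg), zero_mul]
  · obtain ⟨-, hc, hr⟩ := Finset.mem_filter.1 hy
    refine ⟨⟨y, (hmem y).2 hc⟩, Finset.mem_univ _, ?_, rfl⟩
    have hr' : ¬ p ∣ orderOf (⟨y, (hmem y).2 hc⟩ : Subgroup.centralizer (Subgroup.zpowers x : Set G)) := by
      rwa [← Subgroup.orderOf_coe]
    rw [pRegularPart_apply, if_pos hr', pRegularPart_apply, if_pos hr',
      ← secVal_eq_blockPart hθ, ← secVal_eq_blockPart hθ']
    exact hne'
  · by_cases hr : ¬ p ∣ orderOf h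
    · rw [pRegularPart_apply, if_pos hr, pRegularPart_apply, if_pos hr, ← secVal_eq_blockPart hθ,
        ← secVal_eq_blockPart hθ']
    · exact absurd (by rw [pRegularPart_apply, if_neg hr, zero_mul]) hh

open scoped Classical in
/-- The inner product of two weighted sums of parts, section by section. -/
theorem inner_weighted (hpM : (p : AlgInt) ∈ M) (hθ : IsClassFunction G θ)
    (hθ' : IsClassFunction G θ') {f f' : G → ℂ} {w w' : BrauerPairIdx G → G → ℂ}
    (hf : ∀ g, f g = ∑ a ∈ pairsAt M (pPartElt p g), w a (pPartElt p g) * secVal a θ g)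
    (hf' : ∀ g, f' g = ∑ a ∈ pairsAt M (pPartElt p g), w' a (pPartElt p g) * secVal a θ' g) :
    classInner f f' = (Nat.card G : ℂ)⁻¹ *
      ∑ x ∈ Finset.univ.filter (fun x : G => ∃ k : ℕ, x ^ p ^ k = 1), ∑ a ∈ pairsAt M x,
        w a x * conj (w' a x) * secPair p x a θ θ' := by
  rw [inner_def]
  congr 1
  rw [← Finset.sum_fiberwise_of_maps_to (g := pPartElt p)
    (t := Finset.univ.filter (fun x : G => ∃ k : ℕ, x ^ p ^ k = 1))
    (fun g _ => Finset.mem_filter.2 ⟨Finset.mem_univ _, exists_pow_eq_one_pPartElt g⟩)]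
  refine Finset.sum_congr rfl fun x hx => ?_
  have hx' := (Finset.mem_filter.1 hx).2
  trans ∑ y ∈ Finset.univ.filter (fun y : G => Commute x y ∧ ¬ p ∣ orderOf y),
      f (x * y) * conj (f' (x * y))
  · symm
    refine Finset.sum_bij (fun y _ => x * y) (fun y hy => ?_) (fun y _ z _ h => mul_left_cancel h)
      (fun g hg => ?_) fun _ _ => rfl
    · obtain ⟨-, hc, hr⟩ := Finset.mem_filter.1 hy
      exact Finset.mem_filter.2 ⟨Finset.mem_univ _, pPartElt_mul hc hx' hr⟩
    · obtain ⟨-, rfl⟩ := Finset.mem_filter.1 hg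
      obtain ⟨hc, hgeq⟩ := commute_pPartElt_pPrimePart (p := p) g
      exact ⟨pPrimePart p g, Finset.mem_filter.2 ⟨Finset.mem_univ _, hc,
        not_dvd_orderOf_pPrimePart g⟩, hgeq⟩
  rw [Finset.sum_congr rfl fun y hy => by
    rw [hf, hf', pPartElt_mul (Finset.mem_filter.1 hy).2.1 hx' (Finset.mem_filter.1 hy).2.2,
      map_sum, Finset.sum_mul_sum]]
  rw [Finset.sum_comm]
  refine Finset.sum_congr rfl fun a ha => ?_
  rw [Finset.sum_comm, Finset.sum_eq_single a]
  · rw [secPair, Finset.mul_sum]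
    refine Finset.sum_congr (by congr) fun y _ => ?_
    rw [map_mul]; ring
  · intro a' ha' hne
    have h0 := sum_secVal_mul_conj_of_ne hpM hθ hθ' ha ha' hne.symm
    rw [← mul_zero (w a x * conj (w' a' x)), ← h0, Finset.mul_sum]
    refine Finset.sum_congr (by congr) fun y _ => ?_
    rw [map_mul]; ring
  · exact fun h => absurd ha h

open scoped Classical in
/-- The inner product of two products, section by section. -/
theorem inner_starFun {c' : BrauerPairIdx G} (hpM : (p : AlgInt) ∈ M) (hθ : IsClassFunction G θ)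
    (hθ' : IsClassFunction G θ') :
    classInner (starFun M p c η θ) (starFun M p c' η' θ') = (Nat.card G : ℂ)⁻¹ *
      ∑ x ∈ Finset.univ.filter (fun x : G => ∃ k : ℕ, x ^ p ^ k = 1), ∑ a ∈ pairsAt M x,
        pairWeight p M c η a x * conj (pairWeight p M c' η' a x) * secPair p x a θ θ' :=
  inner_weighted hpM hθ hθ' (fun _ => rfl) fun _ => rfl

open scoped Classical in
/-- The inner product of a product with a class function, section by section. -/
theorem inner_starFun_fun (hpM : (p : AlgInt) ∈ M) (hθ : IsClassFunction G θ)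
    (hθ' : IsClassFunction G θ') :
    classInner (starFun M p c η θ) θ' = (Nat.card G : ℂ)⁻¹ *
      ∑ x ∈ Finset.univ.filter (fun x : G => ∃ k : ℕ, x ^ p ^ k = 1), ∑ a ∈ pairsAt M x,
        pairWeight p M c η a x * secPair p x a θ θ' := by
  rw [inner_weighted hpM hθ hθ' (f := starFun M p c η θ) (f' := θ') (w' := fun _ _ => 1)
    (fun _ => rfl) fun g => by simp [sum_secVal]]
  simp

end CfsgLib.Blocks
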