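import Cfsg.Agent.Lib.Blocks.CyclicLocal
import Cfsg.Agent.Lib.Blocks.CyclicSocle
import Cfsg.Agent.Lib.Blocks.CyclicMackey
import Cfsg.Agent.Lib.Blocks.CyclicTwisted
import Cfsg.Agent.Lib.Blocks.CyclicCorner
import Cfsg.Agent.Lib.Blocks.CornerPowers
import Cfsg.Agent.Lib.Modular.SimpleTraces
import Mathlib.FieldTheory.IsSepClosed
import Mathlib.RingTheory.RootsOfUnity.EnoughRootsOfUnity

/-!
# A block with cyclic defect group has at least `e` Brauer characters

The pair at the subgroup of order `p` gives the twisted corner; each `e`-th root of unity occurs in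
the socle of a simple module of the block, and each simple module carries one root only.
-/

set_option autoImplicit false
set_option linter.unusedSectionVars false
set_option linter.style.haveILetI false

namespace CfsgLib.Blocks

open Cfsg Chars Modular Module

variable {G : Type*} [Group G] [Fintype G] {M : Ideal AlgInt} [M.IsPrime] {p : ℕ} [Fact p.Prime]

section incl

variable {C : Subgroup G}

theorem incl_single (h : C) (r : ResField M) :
    incl M C (MonoidAlgebra.single h r) = MonoidAlgebra.single (h : G) r := by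
  simp [incl]

theorem incl_smul (r : ResField M) (a : MonoidAlgebra (ResField M) C) :
    incl M C (r • a) = r • incl M C a := by
  apply MonoidAlgebra.ext
  ext g
  by_cases hg : g ∈ C
  · obtain ⟨h, rfl⟩ : ∃ h : C, (h : G) = g := ⟨⟨g, hg⟩, rfl⟩
    simp [coeff_incl]
  · simp [coeff_incl_of_notMem _ hg]

theorem cut_incl (a : MonoidAlgebra (ResField M) C) :
    cut (C : Set G) (incl M C a) = incl M C a :=
  cut_eq_self_iff.2 fun _ hg => coeff_incl_of_notMem a hg

theorem exists_incl_eq_of_cut [Fintype C] {a : MonoidAlgebra (ResField M) G}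
    (ha : cut (C : Set G) a = a) : ∃ a', incl M C a' = a := by
  classical
  refine ⟨∑ h : C, MonoidAlgebra.single h (a.coeff (h : G)), ?_⟩
  apply MonoidAlgebra.ext
  ext g
  by_cases hg : g ∈ C
  · obtain ⟨h, rfl⟩ : ∃ h : C, (h : G) = g := ⟨⟨g, hg⟩, rfl⟩
    rw [coeff_incl, MonoidAlgebra.coeff_sum, Finsupp.finsetSum_apply,
      Finset.sum_eq_single h (fun b _ hb => by
        rw [MonoidAlgebra.coeff_single, Finsupp.single_eq_of_ne (Ne.symm hb)])
        (fun h' => absurd (Finset.mem_univ h) h'),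
      MonoidAlgebra.coeff_single, Finsupp.single_eq_same]
  · rw [coeff_incl_of_notMem _ hg, cut_eq_self_iff.1 ha g hg]

theorem incl_mem_span {f x a : MonoidAlgebra (ResField M) C}
    (ha : a ∈ Submodule.span (ResField M) (Set.range fun i : ℕ => x ^ i * f)) :
    incl M C a ∈ Submodule.span (ResField M)
      (Set.range fun i : ℕ => incl M C x ^ i * incl M C f) := by
  induction ha using Submodule.span_induction with
  | zero => simp
  | add a b _ _ ha hb => rw [map_add]; exact add_mem ha hb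
  | smul r a _ ha => rw [incl_smul]; exact Submodule.smul_mem _ _ ha
  | mem a ha =>
    obtain ⟨i, rfl⟩ := ha
    exact Submodule.subset_span ⟨i, by simp only [map_mul, map_pow]⟩

end incl

theorem conjAlg_eq (x : G) (F : MonoidAlgebra (ResField M) G) :
    conjAlg x F = MonoidAlgebra.single x 1 * F * MonoidAlgebra.single x⁻¹ 1 := by
  apply MonoidAlgebra.ext
  ext g
  simp [coeff_conjAlg, MonoidAlgebra.coeff_mul_single_apply, MonoidAlgebra.coeff_single_mul_apply,
    mul_assoc]

theorem commute_of_cut {S : Set G} {a b : MonoidAlgebra (ResField M) G} (ha : cut S a = a)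
    (hb : ∀ g ∈ S, Commute (MonoidAlgebra.single g (1 : ResField M)) b) : Commute a b := by
  rw [Blocks.sum_single_coeff a]
  refine Commute.sum_left _ _ _ fun g _ => ?_
  by_cases hg : g ∈ S
  · rw [show MonoidAlgebra.single g (a.coeff g) = a.coeff g • MonoidAlgebra.single g 1 by simp]
    exact (hb g hg).smul_left _
  · rw [cut_eq_self_iff.1 ha g hg, MonoidAlgebra.single_zero]
    exact Commute.zero_left _

/-- An element of a centralized subgroup commutes with the group ring of the centralizer. -/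
theorem commute_single_of_cut_centralizer {Z : Subgroup G} {z : G} (hz : z ∈ Z)
    {a : MonoidAlgebra (ResField M) G}
    (ha : cut (Subgroup.centralizer (Z : Set G) : Set G) a = a) :
    Commute (MonoidAlgebra.single z (1 : ResField M)) a :=
  (commute_of_cut ha fun g hg => by
    show _ * _ = _ * _
    rw [MonoidAlgebra.single_mul_single, MonoidAlgebra.single_mul_single,
      Subgroup.mem_centralizer_iff.1 hg z hz]).symm

namespace CycLocal

variable {B : Set (IrrCharacter G)} {P : Subgroup G}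
  {c : Set (IrrCharacter (Subgroup.centralizer (P : Set G)))} {Z : Subgroup G}
  {fZ : Set (IrrCharacter (Subgroup.centralizer (Z : Set G)))}
  (L : CycLocal p M B P c Z fZ)
include L

theorem orderOf_eq {z : G} (hz : z ∈ Z) (hz1 : z ≠ 1) : orderOf z = p := by
  refine orderOf_eq_prime ?_ hz1
  have h := pow_card_eq_one' (x := (⟨z, hz⟩ : Z))
  rw [L.hcardZ] at h
  exact congrArg Subtype.val h

theorem commute_pairIdem_of_cut {a : MonoidAlgebra (ResField M) G}
    (ha : cut (Subgroup.centralizer (Z : Set G) : Set G) a = a) :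
    a * pairIdem L.pblock = pairIdem L.pblock * a := by
  haveI := Fintype.ofFinite (Subgroup.centralizer (Z : Set G))
  obtain ⟨a', rfl⟩ := exists_incl_eq_of_cut ha
  rw [pairIdem_eq_incl, ← map_mul, ← map_mul, (commute_blockIdem L.pblock a').eq]

theorem commute_single_pairIdem {h : G} (hh : h ∈ stabPair ⟨Z, fZ⟩) :
    Commute (MonoidAlgebra.single h (1 : ResField M)) (pairIdem L.pblock) := by
  have h1 := pairE_conjPair (a := (⟨Z, fZ⟩ : BrauerPairIdx G)) L.pblock h
  rw [show conjPair h (⟨Z, fZ⟩ : BrauerPairIdx G) = ⟨Z, fZ⟩ from hh,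
    pairE_eq (a := (⟨Z, fZ⟩ : BrauerPairIdx G)) L.pblock, conjAlg_eq] at h1
  show _ * _ = _ * _
  conv_rhs => rw [← h1]
  rw [mul_assoc _ (MonoidAlgebra.single h⁻¹ (1 : ResField M)), MonoidAlgebra.single_mul_single,
    inv_mul_cancel, one_mul, ← MonoidAlgebra.one_def, mul_one]

theorem pairIdem_mul_single_mul {g : G} (hg : g ∈ Subgroup.normalizer (Z : Set G))
    (hgH : g ∉ stabPair ⟨Z, fZ⟩) :
    pairIdem L.pblock * MonoidAlgebra.single g 1 * pairIdem L.pblock = 0 := by
  have h1 := pairE_conjPair (a := (⟨Z, fZ⟩ : BrauerPairIdx G)) L.pblock g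
  have h2 : IsPBlock M (conjPair g (⟨Z, fZ⟩ : BrauerPairIdx G)).2 := isPBlock_conjBlock L.pblock g
  have hfst : (conjPair g (⟨Z, fZ⟩ : BrauerPairIdx G)).1 = Z :=
    map_conj_eq_of_mem_normalizer hg
  have hne : conjPair g (⟨Z, fZ⟩ : BrauerPairIdx G) ≠ ⟨Z, fZ⟩ := hgH
  generalize conjPair g (⟨Z, fZ⟩ : BrauerPairIdx G) = b at h1 h2 hfst hne
  obtain ⟨Q, f'⟩ := b
  obtain rfl : Z = Q := hfst.symm
  rw [pairE_eq (a := (⟨Z, fZ⟩ : BrauerPairIdx G)) L.pblock,
    pairE_eq (a := (⟨Z, f'⟩ : BrauerPairIdx G)) h2, conjAlg_eq] at h1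
  have h3 : MonoidAlgebra.single g 1 * pairIdem L.pblock =
      pairIdem h2 * MonoidAlgebra.single g 1 := by
    rw [← h1, mul_assoc _ (MonoidAlgebra.single g⁻¹ (1 : ResField M)),
      MonoidAlgebra.single_mul_single, inv_mul_cancel, one_mul, ← MonoidAlgebra.one_def, mul_one]
  rw [mul_assoc, h3, ← mul_assoc,
    pairIdem_mul_of_ne L.pblock h2 (fun h => hne (by subst h; rfl)), zero_mul]

/-- A nontrivial element of `Z` fixes no nonzero idempotent below the block at `Z`. -/
theorem single_mul_ne {ι : Type*} [Fintype ι] {f : MonoidAlgebra (ResField M) G}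
    (al bl : ι → MonoidAlgebra (ResField M) G)
    (hal : ∀ i, cut (Subgroup.centralizer (Z : Set G) : Set G) (al i) = al i)
    (hdec : pairIdem L.pblock = ∑ i, al i * f * bl i) {z : G} (hz : z ∈ Z) (hz1 : z ≠ 1) :
    MonoidAlgebra.single z (1 : ResField M) * f ≠ f := by
  classical
  intro hzf
  have hp : p.Prime := Fact.out
  haveI := Fintype.ofFinite (Subgroup.centralizer (Z : Set G))
  have hzε : MonoidAlgebra.single z (1 : ResField M) * pairIdem L.pblock = pairIdem L.pblock := by
    rw [hdec, Finset.mul_sum]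
    refine Finset.sum_congr rfl fun i _ => ?_
    rw [← mul_assoc, ← mul_assoc, (commute_single_of_cut_centralizer hz (hal i)).eq,
      mul_assoc (al i) _ f, hzf]
  obtain ⟨g, hg⟩ : ∃ g, (pairIdem L.pblock).coeff g ≠ 0 := by
    by_contra hno
    push Not at hno
    exact pairIdem_ne_zero L.pblock (MonoidAlgebra.ext (Finsupp.ext fun g => by simp [hno g]))
  have hgC : g ∈ Subgroup.centralizer (Z : Set G) :=
    Classical.not_not.1 fun h => hg (cut_eq_self_iff.1 (cut_pairIdem L.pblock) g h)
  obtain ⟨e', hPC, -⟩ := L.local_block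
  have hzC : z ∈ Subgroup.centralizer (Z : Set G) := hPC (L.hZP hz)
  have hvan : ∀ h : Subgroup.centralizer (Z : Set G), p ∣ orderOf h →
      (pairIdem L.pblock).coeff (h : G) = 0 := fun h hh => by
    rw [pairIdem_eq_incl, coeff_incl, coeff_blockIdem_eq_zero_iff,
      blockCoeff_eq_zero_of_dvd hp L.hM.2.2 L.pblock hh]
    exact MemLocalIdeal.zero'
  have hreg : ¬ p ∣ orderOf g := fun h => hg (hvan ⟨g, hgC⟩ (by
    rwa [← Subgroup.orderOf_coe]))
  refine hg ?_
  rw [← hzε, MonoidAlgebra.coeff_single_mul_apply, one_mul]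
  have hcomm : Commute z⁻¹ g :=
    (show Commute z g from (Subgroup.mem_centralizer_iff.1 hgC z hz)).inv_left
  have hzi : orderOf z⁻¹ = p := by rw [orderOf_inv, L.orderOf_eq hz hz1]
  refine hvan ⟨z⁻¹ * g, mul_mem (inv_mem hzC) hgC⟩ ?_
  rw [← Subgroup.orderOf_coe]
  show p ∣ orderOf (z⁻¹ * g)
  rw [hcomm.orderOf_mul_eq_mul_orderOf_of_coprime (by
    rw [hzi]; exact hp.coprime_iff_not_dvd.2 hreg), hzi]
  exact dvd_mul_right _ _

/-- The corner of the block at `Z`. -/
theorem exists_local_corner [Fintype (Subgroup.centralizer (Z : Set G))] :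
    ∃ (f x : MonoidAlgebra (ResField M) G)
      (al bl : Subgroup.centralizer (Z : Set G) × Subgroup.centralizer (Z : Set G) →
        MonoidAlgebra (ResField M) G),
      cut (Subgroup.centralizer (Z : Set G) : Set G) f = f ∧
      cut (Subgroup.centralizer (Z : Set G) : Set G) x = x ∧
      (∀ i, cut (Subgroup.centralizer (Z : Set G) : Set G) (al i) = al i) ∧
      (∀ i, cut (Subgroup.centralizer (Z : Set G) : Set G) (bl i) = bl i) ∧
      pairIdem L.pblock = ∑ i, al i * f * bl i ∧
      f * f = f ∧ f ≠ 0 ∧ pairIdem L.pblock * f = f ∧ f * x = x ∧ x * f = x ∧ IsNilpotent x ∧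
      x ≠ 0 ∧
      (∀ a, cut (Subgroup.centralizer (Z : Set G) : Set G) a = a →
        f * a * f ∈ Submodule.span (ResField M) (Set.range fun i : ℕ => x ^ i * f)) ∧
      ∀ z ∈ Z, z ≠ 1 → MonoidAlgebra.single z (1 : ResField M) * f ≠ f := by
  classical
  obtain ⟨e', hPC, hloc⟩ := L.local_block
  obtain ⟨hmax', -, hD, hl⟩ := hloc
  haveI := L.hcyc
  haveI : IsCyclic (P.subgroupOf (Subgroup.centralizer (Z : Set G))) :=
    isCyclic_of_surjective (Subgroup.subgroupOfEquivOfLe hPC).symm.toMonoidHom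
      (Subgroup.subgroupOfEquivOfLe hPC).symm.surjective
  obtain ⟨u, hu⟩ := IsCyclic.exists_generator (α := P.subgroupOf (Subgroup.centralizer (Z : Set G)))
  have hPu : P.subgroupOf (Subgroup.centralizer (Z : Set G)) =
      Subgroup.zpowers (u : Subgroup.centralizer (Z : Set G)) := by
    refine le_antisymm (fun v hv => ?_) (Subgroup.zpowers_le.2 u.2)
    obtain ⟨j, hj⟩ := Subgroup.mem_zpowers_iff.1 (hu ⟨v, hv⟩)
    exact ⟨j, congrArg Subtype.val hj⟩
  obtain ⟨f', x', u', v', hff, hf0, hef, hfx, hxf, hnil, hdec, hspan⟩ :=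
    exists_corner_gen L.hM.2.2 L.pblock hl
      (cornerCyclic_of_cyclic L.hM.2.2 L.pblock hD hmax'.1.1.1 hPu)
  set f := incl M _ f' with hf
  set x := incl M _ x' with hx
  have hdec' : pairIdem L.pblock = ∑ i, incl M _ (u' i) * f * incl M _ (v' i) := by
    rw [pairIdem_eq_incl, hdec, map_sum]
    exact Finset.sum_congr rfl fun i _ => by rw [map_mul, map_mul]
  have hne : ∀ z ∈ Z, z ≠ 1 → MonoidAlgebra.single z (1 : ResField M) * f ≠ f :=
    fun z hz hz1 => L.single_mul_ne _ _ (fun i => cut_incl _) hdec' hz hz1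
  have hff' : f * f = f := by rw [hf, ← map_mul, hff]
  have hf0' : f ≠ 0 := fun h => hf0 (incl_injective (by rw [← hf, h, map_zero]))
  have hspan' : ∀ a, cut (Subgroup.centralizer (Z : Set G) : Set G) a = a →
      f * a * f ∈ Submodule.span (ResField M) (Set.range fun i : ℕ => x ^ i * f) := fun a ha => by
    obtain ⟨a', rfl⟩ := exists_incl_eq_of_cut ha
    rw [hf, hx, ← map_mul, ← map_mul]
    exact incl_mem_span (hspan a')
  refine ⟨f, x, _, _, cut_incl _, cut_incl _, fun i => cut_incl _, fun i => cut_incl _, hdec',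
    hff', hf0', by rw [pairIdem_eq_incl, hf, ← map_mul, hef], by rw [hf, hx, ← map_mul, hfx],
    by rw [hf, hx, ← map_mul, hxf], hnil.map _, fun h0 => ?_, hspan', hne⟩
  -- the corner is not the field
  obtain ⟨z, hz, hz1⟩ : ∃ z ∈ Z, z ≠ 1 :=
    (Subgroup.bot_or_exists_ne_one Z).resolve_left L.Z_ne_bot
  have hzC := commute_single_of_cut_centralizer hz (cut_incl (M := M) f')
  have h1 := hspan' (MonoidAlgebra.single z 1) (cut_eq_self_iff.2 fun g hg => by
    rw [MonoidAlgebra.coeff_single, Finsupp.single_eq_of_ne]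
    rintro rfl
    exact hg (hPC (L.hZP hz)))
  rw [← hzC.eq, mul_assoc, hff'] at h1
  have h2 : MonoidAlgebra.single z (1 : ResField M) * f ∈ Submodule.span (ResField M) {f} := by
    refine Submodule.span_le.2 ?_ h1
    rintro _ ⟨i, rfl⟩
    rcases i with _ | i
    · exact Submodule.subset_span (by simp)
    · simp [h0]
  obtain ⟨r, hr⟩ := Submodule.mem_span_singleton.1 h2
  have hpow : ∀ i : ℕ, MonoidAlgebra.single (z ^ i) (1 : ResField M) * f = r ^ i • f := fun i => by
    induction i with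
    | zero => rw [pow_zero, pow_zero, one_smul, ← MonoidAlgebra.one_def, one_mul]
    | succ i ih =>
      rw [pow_succ' z, ← one_mul (1 : ResField M), ← MonoidAlgebra.single_mul_single,
        mul_assoc, ih, mul_smul_comm, ← hr, smul_smul, pow_succ]
  have hrp := hpow p
  rw [← L.orderOf_eq hz hz1, pow_orderOf_eq_one, ← MonoidAlgebra.one_def, one_mul,
    L.orderOf_eq hz hz1] at hrp
  haveI := charP_resField (M := M) (Fact.out : p.Prime) L.hM.2.2
  have hr1 : r ^ p = 1 := (smul_left_injective (ResField M) hf0') (by simpa using hrp.symm)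
  have hr' : r = 1 := by
    rw [← sub_eq_zero]
    refine (pow_eq_zero_iff (Fact.out : p.Prime).ne_zero).1 ?_
    rw [sub_pow_char, hr1, one_pow, sub_self]
  exact hne z hz hz1 (by rw [← hr, hr', one_smul])

open scoped Classical in
/-- The trace form of the idempotent at `Z`. -/
theorem exists_trace_gamma [Fintype (Subgroup.centralizer (Z : Set G))] {t : G} {e : ℕ}
    (ht : t ∈ stabPair ⟨Z, fZ⟩) (hek : (e : ResField M) ≠ 0)
    (hgen : ∀ h ∈ stabPair ⟨Z, fZ⟩, ∃ i : ℕ,
      i < e ∧ (t ^ i)⁻¹ * h ∈ Subgroup.centralizer (Z : Set G))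
    (hte : ∀ i : ℕ, t ^ i ∈ Subgroup.centralizer (Z : Set G) ↔ e ∣ i) :
    ∃ γ : MonoidAlgebra (ResField M) G,
      (∀ v ∈ P, Commute (MonoidAlgebra.single v (1 : ResField M)) γ) ∧
      pairIdem L.pblock = ∑ q ∈ Finset.univ.filter (fun q : G ⧸ P => q.out ∈ stabPair ⟨Z, fZ⟩),
        MonoidAlgebra.single q.out (1 : ResField M) * γ * MonoidAlgebra.single (q.out)⁻¹ 1 := by
  have hCH : (Subgroup.centralizer (Z : Set G)) ≤ (stabPair ⟨Z, fZ⟩) := centralizer_le_stabPair L.pblock
  obtain ⟨e', hPC, hloc⟩ := L.local_block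
  obtain ⟨-, -, hD, -⟩ := hloc
  obtain ⟨γ', hγ', hsum'⟩ := exists_blockIdem_eq_trace L.hM.2.2 L.pblock hD
  have hγ : ∀ v ∈ P, Commute (MonoidAlgebra.single v (1 : ResField M)) (incl M (Subgroup.centralizer (Z : Set G)) γ') :=
    fun v hv => by
    have h1 := congrArg (incl M (Subgroup.centralizer (Z : Set G))) (hγ' ⟨v, hPC hv⟩ (Subgroup.mem_subgroupOf.2 hv)).eq
    rw [map_mul, map_mul, incl_single] at h1
    exact h1
  refine ⟨(e : ResField M)⁻¹ • incl M (Subgroup.centralizer (Z : Set G)) γ', fun v hv => (hγ v hv).smul_right _, ?_⟩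
  have hmk : ∀ a : G, MonoidAlgebra.single (QuotientGroup.mk a : G ⧸ P).out (1 : ResField M) *
      incl M (Subgroup.centralizer (Z : Set G)) γ' * MonoidAlgebra.single ((QuotientGroup.mk a : G ⧸ P).out)⁻¹ 1 =
        MonoidAlgebra.single a 1 * incl M (Subgroup.centralizer (Z : Set G)) γ' * MonoidAlgebra.single a⁻¹ 1 := fun a => by
    obtain ⟨⟨w, hw⟩, hw'⟩ := QuotientGroup.mk_out_eq_mul P a
    rw [hw', show MonoidAlgebra.single (a * w) (1 : ResField M) =
      MonoidAlgebra.single a 1 * MonoidAlgebra.single w 1 by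
        rw [MonoidAlgebra.single_mul_single, one_mul], mul_assoc _ (MonoidAlgebra.single w 1),
      (hγ w hw).eq, mul_assoc, mul_assoc (incl M (Subgroup.centralizer (Z : Set G)) γ'), MonoidAlgebra.single_mul_single, one_mul,
      mul_inv_rev, mul_inv_cancel_left, mul_assoc]
  have hmem : ∀ a : G, (QuotientGroup.mk a : G ⧸ P).out ∈ (stabPair ⟨Z, fZ⟩) ↔ a ∈ (stabPair ⟨Z, fZ⟩) := fun a => by
    obtain ⟨⟨w, hw⟩, hw'⟩ := QuotientGroup.mk_out_eq_mul P a
    rw [hw']
    exact (stabPair ⟨Z, fZ⟩).mul_mem_cancel_right (hCH (hPC hw))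
  have key : ∑ q ∈ Finset.univ.filter (fun q : G ⧸ P => q.out ∈ (stabPair ⟨Z, fZ⟩)),
      MonoidAlgebra.single q.out (1 : ResField M) * incl M (Subgroup.centralizer (Z : Set G)) γ' *
        MonoidAlgebra.single (q.out)⁻¹ 1 = (e : ResField M) • pairIdem L.pblock := by
    symm
    rw [Nat.cast_smul_eq_nsmul, ← Finset.card_range e, ← Finset.sum_const]
    have h1 : ∀ i ∈ Finset.range e, pairIdem L.pblock = ∑ r : (Subgroup.centralizer (Z : Set G)) ⧸ P.subgroupOf (Subgroup.centralizer (Z : Set G)),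
        MonoidAlgebra.single (t ^ i * (r.out : G)) (1 : ResField M) * incl M (Subgroup.centralizer (Z : Set G)) γ' *
          MonoidAlgebra.single (t ^ i * (r.out : G))⁻¹ 1 := fun i _ => by
      have h2 : pairIdem L.pblock = MonoidAlgebra.single (t ^ i) (1 : ResField M) *
          pairIdem L.pblock * MonoidAlgebra.single (t ^ i)⁻¹ 1 := by
        rw [(L.commute_single_pairIdem ((stabPair ⟨Z, fZ⟩).pow_mem ht i)).eq, mul_assoc,
          MonoidAlgebra.single_mul_single, mul_inv_cancel, one_mul, ← MonoidAlgebra.one_def,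
          mul_one]
      rw [h2]
      conv_lhs => rw [pairIdem_eq_incl, hsum', map_sum, Finset.mul_sum, Finset.sum_mul]
      refine Finset.sum_congr rfl fun r _ => ?_
      rw [map_mul, map_mul, incl_single, incl_single, Subgroup.coe_inv, mul_inv_rev]
      simp only [← mul_assoc, MonoidAlgebra.single_mul_single, one_mul]
      rw [mul_assoc _ (MonoidAlgebra.single ((r.out : G))⁻¹ (1 : ResField M)),
        MonoidAlgebra.single_mul_single, one_mul]
    rw [Finset.sum_congr rfl h1, ← Finset.sum_product']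
    refine Finset.sum_bij (fun ir _ => (QuotientGroup.mk (t ^ ir.1 * (ir.2.out : G)) : G ⧸ P))
      (fun ir _ => Finset.mem_filter.2 ⟨Finset.mem_univ _,
        (hmem _).2 ((stabPair ⟨Z, fZ⟩).mul_mem ((stabPair ⟨Z, fZ⟩).pow_mem ht _) (hCH ir.2.out.2))⟩) ?_ ?_
      (fun ir _ => (hmk _).symm)
    · rintro ⟨i, r⟩ hi ⟨j, s⟩ hj h
      have hi' := Finset.mem_range.1 (Finset.mem_product.1 hi).1
      have hj' := Finset.mem_range.1 (Finset.mem_product.1 hj).1
      rw [QuotientGroup.eq] at h
      have h1 : (t ^ i)⁻¹ * t ^ j ∈ (Subgroup.centralizer (Z : Set G)) := by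
        have := (Subgroup.centralizer (Z : Set G)).mul_mem ((Subgroup.centralizer (Z : Set G)).mul_mem r.out.2 (hPC h)) ((Subgroup.centralizer (Z : Set G)).inv_mem s.out.2)
        simpa [mul_assoc] using this
      have hij : i = j := by
        rcases le_total i j with hle | hle
        · obtain ⟨d, rfl⟩ := Nat.exists_eq_add_of_le hle
          rw [pow_add, inv_mul_cancel_left] at h1
          have := Nat.eq_zero_of_dvd_of_lt ((hte d).1 h1) (by omega)
          omega
        · obtain ⟨d, rfl⟩ := Nat.exists_eq_add_of_le hle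
          rw [pow_add, mul_inv_rev, mul_assoc, inv_mul_cancel, mul_one, inv_mem_iff] at h1
          have := Nat.eq_zero_of_dvd_of_lt ((hte d).1 h1) (by omega)
          omega
      subst hij
      rw [mul_inv_rev, mul_assoc, inv_mul_cancel_left] at h
      have hrs : r = s := by
        rw [← QuotientGroup.out_eq' r, ← QuotientGroup.out_eq' s, QuotientGroup.eq,
          Subgroup.mem_subgroupOf]
        simpa using h
      rw [hrs]
    · intro q hq
      obtain ⟨i, hi, hic⟩ := hgen _ (Finset.mem_filter.1 hq).2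
      refine ⟨(i, QuotientGroup.mk ⟨_, hic⟩), Finset.mem_product.2
        ⟨Finset.mem_range.2 hi, Finset.mem_univ _⟩, ?_⟩
      obtain ⟨⟨w, hw⟩, hw'⟩ := QuotientGroup.mk_out_eq_mul (P.subgroupOf (Subgroup.centralizer (Z : Set G))) (⟨_, hic⟩ : (Subgroup.centralizer (Z : Set G)))
      conv_rhs => rw [← QuotientGroup.out_eq' q]
      rw [QuotientGroup.eq, hw']
      have hw2 : (w : G)⁻¹ ∈ P := P.inv_mem (Subgroup.mem_subgroupOf.1 hw)
      simpa [mul_assoc] using hw2
  simp only [mul_smul_comm, smul_mul_assoc]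
  rw [← Finset.smul_sum, key, smul_smul, inv_mul_cancel₀ hek, one_smul]

/-- **At least `e` Brauer characters.** -/
theorem relIndex_le_blockRank :
    (Subgroup.centralizer (Z : Set G)).relIndex (stabPair ⟨Z, fZ⟩) ≤ blockRank p B := by
  classical
  have hp : p.Prime := Fact.out
  have hpM : (p : AlgInt) ∈ M := L.hM.2.2
  haveI := charP_resField (M := M) hp hpM
  haveI := Fintype.ofFinite (Subgroup.centralizer (Z : Set G))
  have hB : IsPBlock M B := L.hmax.1.2.1
  obtain ⟨t, ht, hgen, hte, hep⟩ := L.exists_cyclic_gen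
  set e := (Subgroup.centralizer (Z : Set G)).relIndex (stabPair ⟨Z, fZ⟩) with he
  set ε := pairIdem L.pblock with hε
  have hCH : (Subgroup.centralizer (Z : Set G)) ≤ (stabPair ⟨Z, fZ⟩) := centralizer_le_stabPair L.pblock
  have hHN : (stabPair ⟨Z, fZ⟩) ≤ Subgroup.normalizer (Z : Set G) := stabPair_le_normalizer _
  have htC : ∀ g, g ∈ (Subgroup.centralizer (Z : Set G)) ↔ t * g * t⁻¹ ∈ (Subgroup.centralizer (Z : Set G)) := fun g => (conj_mem_centralizer_iff (hHN ht) g).symm
  have he0 : 0 < e := by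
    obtain ⟨i, hi, -⟩ := hgen 1 (stabPair ⟨Z, fZ⟩).one_mem
    omega
  have hek : (e : ResField M) ≠ 0 := fun h => by
    have h1 := Nat.le_of_dvd (by have := hp.two_le; omega) hep
    have h2 := Nat.le_of_dvd he0 ((CharP.cast_eq_zero_iff (ResField M) p e).1 h)
    have := hp.two_le
    omega
  obtain ⟨f, x₀, al, bl, hf, hx₀, hal, hbl, hdec, hff, hf0, hεf, hfx, hxf, hnil, hx0, hspan, hne⟩ :=
    L.exists_local_corner
  have hεC : ∀ a, cut ((Subgroup.centralizer (Z : Set G)) : Set G) a = a → a * ε = ε * a := fun a ha => L.commute_pairIdem_of_cut ha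
  obtain ⟨x, u, c0, ω, n, D, hui, hcanc⟩ := exists_socleData (p := p) hCH ht htC he0 hep hgen hte
    al bl hal hbl hdec hεf hεC (L.commute_single_pairIdem ht).eq hf hx₀ hff hf0 hfx hxf hnil hx0
    hspan
  obtain ⟨γ, hγ, hγsum⟩ := L.exists_trace_gamma ht hek hgen hte
  set E := blockIdem hB with hE
  have hEc : ∀ a, E * a = a * E := fun a => (commute_blockIdem hB a).eq
  have hεB : ε * cut ((Subgroup.centralizer (Z : Set G)) : Set G) E = ε := by
    have h := (isBrauerPairOf_iff_of_below hpM L.hbelow B).2 L.hmax.1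
    exact (isBrauerPairOf_iff hpM h.1 hB).1.1 h
  have hfE : f * cut ((Subgroup.centralizer (Z : Set G)) : Set G) E = f := by
    have hfε : f * ε = f := by rw [hεC f hf, hεf]
    rw [← hfε, mul_assoc, hεB]
  have hcut : ∀ j < e, c0 (f * cut ((Subgroup.centralizer (Z : Set G)) : Set G) (E * (u ^ j * f)) * f) =
      if j = 0 then 1 else 0 := by
    intro j hj
    split_ifs with hj0
    · rw [hj0, pow_zero, one_mul, cut_mul_right (Subgroup.centralizer (Z : Set G)) hf, ← mul_assoc, hfE, hff, hff, D.hc0]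
    · by_contra h0
      set a := cut ((Subgroup.centralizer (Z : Set G)) : Set G) (E * (u ^ j * f)) with ha
      have haC : cut ((Subgroup.centralizer (Z : Set G)) : Set G) a = a := by rw [ha, cut_cut, Set.inter_self]
      have hjC : t ^ j ∉ (Subgroup.centralizer (Z : Set G)) := fun h => hj0 (Nat.eq_zero_of_dvd_of_lt ((hte j).1 h) hj)
      obtain ⟨z, hz, hzj⟩ : ∃ z ∈ Z, t ^ j * z * (t ^ j)⁻¹ ≠ z := by
        by_contra hno
        push Not at hno
        exact hjC (Subgroup.mem_centralizer_iff.2 fun z hz =>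
          ((mul_inv_eq_iff_eq_mul.1 (hno z hz))).symm)
      set z₂ := t ^ j * z * (t ^ j)⁻¹ with hz₂
      have hz₂Z : z₂ ∈ Z := (Subgroup.mem_normalizer_iff.1 (hHN ((stabPair ⟨Z, fZ⟩).pow_mem ht j)) z).1 hz
      have hZC : ∀ {w : G}, w ∈ Z → cut ((Subgroup.centralizer (Z : Set G)) : Set G) (MonoidAlgebra.single w (1 : ResField M)) =
          MonoidAlgebra.single w 1 := fun {w} hw => cut_single_self (by
        obtain ⟨e', hPC, -⟩ := L.local_block
        exact hPC (L.hZP hw)) 1
      have hy : u ^ j * f * MonoidAlgebra.single z (1 : ResField M) =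
          MonoidAlgebra.single z₂ 1 * (u ^ j * f) := by
        conv_lhs => rw [Blocks.sum_single_coeff (u ^ j * f), Finset.sum_mul]
        conv_rhs => rw [Blocks.sum_single_coeff (u ^ j * f), Finset.mul_sum]
        refine Finset.sum_congr rfl fun g _ => ?_
        by_cases hg : g ∈ cosetSet (Subgroup.centralizer (Z : Set G)) t j
        · rw [MonoidAlgebra.single_mul_single, MonoidAlgebra.single_mul_single, one_mul, mul_one]
          congr 1
          have hzg : z * ((t ^ j)⁻¹ * g) = (t ^ j)⁻¹ * g * z :=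
            Subgroup.mem_centralizer_iff.1 hg z hz
          calc g * z = t ^ j * ((t ^ j)⁻¹ * g * z) := by group
            _ = t ^ j * (z * ((t ^ j)⁻¹ * g)) := by rw [hzg]
            _ = z₂ * g := by rw [hz₂]; group
        · rw [cut_eq_self_iff.1 (hui j) g hg, MonoidAlgebra.single_zero, zero_mul, mul_zero]
      have haz : a * MonoidAlgebra.single z (1 : ResField M) =
          a * MonoidAlgebra.single z₂ 1 := by
        rw [ha, ← cut_mul_right (Subgroup.centralizer (Z : Set G)) (hZC hz), mul_assoc, hy, ← mul_assoc E, hEc, mul_assoc,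
          cut_mul_left (Subgroup.centralizer (Z : Set G)) (hZC hz₂Z), (commute_single_of_cut_centralizer hz₂Z haC).eq]
      have h1 : f * a * f *
          (MonoidAlgebra.single z (1 : ResField M) - MonoidAlgebra.single z₂ 1) = 0 := by
        rw [mul_sub, sub_eq_zero, mul_assoc _ f,
          ← (commute_single_of_cut_centralizer hz hf).eq, mul_assoc _ f,
          ← (commute_single_of_cut_centralizer hz₂Z hf).eq]
        simp only [← mul_assoc]
        rw [mul_assoc f a, haz, ← mul_assoc]
      have h2 := hcanc a haC h0 _ h1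
      rw [mul_sub, sub_eq_zero, ← (commute_single_of_cut_centralizer hz hf).eq,
        ← (commute_single_of_cut_centralizer hz₂Z hf).eq] at h2
      refine hne (z₂⁻¹ * z) (Z.mul_mem (Z.inv_mem hz₂Z) hz)
        (fun h => hzj (inv_mul_eq_one.1 h)) ?_
      rw [← one_mul (1 : ResField M), ← MonoidAlgebra.single_mul_single, mul_assoc, h2,
        ← mul_assoc, MonoidAlgebra.single_mul_single, inv_mul_cancel, one_mul,
        ← MonoidAlgebra.one_def, one_mul]
  haveI : NeZero (e : ResField M) := ⟨hek⟩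
  obtain ⟨ζ, hζ⟩ := HasEnoughRootsOfUnity.exists_primitiveRoot (ResField M) e
  have hζi : ∀ i : Fin e, (ζ ^ (i : ℕ)) ^ e = 1 := fun i => by
    rw [← pow_mul, mul_comm, pow_mul, hζ.pow_eq_one, one_pow]
  have hex := fun i : Fin e =>
    SocleData.exists_simple_eigen D al bl hal hdec hεf hεC hEc (blockIdem_mul_self hB) hcut (hζi i)
  choose V iA iM iF σ hσ hσE w hw using hex
  letI := iA
  letI := iM
  haveI := iF
  refine (Fintype.card_fin e).symm.le.trans (card_simple_le_blockRank hpM hB σ hσ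
    (fun i j hij φ hφ => ?_) fun i => by rw [blockOp_eq_asAlgebraHom]; exact hσE i)
  by_contra hφ0
  have hinj := ((hσ i).injective_or_eq_zero hφ).resolve_right hφ0
  have hsurj := ((hσ j).surjective_or_eq_zero hφ).resolve_right hφ0
  obtain ⟨hwf, hwx, hwu, hwp⟩ := hw i
  have hw' : EigenTop (σ j) f x u (x ^ n * f) (ζ ^ (i : ℕ)) (φ (w i)) :=
    ⟨by rw [← asAlgebraHom_intertwine hφ, hwf],
      by rw [← asAlgebraHom_intertwine hφ, hwx, map_zero],
      by rw [← asAlgebraHom_intertwine hφ, hwu, map_smul], fun v hv => by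
        obtain ⟨v', rfl⟩ := hsurj v
        rw [← asAlgebraHom_intertwine hφ] at hv
        exact hwp v' (hinj hv)⟩
  have heq := SocleData.eigen_unique D hCH al bl hal hbl hdec hεf (pairIdem_mul_self L.pblock)
    (fun a ha => (commute_of_cut ha fun g hg => L.commute_single_pairIdem hg).eq) (hσ j)
    (fun Ψ h1 h2 h3 => exists_mackey L.hZP
      ((fun v hv => hCH (L.local_block.choose_spec.1 hv) : P ≤ (stabPair ⟨Z, fZ⟩))) L.Z_ne_bot hHN
      (fun R hR hR0 => L.le_of_ne_bot hR hR0) (fun h hh => L.commute_single_pairIdem hh)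
      (pairIdem_mul_self L.pblock) hγ hγsum (fun g hg hgH => L.pairIdem_mul_single_mul hg hgH)
      (σ j) Ψ h1 h2 h3) (hζi i) (hζi j) hw' (hw j)
  exact hij (Fin.ext (hζ.pow_inj i.2 j.2 heq))

end CycLocal

end CfsgLib.Blocks
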