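import Cfsg.Agent.Lib.Blocks.FreeCoherence
import Cfsg.Agent.Lib.Blocks.DefectOneStructure

/-!
# The standard columns of a semiregular action

The generalized characters of an abelian group with the orthogonality of the subsections of a
block of maximal size are, up to signs, the orbit sums of the linear characters and constants.
-/

set_option autoImplicit false
set_option linter.unusedSectionVars false
set_option linter.style.haveILetI false

namespace CfsgLib.Blocks

open Cfsg Chars BlockOrth Finset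
open scoped ComplexConjugate

universe u v w

variable {A : Type w} [Group A] [Fintype A] {E : Subgroup (MulAut A)}
  {G : Type u} [Group G] [Fintype G] {H : Type v} [Group H] [Fintype H]
  {B : Set (IrrCharacter G)} {c : Set (IrrCharacter H)}
  {s : IrrCharacter G → {u : A // u ≠ 1} → ℂ} {t : IrrCharacter H → {u : A // u ≠ 1} → ℂ}

/-- Columns which are orbit sums on an exceptional set and constant signs elsewhere. -/
structure StdCols (E : Subgroup (MulAut A)) (B : Set (IrrCharacter G))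
    (s : IrrCharacter G → {u : A // u ≠ 1} → ℂ) (Y : Set (IrrCharacter G))
    (y : IrrCharacter A → IrrCharacter G) (a : IrrCharacter G → ℤ) (δ : ℤ) : Prop where
  subset : Y ⊆ B
  mem : ∀ l : IrrCharacter A, l ≠ principal A → y l ∈ Y
  surj : ∀ χ ∈ Y, ∃ l : IrrCharacter A, l ≠ principal A ∧ y l = χ
  orbit : ∀ l m : IrrCharacter A, l ≠ principal A → m ≠ principal A →
    (y l = y m ↔ ∃ σ : E, pullIrr (σ : MulAut A) l = m)
  val : ∀ l : IrrCharacter A, l ≠ principal A → ∀ u : {u : A // u ≠ 1},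
    s (y l) u = (δ : ℂ) * ∑ᶠ σ : E, (l : A → ℂ) ((σ : MulAut A) u.1)
  val' : ∀ χ ∈ B \ Y, ∀ u : {u : A // u ≠ 1}, s χ u = (a χ : ℂ)
  sign : δ = 1 ∨ δ = -1
  sign' : ∀ χ ∈ B \ Y, a χ = 1 ∨ a χ = -1
  card_diff : Nat.card (B \ Y : Set (IrrCharacter G)) = Nat.card E

namespace StdCols

variable {Y : Set (IrrCharacter G)} {y : IrrCharacter A → IrrCharacter G}
  {a : IrrCharacter G → ℤ} {δ : ℤ} {Y' : Set (IrrCharacter H)}
  {y' : IrrCharacter A → IrrCharacter H} {a' : IrrCharacter H → ℤ} {δ' : ℤ}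

/-- Two sets of standard columns match up to signs, with one sign on the exceptional set. -/
theorem exists_matching (h : StdCols E B s Y y a δ) (h' : StdCols E c t Y' y' a' δ') :
    ∃ (I : IrrCharacter H → IrrCharacter G) (ε : IrrCharacter H → ℤ), Set.BijOn I c B ∧
      (∀ η ∈ c, ε η = 1 ∨ ε η = -1) ∧ (∀ η ∈ c, ∀ u, s (I η) u = (ε η : ℂ) * t η u) ∧
      ∀ η ∈ Y', ε η = δ * δ' := by
  classical
  obtain ⟨f⟩ : Nonempty ((c \ Y' : Set (IrrCharacter H)) ≃ (B \ Y : Set (IrrCharacter G))) :=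
    ⟨Finite.card_eq.mp (h'.card_diff.trans h.card_diff.symm) |>.some⟩
  choose l hl hly using h'.surj
  let I : IrrCharacter H → IrrCharacter G := fun η =>
    if hη : η ∈ Y' then y (l η hη)
    else if hc : η ∈ c then (f ⟨η, hc, hη⟩).1 else y (principal A)
  let ε : IrrCharacter H → ℤ := fun η =>
    if η ∈ Y' then δ * δ' else a (I η) * a' η
  have hI1 : ∀ η (hη : η ∈ Y'), I η = y (l η hη) := fun η hη => dif_pos hη
  have hI2 : ∀ η (hη : η ∈ c \ Y'), I η = (f ⟨η, hη⟩).1 := fun η hη => by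
    simp only [I, dif_neg hη.2, dif_pos hη.1]
  have hmem : ∀ η ∈ c, (η ∈ Y' → I η ∈ Y) ∧ (η ∉ Y' → I η ∈ B \ Y) := fun η hη =>
    ⟨fun h1 => by rw [hI1 η h1]; exact h.mem _ (hl η h1),
      fun h1 => by rw [hI2 η ⟨hη, h1⟩]; exact (f _).2⟩
  refine ⟨I, ε, ⟨fun η hη => ?_, fun η hη η' hη' e => ?_, fun χ hχ => ?_⟩, fun η hη => ?_,
    fun η hη u => ?_, fun η hη => if_pos hη⟩
  · by_cases h1 : η ∈ Y'
    · exact h.subset ((hmem η hη).1 h1)
    · exact ((hmem η hη).2 h1).1
  · by_cases h1 : η ∈ Y' <;> by_cases h2 : η' ∈ Y'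
    · rw [hI1 η h1, hI1 η' h2, h.orbit _ _ (hl η h1) (hl η' h2),
        ← h'.orbit _ _ (hl η h1) (hl η' h2), hly, hly] at e
      exact e
    · exact absurd ((hmem η hη).1 h1) (e ▸ ((hmem η' hη').2 h2).2)
    · exact absurd ((hmem η' hη').1 h2) (e ▸ ((hmem η hη).2 h1).2)
    · rw [hI2 η ⟨hη, h1⟩, hI2 η' ⟨hη', h2⟩] at e
      exact congrArg Subtype.val (f.injective (Subtype.ext e))
  · by_cases h1 : χ ∈ Y
    · obtain ⟨m, hm, rfl⟩ := h.surj χ h1
      refine ⟨y' m, h'.subset (h'.mem m hm), ?_⟩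
      rw [hI1 _ (h'.mem m hm), h.orbit _ _ (hl _ _) hm, ← h'.orbit _ _ (hl _ _) hm, hly]
    · refine ⟨(f.symm ⟨χ, hχ, h1⟩).1, (f.symm ⟨χ, hχ, h1⟩).2.1, ?_⟩
      rw [hI2 _ (f.symm ⟨χ, hχ, h1⟩).2, Subtype.coe_eta, Equiv.apply_symm_apply]
  · by_cases h1 : η ∈ Y'
    · simp only [ε, if_pos h1]
      rcases h.sign with e | e <;> rcases h'.sign with e' | e' <;> simp [e, e']
    · simp only [ε, if_neg h1]
      rcases h.sign' _ ((hmem η hη).2 h1) with e | e <;>
        rcases h'.sign' _ ⟨hη, h1⟩ with e' | e' <;> simp [e, e']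
  · by_cases h1 : η ∈ Y'
    · simp only [ε, if_pos h1, Int.cast_mul]
      rw [hI1 η h1, h.val _ (hl η h1) u]
      conv_rhs => rw [← hly η h1, h'.val _ (hl η h1) u]
      rcases h'.sign with e | e <;> rw [e] <;> push_cast <;> ring
    · simp only [ε, if_neg h1, Int.cast_mul]
      rw [h.val' _ ((hmem η hη).2 h1) u, h'.val' _ ⟨hη, h1⟩ u]
      rcases h'.sign' _ ⟨hη, h1⟩ with e | e <;> rw [e] <;> push_cast <;> ring

/-- Standard columns along an isomorphism. -/
theorem transport (h : StdCols E B s Y y a δ) {A' : Type*} [Group A'] [Fintype A']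
    (ψ : A' ≃* A) {E' : Subgroup (MulAut A')}
    (hE : ∀ σ : MulAut A', σ ∈ E' ↔ (ψ.symm.trans σ).trans ψ ∈ E) :
    StdCols E' B (fun χ u => s χ ⟨ψ u.1, fun e => u.2 (ψ.injective (e.trans (map_one ψ).symm))⟩) Y
      (fun l => y (pullIrr ψ.symm l)) a δ := by
  classical
  have hne : ∀ l : IrrCharacter A', l ≠ principal A' → pullIrr ψ.symm l ≠ principal A :=
    fun l hl e => hl (by
      have h1 := congrArg (pullIrr ψ) e
      rw [pullIrr_symm] at h1
      exact h1.trans (Subtype.ext rfl))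
  let Φ : E' ≃ E :=
    { toFun := fun σ => ⟨(ψ.symm.trans (σ : MulAut A')).trans ψ, (hE _).1 σ.2⟩
      invFun := fun τ => ⟨(ψ.trans (τ : MulAut A)).trans ψ.symm, (hE _).2 (by
        convert τ.2 using 1
        exact MulEquiv.ext fun x => by simp)⟩
      left_inv := fun σ => Subtype.ext (MulEquiv.ext fun x => by simp)
      right_inv := fun τ => Subtype.ext (MulEquiv.ext fun x => by simp) }
  refine ⟨h.subset, fun l hl => h.mem _ (hne l hl), fun χ hχ => ?_, fun l m hl hm => ?_,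
    fun l hl u => ?_, fun χ hχ u => h.val' χ hχ _, h.sign, h.sign', ?_⟩
  · obtain ⟨l, hl, rfl⟩ := h.surj χ hχ
    refine ⟨pullIrr ψ l, fun e => hl ?_, congrArg y ?_⟩
    · refine Subtype.ext (funext fun x => ?_)
      have h1 := congrFun (congrArg Subtype.val e) (ψ.symm x)
      rw [pullIrr_apply, ψ.apply_symm_apply] at h1
      exact h1.trans rfl
    · exact Subtype.ext (funext fun x => by simp [pullIrr_apply])
  · rw [h.orbit _ _ (hne l hl) (hne m hm)]
    constructor
    · rintro ⟨τ, hτ⟩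
      refine ⟨Φ.symm τ, Subtype.ext (funext fun x => ?_)⟩
      have h1 := congrFun (congrArg Subtype.val hτ) (ψ x)
      simp only [pullIrr_apply, ψ.symm_apply_apply] at h1
      exact h1
    · rintro ⟨σ, hσ⟩
      refine ⟨Φ σ, Subtype.ext (funext fun x => ?_)⟩
      have h1 := congrFun (congrArg Subtype.val hσ) (ψ.symm x)
      simp only [pullIrr_apply] at h1 ⊢
      rw [← h1]
      simp [Φ]
  · rw [h.val _ (hne l hl)]
    congr 1
    refine (finsum_eq_of_bijective Φ Φ.bijective fun σ => ?_).symm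
    simp [Φ, pullIrr_apply]
  · rw [h.card_diff, Nat.card_congr Φ]

end StdCols

open scoped Classical in
/-- **The normal form**: columns of maximal size are standard. -/
theorem exists_stdCols (hA : ∀ a b : A, a * b = b * a) (hA1 : 1 < Nat.card A)
    (hfree : ∀ σ ∈ E, ∀ u : A, u ≠ 1 → σ u = u → σ = 1) [Fintype {χ : IrrCharacter G // χ ∈ B}]
    (ξ : {χ : IrrCharacter G // χ ∈ B} → A → ℂ) (hgen : ∀ i, IsGeneralizedCharacter A (ξ i))
    (horth : ∀ u v : A, u ≠ 1 → v ≠ 1 → ∑ i, ξ i u * conj (ξ i v) =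
      (Nat.card A : ℂ) * ((univ.filter fun σ : E => (σ : MulAut A) u = v).card : ℂ))
    (hne : ∀ i, ∃ u : A, u ≠ 1 ∧ ξ i u ≠ 0)
    (hdeg : ∀ u : A, u ≠ 1 → ∑ i, (charDegree (i.1 : G → ℂ) : ℂ) * ξ i u = 0)
    (hcard : Nat.card E + (Nat.card A - 1) / Nat.card E ≤ Nat.card B)
    (s : IrrCharacter G → {u : A // u ≠ 1} → ℂ) (hs : ∀ i u, s i.1 u = ξ i u.1) :
    ∃ Y y a δ, StdCols E B s Y y a δ := by
  haveI := irrFintype A
  obtain ⟨y, ε, r, a, hε, hy, hval, ha, ht, hc, -⟩ := free_coherence hA hA1 E hfree ξ hgen horth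
    hne (fun i => charDegree (i.1 : G → ℂ))
    (fun i => Nat.pos_of_ne_zero (irr_charDegree_ne_zero i.1)) hdeg
  obtain ⟨e, he⟩ : ∃ e, e = Nat.card E := ⟨_, rfl⟩
  rw [← he] at ht hc hcard
  have he0 : 0 < e := he ▸ Nat.card_pos
  obtain ⟨L, hL⟩ : ∃ L : Finset (IrrCharacter A), L = univ.filter fun l => l ≠ principal A :=
    ⟨_, rfl⟩
  have hmemL : ∀ l, l ∈ L ↔ l ≠ principal A := fun l => by rw [hL, mem_filter]; simp
  obtain ⟨X, hX⟩ : ∃ X : Finset {χ : IrrCharacter G // χ ∈ B}, X = L.image y := ⟨_, rfl⟩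
  obtain ⟨n, hn⟩ : ∃ n, n = Nat.card {i : {χ : IrrCharacter G // χ ∈ B} //
      ∃ l : IrrCharacter A, l ≠ principal A ∧ y l = i} := ⟨_, rfl⟩
  rw [← hn] at ht hc
  have hnX : n = X.card := by
    rw [hn, ← Fintype.card_coe, ← Nat.card_eq_fintype_card]
    exact Nat.card_congr (Equiv.subtypeEquivRight fun i => by simp [hX, hmemL])
  obtain ⟨S, hS⟩ : ∃ S : Finset {χ : IrrCharacter G // χ ∈ B},
      S = univ.filter fun i => ∀ l : IrrCharacter A, l ≠ principal A → y l ≠ i := ⟨_, rfl⟩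
  have hSX : ∀ i, i ∈ S ↔ i ∉ X := fun i => by simp [hS, hX, hmemL]
  replace hc : (∑ i ∈ S, a i * a i) + (n : ℤ) * r * r - 2 * ε * r = (e : ℤ) := by
    rw [hS]; convert hc using 4
    ext i; simp
  have hL' : L.card = n * e := by
    rw [hL, Finset.filter_ne', Finset.card_erase_of_mem (mem_univ _), Finset.card_univ,
      ← Nat.card_eq_fintype_card, card_irrCharacter_of_comm hA, ← ht]
    omega
  have hdiv : (Nat.card A - 1) / e = n := by
    rw [← ht, Nat.add_sub_cancel, Nat.mul_div_cancel _ he0]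
  have hBcard : Nat.card B = S.card + X.card := by
    rw [show S = Xᶜ by ext i; simp [hSX], Finset.card_compl, Nat.sub_add_cancel
      (Finset.card_le_univ X), Nat.card_eq_fintype_card]
  have hSge : e ≤ S.card := by omega
  -- the fibres are the orbits
  have hfibre : ∀ l ∈ L, L.filter (fun m => y m = y l) =
      univ.image fun σ : E => pullIrr (σ : MulAut A) l := by
    intro l hl
    ext m
    simp only [mem_filter, mem_image, mem_univ, true_and]
    constructor
    · rintro ⟨hm, hym⟩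
      exact (hy l m ((hmemL l).1 hl) ((hmemL m).1 hm)).1 hym.symm
    · rintro ⟨σ, rfl⟩
      have hne' := pullIrr_ne_principal ((hmemL l).1 hl) (σ : MulAut A)
      exact ⟨(hmemL _).2 hne', ((hy l _ ((hmemL l).1 hl) hne').2 ⟨σ, rfl⟩).symm⟩
  have hecard : ∀ l ∈ L, (univ.image fun σ : E => pullIrr (σ : MulAut A) l).card =
      (univ : Finset E).card := by
    have hle : ∀ i ∈ X, (L.filter fun m => y m = i).card ≤ e := by
      intro i hi
      rw [hX] at hi
      obtain ⟨l, hl, rfl⟩ := mem_image.1 hi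
      rw [hfibre l hl, he, Nat.card_eq_fintype_card]
      exact Finset.card_image_le
    have hsum := Finset.card_eq_sum_card_fiberwise (f := y) (s := L) (t := X)
      (fun l hl => hX ▸ mem_image_of_mem y hl)
    rw [hL', hnX, ← smul_eq_mul, ← Finset.sum_const] at hsum
    intro l hl
    have h := (Finset.sum_eq_sum_iff_of_le hle).1 hsum.symm (y l) (hX ▸ mem_image_of_mem y hl)
    rw [hfibre l hl] at h
    rw [h, he, Nat.card_eq_fintype_card, Finset.card_univ]
  have hsumfib : ∀ l ∈ L, ∀ u : A, ∑ m ∈ L.filter (fun m => y m = y l), (m : A → ℂ) u =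
      ∑ σ : E, (l : A → ℂ) ((σ : MulAut A) u) := fun l hl u => by
    rw [hfibre l hl, Finset.sum_image (Finset.card_image_iff.1 (hecard l hl))]
    rfl
  have hall : ∀ u : A, u ≠ 1 → ∑ m ∈ L, (m : A → ℂ) u = -1 := fun u hu => by
    have hsum := sum_degree_mul (G := A) u
    simp only [irr_one_of_comm hA, one_mul, if_neg hu] at hsum
    rw [← Finset.sum_filter_add_sum_filter_not univ (fun m => m ≠ principal A),
      show univ.filter (fun m : IrrCharacter A => ¬m ≠ principal A) = {principal A} by ext; simp,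
      Finset.sum_singleton, principal_apply, ← hL] at hsum
    exact eq_neg_of_add_eq_zero_left hsum
  have hval' : ∀ l ∈ L, ∀ u : A, u ≠ 1 → ξ (y l) u =
      (r : ℂ) + (ε : ℂ) * ∑ σ : E, (l : A → ℂ) ((σ : MulAut A) u) := fun l hl u hu =>
    hval l ((hmemL l).1 hl) u hu
  have hge : ∀ i ∈ S, (1 : ℤ) ≤ a i * a i := fun i hi =>
    Int.add_one_le_iff.2 (mul_self_pos.2 (ha i (by rw [hS] at hi; exact (mem_filter.1 hi).2)).1)
  have hsumge : (S.card : ℤ) ≤ ∑ i ∈ S, a i * a i := by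
    simpa using Finset.sum_le_sum hge
  have hn0 : n ≠ 0 := fun h => by rw [h, zero_mul, zero_add] at ht; omega
  obtain ⟨l₀, hl₀⟩ : L.Nonempty := Finset.card_pos.1 (by rw [hL']; positivity)
  have honly : n = 1 → ∀ u : A, u ≠ 1 → ∀ l ∈ L,
      ∑ σ : E, (l : A → ℂ) ((σ : MulAut A) u) = -1 := fun h1 u hu l hl => by
    rw [← hsumfib l hl, ← hall u hu]
    refine Finset.sum_congr (Finset.filter_true_of_mem fun m hm => ?_) fun _ _ => rfl
    exact Finset.card_le_one.1 (hnX ▸ h1.le) _ (hX ▸ mem_image_of_mem y hm) _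
      (hX ▸ mem_image_of_mem y hl)
  have hε2 : ε * ε = 1 := by rcases hε with h | h <;> simp [h]
  have hnn : 0 ≤ (n : ℤ) * r * r - 2 * ε * r := by
    rcases (show n = 1 ∨ 2 ≤ n by omega) with h1 | h1
    · obtain ⟨u, hu, hu'⟩ := hne (y l₀)
      rw [hval' l₀ hl₀ u hu, honly h1 u hu l₀ hl₀] at hu'
      have hne' : r - ε ≠ 0 := fun h => hu' (by
        have : (r : ℂ) - ε = 0 := by exact_mod_cast h
        linear_combination this)
      have h2 : 1 ≤ (r - ε) * (r - ε) := Int.add_one_le_iff.2 (mul_self_pos.2 hne')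
      have hn1 : (n : ℤ) = 1 := by exact_mod_cast h1
      rw [hn1]
      nlinarith
    · have h2 : (2 : ℤ) ≤ n := by exact_mod_cast h1
      have h3 : 0 ≤ r * r - ε * r := by
        rcases hε with h | h <;> subst h <;> rcases le_or_gt r 0 with hr | hr <;>
          rcases eq_or_ne r 0 with h0 | h0 <;> first | (subst h0; norm_num) | nlinarith
      nlinarith [mul_self_nonneg r]
  have hSe : (S.card : ℤ) = e := le_antisymm (by linarith) (by exact_mod_cast hSge)
  have hsq : (n : ℤ) * r * r - 2 * ε * r = 0 := by linarith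
  have ha1 : ∀ i ∈ S, a i = 1 ∨ a i = -1 := by
    intro i hi
    have h1 : ∑ j ∈ S, (a j * a j - 1) = 0 := by
      rw [Finset.sum_sub_distrib]
      simp only [Finset.sum_const, Nat.smul_one_eq_cast]
      linarith
    have h2 := (Finset.sum_eq_zero_iff_of_nonneg fun j hj => sub_nonneg.2 (hge j hj)).1 h1 i hi
    exact sq_eq_one_iff.1 (by rw [sq]; linarith)
  -- the normalization of the exceptional set
  obtain ⟨y', δ, hδ, hy'X, hy'surj, hy'orb, hy'val⟩ : ∃ (y' : IrrCharacter A → {χ : IrrCharacter G //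
      χ ∈ B}) (δ : ℤ), (δ = 1 ∨ δ = -1) ∧ (∀ l ∈ L, y' l ∈ X) ∧ (∀ i ∈ X, ∃ l ∈ L, y' l = i) ∧
      (∀ l ∈ L, ∀ m ∈ L, (y' l = y' m ↔ y l = y m)) ∧ ∀ l ∈ L, ∀ u : A, u ≠ 1 →
        ξ (y' l) u = (δ : ℂ) * ∑ σ : E, (l : A → ℂ) ((σ : MulAut A) u) := by
    have hyX : ∀ l ∈ L, y l ∈ X := fun l hl => hX ▸ mem_image_of_mem y hl
    have hXy : ∀ i ∈ X, ∃ l ∈ L, y l = i := fun i hi => mem_image.1 (hX ▸ hi)
    by_cases hr : r = 0
    · exact ⟨y, ε, hε, hyX, hXy, fun _ _ _ _ => Iff.rfl, fun l hl u hu => by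
        rw [hval' l hl u hu, hr, Int.cast_zero, zero_add]⟩
    have h0 : r * ((n : ℤ) * r - 2 * ε) = 0 := by linarith
    have hnr : (n : ℤ) * r = 2 * ε := by linarith [(mul_eq_zero.1 h0).resolve_left hr]
    have hn2 : n = 1 ∨ n = 2 := by
      have : (n : ℤ) ∣ 2 := ⟨r * ε, by linear_combination -ε * hnr - 2 * hε2⟩
      exact (Nat.dvd_prime Nat.prime_two).1 (by exact_mod_cast this)
    have hnε : -ε = 1 ∨ -ε = -1 := by rcases hε with h | h <;> simp [h]
    rcases hn2 with h1 | h2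
    · refine ⟨y, -ε, hnε, hyX, hXy, fun _ _ _ _ => Iff.rfl, fun l hl u hu => ?_⟩
      rw [h1, Nat.cast_one, one_mul] at hnr
      rw [hval' l hl u hu, honly h1 u hu l hl, hnr]
      push_cast
      ring
    · obtain ⟨i₁, i₂, h12, hX2⟩ := Finset.card_eq_two.1 (hnX.symm.trans h2)
      have hXor : ∀ i, i ∈ X ↔ i = i₁ ∨ i = i₂ := fun i => by simp [hX2]
      refine ⟨fun l => if y l = i₁ then i₂ else i₁, -ε, hnε, fun l _ => ?_, fun i hi => ?_,
        fun l hl m hm => ?_, fun l hl u hu => ?_⟩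
      · dsimp only
        split_ifs <;> simp [hXor]
      · rcases (hXor i).1 hi with h | h
        · obtain ⟨l, hl, hli⟩ := hXy i₂ ((hXor _).2 (Or.inr rfl))
          exact ⟨l, hl, by dsimp only; rw [h, hli, if_neg (Ne.symm h12)]⟩
        · obtain ⟨l, hl, hli⟩ := hXy i₁ ((hXor _).2 (Or.inl rfl))
          exact ⟨l, hl, by dsimp only; rw [h, if_pos hli]⟩
      · rcases (hXor _).1 (hyX l hl) with h | h <;> rcases (hXor _).1 (hyX m hm) with h' | h' <;>
          simp [h, h', h12, Ne.symm h12]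
      · have hr1 : r = ε := by rw [h2] at hnr; push_cast at hnr; linarith
        have key : ∀ m ∈ L, y m ≠ y l → ξ (y m) u =
            ((-ε : ℤ) : ℂ) * ∑ σ : E, (l : A → ℂ) ((σ : MulAut A) u) := by
          intro m hm hne'
          have hsplit : ∑ σ : E, (m : A → ℂ) ((σ : MulAut A) u) +
              ∑ σ : E, (l : A → ℂ) ((σ : MulAut A) u) = -1 := by
            rw [← hsumfib m hm, ← hsumfib l hl, ← Finset.sum_union, ← hall u hu]
            · refine Finset.sum_congr ?_ fun _ _ => rfl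
              rw [← Finset.filter_or]
              refine Finset.filter_true_of_mem fun k hk => ?_
              rcases (hXor _).1 (hyX k hk) with h | h <;> rcases (hXor _).1 (hyX m hm) with h' | h' <;>
                rcases (hXor _).1 (hyX l hl) with h'' | h'' <;>
                first
                  | exact Or.inl (h.trans h'.symm)
                  | exact Or.inr (h.trans h''.symm)
                  | exact absurd (h'.trans h''.symm) hne'
            · exact Finset.disjoint_filter.2 fun k _ h h' => hne' (h.symm.trans h')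
          rw [hval' m hm u hu, hr1]
          push_cast
          linear_combination (ε : ℂ) * hsplit
        rcases (hXor _).1 (hyX l hl) with h | h
        · obtain ⟨m, hm, hmi⟩ := hXy i₂ ((hXor _).2 (Or.inr rfl))
          simp only [if_pos h]
          rw [← hmi]
          exact key m hm (by rw [hmi, h]; exact Ne.symm h12)
        · obtain ⟨m, hm, hmi⟩ := hXy i₁ ((hXor _).2 (Or.inl rfl))
          simp only [h, if_neg (Ne.symm h12)]
          rw [← hmi]
          exact key m hm (by rw [hmi, h]; exact h12)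
  refine ⟨{χ | ∃ i ∈ X, i.1 = χ}, fun l => (y' l).1,
    fun χ => if h : χ ∈ B then a ⟨χ, h⟩ else 0, δ, ?_⟩
  have hdiff : ∀ χ, χ ∈ B \ {χ | ∃ i ∈ X, (i : {χ : IrrCharacter G // χ ∈ B}).1 = χ} →
      ∃ h : χ ∈ B, (⟨χ, h⟩ : {χ : IrrCharacter G // χ ∈ B}) ∈ S := fun χ hχ =>
    ⟨hχ.1, (hSX _).2 fun hX' => hχ.2 ⟨_, hX', rfl⟩⟩
  refine ⟨?_, fun l hl => ⟨_, hy'X l ((hmemL l).2 hl), rfl⟩, ?_, fun l m hl hm => ?_,
    fun l hl u => ?_, fun χ hχ u => ?_, hδ, fun χ hχ => ?_, ?_⟩
  · rintro _ ⟨i, -, rfl⟩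
    exact i.2
  · rintro _ ⟨i, hi, rfl⟩
    obtain ⟨l, hl, rfl⟩ := hy'surj i hi
    exact ⟨l, (hmemL l).1 hl, rfl⟩
  · rw [← hy l m hl hm, ← hy'orb l ((hmemL l).2 hl) m ((hmemL m).2 hm)]
    exact ⟨fun h => Subtype.ext h, fun h => congrArg Subtype.val h⟩
  · rw [hs, hy'val l ((hmemL l).2 hl) u.1 u.2, finsum_eq_sum_of_fintype]
  · obtain ⟨hχB, hi⟩ := hdiff χ hχ
    rw [dif_pos hχB, show s χ u = ξ ⟨χ, hχB⟩ u.1 from hs ⟨χ, hχB⟩ u]
    exact (ha ⟨χ, hχB⟩ (by rw [hS] at hi; exact (mem_filter.1 hi).2)).2 u.1 u.2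
  · obtain ⟨hχB, hi⟩ := hdiff χ hχ
    rw [dif_pos hχB]
    exact ha1 _ hi
  · rw [← he, show e = S.card by omega, ← Fintype.card_coe, ← Nat.card_eq_fintype_card]
    exact Nat.card_congr
      { toFun := fun χ => ⟨⟨χ.1, χ.2.1⟩, (hdiff χ.1 χ.2).2⟩
        invFun := fun i => ⟨i.1.1, i.1.2, fun ⟨j, hj, hji⟩ =>
          (hSX i.1).1 i.2 (Subtype.ext hji ▸ hj)⟩
        left_inv := fun χ => rfl
        right_inv := fun i => rfl }

end CfsgLib.Blocks
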