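import Cfsg.Agent.Lib.Blocks.CyclicBound
import Cfsg.Agent.Lib.Blocks.CyclicSections
import Cfsg.Agent.Lib.Blocks.ColSysSections
import Cfsg.Agent.Lib.Blocks.StdCols

/-!
# The standard system of columns of a block with cyclic defect group
-/

set_option autoImplicit false
set_option linter.unusedSectionVars false
set_option linter.style.haveILetI false

namespace CfsgLib.Blocks

open Cfsg Chars BlockOrth Finset
open scoped ComplexConjugate

universe u

variable {G : Type u} [Group G] [Fintype G] {M : Ideal AlgInt} [M.IsPrime] {p : ℕ} [Fact p.Prime]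
  {B : Set (IrrCharacter G)} {P : Subgroup G}
  {c : Set (IrrCharacter (Subgroup.centralizer (P : Set G)))} {Z : Subgroup G}
  {fZ : Set (IrrCharacter (Subgroup.centralizer (Z : Set G)))}

namespace CycLocal

variable (L : CycLocal p M B P c Z fZ)
include L

theorem one_lt_card : 1 < Nat.card P :=
  lt_of_lt_of_le (L.hcardZ ▸ (Fact.out : p.Prime).one_lt) (Subgroup.card_le_of_le L.hZP)

theorem inertia_free : ∀ σ ∈ inertia c, ∀ u : P, u ≠ 1 → σ u = u → σ = 1 := by
  classical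
  intro σ hσ u hu hσu
  obtain ⟨g, hg, hgu⟩ := mem_inertia.1 hσ
  have h2 := L.hfree g hg u u.2 (fun h => hu (Subtype.ext h)) (by rw [← hgu, hσu])
  refine MulEquiv.ext fun z => Subtype.ext ?_
  rw [hgu, ← Subgroup.mem_centralizer_iff.1 h2 z z.2, mul_inv_cancel_right]
  rfl

open scoped Classical in
/-- The standard columns of a block with cyclic defect group form a system of columns. -/
theorem exists_colSys [Fintype P] :
    ∃ (s : IrrCharacter G → {u : P // u ≠ 1} → ℂ) (Y : Set (IrrCharacter G))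
      (y : IrrCharacter P → IrrCharacter G) (a : IrrCharacter G → ℤ) (δ : ℤ),
      ColSys p M B s ∧ StdCols (inertia c) B s Y y a δ := by
  have hpM : (p : AlgInt) ∈ M := L.hM.2.2
  have hp : p.Prime := Fact.out
  have hc : IsBrauerPair p M P c := L.hmax.1.1
  haveI := irrFintype G
  haveI := Fintype.ofFinite {χ : IrrCharacter G // χ ∈ B}
  haveI := Fintype.ofFinite (Subgroup.centralizer (Z : Set G))
  have hA : ∀ a b : P, a * b = b * a := fun a b => Subtype.ext (L.hab _ a.2 _ b.2)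
  -- the two systems
  obtain ⟨s, V', hs, hint, hV', hsec, hnorm, -⟩ := exists_colSys_sections hpM L.hmax L.hab
    fun u hu hu1 f hf => blockRank_eq_one_of_below_free L.hM L.hmax L.hab L.hfree
      (fun h => hu1 (Subgroup.zpowers_eq_bot.1 h)) hf
  obtain ⟨e', hPC, hloc⟩ := L.local_block
  obtain ⟨-, hnil, -, -⟩ := hloc
  have hCP : Subgroup.centralizer (P : Set G) ≤ Subgroup.centralizer (Z : Set G) :=
    centralizer_antitone L.hZP
  have hmaxK : IsMaximalBrauerPair p M fZ (P.subgroupOf (Subgroup.centralizer (Z : Set G)))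
      (relBlock hPC hCP c) :=
    isMaximal_rel_of_maximal hpM hPC hCP L.hmax
      ((isBrauerPairOf_rel_iff hpM hPC hCP hc.1 hc.2 L.pblock).2
        (IsNormalSubpair.mul_cut hpM (isNormalSubpair_of_below (b := ⟨P, c⟩) hpM hc L.hbelow
          Relation.ReflTransGen.refl L.hZP (hPC.trans (centralizer_le_normalizer' Z)))))
  obtain ⟨ξ, V, hgen, horth, hcol, hV⟩ := exists_columns_of_local hpM L.hmax L.hab L.hfree hPC hCP
    (fun u hu hu1 => centralizer_antitone (L.le_zpowers hu hu1)) hnil hmaxK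
    (fun g hg => ((mem_stabPair_iff L.pblock).1 (L.stab_le hg)).2) (by
      obtain ⟨k, hk⟩ := IsPGroup.iff_card.1 hc.1
      rw [card_inertia, hk]
      refine Nat.Coprime.pow_right k (Nat.coprime_comm.1 (hp.coprime_iff_not_dvd.2 fun h => ?_))
      have h1 := Nat.le_of_dvd (by have := hp.two_le; omega) (h.trans L.relIndex_dvd)
      have := hp.two_le
      omega)
  obtain ⟨κ, hκ⟩ : ∃ κ : {u : P // u ≠ 1} → ℂ,
      ∀ a, κ a = V a.1 ((a.1 : P) : G) / V' a := ⟨_, fun _ => rfl⟩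
  have hsξ : ∀ (i : {χ : IrrCharacter G // χ ∈ B}) a, s i.1 a = κ a * ξ i a.1 := fun i a => by
    have h := hcol i a.1 a.2 1 (Commute.one_right _) (by rw [orderOf_one]; exact hp.not_dvd_one)
    rw [mul_one, hsec] at h
    rw [hκ, div_mul_eq_mul_div, eq_div_iff (hV' a), h, mul_comm]
  obtain ⟨s', hs'⟩ : ∃ s' : IrrCharacter G → {u : P // u ≠ 1} → ℂ,
      ∀ (i : {χ : IrrCharacter G // χ ∈ B}) a, s' i.1 a = ξ i a.1 :=
    ⟨fun χ a => if h : χ ∈ B then ξ ⟨χ, h⟩ a.1 else 0, fun i a => dif_pos i.2⟩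
  have hκ0 : ∀ a, κ a ≠ 0 := fun a => by rw [hκ]; exact div_ne_zero (hV _ a.2) (hV' a)
  have hfinB : ∀ F : IrrCharacter G → ℂ, ∑ᶠ χ ∈ B, F χ =
      ∑ i : {χ : IrrCharacter G // χ ∈ B}, F i.1 := fun F => by
    rw [finsum_mem_eq_sum_of_inter_support_eq (t := univ.filter (· ∈ B)) _ (by ext; simp)]
    exact Finset.sum_subtype _ (by simp) _
  have hκnorm : ∀ a, κ a * conj (κ a) = 1 := fun a => by
    have h := hnorm a
    rw [hfinB, Finset.sum_congr rfl fun i (_ : i ∈ univ) =>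
      show s i.1 a * conj (s i.1 a) = κ a * conj (κ a) * (ξ i a.1 * conj (ξ i a.1)) by
        rw [hsξ, map_mul]; ring, ← Finset.mul_sum, horth a.1 a.1 a.2 a.2] at h
    rw [show (univ.filter fun σ : inertia c => (σ : MulAut P) a.1 = a.1) = {1} by
      ext σ
      simp only [mem_filter, mem_univ, true_and, mem_singleton]
      exact ⟨fun h => Subtype.ext (L.inertia_free σ σ.2 a.1 a.2 h), fun h => by rw [h]; rfl⟩,
      Finset.card_singleton, Nat.cast_one, mul_one] at h
    exact mul_right_cancel₀ (Nat.cast_ne_zero.2 Nat.card_pos.ne') (h.trans (one_mul _).symm)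
  have hne : ∀ i, ∀ u : P, u ≠ 1 → ξ i u ≠ 0 := fun i u hu h0 => by
    obtain ⟨b, hb⟩ := exists_below (b := ⟨P, c⟩) hpM hc _ (Subgroup.zpowers_le.2 u.2)
    obtain ⟨y, hy, hyr, hne⟩ := exists_secVal_ne_zero_of_central hpM L.hmax u.2
      (Subgroup.mem_centralizer_iff.2 fun v hv => L.hab v hv u u.2) hb i.2
    refine hne ?_
    rw [eq_pairBelow (c := (⟨P, c⟩ : BrauerPairIdx G)) (a := ⟨Subgroup.zpowers (u : G), b⟩) hpM hc hb
      rfl, hcol i u hu y hy hyr, h0, zero_mul]
  have hdeg : ∀ u : P, u ≠ 1 →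
      ∑ i : {χ : IrrCharacter G // χ ∈ B}, (charDegree (i.1 : G → ℂ) : ℂ) * ξ i u = 0 := fun u hu => by
    have h := hs.regular 1 (by rw [orderOf_one]; exact hp.not_dvd_one) ⟨u, hu⟩
    rw [hfinB, Finset.sum_congr rfl fun i (_ : i ∈ univ) =>
      show s i.1 ⟨u, hu⟩ * (i.1 : G → ℂ) 1 = κ ⟨u, hu⟩ * ((charDegree (i.1 : G → ℂ) : ℂ) * ξ i u) by
        rw [hsξ, irr_apply_one]; ring, ← Finset.mul_sum] at h
    exact (mul_eq_zero.1 h).resolve_left (hκ0 _)
  haveI : Nontrivial P := Finite.one_lt_card_iff_nontrivial.1 L.one_lt_card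
  obtain ⟨Y, y, a', δ, hstd⟩ := exists_stdCols (E := inertia c) hA L.one_lt_card L.inertia_free ξ hgen
    (fun u v hu hv => by rw [horth u v hu hv]; congr!)
    (fun i => ⟨_, (exists_ne (1 : P)).choose_spec, hne i _ (exists_ne (1 : P)).choose_spec⟩) hdeg
    (by
      obtain ⟨t, ht, hcount⟩ := card_eq_rank_add_sections L.hM L.hmax L.hab L.hfree
      rw [hcount, card_inertia, ← ht, Nat.add_sub_cancel,
        Nat.mul_div_cancel _ (card_inertia c ▸ Nat.card_pos)]
      exact Nat.add_le_add_right (L.relIndex_eq ▸ L.relIndex_le_blockRank) t) s' hs'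
  refine ⟨s', Y, y, a', δ, ?_, hstd⟩
  -- a constant column entry shows that the scalars are integral
  obtain ⟨⟨χ₀, hχ₀⟩⟩ : Nonempty (B \ Y : Set (IrrCharacter G)) :=
    (Nat.card_ne_zero.1 (hstd.card_diff ▸ Nat.card_pos.ne')).1
  have hκint : ∀ a, IsIntegral ℤ (κ a) := fun a => by
    have h1 := hsξ ⟨χ₀, hχ₀.1⟩ a
    rw [← hs' ⟨χ₀, hχ₀.1⟩ a, hstd.val' χ₀ hχ₀ a] at h1
    rcases hstd.sign' χ₀ hχ₀ with e | e <;> rw [e] at h1 <;> push_cast at h1
    · rw [mul_one] at h1
      exact h1 ▸ hint χ₀ a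
    · rw [mul_neg_one] at h1
      rw [show κ a = -s χ₀ a by rw [h1, neg_neg]]
      exact (hint χ₀ a).neg
  exact hs.smul κ (fun a => conj (κ a)) (fun a => isIntegral_mem_loc (hκint a))
    (fun a => isIntegral_mem_loc (map_isIntegral_int (starRingEnd ℂ) (hκint a))) hκnorm s'
    fun χ hχ a => by rw [hsξ ⟨χ, hχ⟩ a, hs' ⟨χ, hχ⟩ a]

end CycLocal

end CfsgLib.Blocks
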