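import Cfsg.Agent.Lib.Blocks.CyclicStructure

/-!
# Cyclic defect groups: the hypotheses by induced blocks, degrees and heights
-/

set_option autoImplicit false
set_option linter.unusedSectionVars false
set_option linter.style.haveILetI false

namespace CfsgLib.Blocks

open Cfsg Chars BlockOrth Finset

universe u

variable {G : Type u} [Group G] [Fintype G] {M : Ideal AlgInt} [M.IsPrime] {p : ℕ} [Fact p.Prime]
  {B : Set (IrrCharacter G)} {D : Subgroup G}
  {b : Set (IrrCharacter (Subgroup.centralizer (D : Set G)))}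

/-- The stabilizer of a pair described by conjugate characters. -/
theorem eq_stabPair_of_mem_iff (hb : IsPBlock M b) {T : Subgroup G}
    (hT : ∀ g : G, g ∈ T ↔ (g ∈ Subgroup.normalizer (D : Set G) ∧ ∀ θ ∈ b,
      ∀ θ' : IrrCharacter (Subgroup.centralizer (D : Set G)),
        (∀ h h' : Subgroup.centralizer (D : Set G), (h' : G) = g * h * g⁻¹ →
          (θ' : Subgroup.centralizer (D : Set G) → ℂ) h' =
            (θ : Subgroup.centralizer (D : Set G) → ℂ) h) → θ' ∈ b)) :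
    T = stabPair ⟨D, b⟩ := by
  ext g
  rw [hT, mem_stabPair_iff hb]
  refine and_congr_right fun hg => ?_
  have hgC := mem_normalizer_centralizer hg
  constructor
  · intro h
    refine ⟨hgC, fun θ hθ =>
      ⟨pullIrr (conjIso g (conj_mem_iff_of_mem_normalizer hgC)).symm θ, ?_, ?_⟩⟩
    · refine h θ hθ _ fun k k' hk => ?_
      have : k' = conjIso g (conj_mem_iff_of_mem_normalizer hgC) k := Subtype.ext hk
      rw [this, pullIrr_apply, MulEquiv.symm_apply_apply]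
    · intro k k' hk
      have : k' = conjIso g (conj_mem_iff_of_mem_normalizer hgC) k := Subtype.ext hk
      rw [this, pullIrr_apply, MulEquiv.symm_apply_apply]
  · rintro ⟨-, h⟩ θ hθ θ' hθθ'
    obtain ⟨θ'', hθ'', hc⟩ := h θ hθ
    convert hθ''
    refine Subtype.ext (funext fun k' => ?_)
    have hk : ((k' : Subgroup.centralizer (D : Set G)) : G) =
        g * ((conjIso g (conj_mem_iff_of_mem_normalizer hgC)).symm k' : G) * g⁻¹ := by
      conv_lhs => rw [← (conjIso g (conj_mem_iff_of_mem_normalizer hgC)).apply_symm_apply k']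
      rfl
    rw [hθθ' _ _ hk, hc _ _ hk]

/-- The local data of a block with cyclic defect group inducing from the centralizer. -/
theorem exists_cyclicLocal_of_induced (hM : IsPModular p M) (hD : IsCyclic D) {a : ℕ} (ha : 1 ≤ a)
    (hDa : Nat.card D = p ^ a) (hBD : IsDefectGroup p M B D)
    (hind : IsInducedBlock M (Subgroup.centralizer (D : Set G)) b B) :
    ∃ Z fZ, CycLocal p M B D b Z fZ := by
  haveI := hD
  have hab : ∀ x ∈ D, ∀ y ∈ D, x * y = y * x := fun x hx y hy =>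
    congrArg Subtype.val ((IsCyclic.commGroup (α := D)).mul_comm ⟨x, hx⟩ ⟨y, hy⟩)
  have hpair := isBrauerPairOf_of_induced hM.2.2 (IsDefectGroup.isPGroup hBD) hab hind
  refine exists_cycLocal hM (isMaximal_of_defectGroup hM.2.2 hBD hpair) hD fun h => ?_
  rw [h, Subgroup.card_bot] at hDa
  exact (Nat.one_lt_pow (by omega) (Fact.out : p.Prime).one_lt).ne hDa

/-- Degrees congruent up to sign modulo the `p`-part of the group order have the same height. -/
theorem heights_zero_of_congr {X Y : Set (IrrCharacter G)} (hXY : B = X ∪ Y) {e : ℕ}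
    (he : ¬ p ∣ e) (hX : Nat.card X = e) (δ : IrrCharacter G → ℤ) (δ₀ : ℤ)
    (hδ : ∀ χ ∈ X, δ χ = 1 ∨ δ χ = -1) (hδ₀ : δ₀ = 1 ∨ δ₀ = -1)
    (hB : IsPBlock M B) (hdef : 1 ≤ blockDefect p B)
    (hrel : ∀ ψ ∈ Y, δ₀ * (charDegree (ψ : G → ℂ) : ℤ) +
      ∑ᶠ χ ∈ X, δ χ * (charDegree (χ : G → ℂ) : ℤ) = 0)
    (hcong : ∀ χ ∈ X, ∀ χ' ∈ X, (p : ℤ) ^ (Nat.card G).factorization p ∣
      δ χ * (charDegree (χ : G → ℂ) : ℤ) - δ χ' * (charDegree (χ' : G → ℂ) : ℤ)) :
    (∀ χ ∈ B, blockHeight p B (χ : G → ℂ) = 0) ∧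
      ∀ ψ ∈ Y, ∀ χ ∈ X, (p : ℤ) ^ (Nat.card G).factorization p ∣
        (charDegree (ψ : G → ℂ) : ℤ) + (e : ℤ) * δ₀ * δ χ * (charDegree (χ : G → ℂ) : ℤ) := by
  classical
  have hp : p.Prime := Fact.out
  haveI := irrFintype G
  set n := (Nat.card G).factorization p with hn
  have hsumX : ∀ χ ∈ X, (p : ℤ) ^ n ∣ (∑ᶠ η ∈ X, δ η * (charDegree (η : G → ℂ) : ℤ)) -
      (e : ℤ) * (δ χ * (charDegree (χ : G → ℂ) : ℤ)) := by
    intro χ hχ
    rw [finsum_mem_eq_toFinset_sum, ← hX, Nat.card_coe_set_eq, Set.ncard_eq_toFinset_card',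
      ← nsmul_eq_mul, ← Finset.sum_const, ← Finset.sum_sub_distrib]
    exact Finset.dvd_sum fun η hη => hcong η (Set.mem_toFinset.1 hη) χ hχ
  have hY : ∀ ψ ∈ Y, ∀ χ ∈ X, (p : ℤ) ^ n ∣
      (charDegree (ψ : G → ℂ) : ℤ) + (e : ℤ) * δ₀ * δ χ * (charDegree (χ : G → ℂ) : ℤ) := by
    intro ψ hψ χ hχ
    have h2 : δ₀ * δ₀ = 1 := by rcases hδ₀ with h | h <;> simp [h]
    have h3 : (charDegree (ψ : G → ℂ) : ℤ) + (e : ℤ) * δ₀ * δ χ * (charDegree (χ : G → ℂ) : ℤ) =
        -δ₀ * ((∑ᶠ η ∈ X, δ η * (charDegree (η : G → ℂ) : ℤ)) -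
          (e : ℤ) * (δ χ * (charDegree (χ : G → ℂ) : ℤ))) := by
      linear_combination δ₀ * hrel ψ hψ - (charDegree (ψ : G → ℂ) : ℤ) * h2
    rw [h3]
    exact Dvd.dvd.mul_left (hsumX χ hχ) _
  refine ⟨?_, hY⟩
  -- divisibility below `n` only depends on the block
  have hdegpos : ∀ χ : IrrCharacter G, charDegree (χ : G → ℂ) ≠ 0 := irr_charDegree_ne_zero
  have hpw : ∀ (k : ℕ) (χ : IrrCharacter G), (p : ℤ) ^ k ∣ (charDegree (χ : G → ℂ) : ℤ) ↔
      k ≤ (charDegree (χ : G → ℂ)).factorization p := fun k χ => by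
    rw [← hp.pow_dvd_iff_le_factorization (hdegpos χ)]
    exact_mod_cast Iff.rfl
  have hXne : ∃ χ₀, χ₀ ∈ X := by
    by_contra h
    push Not at h
    have : Nat.card X = 0 := by simp [Set.eq_empty_iff_forall_notMem.2 h]
    exact he (by rw [← hX, this]; exact dvd_zero p)
  obtain ⟨χ₀, hχ₀⟩ := hXne
  have hkey : ∀ k ≤ n, ∀ χ ∈ B, ((p : ℤ) ^ k ∣ (charDegree (χ : G → ℂ) : ℤ) ↔
      (p : ℤ) ^ k ∣ (charDegree (χ₀ : G → ℂ) : ℤ)) := by
    intro k hk χ hχ
    have hu : ∀ η ∈ X, IsUnit (δ η) := fun η hη => by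
      rcases hδ η hη with h | h <;> simp [h]
    rw [hXY] at hχ
    rcases hχ with hχ | hχ
    · have h := (pow_dvd_pow (p : ℤ) hk).trans (hcong χ hχ χ₀ hχ₀)
      rw [← (hu χ hχ).dvd_mul_left (b := (charDegree (χ : G → ℂ) : ℤ)),
        ← (hu χ₀ hχ₀).dvd_mul_left (b := (charDegree (χ₀ : G → ℂ) : ℤ))]
      exact ⟨fun h' => by simpa using dvd_sub h' h, fun h' => by simpa using dvd_add h h'⟩
    · have h := (pow_dvd_pow (p : ℤ) hk).trans (hY χ hχ χ₀ hχ₀)
      have hcop : IsCoprime ((p : ℤ) ^ k) ((e : ℤ) * δ₀ * δ χ₀) := by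
        have h1 : IsCoprime (p : ℤ) (e : ℤ) :=
          Int.isCoprime_iff_gcd_eq_one.2 (by
            rw [Int.gcd_natCast_natCast]; exact hp.coprime_iff_not_dvd.2 he)
        have h2 : IsUnit δ₀ := by rcases hδ₀ with h | h <;> simp [h]
        exact ((h1.mul_right (isCoprime_one_right.of_isCoprime_of_dvd_right
          (isUnit_iff_dvd_one.1 h2))).mul_right (isCoprime_one_right.of_isCoprime_of_dvd_right
          (isUnit_iff_dvd_one.1 (hu χ₀ hχ₀)))).pow_left
      constructor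
      · intro h'
        exact hcop.dvd_of_dvd_mul_left (by simpa using dvd_sub h h')
      · intro h'
        simpa using dvd_sub h (h'.mul_left ((e : ℤ) * δ₀ * δ χ₀))
  -- the least exponent is less than `n`
  obtain ⟨v₀, hv₀⟩ : ∃ v₀, v₀ = (charDegree (χ₀ : G → ℂ)).factorization p := ⟨_, rfl⟩
  have hlt : v₀ < n := by
    by_contra hge
    have hall : ∀ χ ∈ B, n ≤ (charDegree (χ : G → ℂ)).factorization p := fun χ hχ =>
      (hpw n χ).1 ((hkey n le_rfl χ hχ).2 ((hpw n χ₀).2 (by omega)))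
    obtain ⟨χ, hχ⟩ := IsPBlock.nonempty hB
    have hinf : n ≤ sInf ((fun χ : IrrCharacter G => (charDegree (χ : G → ℂ)).factorization p) '' B) :=
      le_csInf ⟨_, χ, hχ, rfl⟩ (by rintro _ ⟨η, hη, rfl⟩; exact hall η hη)
    rw [blockDefect] at hdef
    omega
  have hsame : ∀ χ ∈ B, (charDegree (χ : G → ℂ)).factorization p = v₀ := fun χ hχ => by
    have h1 := (hpw v₀ χ).1 ((hkey v₀ hlt.le χ hχ).2 ((hpw v₀ χ₀).2 (by omega)))
    have h2 : ¬ v₀ + 1 ≤ (charDegree (χ : G → ℂ)).factorization p := fun h => by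
      have h' := (hpw (v₀ + 1) χ₀).1 ((hkey (v₀ + 1) hlt χ hχ).1 ((hpw (v₀ + 1) χ).2 h))
      omega
    omega
  intro χ hχ
  rw [blockHeight, show (fun ψ : IrrCharacter G => (charDegree (ψ : G → ℂ)).factorization p) '' B =
    {v₀} from ?_, csInf_singleton, hsame χ hχ, Nat.sub_self]
  exact Set.eq_singleton_iff_unique_mem.2 ⟨⟨χ, hχ, hsame χ hχ⟩, by
    rintro _ ⟨η, hη, rfl⟩; exact hsame η hη⟩

end CfsgLib.Blocks
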