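import Cfsg.Agent.Lib.Chars.Basic
import Cfsg.Agent.Lib.CharApps.Basic
import Mathlib.RingTheory.RootsOfUnity.Complex

/-!
# Finite Fourier analysis of a character on the powers of an element
-/

set_option autoImplicit false
set_option linter.style.haveILetI false
set_option linter.unusedSectionVars false

namespace CfsgLib.Blocks

open Cfsg CfsgLib.Chars
open scoped ComplexConjugate

universe u

variable {G : Type u} [Group G] [Finite G]

theorem sum_root_pow {N : ℕ} {ζ : ℂ} (hζ : IsPrimitiveRoot ζ N) (m : ℤ) :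
    ∑ l ∈ Finset.range N, ζ ^ ((l : ℤ) * m) = if (N : ℤ) ∣ m then (N : ℂ) else 0 := by
  have e : ∀ l : ℕ, ζ ^ ((l : ℤ) * m) = (ζ ^ m) ^ l := fun l => by
    rw [mul_comm, zpow_mul, zpow_natCast]
  rw [Finset.sum_congr rfl fun l _ => e l]
  split_ifs with h
  · rw [Finset.sum_congr rfl (g := fun _ => (1 : ℂ)) fun l _ => by
      rw [(hζ.zpow_eq_one_iff_dvd m).2 h, one_pow]]
    simp
  · have hne : ζ ^ m ≠ 1 := fun e1 => h ((hζ.zpow_eq_one_iff_dvd m).1 e1)
    rw [geom_sum_eq hne, ← zpow_natCast, ← zpow_mul, mul_comm, zpow_mul, zpow_natCast,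
      hζ.pow_eq_one, one_zpow, sub_self, zero_div]

theorem exists_int_fourier (χ : IrrCharacter G) (x : G) {N : ℕ} [NeZero N] (hx : x ^ N = 1)
    {ζ : ℂ} (hζ : IsPrimitiveRoot ζ N) (k : ℕ) :
    ∃ m : ℤ, (m : ℂ) =
      (N : ℂ)⁻¹ * ∑ l ∈ Finset.range N, (χ : G → ℂ) (x ^ l) * ζ ^ (-((l : ℤ) * k)) := by
  classical
  obtain ⟨n, ρ, -, hρ⟩ := χ.2
  obtain ⟨b, μ, hμ, -, hb, -, -, -⟩ := exists_eigenbasis_rep ρ x
  have hpow : ∀ l : ℕ, ∀ i, ρ (x ^ l) (b i) = μ i ^ l • b i := by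
    intro l
    induction l with
    | zero => intro i; simp
    | succ l ih =>
      intro i
      rw [pow_succ, map_mul, Module.End.mul_apply, hb, map_smul, ih, smul_smul, ← pow_succ']
  have hval : ∀ l : ℕ, (χ : G → ℂ) (x ^ l) = ∑ i, μ i ^ l := fun l => by
    rw [← hρ]
    exact trace_eq_sum_of_eigenbasis _ b _ (hpow l)
  have hexp : ∀ i, ∃ j, j < N ∧ ζ ^ j = μ i := fun i =>
    hζ.eq_pow_of_pow_eq_one (by
      obtain ⟨q, hq⟩ := orderOf_dvd_of_pow_eq_one hx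
      rw [hq, pow_mul, hμ i, one_pow])
  choose j hj hjμ using hexp
  refine ⟨((Finset.univ.filter fun i => (N : ℤ) ∣ (j i : ℤ) - k).card : ℤ), ?_⟩
  simp only [hval, Finset.sum_mul]
  rw [Finset.sum_comm, Finset.sum_congr rfl (g := fun i =>
    if (N : ℤ) ∣ (j i : ℤ) - k then (N : ℂ) else 0) fun i _ => ?_]
  · rw [Finset.sum_ite, Finset.sum_const_zero, add_zero, Finset.sum_const, nsmul_eq_mul]
    have hN : (N : ℂ) ≠ 0 := Nat.cast_ne_zero.2 (NeZero.ne N)
    push_cast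
    field_simp
  · rw [← sum_root_pow hζ]
    refine Finset.sum_congr rfl fun l _ => ?_
    have h0 : ζ ≠ 0 := hζ.ne_zero (NeZero.ne N)
    rw [← hjμ, ← zpow_natCast ζ (j i), ← zpow_natCast, ← zpow_mul, ← zpow_add₀ h0]
    congr 1
    ring

/-- The parity of a character value at an involution. -/
theorem exists_int_invol_parity (χ : IrrCharacter G) {t : G} (ht : t * t = 1) :
    ∃ m : ℤ, (m : ℂ) = (χ : G → ℂ) t ∧ 2 ∣ (charDegree (χ : G → ℂ) : ℤ) - m := by
  classical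
  obtain ⟨n, ρ, -, hρ⟩ := χ.2
  obtain ⟨b, μ, hμ, -, hb, -, hc, -⟩ := exists_eigenbasis_rep ρ t
  have hpm : ∀ i, μ i = 1 ∨ μ i = -1 := fun i => by
    refine mul_self_eq_one_iff.1 ?_
    obtain ⟨q, hq⟩ := orderOf_dvd_of_pow_eq_one (show t ^ 2 = 1 by rw [sq, ht])
    rw [← sq, hq, pow_mul, hμ i, one_pow]
  refine ⟨∑ i, if μ i = 1 then (1 : ℤ) else -1, ?_, ?_⟩
  · rw [← hρ, hc, Int.cast_sum]
    exact Finset.sum_congr rfl fun i _ => by rcases hpm i with h | h <;> norm_num [h]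
  · have hd : charDegree (χ : G → ℂ) = n := by simp [charDegree, ← hρ]
    have e : (n : ℤ) = ∑ _i : Fin (Module.finrank ℂ (Fin n → ℂ)), (1 : ℤ) := by simp
    rw [hd, e, ← Finset.sum_sub_distrib]
    exact Finset.dvd_sum fun i _ => by split_ifs <;> norm_num

end CfsgLib.Blocks
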