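import Cfsg.Agent.Lib.Chars.Degree
import Cfsg.Agent.Lib.Blocks.ExtendedFirstMain

/-!
# Coherence for a family of generalized characters of an abelian group with semiregular invariance
-/

set_option linter.unusedSectionVars false
set_option linter.style.haveILetI false

namespace CfsgLib.Blocks

open Cfsg Chars Finset
open scoped ComplexConjugate

section IntVectors

variable {ι Ω : Type*} [Fintype ι] [DecidableEq ι] [Fintype Ω] [DecidableEq Ω]

/-- A degree zero integral vector of norm two is a difference of two unit vectors. -/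
theorem exists_pair_of_norm_two {d : ι → ℤ} {n : ι → ℕ} (hn : ∀ i, 0 < n i)
    (h2 : ∑ i, d i * d i = 2) (h0 : ∑ i, (n i : ℤ) * d i = 0) :
    ∃ a b, a ≠ b ∧ ∀ i, d i = (if i = a then 1 else 0) - (if i = b then 1 else 0) := by
  have hle : ∀ i, d i = 0 ∨ d i = 1 ∨ d i = -1 := fun i => by
    have h := Finset.single_le_sum (f := fun i => d i * d i) (fun j _ => mul_self_nonneg (d j))
      (mem_univ i)
    simp only [h2] at h
    have h1 : -1 ≤ d i := by nlinarith
    have h1' : d i ≤ 1 := by nlinarith
    omega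
  have hsq : ∀ i, d i * d i = if d i ≠ 0 then 1 else 0 := fun i => by
    rcases hle i with h | h | h <;> simp [h]
  simp only [hsq, Finset.sum_boole] at h2
  obtain ⟨a, b, hab, hs⟩ := Finset.card_eq_two.1 (show (univ.filter fun i => d i ≠ 0).card = 2 by
    exact_mod_cast h2)
  have hd : ∀ i, i ≠ a → i ≠ b → d i = 0 := fun i hia hib => by
    by_contra h
    have : i ∈ univ.filter fun i => d i ≠ 0 := mem_filter.2 ⟨mem_univ _, h⟩
    rw [hs] at this
    simp [hia, hib] at this
  have ha : d a ≠ 0 := by
    have : a ∈ univ.filter fun i => d i ≠ 0 := by rw [hs]; simp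
    exact (mem_filter.1 this).2
  have hb : d b ≠ 0 := by
    have : b ∈ univ.filter fun i => d i ≠ 0 := by rw [hs]; simp
    exact (mem_filter.1 this).2
  rw [← Finset.sum_subset (subset_univ ({a, b} : Finset ι)) fun i _ hi => by
    simp only [mem_insert, mem_singleton, not_or] at hi
    rw [hd i hi.1 hi.2, mul_zero], Finset.sum_pair hab] at h0
  have hna := hn a
  have hnb := hn b
  have key : ∀ a' b', a' ≠ b' → d a' = 1 → d b' = -1 →
      (∀ i, i ≠ a' → i ≠ b' → d i = 0) →
      ∀ i, d i = (if i = a' then 1 else 0) - (if i = b' then 1 else 0) := by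
    intro a' b' hne h1 h1' hrest i
    by_cases hia : i = a'
    · subst hia; simp [hne, h1]
    by_cases hib : i = b'
    · subst hib; simp [hia, h1']
    simp [hia, hib, hrest i hia hib]
  rcases hle a with h | h | h <;> rcases hle b with h' | h' | h'
  any_goals contradiction
  · rw [h, h'] at h0; omega
  · exact ⟨a, b, hab, key a b hab h h' hd⟩
  · exact ⟨b, a, hab.symm, key b a hab.symm h' h fun i h1 h2 => hd i h2 h1⟩
  · rw [h, h'] at h0; omega

/-- Coherence for vectors with Gram matrix `I + eJ`. -/
theorem coherent_vectors [Nonempty Ω] {x : Ω → ι → ℤ} {n : ι → ℕ} (hn : ∀ i, 0 < n i) {e : ℕ}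
    (hG : ∀ o o', ∑ i, x o i * x o' i = (if o = o' then 1 else 0) + (e : ℤ))
    (hdeg : ∀ o o', ∑ i, (n i : ℤ) * (x o i - x o' i) = 0) :
    ∃ (y : Ω → ι) (ε C : ℤ) (c : ι → ℤ), Function.Injective y ∧ (ε = 1 ∨ ε = -1) ∧
      (∀ o i, x o i = c i + if y o = i then ε else 0) ∧ (∀ o, c (y o) = C) ∧
      ∑ i, c i * c i + 2 * ε * C = e := by
  obtain ⟨o₀⟩ := ‹Nonempty Ω›
  suffices h : ∃ (y : Ω → ι) (ε : ℤ), Function.Injective y ∧ (ε = 1 ∨ ε = -1) ∧
      ∀ o i, x o₀ i - x o i = ε * ((if y o₀ = i then 1 else 0) - if y o = i then 1 else 0) by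
    obtain ⟨y, ε, hy, hε, hd⟩ := h
    obtain ⟨c, hc⟩ : ∃ c : ι → ℤ, c = fun i => x o₀ i - if y o₀ = i then ε else 0 := ⟨_, rfl⟩
    have hx : ∀ o i, x o i = c i + if y o = i then ε else 0 := fun o i => by
      have := hd o i
      simp only [mul_sub, mul_ite, mul_one, mul_zero] at this
      simp only [hc]
      split_ifs at * <;> omega
    have hε2 : ε * ε = 1 := by rcases hε with h | h <;> simp [h]
    have hnorm : ∀ o, ∑ i, c i * c i + 2 * ε * c (y o) = e := fun o => by
      have h := hG o o
      rw [if_pos rfl] at h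
      simp only [hx] at h
      have h1 : ∀ i, (c i + if y o = i then ε else 0) * (c i + if y o = i then ε else 0) =
          c i * c i + if y o = i then 2 * ε * c i + ε * ε else 0 := fun i => by
        split_ifs <;> ring
      rw [Finset.sum_congr rfl fun i _ => h1 i, Finset.sum_add_distrib, Finset.sum_ite_eq,
        if_pos (mem_univ _), hε2] at h
      linarith
    refine ⟨y, ε, c (y o₀), c, hy, hε, hx, fun o => ?_, hnorm o₀⟩
    have h1 := hnorm o
    have h2 := hnorm o₀
    rcases hε with h | h <;> subst h <;> linarith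
  by_cases hone : ∀ o, o = o₀
  · obtain ⟨i₀⟩ : Nonempty ι := by
      by_contra h
      have h0 := hG o₀ o₀
      haveI := not_nonempty_iff.1 h
      rw [Fintype.sum_empty, if_pos rfl] at h0
      omega
    refine ⟨fun _ => i₀, 1, fun a b _ => (hone a).trans (hone b).symm, Or.inl rfl, fun o i => ?_⟩
    rw [hone o]
    simp
  have hpair : ∀ o, o ≠ o₀ → ∃ a b, a ≠ b ∧
      ∀ i, x o₀ i - x o i = (if i = a then 1 else 0) - (if i = b then 1 else 0) := by
    intro o ho
    refine exists_pair_of_norm_two hn ?_ (hdeg o₀ o)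
    simp only [sub_mul, mul_sub, Finset.sum_sub_distrib, hG, if_pos, if_neg ho, if_neg (Ne.symm ho)]
    ring
  choose a b hab hd using hpair
  have hin : ∀ o o' (ho : o ≠ o₀) (ho' : o' ≠ o₀), o ≠ o' →
      (a o ho = a o' ho' ∧ b o ho ≠ b o' ho') ∨ (b o ho = b o' ho' ∧ a o ho ≠ a o' ho') := by
    intro o o' ho ho' hne
    have h : ∑ i, (x o₀ i - x o i) * (x o₀ i - x o' i) = 1 := by
      simp only [sub_mul, mul_sub, Finset.sum_sub_distrib, hG, if_pos, if_neg ho, if_neg hne,
        if_neg (Ne.symm ho')]
      ring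
    simp only [hd o ho, hd o' ho', sub_mul, mul_sub, ite_mul, one_mul, zero_mul,
      Finset.sum_sub_distrib, Finset.sum_ite_eq', mem_univ, if_true] at h
    have h1 := hab o ho
    have h2 := hab o' ho'
    by_cases haa : a o ho = a o' ho' <;> by_cases hbb : b o ho = b o' ho'
    · rw [← haa, ← hbb] at h
      simp [h1, Ne.symm h1] at h
    · exact Or.inl ⟨haa, hbb⟩
    · exact Or.inr ⟨hbb, haa⟩
    · exfalso
      simp only [haa, hbb, if_false] at h
      split_ifs at h <;> omega
  simp only [not_forall] at hone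
  obtain ⟨o₁, ho₁⟩ := hone
  by_cases hall : ∀ o (ho : o ≠ o₀), a o ho = a o₁ ho₁
  · refine ⟨fun o => if ho : o = o₀ then a o₁ ho₁ else b o ho, 1, fun o o' h => ?_, Or.inl rfl,
      fun o i => ?_⟩
    · by_cases ho : o = o₀ <;> by_cases ho' : o' = o₀
      · exact ho.trans ho'.symm
      · simp only [dif_pos ho, dif_neg ho'] at h
        exact absurd ((hall o' ho').trans h) (hab o' ho')
      · simp only [dif_neg ho, dif_pos ho'] at h
        exact absurd ((hall o ho).trans h.symm) (hab o ho)
      · simp only [dif_neg ho, dif_neg ho'] at h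
        by_contra hne
        rcases hin o o' ho ho' hne with h' | h'
        · exact h'.2 h
        · exact h'.2 ((hall o ho).trans (hall o' ho').symm)
    · simp only [dif_pos rfl]
      by_cases ho : o = o₀
      · subst ho; simp
      · simp only [dite_true, dif_neg ho, hd o ho i, hall o ho, one_mul]
        simp only [eq_comm (a := i)]
  · simp only [not_forall] at hall
    obtain ⟨o₂, ho₂, hne₂⟩ := hall
    have hne12 : o₁ ≠ o₂ := fun h => hne₂ (by subst h; rfl)
    have hb12 : b o₂ ho₂ = b o₁ ho₁ := by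
      rcases hin o₂ o₁ ho₂ ho₁ hne12.symm with h | h
      · exact absurd h.1 hne₂
      · exact h.1
    have hallb : ∀ o (ho : o ≠ o₀), b o ho = b o₁ ho₁ := by
      intro o ho
      by_cases h1 : o = o₁
      · subst h1; rfl
      by_cases h2 : o = o₂
      · subst h2; exact hb12
      rcases hin o o₁ ho ho₁ h1 with h | h
      · rcases hin o o₂ ho ho₂ h2 with h' | h'
        · exact absurd (h'.1.symm.trans h.1) hne₂
        · exact h'.1.trans hb12
      · exact h.1
    refine ⟨fun o => if ho : o = o₀ then b o₁ ho₁ else a o ho, -1, fun o o' h => ?_, Or.inr rfl,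
      fun o i => ?_⟩
    · by_cases ho : o = o₀ <;> by_cases ho' : o' = o₀
      · exact ho.trans ho'.symm
      · simp only [dif_pos ho, dif_neg ho'] at h
        exact absurd (h.symm.trans (hallb o' ho').symm) (hab o' ho')
      · simp only [dif_neg ho, dif_pos ho'] at h
        exact absurd (h.trans (hallb o ho).symm) (hab o ho)
      · simp only [dif_neg ho, dif_neg ho'] at h
        by_contra hne
        rcases hin o o' ho ho' hne with h' | h'
        · exact h'.2 ((hallb o ho).trans (hallb o' ho').symm)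
        · exact h'.2 h
    · simp only [dif_pos rfl]
      by_cases ho : o = o₀
      · subst ho; simp
      · simp only [dite_true, dif_neg ho, hd o ho i, hallb o ho]
        simp only [eq_comm (a := i)]
        ring

end IntVectors

section Free

universe u

variable {A : Type u} [Group A] [Fintype A]

theorem irr_one_of_comm (hA : ∀ a b : A, a * b = b * a) (l : IrrCharacter A) : (l : A → ℂ) 1 = 1 :=
  irr_abelian_degree hA l.2

theorem irr_mul_of_comm (hA : ∀ a b : A, a * b = b * a) (l : IrrCharacter A) (x y : A) :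
    (l : A → ℂ) (x * y) = (l : A → ℂ) x * (l : A → ℂ) y := by
  have h1 := irr_one_of_comm hA l
  obtain ⟨χ, m, ρ, hρ, rfl⟩ := l
  replace h1 : ρ.character 1 = 1 := h1
  rw [Representation.char_one] at h1
  have hm : Module.finrank ℂ (Fin m → ℂ) = 1 := by exact_mod_cast h1
  obtain ⟨a, ha⟩ := (LinearMap.existsUnique_eq_smul_id_of_finrank_eq_one hm (ρ x)).exists
  obtain ⟨b, hb⟩ := (LinearMap.existsUnique_eq_smul_id_of_finrank_eq_one hm (ρ y)).exists
  show LinearMap.trace ℂ _ (ρ (x * y)) = LinearMap.trace ℂ _ (ρ x) * LinearMap.trace ℂ _ (ρ y)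
  rw [map_mul, ha, hb, Module.End.mul_eq_comp, LinearMap.comp_smul, LinearMap.comp_id]
  simp [hm, mul_comm]

open scoped Classical in
/-- **Coherence of a free action**: the structure of a family of invariant generalized characters
with the orthogonality of the subsections of a block. -/
theorem free_coherence (hA : ∀ a b : A, a * b = b * a) (hA1 : 1 < Nat.card A)
    (E : Subgroup (MulAut A)) (hfree : ∀ σ ∈ E, ∀ u : A, u ≠ 1 → σ u = u → σ = 1)
    {ι : Type*} [Fintype ι] (ξ : ι → A → ℂ) (hgen : ∀ i, IsGeneralizedCharacter A (ξ i))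
    (horth : ∀ u v : A, u ≠ 1 → v ≠ 1 → ∑ i, ξ i u * conj (ξ i v) =
      (Nat.card A : ℂ) * ((univ.filter fun σ : E => (σ : MulAut A) u = v).card : ℂ))
    (hne : ∀ i, ∃ u : A, u ≠ 1 ∧ ξ i u ≠ 0)
    (n : ι → ℕ) (hn : ∀ i, 0 < n i) (hdeg : ∀ u : A, u ≠ 1 → ∑ i, (n i : ℂ) * ξ i u = 0) :
    ∃ (y : IrrCharacter A → ι) (ε r : ℤ) (a : ι → ℤ), (ε = 1 ∨ ε = -1) ∧
      (∀ l m : IrrCharacter A, l ≠ principal A → m ≠ principal A →
        (y l = y m ↔ ∃ σ : E, pullIrr (σ : MulAut A) l = m)) ∧
      (∀ l : IrrCharacter A, l ≠ principal A → ∀ u : A, u ≠ 1 →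
        ξ (y l) u = (r : ℂ) + (ε : ℂ) * ∑ σ : E, (l : A → ℂ) ((σ : MulAut A) u)) ∧
      (∀ i, (∀ l : IrrCharacter A, l ≠ principal A → y l ≠ i) →
        a i ≠ 0 ∧ ∀ u : A, u ≠ 1 → ξ i u = (a i : ℂ)) ∧
      Nat.card {i // ∃ l : IrrCharacter A, l ≠ principal A ∧ y l = i} * Nat.card E + 1 = Nat.card A ∧
      (∑ i ∈ univ.filter (fun i => ∀ l : IrrCharacter A, l ≠ principal A → y l ≠ i), a i * a i) +
          (Nat.card {i // ∃ l : IrrCharacter A, l ≠ principal A ∧ y l = i} : ℤ) * r * r - 2 * ε * r =
        (Nat.card E : ℤ) ∧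
      ∀ ψ : ι → ℂ, (∀ u : A, u ≠ 1 → ∑ i, ψ i * ξ i u = 0) →
        ∀ l : IrrCharacter A, l ≠ principal A →
          (∀ m : IrrCharacter A, m ≠ principal A → ψ (y m) = ψ (y l)) ∧
          (∑ i ∈ univ.filter (fun i => ∀ l : IrrCharacter A, l ≠ principal A → y l ≠ i),
              (a i : ℂ) * ψ i) +
            ((Nat.card {i // ∃ l : IrrCharacter A, l ≠ principal A ∧ y l = i} : ℂ) * r - ε) *
              ψ (y l) = 0 := by
  haveI := irrFintype A
  set N := (Nat.card A : ℂ) with hN
  have hN0 : N ≠ 0 := card_ne_zero A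
  choose α hα using fun i => (isGeneralized_iff_inner.1 (hgen i)).2
  have hexp : ∀ i u, ξ i u = ∑ l : IrrCharacter A, (α i l : ℂ) * (l : A → ℂ) u := fun i u => by
    conv_lhs => rw [classFun_eq_sum (isGeneralized_iff_inner.1 (hgen i)).1]
    simp [Finset.sum_apply, hα]
  have h1 : ∀ l : IrrCharacter A, (l : A → ℂ) 1 = 1 := irr_one_of_comm hA
  -- the action on the characters
  have hmul : ∀ (σ τ : MulAut A) (l : IrrCharacter A),
      pullIrr σ (pullIrr τ l) = pullIrr (τ * σ) l := fun σ τ l => Subtype.ext rfl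
  have hpone : ∀ σ : MulAut A, pullIrr σ (principal A) = principal A := fun σ => Subtype.ext rfl
  have hone : ∀ l : IrrCharacter A, pullIrr (1 : MulAut A) l = l := fun l => Subtype.ext rfl
  have hfix : ∀ σ ∈ E, ∀ l : IrrCharacter A, l ≠ principal A → pullIrr σ l = l → σ = 1 := by
    intro σ hσ l hl hfl
    by_contra hσ1
    refine hl (Subtype.ext (funext fun x => ?_))
    let f : A → A := fun u => σ u * u⁻¹
    have hinj : Function.Injective f := fun u v huv => by
      by_contra hne
      refine hσ1 (hfree σ hσ (v⁻¹ * u) (fun h => hne (inv_mul_eq_one.1 h).symm) ?_)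
      rw [map_mul, map_inv]
      have h2 : σ u = σ v * v⁻¹ * u := by rw [← mul_inv_eq_iff_eq_mul]; exact huv
      rw [h2, hA v⁻¹ u, ← mul_assoc, ← mul_assoc]
      rw [hA ((σ v)⁻¹) (σ v), mul_inv_cancel, one_mul, hA]
    obtain ⟨u, rfl⟩ := (Finite.injective_iff_surjective.1 hinj) x
    show (l : A → ℂ) (σ u * u⁻¹) = 1
    rw [irr_mul_of_comm hA, show (l : A → ℂ) (σ u) = (l : A → ℂ) u from
      congrFun (congrArg Subtype.val hfl) u, ← irr_mul_of_comm hA, mul_inv_cancel, h1]
  have hinjE : ∀ l : IrrCharacter A, l ≠ principal A →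
      Function.Injective fun σ : E => pullIrr (σ : MulAut A) l := by
    intro l hl σ τ h
    have h2 : pullIrr ((σ : MulAut A) * (τ : MulAut A)⁻¹) l = l := by
      rw [← hmul, show pullIrr (σ : MulAut A) l = pullIrr (τ : MulAut A) l from h, hmul,
        mul_inv_cancel, hone]
    exact Subtype.ext (mul_inv_eq_one.1 (hfix _ (E.mul_mem σ.2 (E.inv_mem τ.2)) l hl h2))
  have hpne : ∀ (σ : MulAut A) (l : IrrCharacter A), l ≠ principal A →
      pullIrr σ l ≠ principal A := fun σ l hl h => hl (by
    have h2 := congrArg (pullIrr σ⁻¹) h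
    rwa [hmul, mul_inv_cancel, hone, hpone] at h2)
  -- the Gram matrix
  have hG : ∀ l m : IrrCharacter A, l ≠ principal A → m ≠ principal A →
      ∑ i, (α i l - α i (principal A)) * (α i m - α i (principal A)) =
        (if ∃ σ : E, pullIrr (σ : MulAut A) m = l then 1 else 0) + (Nat.card E : ℤ) := by
    intro l m hl hm
    obtain ⟨fl, hfl⟩ : ∃ f : A → ℂ, f = (l : A → ℂ) - (principal A : A → ℂ) := ⟨_, rfl⟩
    obtain ⟨fm, hfm⟩ : ∃ f : A → ℂ, f = (m : A → ℂ) - (principal A : A → ℂ) := ⟨_, rfl⟩
    have hfl1 : fl 1 = 0 := by rw [hfl]; simp [h1, principal_apply]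
    have hfm1 : fm 1 = 0 := by rw [hfm]; simp [h1, principal_apply]
    have hlin : ∀ i, ((α i l - α i (principal A) : ℤ) : ℂ) = classInner (ξ i) fl := fun i => by
      rw [hfl, Chars.inner_sub_right, hα, hα]; push_cast; rfl
    have hlin' : ∀ i, ((α i m - α i (principal A) : ℤ) : ℂ) = conj (classInner (ξ i) fm) := fun i => by
      rw [hfm, Chars.inner_sub_right, hα, hα, map_sub, map_intCast, map_intCast]; push_cast; rfl
    apply Int.cast_injective (α := ℂ)
    calc ((∑ i, (α i l - α i (principal A)) * (α i m - α i (principal A)) : ℤ) : ℂ)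
        = ∑ i, classInner (ξ i) fl * conj (classInner (ξ i) fm) := by
          rw [Int.cast_sum]
          exact Finset.sum_congr rfl fun i _ => by rw [Int.cast_mul, hlin, hlin']
      _ = N⁻¹ * N⁻¹ * ∑ u : A, ∑ v : A, conj (fl u) * fm v * ∑ i, ξ i u * conj (ξ i v) := by
          have hNc : conj N = N := by rw [hN, map_natCast]
          simp only [inner_def, map_mul, map_inv₀, map_sum, Complex.conj_conj,
            Finset.mul_sum, Finset.sum_mul, ← hN, hNc]
          rw [Finset.sum_comm]
          conv_lhs => arg 2; ext; rw [Finset.sum_comm]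
          rw [Finset.sum_comm]
          exact Finset.sum_congr rfl fun u _ => Finset.sum_congr rfl fun v _ =>
            Finset.sum_congr rfl fun i _ => by ring
      _ = N⁻¹ * N⁻¹ * ∑ u : A, ∑ σ : E, N * (conj (fl u) * fm ((σ : MulAut A) u)) := by
          refine congrArg _ (Finset.sum_congr rfl fun u _ => ?_)
          calc ∑ v : A, conj (fl u) * fm v * ∑ i, ξ i u * conj (ξ i v)
              = ∑ v : A, ∑ σ : E, if (σ : MulAut A) u = v then N * (conj (fl u) * fm v) else 0 := by
                refine Finset.sum_congr rfl fun v _ => ?_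
                by_cases hu : u = 1
                · simp [hu, hfl1]
                by_cases hv : v = 1
                · simp [hv, hfm1]
                rw [horth u v hu hv, Finset.card_filter, Nat.cast_sum, Finset.mul_sum,
                  Finset.mul_sum]
                exact Finset.sum_congr rfl fun σ _ => by split_ifs <;> simp [mul_comm, mul_left_comm]
            _ = _ := by
                rw [Finset.sum_comm]
                exact Finset.sum_congr rfl fun σ _ => by simp
      _ = ∑ σ : E, classInner ((pullIrr (σ : MulAut A) m : A → ℂ) - (principal A : A → ℂ)) fl := by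
          rw [Finset.sum_comm, Finset.mul_sum]
          refine Finset.sum_congr rfl fun σ _ => ?_
          rw [inner_def, ← hN, ← Finset.mul_sum, mul_assoc, ← mul_assoc N⁻¹ N, inv_mul_cancel₀ hN0,
            one_mul]
          refine congrArg _ (Finset.sum_congr rfl fun u _ => ?_)
          rw [hfm]
          show conj (fl u) * _ = _
          rw [mul_comm]
          rfl
      _ = _ := by
          have hterm : ∀ σ : E, classInner ((pullIrr (σ : MulAut A) m : A → ℂ) -
              (principal A : A → ℂ)) fl =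
              (if pullIrr (σ : MulAut A) m = l then 1 else 0) + 1 := fun σ => by
            rw [hfl, Chars.inner_sub_left, Chars.inner_sub_right, Chars.inner_sub_right, inner_irr,
              inner_irr, inner_irr, inner_irr, if_neg (hpne _ m hm), if_neg (Ne.symm hl), if_pos rfl]
            ring
          rw [Finset.sum_congr rfl fun σ _ => hterm σ, Finset.sum_add_distrib, Finset.sum_const,
            Finset.card_univ, Finset.sum_boole, nsmul_eq_mul, mul_one, ← Nat.card_eq_fintype_card]
          push_cast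
          congr 1
          split_ifs with h
          · obtain ⟨σ, hσ⟩ := h
            rw [show (univ.filter fun τ : E => pullIrr (τ : MulAut A) m = l) = {σ} from
              Finset.eq_singleton_iff_unique_mem.2 ⟨mem_filter.2 ⟨mem_univ _, hσ⟩,
                fun τ hτ => hinjE m hm ((mem_filter.1 hτ).2.trans hσ.symm)⟩]
            simp
          · rw [Finset.filter_false_of_mem fun τ _ hτ => h ⟨τ, hτ⟩]
            simp
  -- orbits
  let S : Setoid {l : IrrCharacter A // l ≠ principal A} :=
    { r := fun l m => ∃ σ : E, pullIrr (σ : MulAut A) (l : IrrCharacter A) = m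
      iseqv := ⟨fun l => ⟨1, hone l⟩, fun {l m} ⟨σ, hσ⟩ => ⟨σ⁻¹, by
          rw [← hσ, hmul]
          simp [hone]⟩,
        fun {l m k} ⟨σ, hσ⟩ ⟨τ, hτ⟩ => ⟨σ * τ, by rw [← hτ, ← hσ, hmul]; rfl⟩⟩ }
  haveI : Fintype (Quotient S) := Fintype.ofFinite _
  have hinv : ∀ i (l m : {l : IrrCharacter A // l ≠ principal A}), S.r l m → α i m = α i l := by
    intro i l m hlm
    obtain ⟨σ, hσ⟩ := hlm
    have hll := hG l l l.2 l.2
    have hmm := hG m m m.2 m.2
    have hml := hG m l m.2 l.2
    rw [if_pos ⟨1, hone _⟩] at hll hmm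
    rw [if_pos ⟨σ, hσ⟩] at hml
    have h0 : ∑ j, (α j m - α j l) * (α j m - α j l) = 0 := by
      have e : ∀ j, (α j m - α j l) * (α j m - α j l) =
          (α j m - α j (principal A)) * (α j m - α j (principal A)) +
            (α j l - α j (principal A)) * (α j l - α j (principal A)) -
            2 * ((α j m - α j (principal A)) * (α j l - α j (principal A))) := fun j => by ring
      rw [Finset.sum_congr rfl fun j _ => e j, Finset.sum_sub_distrib, Finset.sum_add_distrib,
        ← Finset.mul_sum, hll, hmm, hml]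
      ring
    have := (Finset.sum_eq_zero_iff_of_nonneg fun j _ => mul_self_nonneg (α j m - α j l)).1 h0 i
      (mem_univ _)
    exact sub_eq_zero.1 (mul_self_eq_zero.1 this)
  let x : Quotient S → ι → ℤ := fun o i => α i o.out.1 - α i (principal A)
  have hx : ∀ (l : {l : IrrCharacter A // l ≠ principal A}) i,
      x (Quotient.mk S l) i = α i l.1 - α i (principal A) := fun l i => by
    show α i _ - _ = _
    rw [hinv i _ _ (Quotient.mk_out l)]
  haveI : Nonempty {l : IrrCharacter A // l ≠ principal A} := by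
    by_contra h
    haveI := not_nonempty_iff.1 h
    haveI := Finite.one_lt_card_iff_nontrivial.1 hA1
    obtain ⟨u, hu⟩ := exists_ne (1 : A)
    have h2 := sum_degree_mul (G := A) u
    rw [if_neg hu, Finset.sum_eq_single (principal A) (fun b _ hb => (IsEmpty.false (⟨b, hb⟩ : {l : IrrCharacter A // l ≠ principal A})).elim)
      (fun h => absurd (mem_univ _) h)] at h2
    simp [principal_apply] at h2
  haveI : Nonempty (Quotient S) := Nonempty.map (Quotient.mk S) inferInstance
  obtain ⟨y, ε, C, c, hy, hε, hxc, hcC, hnorm⟩ := coherent_vectors (x := x) hn (e := Nat.card E)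
    (fun o o' => by
      rw [hG _ _ o.out.2 o'.out.2]
      congr 1
      refine if_congr ⟨fun h => ?_, fun h => ?_⟩ rfl rfl
      · rw [← Quotient.out_eq o, ← Quotient.out_eq o']
        exact (Quotient.sound (show S.r _ _ from h)).symm
      · subst h; exact ⟨1, hone _⟩)
    (fun o o' => by
      apply Int.cast_injective (α := ℂ)
      push_cast
      have e : ∀ i, ((x o i : ℂ) - (x o' i : ℂ)) =
          classInner (ξ i) ((o.out.1 : A → ℂ) - (o'.out.1 : A → ℂ)) := fun i => by
        rw [Chars.inner_sub_right, hα, hα]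
        simp only [x]
        push_cast
        ring
      rw [Finset.sum_congr rfl fun i _ => by rw [e i, inner_def, Finset.mul_sum, Finset.mul_sum],
        Finset.sum_comm]
      refine Finset.sum_eq_zero fun u _ => ?_
      by_cases hu : u = 1
      · subst hu; simp [h1]
      · rw [Finset.sum_congr rfl fun i _ => show (n i : ℂ) * (N⁻¹ * (ξ i u *
            conj (((o.out.1 : A → ℂ) - (o'.out.1 : A → ℂ)) u))) =
          N⁻¹ * conj (((o.out.1 : A → ℂ) - (o'.out.1 : A → ℂ)) u) * ((n i : ℂ) * ξ i u) by ring,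
          ← Finset.mul_sum, hdeg u hu, mul_zero])
  let Y : IrrCharacter A → ι := fun l => if h : l = principal A then
    y (Classical.arbitrary _) else y (Quotient.mk S ⟨l, h⟩)
  have hY : ∀ (l) (h : l ≠ principal A), Y l = y (Quotient.mk S ⟨l, h⟩) := fun l h => dif_neg h
  have hYrel : ∀ l m : IrrCharacter A, l ≠ principal A → m ≠ principal A →
      (Y l = Y m ↔ ∃ σ : E, pullIrr (σ : MulAut A) l = m) := fun l m hl hm => by
    rw [hY l hl, hY m hm, hy.eq_iff, Quotient.eq]
    rfl
  have hval : ∀ i u, u ≠ 1 → ξ i u = -(c i : ℂ) +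
      (ε : ℂ) * ∑ l ∈ univ.filter (fun l => l ≠ principal A ∧ Y l = i), (l : A → ℂ) u := by
    intro i u hu
    have hsum := sum_degree_mul (G := A) u
    simp only [h1, one_mul, if_neg hu] at hsum
    rw [← Finset.sum_filter_add_sum_filter_not univ (fun l : IrrCharacter A => l = principal A)]
      at hsum
    have hp : univ.filter (fun l : IrrCharacter A => l = principal A) = {principal A} := by
      ext; simp
    rw [hp, Finset.sum_singleton, principal_apply] at hsum
    rw [hexp, ← Finset.sum_filter_add_sum_filter_not univ (fun l : IrrCharacter A => l = principal A),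
      hp, Finset.sum_singleton, principal_apply]
    have e : ∀ l ∈ univ.filter (fun l : IrrCharacter A => ¬l = principal A),
        (α i l : ℂ) * (l : A → ℂ) u = ((c i + α i (principal A) : ℤ) : ℂ) * (l : A → ℂ) u +
          if Y l = i then (ε : ℂ) * (l : A → ℂ) u else 0 := by
      intro l hl
      have hl' := (mem_filter.1 hl).2
      have h2 := hxc (Quotient.mk S ⟨l, hl'⟩) i
      rw [hx, ← hY l hl'] at h2
      change α i l - α i (principal A) = _ at h2
      rw [show α i l = c i + α i (principal A) + if Y l = i then ε else 0 by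
        split_ifs at h2 ⊢ <;> omega]
      split_ifs <;> push_cast <;> ring
    rw [Finset.sum_congr rfl e, Finset.sum_add_distrib, ← Finset.mul_sum, ← Finset.sum_filter,
      Finset.filter_filter, ← Finset.mul_sum,
      show ∑ l ∈ univ.filter (fun l : IrrCharacter A => ¬l = principal A), (l : A → ℂ) u = -1 by
        linear_combination hsum]
    push_cast
    ring
  refine ⟨Y, ε, -C, fun i => -c i, hε, hYrel, ?_, ?_, ?_⟩
  · intro l hl u hu
    rw [hval _ u hu, hY l hl, hcC]
    push_cast
    congr 2
    symm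
    refine Finset.sum_bij (fun σ _ => pullIrr (σ : MulAut A) l) (fun σ _ => ?_)
      (fun σ _ τ _ h => hinjE l hl h) (fun m hm => ?_) (fun σ _ => rfl)
    · refine mem_filter.2 ⟨mem_univ _, hpne _ l hl, ?_⟩
      rw [← hY l hl]
      exact ((hYrel l _ hl (hpne _ l hl)).2 ⟨σ, rfl⟩).symm
    · obtain ⟨-, hm1, hm2⟩ := mem_filter.1 hm
      rw [← hY l hl] at hm2
      obtain ⟨σ, hσ⟩ := (hYrel l m hl hm1).1 hm2.symm
      exact ⟨σ, mem_univ _, hσ⟩
  · intro i hi
    have hv : ∀ u : A, u ≠ 1 → ξ i u = ((-c i : ℤ) : ℂ) := fun u hu => by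
      rw [hval i u hu, Finset.filter_false_of_mem fun l _ h => hi l h.1 h.2]
      simp
    refine ⟨fun h0 => ?_, hv⟩
    obtain ⟨u, hu, hne'⟩ := hne i
    exact hne' (by rw [hv u hu, show -c i = 0 from h0, Int.cast_zero])
  have hrange : (univ.filter fun i => ¬∀ l : IrrCharacter A, l ≠ principal A → Y l ≠ i) =
      univ.image y := by
    ext i
    simp only [mem_filter, mem_univ, true_and, mem_image, not_forall, not_not]
    exact ⟨fun ⟨l, hl, h⟩ => ⟨_, (hY l hl).symm.trans h⟩, fun ⟨o, ho⟩ => ⟨o.out.1, o.out.2, by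
      rw [hY _ o.out.2, show (⟨o.out.1, o.out.2⟩ : {l : IrrCharacter A // l ≠ principal A}) = o.out
        from rfl, Quotient.out_eq, ho]⟩⟩
  have ht : Nat.card {i // ∃ l : IrrCharacter A, l ≠ principal A ∧ Y l = i} =
      Fintype.card (Quotient S) := by
    rw [Nat.card_eq_fintype_card, Fintype.card_subtype, ← Finset.card_univ,
      ← Finset.card_image_of_injective univ hy, ← hrange]
    congr 1
    ext i
    simp
  have hrest : ∀ f : ι → ℂ, ∑ i, f i =
      ∑ i ∈ univ.filter (fun i => ∀ l : IrrCharacter A, l ≠ principal A → Y l ≠ i), f i +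
        ∑ o : Quotient S, f (y o) := fun f => by
    rw [← Finset.sum_filter_add_sum_filter_not univ
      (fun i => ∀ l : IrrCharacter A, l ≠ principal A → Y l ≠ i), hrange,
      Finset.sum_image fun a _ b _ h => hy h]
  refine ⟨?_, ?_, fun ψ hψ l hl => ?_⟩
  · have hirr : Fintype.card (IrrCharacter A) = Nat.card A := by
      have h := sum_degree_mul (G := A) (1 : A)
      simp only [h1, mul_one, if_pos, Finset.sum_const, Finset.card_univ, nsmul_eq_mul] at h
      exact_mod_cast h
    have hE : ∀ o : Quotient S, Fintype.card {l : {l : IrrCharacter A // l ≠ principal A} //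
        Quotient.mk S l = o} = Nat.card E := by
      intro o
      rw [← Nat.card_eq_fintype_card]
      refine (Nat.card_congr (Equiv.ofBijective (fun σ : E =>
        ⟨⟨pullIrr (σ : MulAut A) o.out.1, hpne _ _ o.out.2⟩, by
          conv_rhs => rw [← Quotient.out_eq o]
          exact Quotient.sound (S.symm' (show S.r o.out _ from ⟨σ, rfl⟩))⟩)
        ⟨fun σ τ h => hinjE _ o.out.2 (congrArg (fun z => z.1.1) h), fun ⟨m, hm⟩ => ?_⟩)).symm
      obtain ⟨σ, hσ⟩ := Quotient.exact ((Quotient.out_eq o).trans hm.symm)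
      exact ⟨σ, Subtype.ext (Subtype.ext hσ)⟩
    have h2 : Fintype.card {l : IrrCharacter A // l ≠ principal A} =
        Fintype.card (Quotient S) * Nat.card E := by
      rw [← Fintype.card_congr (Equiv.sigmaFiberEquiv (Quotient.mk S)), Fintype.card_sigma,
        Finset.sum_congr rfl fun o _ => hE o, Finset.sum_const, Finset.card_univ, smul_eq_mul]
    rw [Fintype.card_subtype_compl, Fintype.card_subtype_eq, hirr] at h2
    rw [ht]
    omega
  · have h := hrest fun i => ((c i : ℂ) * c i)
    simp only [hcC, Finset.sum_const, Finset.card_univ, nsmul_eq_mul] at h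
    apply Int.cast_injective (α := ℂ)
    have hn' := congrArg (fun z : ℤ => (z : ℂ)) hnorm
    push_cast at hn' ⊢
    rw [ht]
    simp only [neg_mul_neg]
    linear_combination (norm := (ring_nf; rw [sub_eq_zero]; congr!)) hn' - h
  · have hconst : ∀ o o' : Quotient S, ψ (y o) = ψ (y o') := by
      intro o o'
      have e : ∀ i, ((x o i : ℂ) - (x o' i : ℂ)) =
          classInner (ξ i) ((o.out.1 : A → ℂ) - (o'.out.1 : A → ℂ)) := fun i => by
        rw [Chars.inner_sub_right, hα, hα]
        simp only [x]
        push_cast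
        ring
      have h0 : ∑ i, ψ i * ((x o i : ℂ) - (x o' i : ℂ)) = 0 := by
        rw [Finset.sum_congr rfl fun i _ => by rw [e i, inner_def, Finset.mul_sum, Finset.mul_sum],
          Finset.sum_comm]
        refine Finset.sum_eq_zero fun u _ => ?_
        by_cases hu : u = 1
        · subst hu; simp [h1]
        · rw [Finset.sum_congr rfl fun i _ => show ψ i * (N⁻¹ * (ξ i u *
              conj (((o.out.1 : A → ℂ) - (o'.out.1 : A → ℂ)) u))) =
            N⁻¹ * conj (((o.out.1 : A → ℂ) - (o'.out.1 : A → ℂ)) u) * (ψ i * ξ i u) by ring,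
            ← Finset.mul_sum, hψ u hu, mul_zero]
      have e2 : ∀ i, ψ i * ((x o i : ℂ) - (x o' i : ℂ)) =
          (ε : ℂ) * ((if y o = i then ψ i else 0) - if y o' = i then ψ i else 0) := fun i => by
        rw [hxc, hxc]; split_ifs <;> push_cast <;> ring
      rw [Finset.sum_congr rfl fun i _ => e2 i, ← Finset.mul_sum, Finset.sum_sub_distrib,
        Finset.sum_ite_eq, Finset.sum_ite_eq, if_pos (mem_univ _), if_pos (mem_univ _)] at h0
      have hε0 : (ε : ℂ) ≠ 0 := by rcases hε with h | h <;> simp [h]
      exact sub_eq_zero.1 ((mul_eq_zero.1 h0).resolve_left hε0)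
    refine ⟨fun m hm => by rw [hY m hm, hY l hl]; exact hconst _ _, ?_⟩
    haveI := Finite.one_lt_card_iff_nontrivial.1 hA1
    obtain ⟨u, hu⟩ := exists_ne (1 : A)
    have h0 := hψ u hu
    rw [Finset.sum_congr rfl fun i _ => by rw [hval i u hu, mul_add], Finset.sum_add_distrib,
      hrest fun i => ψ i * -(c i : ℂ)] at h0
    have h3 : ∑ i, ψ i * ((ε : ℂ) * ∑ m ∈ univ.filter (fun m => m ≠ principal A ∧ Y m = i),
        (m : A → ℂ) u) = ψ (Y l) * ((ε : ℂ) * -1) := by
      simp only [Finset.mul_sum, Finset.sum_filter, mul_ite, mul_zero]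
      rw [Finset.sum_comm]
      have e3 : ∀ m : IrrCharacter A, (∑ i, if m ≠ principal A ∧ Y m = i then
          ψ i * ((ε : ℂ) * (m : A → ℂ) u) else 0) =
          ψ (Y l) * (ε : ℂ) * ((if m ≠ principal A then (m : A → ℂ) u else 0)) := fun m => by
        by_cases hm : m = principal A
        · simp [hm]
        · simp only [ne_eq, hm, not_false_eq_true, true_and, Finset.sum_ite_eq, mem_univ, if_true,
            hY m hm, hY l hl, hconst (Quotient.mk S ⟨m, hm⟩) (Quotient.mk S ⟨l, hl⟩)]
          ring
      rw [Finset.sum_congr rfl fun m _ => e3 m, ← Finset.mul_sum, ← Finset.sum_filter]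
      have hsum := sum_degree_mul (G := A) u
      simp only [h1, one_mul, if_neg hu] at hsum
      rw [← Finset.sum_filter_add_sum_filter_not univ (fun m : IrrCharacter A => m ≠ principal A),
        show univ.filter (fun m : IrrCharacter A => ¬m ≠ principal A) = {principal A} by ext; simp,
        Finset.sum_singleton, principal_apply] at hsum
      linear_combination (ψ (Y l) * (ε : ℂ)) * hsum
    rw [h3] at h0
    simp only [hcC, hY l hl] at h0 ⊢
    rw [show ∑ o : Quotient S, ψ (y o) * -(C : ℂ) =
        ∑ o : Quotient S, ψ (y (Quotient.mk S ⟨l, hl⟩)) * -(C : ℂ) from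
      Finset.sum_congr rfl fun o _ => by rw [hconst o (Quotient.mk S ⟨l, hl⟩)]] at h0
    simp only [Finset.sum_const, Finset.card_univ, nsmul_eq_mul] at h0
    rw [ht]
    push_cast
    simp only [neg_mul, mul_neg, Finset.sum_neg_distrib] at h0 ⊢
    rw [Finset.sum_congr rfl fun i _ => mul_comm (c i : ℂ) (ψ i)]
    linear_combination (norm := (ring_nf; rw [neg_add_eq_zero]; congr!)) h0

end Free

end CfsgLib.Blocks
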