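import Cfsg.Agent.Lib.Blocks.FusionBlock
import Cfsg.Agent.Lib.Blocks.CentralizerPairs

/-!
# Nilpotent blocks and their fusion systems
-/

set_option linter.unusedSectionVars false
set_option linter.style.haveILetI false

namespace CfsgLib.Blocks

open Cfsg Chars
open CfsgLib.Fusion (cj IsMor)

variable {G : Type*} [Group G] [Fintype G] {M : Ideal AlgInt} [M.IsPrime] {p : ℕ} [Fact p.Prime]

theorem isPRegular_pow_ordProj (g : G) :
    IsPRegular p (g ^ p ^ (orderOf g).factorization p) := by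
  unfold IsPRegular
  have h1 : p ^ (orderOf g).factorization p ∣ orderOf g := Nat.ordProj_dvd _ _
  rw [orderOf_pow' g (pow_ne_zero _ (Fact.out : p.Prime).ne_zero), Nat.gcd_eq_right h1]
  exact Nat.not_dvd_ordCompl Fact.out (orderOf_pos g).ne'

/-- A `p`-regular element acting on a subgroup as a `p`-element centralizes it. -/
theorem mem_centralizer_of_act_eq {R : Subgroup G} {x u : G}
    (hx : x ∈ Subgroup.normalizer (R : Set G)) (hreg : IsPRegular p x)
    (hu : ∃ k : ℕ, u ^ p ^ k = 1) (hact : ∀ y ∈ R, x * y * x⁻¹ = u * y * u⁻¹) :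
    x ∈ Subgroup.centralizer (R : Set G) := by
  have hun : u ∈ Subgroup.normalizer (R : Set G) := by
    rw [Subgroup.mem_normalizer_iff_map_conj_eq]
    refine Eq.trans ?_ (Subgroup.mem_normalizer_iff_map_conj_eq.1 hx)
    ext z
    simp only [Subgroup.mem_map]
    refine exists_congr fun y => and_congr_right fun hy => ?_
    show u * y * u⁻¹ = z ↔ x * y * x⁻¹ = z
    rw [hact y hy]
  have he : R.normalizerMonoidHom ⟨x, hx⟩ = R.normalizerMonoidHom ⟨u, hun⟩ :=
    MulEquiv.ext fun y => Subtype.ext (hact y y.2)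
  obtain ⟨k, hk⟩ := hu
  have h1 : orderOf (R.normalizerMonoidHom ⟨x, hx⟩) ∣ p ^ k := by
    rw [he, orderOf_dvd_iff_pow_eq_one, ← map_pow,
      show (⟨u, hun⟩ : Subgroup.normalizer (R : Set G)) ^ p ^ k = 1 from Subtype.ext hk, map_one]
  have h2 : orderOf (R.normalizerMonoidHom ⟨x, hx⟩) ∣ orderOf x := by
    have := orderOf_map_dvd R.normalizerMonoidHom ⟨x, hx⟩
    rwa [Subgroup.orderOf_mk] at this
  have h3 : (p ^ k).Coprime (orderOf x) :=
    Nat.Coprime.pow_left k (((Fact.out : p.Prime).coprime_iff_not_dvd).2 hreg)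
  have h4 : R.normalizerMonoidHom ⟨x, hx⟩ = 1 :=
    orderOf_eq_one_iff.1 (Nat.eq_one_of_dvd_coprimes h3 h1 h2)
  rw [Subgroup.mem_centralizer_iff]
  intro y hy
  have h5 : x * y * x⁻¹ = y := by
    have := congrArg Subtype.val (DFunLike.congr_fun h4 (⟨y, hy⟩ : R))
    exact this
  conv_lhs => rw [← h5, inv_mul_cancel_right]

variable {B : Set (IrrCharacter G)} {P : Subgroup G}
  {e : Set (IrrCharacter (Subgroup.centralizer (P : Set G)))} {F : FusionSystem P}

theorem isPGroup_autGroup_of_nilpotent (hpM : (p : AlgInt) ∈ M)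
    (hF : IsBlockFusionSystemOn p M B P e F) (hnil : IsNilpotentBlock p M B) {Q : Subgroup G}
    (hQ : Q ≤ P) : IsPGroup p (F.autGroup Q) := by
  obtain ⟨f, hf⟩ := exists_below (b := ⟨P, e⟩) hpM hF.1.1.1 Q hQ
  have hQf := below_isBrauerPair hf hF.1.1.1
  have hpair : IsBrauerPairOf p M B Q f := (isBrauerPairOf_iff_of_below hpM hf B).2 hF.1.1
  rw [autGroup_block hpM hF hf]
  rintro ⟨α, hα⟩
  obtain ⟨g, hgT, hgN, hg⟩ := CfsgLib.Fusion.mem_autInducedBy.1 hα
  refine ⟨(orderOf g).factorization p, Subtype.ext ?_⟩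
  have he : α = Q.normalizerMonoidHom ⟨g, hgN⟩ := CfsgLib.Fusion.autFun_inj fun x hx => by
    rw [hg x hx, CfsgLib.Fusion.autFun_of_mem _ hx]
    rfl
  rw [SubmonoidClass.coe_pow]
  show α ^ _ = _
  rw [he, ← map_pow]
  change Q.normalizerMonoidHom _ = 1
  rw [← MonoidHom.mem_ker]
  rw [Subgroup.normalizerMonoidHom_ker, Subgroup.mem_subgroupOf, SubmonoidClass.coe_pow]
  exact hnil.2 Q f hpair _ (pow_mem hgN _)
    ((mem_stabPair_iff hQf.2).1 (pow_mem hgT _)).2 (isPRegular_pow_ordProj g)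

theorem inner_of_nilpotent (hpM : (p : AlgInt) ∈ M)
    (hF : IsBlockFusionSystemOn p M B P e F) (hnil : IsNilpotentBlock p M B) (Q : Subgroup G) :
    F.Hom Q = (innerFusionSystem P).Hom Q :=
  CfsgLib.Fusion.hom_eq_inner hF.1.1.1.1 (isSaturated_block hpM hF)
    (fun _ hR => isPGroup_autGroup_of_nilpotent hpM hF hnil hR) Q

theorem act_eq_of_inner (hF : IsBlockFusionSystemOn p M B P e F)
    (h : ∀ Q : Subgroup G, F.Hom Q = (innerFusionSystem P).Hom Q) {Q : Subgroup G} {g : G}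
    (hg : BlockMor p M ⟨P, e⟩ Q g) : ∃ u ∈ P, ∀ y ∈ Q, g * y * g⁻¹ = u * y * u⁻¹ := by
  have h1 : IsMor F Q (cj g) := (isMor_block_iff hF).2 ⟨g, hg, fun _ _ => rfl⟩
  obtain ⟨φ, hφ, hφe⟩ := h1
  rw [h Q] at hφ
  obtain ⟨-, u, hu, hue⟩ := hφ
  exact ⟨u, hu, fun y hy => (hφe ⟨y, hy⟩).symm.trans (hue ⟨y, hy⟩)⟩

theorem nilpotent_of_inner (hpM : (p : AlgInt) ∈ M)
    (hF : IsBlockFusionSystemOn p M B P e F)
    (h : ∀ Q : Subgroup G, F.Hom Q = (innerFusionSystem P).Hom Q) : IsNilpotentBlock p M B := by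
  refine ⟨hF.1.1.2.1, fun Q e' hQe x hxN hst hreg => ?_⟩
  obtain ⟨y, hy⟩ := exists_conj_below (b := ⟨P, e⟩) (a := ⟨Q, e'⟩) hpM hF.1 hQe
  have hxs : x ∈ stabPair ⟨Q, e'⟩ := (mem_stabPair_iff hQe.1.2).2 ⟨hxN, hst⟩
  have hxs' : y * x * y⁻¹ ∈ stabPair (conjPair y ⟨Q, e'⟩) := (conj_mem_stabPair_iff _ y x).2 hxs
  have hN' := stabPair_le_normalizer _ hxs'
  obtain ⟨u, hu, hact⟩ := act_eq_of_inner hF h (Q := (conjPair y ⟨Q, e'⟩).1) (g := y * x * y⁻¹)
    ⟨(conjPair y ⟨Q, e'⟩).2, hy, by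
      rw [show conjPair (y * x * y⁻¹) (conjPair y ⟨Q, e'⟩) = conjPair y ⟨Q, e'⟩ from hxs']
      exact hy⟩
  obtain ⟨k, hk⟩ := hF.1.1.1.1 ⟨u, hu⟩
  have h1 := mem_centralizer_of_act_eq hN' (p := p) (by
      show ¬ p ∣ orderOf _
      rw [← (SemiconjBy.conj_mk y x).orderOf_eq]
      exact hreg) ⟨k, congrArg Subtype.val hk⟩ hact
  exact (centralizer_conj_iff Q y x).1 h1

/-- The local blocks of a nilpotent block are nilpotent. -/
theorem isNilpotentBlock_centralizer (hpM : (p : AlgInt) ∈ M) (hnil : IsNilpotentBlock p M B)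
    {Q : Subgroup G} {f : Set (IrrCharacter (Subgroup.centralizer (Q : Set G)))}
    (hQf : IsBrauerPairOf p M B Q f) : IsNilpotentBlock p M f := by
  refine ⟨hQf.1.2, fun R' r' h x hxN hst hreg => ?_⟩
  haveI := Fintype.ofFinite (Subgroup.centralizer (Q : Set G))
  obtain ⟨r, hn, hcoef⟩ := exists_pair_above hpM hQf.1 h
  have hpair := (isBrauerPairOf_of_normal hpM hn B).1 hQf
  have hxR : (x : G) ∈ Subgroup.normalizer
      ((R'.map (Subgroup.centralizer (Q : Set G)).subtype : Subgroup G) : Set G) :=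
    Subgroup.le_normalizer_map (Subgroup.centralizer (Q : Set G)).subtype ⟨x, hxN, rfl⟩
  have hxQ : (x : G) ∈ Subgroup.normalizer (Q : Set G) :=
    stabPair_le_normalizer _ (centralizer_le_stabPair hQf.1.2 x.2)
  have hxS : (x : G) ∈ Subgroup.normalizer
      ((R'.map (Subgroup.centralizer (Q : Set G)).subtype ⊔ Q : Subgroup G) : Set G) := by
    rw [Subgroup.mem_normalizer_iff_map_conj_eq] at hxR hxQ ⊢
    rw [Subgroup.map_sup, hxR, hxQ]
  have h1 := (stabilizesBlock_iff h.1.2).1 hst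
  have h2 : StabilizesBlock (Subgroup.centralizer
      ((R'.map (Subgroup.centralizer (Q : Set G)).subtype ⊔ Q : Subgroup G) : Set G)) r (x : G) := by
    refine (stabilizesBlock_iff hpair.1.2).2 ⟨mem_normalizer_centralizer hxS, fun g => ?_⟩
    by_cases hg : g ∈ Subgroup.centralizer (Q : Set G)
    · have h3 := h1.2 ⟨g, hg⟩
      rw [← hcoef, ← hcoef] at h3
      exact h3
    · rw [subgroupBlockCoeff_of_notMem _ fun h' => hg (centralizer_antitone le_sup_right h'),
        subgroupBlockCoeff_of_notMem _ fun h' => hg ?_]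
      have h4 := Subgroup.mul_mem _ (Subgroup.mul_mem _ (Subgroup.inv_mem _ x.2)
        (centralizer_antitone le_sup_right h')) x.2
      simpa [mul_assoc] using h4
  have h5 := hnil.2 _ r hpair (x : G) hxS h2 (by
    show ¬ p ∣ orderOf (x : G)
    rwa [Subgroup.orderOf_coe])
  exact Subgroup.mem_centralizer_iff.2 fun y hy => Subtype.ext
    (Subgroup.mem_centralizer_iff.1 (mem_centralizer_sup_iff.1 h5).1 _ ⟨y, hy, rfl⟩)

/-- In a nilpotent block every pair below the maximal pair is fully centralized. -/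
theorem isFullyCentralized_of_nilpotent (hpM : (p : AlgInt) ∈ M)
    (hF : IsBlockFusionSystemOn p M B P e F) (hnil : IsNilpotentBlock p M B) {Q : Subgroup G}
    (hQ : Q ≤ P) : F.IsFullyCentralized Q := by
  refine ⟨hQ, fun Q' hQ' => ?_⟩
  obtain ⟨g, hg, rfl⟩ := (isConj_block_iff hF).1 hQ'
  obtain ⟨u, hu, hact⟩ := act_eq_of_inner hF (inner_of_nilpotent hpM hF hnil) hg
  have hmap : Q.map (MulAut.conj g).toMonoidHom = Q.map (MulAut.conj u).toMonoidHom := by
    rw [← CfsgLib.Fusion.img_cj, ← CfsgLib.Fusion.img_cj]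
    exact CfsgLib.Fusion.img_congr hact
  rw [hmap]
  refine le_of_le_of_eq (Subgroup.card_le_of_le ?_)
    (Base.card_map_conj u (P ⊓ Subgroup.centralizer (Q : Set G)))
  rintro v ⟨hvP, hvC⟩
  refine ⟨u⁻¹ * v * u, ⟨P.mul_mem (P.mul_mem (P.inv_mem hu) hvP) hu,
    (centralizer_conj_iff Q u _).1 ?_⟩, show u * (u⁻¹ * v * u) * u⁻¹ = v by group⟩
  rwa [show u * (u⁻¹ * v * u) * u⁻¹ = v by group]

theorem isDefectGroup_of_nilpotent (hpM : (p : AlgInt) ∈ M) (hnil : IsNilpotentBlock p M B)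
    (hmax : IsMaximalBrauerPair p M B P e) {Q : Subgroup G}
    {f : Set (IrrCharacter (Subgroup.centralizer (Q : Set G)))}
    (hle : Below p M ⟨Q, f⟩ ⟨P, e⟩) :
    IsDefectGroup p M f ((P ⊓ Subgroup.centralizer (Q : Set G)).subgroupOf
      (Subgroup.centralizer (Q : Set G))) :=
  (isDefectGroup_inf_centralizer_iff (b := ⟨P, e⟩) hpM hmax.1.1 hle le_rfl).2
    ((isFullyCentralized_iff hpM (isBlockFusionSystemOn_blockFusion hpM hmax) hle).1
      (isFullyCentralized_of_nilpotent hpM (isBlockFusionSystemOn_blockFusion hpM hmax) hnil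
        (below_le hle)))

end CfsgLib.Blocks
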