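import Cfsg.Agent.Lib.Blocks.InertialQuotient
import Cfsg.Agent.Lib.Blocks.NilpotentFusion

/-!
# Free inertial action and nilpotency of local blocks
-/

set_option linter.unusedSectionVars false
set_option linter.style.haveILetI false

namespace CfsgLib.Blocks

open Cfsg Chars

variable {G : Type*} [Group G] [Fintype G] {M : Ideal AlgInt} [M.IsPrime] {p : ℕ} [Fact p.Prime]
  {B : Set (IrrCharacter G)} {P : Subgroup G}
  {e : Set (IrrCharacter (Subgroup.centralizer (P : Set G)))}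

theorem inducedCentralCharIn_eq_rel {H R : Subgroup G} (hR : R ≤ H)
    (hC : Subgroup.centralizer (R : Set G) ≤ H) (ξ : IrrCharacter (Subgroup.centralizer (R : Set G)))
    (h : H) :
    inducedCentralCharIn H (Subgroup.centralizer (R : Set G))
        (ξ : Subgroup.centralizer (R : Set G) → ℂ) (h : G) =
      inducedCentralChar (Subgroup.centralizer (R.subgroupOf H : Set H))
        (pullIrr (relIso hR hC) ξ : _ → ℂ) h := by
  unfold inducedCentralCharIn inducedCentralChar
  refine (finsum_mem_eq_of_bijOn (relIso hR hC) ?_ fun v _ => ?_).symm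
  · refine ⟨fun v hv => ?_, (relIso hR hC).injective.injOn, fun k hk => ?_⟩
    · obtain ⟨c, hc⟩ := isConj_iff.1 (IsConj.symm hv)
      exact ⟨c, congrArg Subtype.val hc⟩
    · obtain ⟨c, hc⟩ := hk
      refine ⟨(relIso hR hC).symm k, IsConj.symm (isConj_iff.2 ⟨c, Subtype.ext ?_⟩),
        (relIso hR hC).apply_symm_apply k⟩
      exact hc
  · simp only [pullIrr_apply, map_one]

theorem isInducedBlockIn_iff {H R : Subgroup G} [Fintype H] (hR : R ≤ H)
    (hC : Subgroup.centralizer (R : Set G) ≤ H)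
    {c : Set (IrrCharacter (Subgroup.centralizer (R : Set G)))} (hc : IsPBlock M c)
    {f : Set (IrrCharacter H)} :
    IsInducedBlockIn M H (Subgroup.centralizer (R : Set G)) c f ↔
      IsInducedBlock M (Subgroup.centralizer (R.subgroupOf H : Set H)) (relBlock hR hC c) f := by
  constructor
  · rintro ⟨-, hf, h⟩
    refine ⟨isPBlock_relBlock hR hC hc, hf, ?_⟩
    rintro _ ⟨ξ, hξ, rfl⟩ χ hχ g
    have := h ξ hξ χ hχ g
    rwa [inducedCentralCharIn_eq_rel hR hC] at this
  · rintro ⟨-, hf, h⟩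
    refine ⟨hc, hf, fun ξ hξ χ hχ g => ?_⟩
    rw [inducedCentralCharIn_eq_rel hR hC]
    exact h _ ⟨ξ, hξ, rfl⟩ χ hχ g

/-- A pair on an abelian subgroup induces its block. -/
theorem isInducedBlock_of_pair_abelian {K : Type*} [Group K] [Fintype K] (hpM : (p : AlgInt) ∈ M)
    {R : Subgroup K} (hab : ∀ x ∈ R, ∀ y ∈ R, x * y = y * x)
    {e : Set (IrrCharacter (Subgroup.centralizer (R : Set K)))} {B : Set (IrrCharacter K)}
    (h : IsBrauerPairOf p M B R e) :
    IsInducedBlock M (Subgroup.centralizer (R : Set K)) e B :=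
  isInducedBlock_of_pair hpM h.1.1 (le_centralizer_of_abelian le_rfl hab) le_rfl
    (centralizer_le_normalizer' R) h h.1.2 (pairIdem_mul_self h.1.2)

theorem isBrauerPairOf_of_induced (hpM : (p : AlgInt) ∈ M) (hP : IsPGroup p P)
    (hab : ∀ x ∈ P, ∀ y ∈ P, x * y = y * x)
    (hc : IsInducedBlock M (Subgroup.centralizer (P : Set G)) e B) :
    IsBrauerPairOf p M B P e := by
  obtain ⟨B', hB', -⟩ := existsUnique_block_of_pair hpM (⟨hP, hc.1⟩ : IsBrauerPair p M P e)
  rwa [IsInducedBlock.unique hc (isInducedBlock_of_pair_abelian hpM hab hB')]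

/-- The local block is the one induced by the maximal pair. -/
theorem induced_iff_below (hpM : (p : AlgInt) ∈ M) (hPe : IsBrauerPair p M P e)
    (hab : ∀ x ∈ P, ∀ y ∈ P, x * y = y * x) {Q : Subgroup G} (hQ : Q ≤ P)
    {f : Set (IrrCharacter (Subgroup.centralizer (Q : Set G)))} :
    IsInducedBlockIn M (Subgroup.centralizer (Q : Set G)) (Subgroup.centralizer (P : Set G)) e f ↔
      Relation.ReflTransGen (NormalSubpairRel p M) (⟨Q, f⟩ : BrauerPairIdx G) ⟨P, e⟩ := by
  haveI := Fintype.ofFinite (Subgroup.centralizer (Q : Set G))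
  have hPC : P ≤ Subgroup.centralizer (Q : Set G) := le_centralizer_of_abelian hQ hab
  have hCC : Subgroup.centralizer (P : Set G) ≤ Subgroup.centralizer (Q : Set G) :=
    centralizer_antitone hQ
  rw [isInducedBlockIn_iff hPC hCC hPe.2]
  have key : ∀ f₀, Relation.ReflTransGen (NormalSubpairRel p M) (⟨Q, f₀⟩ : BrauerPairIdx G)
      ⟨P, e⟩ → IsInducedBlock M
        (Subgroup.centralizer (P.subgroupOf (Subgroup.centralizer (Q : Set G)) :
          Set (Subgroup.centralizer (Q : Set G)))) (relBlock hPC hCC e) f₀ := by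
    intro f₀ hle
    have hn := isNormalSubpair_of_below (b := ⟨P, e⟩) hpM hPe hle Relation.ReflTransGen.refl hQ
      (hPC.trans (centralizer_le_normalizer' Q))
    exact isInducedBlock_of_pair_abelian hpM
      (fun x hx y hy => Subtype.ext (hab _ hx _ hy))
      ((isBrauerPairOf_rel_iff hpM hPC hCC hPe.1 hPe.2 hn.1.2).2
        (IsNormalSubpair.mul_cut hpM hn))
  refine ⟨fun h => ?_, key f⟩
  obtain ⟨f₀, hf₀⟩ := exists_below (b := ⟨P, e⟩) hpM hPe Q hQ
  rwa [IsInducedBlock.unique h (key f₀ hf₀)]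

theorem local_nilpotent_of_free (hpM : (p : AlgInt) ∈ M) (hmax : IsMaximalBrauerPair p M B P e)
    (hab : ∀ x ∈ P, ∀ y ∈ P, x * y = y * x)
    (hfree : ∀ g ∈ stabPair ⟨P, e⟩, ∀ x ∈ P, x ≠ 1 → g * x * g⁻¹ = x →
      g ∈ Subgroup.centralizer (P : Set G))
    {Q : Subgroup G} (hQ1 : Q ≠ ⊥) {f : Set (IrrCharacter (Subgroup.centralizer (Q : Set G)))}
    (hle : Relation.ReflTransGen (NormalSubpairRel p M) (⟨Q, f⟩ : BrauerPairIdx G) ⟨P, e⟩) :
    IsNilpotentBlock p M f := by
  have hQf := below_isBrauerPair hle hmax.1.1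
  refine ⟨hQf.2, fun R' r' h x hxN hst _ => ?_⟩
  haveI := Fintype.ofFinite (Subgroup.centralizer (Q : Set G))
  obtain ⟨r, hn, hcoef⟩ := exists_pair_above hpM hQf h
  have hRC : R'.map (Subgroup.centralizer (Q : Set G)).subtype ≤ Subgroup.centralizer (Q : Set G) :=
    Subgroup.map_subtype_le _
  have hpair := (isBrauerPairOf_of_normal hpM hn B).1
    ((isBrauerPairOf_iff_of_below hpM hle B).2 hmax.1)
  have hxR : (x : G) ∈ Subgroup.normalizer
      ((R'.map (Subgroup.centralizer (Q : Set G)).subtype : Subgroup G) : Set G) :=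
    Subgroup.le_normalizer_map (Subgroup.centralizer (Q : Set G)).subtype ⟨x, hxN, rfl⟩
  have hxQ : (x : G) ∈ Subgroup.normalizer (Q : Set G) := centralizer_le_normalizer' Q x.2
  have hxS : (x : G) ∈ Subgroup.normalizer
      ((R'.map (Subgroup.centralizer (Q : Set G)).subtype ⊔ Q : Subgroup G) : Set G) := by
    rw [Subgroup.mem_normalizer_iff_map_conj_eq] at hxR hxQ ⊢
    rw [Subgroup.map_sup, hxR, hxQ]
  have h1 := (stabilizesBlock_iff h.1.2).1 hst
  have h2 : StabilizesBlock (Subgroup.centralizer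
      ((R'.map (Subgroup.centralizer (Q : Set G)).subtype ⊔ Q : Subgroup G) : Set G)) r (x : G) := by
    refine (stabilizesBlock_iff hpair.1.2).2 ⟨mem_normalizer_centralizer hxS, fun g => ?_⟩
    by_cases hg : g ∈ Subgroup.centralizer (Q : Set G)
    · have h3 := h1.2 ⟨g, hg⟩
      rw [← hcoef, ← hcoef] at h3
      exact h3
    · rw [subgroupBlockCoeff_of_notMem _ fun h' => hg (centralizer_antitone le_sup_right h'),
        subgroupBlockCoeff_of_notMem _ fun h' => hg ?_]
      have h4 := Subgroup.mul_mem _ (Subgroup.mul_mem _ (Subgroup.inv_mem _ x.2)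
        (centralizer_antitone le_sup_right h')) x.2
      simpa [mul_assoc] using h4
  obtain ⟨S, hS⟩ : ∃ S, S = R'.map (Subgroup.centralizer (Q : Set G)).subtype ⊔ Q := ⟨_, rfl⟩
  suffices hmain : (x : G) ∈ Subgroup.centralizer
      ((R'.map (Subgroup.centralizer (Q : Set G)).subtype ⊔ Q : Subgroup G) : Set G) by
    exact Subgroup.mem_centralizer_iff.2 fun y hy => Subtype.ext
      (Subgroup.mem_centralizer_iff.1 (mem_centralizer_sup_iff.1 hmain).1 _ ⟨y, hy, rfl⟩)
  have hxs := (mem_stabPair_iff hpair.1.2).2 ⟨hxS, h2⟩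
  obtain ⟨y, hy⟩ := exists_conj_below (b := ⟨P, e⟩) (a := ⟨_, r⟩) hpM hmax hpair
  have hxs' := (conj_mem_stabPair_iff _ y (x : G)).2 hxs
  obtain ⟨d, hd, hdx⟩ := exists_centralizer_conj hpM hmax hab hy hxs'
  obtain ⟨⟨q, hq⟩, hq1'⟩ := Subgroup.ne_bot_iff_exists_ne_one.1 hQ1
  have hq1 : q ≠ 1 := fun h' => hq1' (Subtype.ext h')
  have hqS : y * q * y⁻¹ ∈ (R'.map (Subgroup.centralizer (Q : Set G)).subtype ⊔ Q).map
      (MulAut.conj y).toMonoidHom := ⟨q, Subgroup.mem_sup_right hq, rfl⟩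
  have hfix : d * (y * (x : G) * y⁻¹) * (y * q * y⁻¹) * (d * (y * (x : G) * y⁻¹))⁻¹ =
      y * q * y⁻¹ := by
    have hxq : (x : G) * q * (x : G)⁻¹ = q := by
      rw [← Subgroup.mem_centralizer_iff.1 x.2 q hq, mul_inv_cancel_right]
    have hdq : d * (y * q * y⁻¹) * d⁻¹ = y * q * y⁻¹ := by
      rw [← Subgroup.mem_centralizer_iff.1 hd _ hqS, mul_inv_cancel_right]
    calc _ = d * (y * ((x : G) * q * (x : G)⁻¹) * y⁻¹) * d⁻¹ := by group
      _ = _ := by rw [hxq, hdq]
  have hC := hfree _ hdx _ (below_le hy hqS) (fun h' => hq1 (by simpa using h')) hfix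
  have h5 : y * (x : G) * y⁻¹ ∈ Subgroup.centralizer
      (((R'.map (Subgroup.centralizer (Q : Set G)).subtype ⊔ Q).map
        (MulAut.conj y).toMonoidHom : Subgroup G) : Set G) := by
    have := Subgroup.mul_mem _ (Subgroup.inv_mem _ hd) (centralizer_antitone (below_le hy) hC)
    simpa [mul_assoc] using this
  exact (centralizer_conj_iff _ y _).1 h5

theorem free_of_local_nilpotent (hpM : (p : AlgInt) ∈ M) (hmax : IsMaximalBrauerPair p M B P e)
    (hab : ∀ x ∈ P, ∀ y ∈ P, x * y = y * x)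
    (hnil : ∀ Q : Subgroup G, Q ≤ P → Q ≠ ⊥ →
      ∀ f : Set (IrrCharacter (Subgroup.centralizer (Q : Set G))),
      Relation.ReflTransGen (NormalSubpairRel p M) (⟨Q, f⟩ : BrauerPairIdx G) ⟨P, e⟩ →
        IsNilpotentBlock p M f)
    {g : G} (hg : g ∈ stabPair ⟨P, e⟩) {x : G} (hx : x ∈ P) (hx1 : x ≠ 1)
    (hfix : g * x * g⁻¹ = x) : g ∈ Subgroup.centralizer (P : Set G) := by
  have hPe : IsBrauerPair p M P e := hmax.1.1
  obtain ⟨Q, hQ⟩ : ∃ Q, Q = Subgroup.zpowers x := ⟨_, rfl⟩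
  have hQP : Q ≤ P := hQ ▸ Subgroup.zpowers_le.2 hx
  have hQ1 : Q ≠ ⊥ := hQ ▸ fun h => hx1 (Subgroup.zpowers_eq_bot.1 h)
  have hgQ : g ∈ Subgroup.centralizer (Q : Set G) := by
    rw [hQ, Subgroup.zpowers_eq_closure, Subgroup.centralizer_closure,
      Subgroup.mem_centralizer_singleton_iff]
    calc g * x = g * x * g⁻¹ * g := by group
      _ = x * g := by rw [hfix]
  obtain ⟨f, hf⟩ := exists_below (b := ⟨P, e⟩) hpM hPe Q hQP
  haveI := Fintype.ofFinite (Subgroup.centralizer (Q : Set G))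
  have hPC : P ≤ Subgroup.centralizer (Q : Set G) := le_centralizer_of_abelian hQP hab
  have hCC : Subgroup.centralizer (P : Set G) ≤ Subgroup.centralizer (Q : Set G) :=
    centralizer_antitone hQP
  have hn := isNormalSubpair_of_below (b := ⟨P, e⟩) hpM hPe hf Relation.ReflTransGen.refl hQP
    (hPC.trans (centralizer_le_normalizer' Q))
  have hp' := (isBrauerPairOf_rel_iff hpM hPC hCC hPe.1 hPe.2 hn.1.2).2
    (IsNormalSubpair.mul_cut hpM hn)
  obtain ⟨g', hg'⟩ : ∃ g' : Subgroup.centralizer (Q : Set G),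
      g' = ⟨g, hgQ⟩ ^ p ^ (orderOf g).factorization p := ⟨_, rfl⟩
  have hcoe : (g' : G) = g ^ p ^ (orderOf g).factorization p := by rw [hg']; rfl
  have hgs : (g' : G) ∈ stabPair ⟨P, e⟩ := hcoe ▸ pow_mem hg _
  have h2 := (mem_stabPair_iff hPe.2).1 hgs
  have hn' : g' ∈ Subgroup.normalizer
      ((P.subgroupOf (Subgroup.centralizer (Q : Set G)) : Subgroup _) :
        Set (Subgroup.centralizer (Q : Set G))) := by
    rw [Subgroup.mem_normalizer_iff]
    exact fun v => Subgroup.mem_normalizer_iff.1 h2.1 (v : G)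
  have hgC : (g' : G) ∈ Subgroup.centralizer (P : Set G) := by
    refine (mem_centralizer_subgroupOf_iff hPC g').1
      ((hnil Q hQP hQ1 f hf).2 _ _ hp' g' hn' ?_ ?_)
    · refine (stabilizesBlock_iff hp'.1.2).2 ⟨mem_normalizer_centralizer hn', fun v => ?_⟩
      rw [subgroupBlockCoeff_relBlock, subgroupBlockCoeff_relBlock]
      exact ((stabilizesBlock_iff hPe.2).1 h2.2).2 v
    · show ¬ p ∣ orderOf g'
      rw [← Subgroup.orderOf_coe, hcoe]
      exact isPRegular_pow_ordProj g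
  haveI : ((Subgroup.centralizer (P : Set G)).subgroupOf (stabPair ⟨P, e⟩)).Normal :=
    (Subgroup.normal_subgroupOf_iff_le_normalizer (centralizer_le_stabPair hPe.2)).2
      fun u hu => mem_normalizer_centralizer (stabPair_le_normalizer _ hu)
  have hmem : (⟨g, hg⟩ : stabPair ⟨P, e⟩) ∈
      (Subgroup.centralizer (P : Set G)).subgroupOf (stabPair ⟨P, e⟩) := by
    rw [← QuotientGroup.eq_one_iff, ← orderOf_eq_one_iff]
    refine Nat.eq_one_of_dvd_coprimes
      (Nat.Coprime.pow_left ((orderOf g).factorization p)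
        (((Fact.out : p.Prime).coprime_iff_not_dvd).2
          (not_dvd_index_centralizer_stab hpM hmax hab))) ?_ (orderOf_dvd_natCard _)
    rw [orderOf_dvd_iff_pow_eq_one, ← QuotientGroup.mk_pow, QuotientGroup.eq_one_iff,
      Subgroup.mem_subgroupOf, SubmonoidClass.coe_pow]
    exact hcoe ▸ hgC
  exact Subgroup.mem_subgroupOf.1 hmem

end CfsgLib.Blocks
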