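import Cfsg.Agent.Lib.Blocks.StarLinear
import Cfsg.Agent.Lib.Blocks.FreeAction
import Cfsg.Agent.Lib.BlockOrth.MajorSubsection
import Mathlib.GroupTheory.FiniteAbelian.Duality
import Mathlib.Analysis.Complex.Polynomial.Basic

/-!
# Parts that do not vanish, and the orbits of the linear characters trivial on the focal subgroup
-/

set_option linter.unusedSectionVars false
set_option linter.style.haveILetI false

namespace CfsgLib.Blocks

open Cfsg Chars BlockOrth
open scoped ComplexConjugate

variable {G : Type*} [Group G] [Fintype G] {M : Ideal AlgInt} [M.IsPrime] {p : ℕ} [Fact p.Prime]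
variable {B : Set (IrrCharacter G)} {P : Subgroup G}
  {e : Set (IrrCharacter (Subgroup.centralizer (P : Set G)))} {F : FusionSystem P}

theorem mem_centralizer_zpowers_iff (x c : G) :
    c ∈ Subgroup.centralizer (Subgroup.zpowers x : Set G) ↔ c * x = x * c := by
  rw [Subgroup.zpowers_eq_closure, Subgroup.centralizer_closure,
    Subgroup.mem_centralizer_singleton_iff]

theorem exists_secVal_ne_zero_of_contrib (hpM : (p : AlgInt) ∈ M) {x : G}
    {b : Set (IrrCharacter (Subgroup.centralizer (Subgroup.zpowers x : Set G)))}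
    [Fintype (Subgroup.centralizer (Subgroup.zpowers x : Set G))]
    [Fintype (IrrCharacter (Subgroup.centralizer (Subgroup.zpowers x : Set G)))]
    [DecidablePred (· ∈ b)] (hb : IsPBlock M b) {χ ψ : IrrCharacter G}
    (h : contrib p b x χ ψ ≠ 0) :
    ∃ y : G, Commute x y ∧ ¬ p ∣ orderOf y ∧
      secVal ⟨Subgroup.zpowers x, b⟩ (χ : G → ℂ) (x * y) ≠ 0 := by
  by_contra hcon
  push Not at hcon
  have hz : pRegularPart p (blockPart b
      (secFun (Subgroup.centralizer (Subgroup.zpowers x : Set G)) x (χ : G → ℂ))) = 0 := by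
    funext k
    rw [pRegularPart_apply, Pi.zero_apply]
    by_cases hk : p ∣ orderOf k
    · rw [if_neg (not_not.2 hk)]
    · rw [if_pos hk, ← secVal_eq_blockPart (isClassFunction_irr χ) k]
      exact hcon k (((mem_centralizer_zpowers_iff x k).1 k.2).symm) (by rwa [Subgroup.orderOf_coe])
  apply h
  rw [contrib_eq_inner hpM (mem_centralizer_zpowers_iff x) hb]
  refine mul_eq_zero_of_right _ (Finset.sum_eq_zero fun η hη => mul_eq_zero_of_left ?_ _)
  have h1 := inner_pRegularPart_blockPart (b := b) hpM hb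
    (isClassFunction_secFun_zpowers (isClassFunction_irr χ) x) η
  rw [if_pos (Finset.mem_filter.1 hη).2, hz, Chars.inner_zero_left] at h1
  exact h1.symm

theorem exists_pow_orderOf_of_mem (hP : IsPGroup p P) {x : G} (hx : x ∈ P) :
    ∃ k, orderOf x = p ^ k := by
  obtain ⟨k, hk⟩ := IsPGroup.iff_orderOf.1 hP ⟨x, hx⟩
  exact ⟨k, by rw [← hk, Subgroup.orderOf_mk]⟩

theorem isInducedBlock_zpowers (hpM : (p : AlgInt) ∈ M) {x : G}
    {b : Set (IrrCharacter (Subgroup.centralizer (Subgroup.zpowers x : Set G)))}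
    (h : IsBrauerPairOf p M B (Subgroup.zpowers x) b) :
    IsInducedBlock M (Subgroup.centralizer (Subgroup.zpowers x : Set G)) b B :=
  isInducedBlock_of_pair_abelian hpM (fun a ha c hc => by
    obtain ⟨i, rfl⟩ := Subgroup.mem_zpowers_iff.1 ha
    obtain ⟨j, rfl⟩ := Subgroup.mem_zpowers_iff.1 hc
    exact (Commute.zpow_zpow_self x i j).eq) h

/-- A character of height zero has a part at every pair of the block. -/
theorem exists_secVal_ne_zero_of_height_zero (hpM : (p : AlgInt) ∈ M)
    (hmax : IsMaximalBrauerPair p M B P e) {x : G} (hx : x ∈ P)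
    {b : Set (IrrCharacter (Subgroup.centralizer (Subgroup.zpowers x : Set G)))}
    (hb : Below p M ⟨Subgroup.zpowers x, b⟩ ⟨P, e⟩) {χ : IrrCharacter G} (hχ : χ ∈ B)
    (h0 : blockHeight p B (χ : G → ℂ) = 0) :
    ∃ y : G, Commute x y ∧ ¬ p ∣ orderOf y ∧
      secVal ⟨Subgroup.zpowers x, b⟩ (χ : G → ℂ) (x * y) ≠ 0 := by
  classical
  haveI := Fintype.ofFinite (Subgroup.centralizer (Subgroup.zpowers x : Set G))
  haveI := irrFintype (Subgroup.centralizer (Subgroup.zpowers x : Set G))
  refine exists_secVal_ne_zero_of_contrib hpM (below_isBrauerPair hb hmax.1.1).2 (ψ := χ) fun h => ?_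
  have hd := (blockHeight_eq_zero_iff hχ).1 h0
  exact not_memLocalIdeal_contrib hpM (mem_centralizer_zpowers_iff x)
    (exists_pow_orderOf_of_mem hmax.1.1.1 hx)
    (isInducedBlock_zpowers hpM ((isBrauerPairOf_iff_of_below hpM hb B).2 hmax.1)) hχ hχ hd hd
    (by rw [h]; exact MemLocalIdeal.zero')

/-- The pair of a central element of the defect group has the defect of the block. -/
theorem blockDefect_eq_of_central (hpM : (p : AlgInt) ∈ M) (hmax : IsMaximalBrauerPair p M B P e)
    {x : G} (hxC : x ∈ Subgroup.centralizer (P : Set G))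
    {b : Set (IrrCharacter (Subgroup.centralizer (Subgroup.zpowers x : Set G)))}
    (hb : Below p M ⟨Subgroup.zpowers x, b⟩ ⟨P, e⟩) : blockDefect p b = blockDefect p B := by
  have hF := isBlockFusionSystemOn_blockFusion hpM hmax
  have hPC : P ⊓ Subgroup.centralizer (Subgroup.zpowers x : Set G) = P := inf_eq_left.2 fun u hu =>
    (mem_centralizer_zpowers_iff x u).2 (Subgroup.mem_centralizer_iff.1 hxC u hu)
  have hfc : (blockFusion (b := ⟨P, e⟩) hpM hmax.1.1).IsFullyCentralized (Subgroup.zpowers x) := by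
    refine ⟨below_le hb, fun Q' _ => ?_⟩
    show Nat.card (P ⊓ _ : Subgroup G) ≤ Nat.card (P ⊓ _ : Subgroup G)
    rw [hPC]
    exact Subgroup.card_le_of_le inf_le_left
  have h1 := (isFullyCentralized_iff hpM hF hb).1 hfc
  rw [hPC, card_defectGroup hpM hmax.1.2.1 (isDefectGroup_of_maximal hpM hmax)] at h1
  exact (Nat.pow_right_injective (Fact.out : p.Prime).two_le h1).symm

/-- Every character has a part at the pairs of the central elements of the defect group. -/
theorem exists_secVal_ne_zero_of_central (hpM : (p : AlgInt) ∈ M)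
    (hmax : IsMaximalBrauerPair p M B P e) {x : G} (hx : x ∈ P)
    (hxC : x ∈ Subgroup.centralizer (P : Set G))
    {b : Set (IrrCharacter (Subgroup.centralizer (Subgroup.zpowers x : Set G)))}
    (hb : Below p M ⟨Subgroup.zpowers x, b⟩ ⟨P, e⟩) {χ : IrrCharacter G} (hχ : χ ∈ B) :
    ∃ y : G, Commute x y ∧ ¬ p ∣ orderOf y ∧
      secVal ⟨Subgroup.zpowers x, b⟩ (χ : G → ℂ) (x * y) ≠ 0 := by
  classical
  haveI := Fintype.ofFinite (Subgroup.centralizer (Subgroup.zpowers x : Set G))
  haveI := irrFintype (Subgroup.centralizer (Subgroup.zpowers x : Set G))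
  obtain ⟨ψ, hψ, h0⟩ := exists_blockHeight_eq_zero (p := p) hmax.1.2.1
  exact exists_secVal_ne_zero_of_contrib hpM (below_isBrauerPair hb hmax.1.1).2
    (contrib_ne_zero_of_height_zero hpM (mem_centralizer_zpowers_iff x)
      (exists_pow_orderOf_of_mem hmax.1.1.1 hx)
      (isInducedBlock_zpowers hpM ((isBrauerPairOf_iff_of_below hpM hb B).2 hmax.1))
      (blockDefect_eq_of_central hpM hmax hxC hb) hχ hψ h0)

/-- A linear character fixing a character of the block is trivial where the character has a part. -/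
theorem linear_eq_one_of_fixed (hpM : (p : AlgInt) ∈ M) (hF : IsBlockFusionSystemOn p M B P e F)
    {l : P →* ℂˣ} (hl : ∀ u : P, (u : G) ∈ F.focalSubgroup → l u = 1) {χ : IrrCharacter G}
    (hfix : starFun M p ⟨P, e⟩ (linExt P l) (χ : G → ℂ) = (χ : G → ℂ)) (u : P)
    (hne : ∀ b, Below p M ⟨Subgroup.zpowers (u : G), b⟩ ⟨P, e⟩ → ∃ y : G, Commute (u : G) y ∧
      ¬ p ∣ orderOf y ∧ secVal ⟨Subgroup.zpowers (u : G), b⟩ (χ : G → ℂ) ((u : G) * y) ≠ 0) :
    l u = 1 := by
  have hpair : IsBrauerPair p M (⟨P, e⟩ : BrauerPairIdx G).1 (⟨P, e⟩ : BrauerPairIdx G).2 := hF.1.1.1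
  have hη := isPairStable_linExt hF l hl
  obtain ⟨b, hb⟩ := exists_below hpM hpair (Subgroup.zpowers (u : G)) (Subgroup.zpowers_le.2 u.2)
  obtain ⟨y, hy, hyr, hy0⟩ := hne b hb
  have hu : ∃ k : ℕ, (u : G) ^ p ^ k = 1 := by
    obtain ⟨k, hk⟩ := hF.1.1.1.1 u
    exact ⟨k, congrArg Subtype.val hk⟩
  have h := secVal_starFun hpM hη (isClassFunction_irr χ) hy hu hyr
    (mem_pairsAt.2 ⟨rfl, (below_isBrauerPair hb hpair).2⟩)
  rw [hfix, pairWeight_eq hη (Subgroup.mem_zpowers _) (x := 1) (by rw [conjPair_one]; exact hb)] at h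
  rw [one_mul, inv_one, mul_one, linExt_coe] at h
  have h1 : (l u : ℂ) = 1 := (mul_left_eq_self₀.1 h.symm).resolve_right hy0
  exact Units.ext h1

end CfsgLib.Blocks
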