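import Cfsg.Agent.Lib.Blocks.FreeCount
import Cfsg.Agent.Lib.Blocks.SubsectionColumn
import Cfsg.Agent.Lib.Blocks.StarNonzero
import Cfsg.Agent.Lib.Blocks.RegularTwist
import Cfsg.Agent.Lib.Blocks.SylowClasses
import Cfsg.Agent.Lib.Blocks.ThirdMain
import Cfsg.Agent.Lib.Blocks.FreeCoherence

/-!
# The principal block for an abelian Sylow subgroup with free automizer
-/

set_option linter.unusedSectionVars false
set_option linter.style.haveILetI false

namespace CfsgLib.Blocks

open Cfsg Chars BlockOrth Finset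
open scoped ComplexConjugate

universe u

variable {G : Type u} [Group G] [Fintype G] {M : Ideal AlgInt} [M.IsPrime] {p : ℕ} [Fact p.Prime]

theorem card_range_normalizerMonoidHom (P : Subgroup G) :
    Nat.card P.normalizerMonoidHom.range = (Subgroup.centralizer (P : Set G)).relIndex
      (Subgroup.normalizer (P : Set G)) := by
  rw [← Subgroup.index_ker, Subgroup.normalizerMonoidHom_ker]
  rfl

theorem stabPair_principal_free {S : Sylow p G}
    (hfree : ∀ g ∈ Subgroup.normalizer ((S : Subgroup G) : Set G), ∀ x ∈ (S : Subgroup G), x ≠ 1 →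
      g * x * g⁻¹ = x → g ∈ Subgroup.centralizer ((S : Subgroup G) : Set G)) :
    ∀ g ∈ stabPair (⟨(S : Subgroup G), (principalPair M (S : Subgroup G)).2⟩ : BrauerPairIdx G),
      ∀ x ∈ (S : Subgroup G), x ≠ 1 → g * x * g⁻¹ = x →
        g ∈ Subgroup.centralizer ((S : Subgroup G) : Set G) :=
  fun g hg => hfree g (stabPair_le_normalizer _ hg)

theorem exists_int_sum_degree {H : Type*} [Group H] [Finite H] (b : Set (IrrCharacter H))
    (n : IrrCharacter H → ℤ) :
    ∃ m : ℤ, ∑ᶠ ψ ∈ b, (n ψ : ℂ) * (ψ : H → ℂ) 1 = m := by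
  classical
  refine finsum_mem_induction (fun z : ℂ => ∃ m : ℤ, z = m) ⟨0, by simp⟩
    (fun _ _ ⟨m, hm⟩ ⟨m', hm'⟩ => ⟨m + m', by rw [hm, hm']; push_cast; rfl⟩) fun ψ _ => ?_
  exact ⟨n ψ * charDegree (ψ : H → ℂ), by push_cast; rw [charDegree_cast]⟩

theorem conjPair_principal_zpowers {u v g : G} (hg : g * u * g⁻¹ = v) :
    conjPair g (principalPair M (Subgroup.zpowers u)) = principalPair M (Subgroup.zpowers v) := by
  rw [conjPair_principalPair, map_zpowers_conj, hg]

/-- At a `p`-element only the principal pair contributes to a character of the principal block. -/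
theorem secVal_principal (hM : IsPModular p M) {χ : IrrCharacter G}
    (hχ : χ ∈ principalBlock M G) {x y : G} (hxy : Commute x y) (hx : ∃ k : ℕ, x ^ p ^ k = 1)
    (hy : ¬ p ∣ orderOf y) :
    secVal (principalPair M (Subgroup.zpowers x)) (χ : G → ℂ) (x * y) = (χ : G → ℂ) (x * y) := by
  classical
  refine Eq.trans ?_ (sum_secVal (M := M) (χ : G → ℂ) x (x * y))
  symm
  refine Finset.sum_eq_single (principalPair M (Subgroup.zpowers x)) (fun a ha hne => ?_)
    fun h => absurd ?_ h
  · refine secVal_eq_zero hM.2.2 (isPBlock_principalBlock M) hχ hxy hx hy ha fun hp => hne ?_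
    obtain ⟨Q, c⟩ := a
    obtain rfl : Q = Subgroup.zpowers x := (mem_pairsAt.1 ha).1
    have h := third_main hM.2.2 hp
    exact congrArg (Sigma.mk (β := fun R : Subgroup G =>
      Set (IrrCharacter (Subgroup.centralizer (R : Set G)))) (Subgroup.zpowers x)) h
  · exact mem_pairsAt.2 ⟨rfl, isPBlock_principalBlock M⟩

/-- The data of a nontrivial subsection of the principal block for a free automizer. -/
theorem principal_column (hM : IsPModular p M) (S : Sylow p G)
    (hab : ∀ x ∈ (S : Subgroup G), ∀ y ∈ (S : Subgroup G), x * y = y * x)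
    (hfree : ∀ g ∈ Subgroup.normalizer ((S : Subgroup G) : Set G), ∀ x ∈ (S : Subgroup G), x ≠ 1 →
      g * x * g⁻¹ = x → g ∈ Subgroup.centralizer ((S : Subgroup G) : Set G))
    {u : G} (hu : u ∈ (S : Subgroup G)) (hu1 : u ≠ 1) :
    (∀ χ ∈ principalBlock M G, ∀ y : G, Commute u y → ¬ p ∣ orderOf y →
      (χ : G → ℂ) (u * y) = (χ : G → ℂ) u) ∧
    (∀ χ ∈ principalBlock M G, (χ : G → ℂ) u ≠ 0) ∧
    (Nat.card (Subgroup.centralizer (Subgroup.zpowers u : Set G)) : ℂ) *
      blockCoeff (principalBlock M (Subgroup.centralizer (Subgroup.zpowers u : Set G))) 1 =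
        (Nat.card (S : Subgroup G) : ℂ) := by
  classical
  have hpM := hM.2.2
  have hmax := isMaximal_principal_sylow (M := M) hpM S
  have hfree' := stabPair_principal_free (M := M) hfree
  haveI := Fintype.ofFinite (Subgroup.centralizer (Subgroup.zpowers u : Set G))
  haveI := irrFintype (Subgroup.centralizer (Subgroup.zpowers u : Set G))
  have hu2 : ∃ k : ℕ, u ^ p ^ k = 1 := by
    obtain ⟨k, hk⟩ := S.2 ⟨u, hu⟩
    exact ⟨k, by simpa using congrArg Subtype.val hk⟩
  have hbelow : Relation.ReflTransGen (NormalSubpairRel p M)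
      (principalPair M (Subgroup.zpowers u)) (principalPair M (S : Subgroup G)) :=
    below_principal hpM S.2 _ (Subgroup.zpowers_le.2 hu)
  have hQ1 : Subgroup.zpowers u ≠ ⊥ := fun h => hu1 (Subgroup.zpowers_eq_bot.1 h)
  have hl := blockRank_eq_one_of_below_free hM hmax hab hfree' hQ1
    (f := principalBlock M (Subgroup.centralizer (Subgroup.zpowers u : Set G))) hbelow
  obtain ⟨φ, d, ⟨n, hn⟩, hd, hdsq⟩ :=
    BlockOrth.exists_decomposition_of_rank_one hpM (isPBlock_principalBlock M) hl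
  have hH : ∀ c : G, c ∈ Subgroup.centralizer (Subgroup.zpowers u : Set G) ↔ c * u = u * c := by
    intro c
    rw [Subgroup.zpowers_eq_closure, Subgroup.centralizer_closure]
    exact Subgroup.mem_centralizer_singleton_iff
  -- the Brauer character is constant one
  have hφ1 : φ 1 = 1 ∧ ∀ y, ¬ p ∣ orderOf y → φ y = 1 := by
    have hreg : ¬ p ∣ orderOf (1 : Subgroup.centralizer (Subgroup.zpowers u : Set G)) := by
      simp [(Fact.out : p.Prime).ne_one]
    have h1 : ∀ y, ¬ p ∣ orderOf y →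
        1 = (d (principal (Subgroup.centralizer (Subgroup.zpowers u : Set G))) : ℂ) * φ y :=
      fun y hy => hd _ (principal_mem_principalBlock M) y hy
    obtain ⟨m, hm⟩ : ∃ m : ℤ, φ 1 = m := by
      rw [hn 1]
      exact exists_int_sum_degree _ n
    have h2 := h1 1 hreg
    rw [hm] at h2
    have h3 : (d (principal (Subgroup.centralizer (Subgroup.zpowers u : Set G))) : ℤ) * m = 1 := by
      exact_mod_cast h2.symm
    have h4 : (d (principal (Subgroup.centralizer (Subgroup.zpowers u : Set G))) : ℤ) = 1 :=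
      Int.eq_one_of_mul_eq_one_right (Int.natCast_nonneg _) h3
    have h5 : ∀ y, ¬ p ∣ orderOf y → φ y = 1 := fun y hy => by
      have := h1 y hy
      rw [show (d (principal (Subgroup.centralizer (Subgroup.zpowers u : Set G))) : ℂ) = 1 by
        exact_mod_cast h4, one_mul] at this
      exact this.symm
    exact ⟨h5 1 hreg, h5⟩
  have hval : ∀ χ ∈ principalBlock M G, ∀ y : G, Commute u y → ¬ p ∣ orderOf y →
      (χ : G → ℂ) (u * y) = (χ : G → ℂ) u := by
    have key : ∀ χ ∈ principalBlock M G, ∀ y : G, Commute u y → ¬ p ∣ orderOf y →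
        (χ : G → ℂ) (u * y) = secCol ⟨u, (hH u).2 rfl⟩
          (principalBlock M (Subgroup.centralizer (Subgroup.zpowers u : Set G))) d (χ : G → ℂ) := by
      intro χ hχ y hy hreg
      rw [← secVal_principal hM hχ hy hu2 hreg]
      have hy' : ¬ p ∣ orderOf (⟨y, (hH y).2 hy.eq.symm⟩ :
          Subgroup.centralizer (Subgroup.zpowers u : Set G)) := by rwa [← Subgroup.orderOf_coe]
      rw [show secVal (principalPair M (Subgroup.zpowers u)) (χ : G → ℂ) (u * y) = _ from
        secVal_eq_secCol hd χ (y := ⟨y, (hH y).2 hy.eq.symm⟩) hy', hφ1.2 _ hy', mul_one]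
    intro χ hχ y hy hreg
    rw [key χ hχ y hy hreg, ← key χ hχ 1 (Commute.one_right u)
      (by simp [(Fact.out : p.Prime).ne_one]), mul_one]
  refine ⟨hval, fun χ hχ h0 => ?_, ?_⟩
  · obtain ⟨y, hyc, hy, hne⟩ := exists_secVal_ne_zero_of_central hpM hmax hu
      (le_centralizer_of_abelian le_rfl hab hu)
      (b := principalBlock M (Subgroup.centralizer (Subgroup.zpowers u : Set G))) hbelow hχ
    refine hne ?_
    rw [show secVal (⟨Subgroup.zpowers u, principalBlock M _⟩ : BrauerPairIdx G) (χ : G → ℂ)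
      (u * y) = _ from secVal_principal hM hχ hyc hu2 hy, hval χ hχ y hyc hy, h0]
  -- the norm of the column
  have hPC : (S : Subgroup G) ≤ Subgroup.centralizer (Subgroup.zpowers u : Set G) := fun v hv =>
    (hH v).2 (hab v hv u hu)
  have hdef : p ^ blockDefect p
      (principalBlock M (Subgroup.centralizer (Subgroup.zpowers u : Set G))) =
      Nat.card (S : Subgroup G) := by
    rw [← BlockOrth.card_defectGroup hpM (isPBlock_principalBlock M)
      (isDefectGroup_of_maximal hpM (isMaximal_principal_sylow hpM (S.subtype hPC)))]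
    exact Nat.card_congr (Subgroup.subgroupOfEquivOfLe hPC).toEquiv
  rw [hdef] at hdsq
  have hφeta : ∀ η ∈ principalBlock M (Subgroup.centralizer (Subgroup.zpowers u : Set G)),
      (η : Subgroup.centralizer (Subgroup.zpowers u : Set G) → ℂ) 1 = (d η : ℂ) := fun η hη => by
    rw [hd η hη 1 (by simp [(Fact.out : p.Prime).ne_one]), hφ1.1, mul_one]
  rw [blockCoeff, mul_inv_cancel_left₀ (card_ne_zero _)]
  calc ∑ᶠ η ∈ principalBlock M (Subgroup.centralizer (Subgroup.zpowers u : Set G)),
        (η : Subgroup.centralizer (Subgroup.zpowers u : Set G) → ℂ) 1 *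
          conj ((η : Subgroup.centralizer (Subgroup.zpowers u : Set G) → ℂ) 1)
      = ∑ᶠ η ∈ principalBlock M (Subgroup.centralizer (Subgroup.zpowers u : Set G)),
          ((d η ^ 2 : ℕ) : ℂ) := finsum_mem_congr rfl fun η hη => by
        rw [hφeta η hη, map_natCast]; push_cast; ring
    _ = _ := by
        rw [← hdsq]
        exact ((Nat.castAddMonoidHom ℂ).map_finsum_mem _ (Set.toFinite _)).symm

open scoped Classical in
/-- The orthogonality of the columns of the principal block. -/
theorem principal_orth (hM : IsPModular p M) (S : Sylow p G)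
    (hab : ∀ x ∈ (S : Subgroup G), ∀ y ∈ (S : Subgroup G), x * y = y * x)
    (hfree : ∀ g ∈ Subgroup.normalizer ((S : Subgroup G) : Set G), ∀ x ∈ (S : Subgroup G), x ≠ 1 →
      g * x * g⁻¹ = x → g ∈ Subgroup.centralizer ((S : Subgroup G) : Set G))
    [Fintype {χ : IrrCharacter G // χ ∈ principalBlock M G}]
    {u v : (S : Subgroup G)} (hu1 : u ≠ 1) (hv1 : v ≠ 1) :
    ∑ i : {χ : IrrCharacter G // χ ∈ principalBlock M G},
        (i.1 : G → ℂ) u * conj ((i.1 : G → ℂ) v) =
      (Nat.card (S : Subgroup G) : ℂ) *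
        ((univ.filter fun σ : (S : Subgroup G).normalizerMonoidHom.range =>
          (σ : MulAut (S : Subgroup G)) u = v).card : ℂ) := by
  have hpM := hM.2.2
  haveI := irrFintype G
  have hord : ∀ w : (S : Subgroup G), ∃ k : ℕ, (w : G) ^ p ^ k = 1 := fun w => by
    obtain ⟨k, hk⟩ := S.2 w
    exact ⟨k, by simpa using congrArg Subtype.val hk⟩
  have hu1' : (u : G) ≠ 1 := fun h => hu1 (Subtype.ext h)
  have hpu := isBrauerPairOf_principalPair (M := M) hpM (isPGroup_zpowers (hord u))
  have hpv := isBrauerPairOf_principalPair (M := M) hpM (isPGroup_zpowers (hord v))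
  have hC := (principal_column (M := M) hM S hab hfree u.2 hu1').2.2
  have h := sum_secVal_mul_conj hpM (hord u) (hord v) hpu hpv
  have h1 : ¬ p ∣ orderOf (1 : G) := by simp [(Fact.out : p.Prime).ne_one]
  have hsec : ∀ χ ∈ principalBlock M G, ∀ w : (S : Subgroup G),
      secVal ⟨Subgroup.zpowers (w : G), principalBlock M _⟩ (χ : G → ℂ) (w : G) =
        (χ : G → ℂ) w := fun χ hχ w => by
    have := secVal_principal hM hχ (Commute.one_right (w : G)) (hord w) h1
    rwa [mul_one] at this
  rw [Finset.sum_congr rfl fun χ hχ => by rw [hsec χ (mem_filter.1 hχ).2 u,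
    hsec χ (mem_filter.1 hχ).2 v]] at h
  rw [← Finset.sum_subtype (univ.filter (· ∈ principalBlock M G)) (fun x => by simp)
    (fun χ : IrrCharacter G => (χ : G → ℂ) u * conj ((χ : G → ℂ) v)), h]
  by_cases hex : ∃ g : G, g * (u : G) * g⁻¹ = v
  swap
  · rw [Finset.filter_false_of_mem (fun g _ hg => hex ⟨g, hg.1⟩),
      Finset.filter_false_of_mem fun σ _ hσ => hex ?_]
    · simp
    obtain ⟨n, hn⟩ := σ.2
    exact ⟨n, by rw [← hn] at hσ; exact congrArg Subtype.val hσ⟩
  obtain ⟨g₀, hg₀⟩ := hex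
  have hE : (univ.filter fun σ : (S : Subgroup G).normalizerMonoidHom.range =>
      (σ : MulAut (S : Subgroup G)) u = v).card = 1 := by
    obtain ⟨T⟩ : Nonempty (Sylow p (Subgroup.centralizer ({(u : G)} : Set G))) := inferInstance
    have hT : Nat.card T ≤ Nat.card (S : Subgroup G) := by
      obtain ⟨T', hT'⟩ := (isPGroup_sylow_map _ T).exists_le_sylow
      have h2 := Subgroup.card_le_of_le hT'
      rw [Base.card_map_subtype, Sylow.card_eq_multiplicity T', ← Sylow.card_eq_multiplicity S] at h2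
      exact h2
    have hle := le_centralizer_of_abelian (P := (S : Subgroup G)) le_rfl hab
    obtain ⟨m, hm, hmuv⟩ := exists_normalizer_conj S.2 hT (IsConj.refl _)
      (isConj_iff.2 ⟨g₀, hg₀⟩) (hle u.2) (hle v.2)
    rw [Finset.card_eq_one]
    refine ⟨⟨_, ⟨⟨m, hm⟩, rfl⟩⟩, Finset.eq_singleton_iff_unique_mem.2
      ⟨mem_filter.2 ⟨mem_univ _, Subtype.ext hmuv⟩, ?_⟩⟩
    rintro ⟨_, ⟨⟨n, hn⟩, rfl⟩⟩ hσ
    have hnuv : n * (u : G) * n⁻¹ = v := congrArg Subtype.val (mem_filter.1 hσ).2
    have hmn : m⁻¹ * n ∈ Subgroup.centralizer ((S : Subgroup G) : Set G) := by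
      refine hfree _ (mul_mem (inv_mem hm) hn) u u.2 hu1' ?_
      calc m⁻¹ * n * (u : G) * (m⁻¹ * n)⁻¹ = m⁻¹ * (n * u * n⁻¹) * m := by group
        _ = u := by rw [hnuv, ← hmuv]; group
    refine Subtype.ext ((MonoidHom.eq_iff _).2 ?_)
    rw [Subgroup.normalizerMonoidHom_ker, Subgroup.mem_subgroupOf]
    exact hmn
  rw [hE, Nat.cast_one, mul_one, ← hC]
  congr 2
  rw [← Fintype.card_subtype, ← Nat.card_eq_fintype_card]
  refine Nat.card_congr (Equiv.subtypeEquiv (Equiv.mulLeft g₀⁻¹) fun g => ?_)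
  simp only [Equiv.coe_mulLeft]
  rw [show g₀⁻¹ * g ∈ Subgroup.centralizer (Subgroup.zpowers (u : G) : Set G) ↔
    g₀⁻¹ * g * (u : G) = (u : G) * (g₀⁻¹ * g) by
      rw [centralizer_zpowers_eq, Subgroup.mem_centralizer_singleton_iff]]
  constructor
  · rintro ⟨hg, -⟩
    calc g₀⁻¹ * g * u = g₀⁻¹ * (g * u * g⁻¹) * g := by group
      _ = _ := by rw [hg, ← hg₀]; group
  · intro e
    have hg : g * (u : G) * g⁻¹ = v := by
      calc g * (u : G) * g⁻¹ = g₀ * (g₀⁻¹ * g * u) * g⁻¹ := by group
        _ = _ := by rw [e, ← hg₀]; group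
    exact ⟨hg, conjPair_principal_zpowers hg⟩

theorem principal_deg (hM : IsPModular p M)
    [Fintype {χ : IrrCharacter G // χ ∈ principalBlock M G}]
    {g u : G} (hg : ¬ p ∣ orderOf g) (hu : ∃ k : ℕ, u ^ p ^ k = 1) (hu1 : u ≠ 1) :
    ∑ i : {χ : IrrCharacter G // χ ∈ principalBlock M G},
      (i.1 : G → ℂ) g * (i.1 : G → ℂ) u = 0 := by
  classical
  haveI := irrFintype G
  have hdvd : p ∣ orderOf u⁻¹ := by
    rw [orderOf_inv]
    obtain ⟨k, hk⟩ := hu
    obtain ⟨j, -, hj⟩ := (Nat.dvd_prime_pow (Fact.out : p.Prime)).1 (orderOf_dvd_of_pow_eq_one hk)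
    rw [hj]
    refine dvd_pow_self p fun h0 => hu1 (orderOf_eq_one_iff.1 ?_)
    rw [hj, h0, pow_zero]
  have h := weak_orthogonality (Fact.out : p.Prime) hM.2.2 (isPBlock_principalBlock (G := G) M) hg
    hdvd
  rw [finsum_mem_eq_sum_of_inter_support_eq (t := univ.filter (· ∈ principalBlock M G)) _
    (by ext; simp)] at h
  rw [← Finset.sum_subtype (univ.filter (· ∈ principalBlock M G)) (fun x => by simp)
    (fun χ : IrrCharacter G => (χ : G → ℂ) g * (χ : G → ℂ) u), ← h]
  refine Finset.sum_congr rfl fun χ _ => ?_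
  rw [← char_inv (isCharacter_of_irr χ.2), inv_inv]

end CfsgLib.Blocks
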