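import Cfsg.Agent.Lib.Modular.DefectOneBound
import Cfsg.Agent.Lib.Blocks.FreePrincipal
import Cfsg.Agent.Lib.CharApps.Galois

/-!
# Blocks with a Sylow defect group of order `p`: the local data
-/

set_option linter.unusedSectionVars false
set_option linter.style.haveILetI false

namespace CfsgLib.Blocks

open Cfsg Chars BlockOrth Modular Finset
open scoped ComplexConjugate

universe u

variable {G : Type u} [Group G] [Fintype G] {M : Ideal AlgInt} [M.IsPrime] {p : ℕ} [Fact p.Prime]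
  {P : Subgroup G} {B : Set (IrrCharacter G)}

theorem zpowers_eq_of_prime (hcard : Nat.card P = p) {u : G} (hu : u ∈ P) (hu1 : u ≠ 1) :
    Subgroup.zpowers u = P := by
  refine Subgroup.eq_of_le_of_card_ge (Subgroup.zpowers_le.2 hu) ?_
  rw [hcard, Nat.card_zpowers, orderOf_eq_prime (pow_p_eq_one hcard hu) hu1]

theorem isMaximal_of_sylow_prime (hpM : (p : AlgInt) ∈ M) (hcard : Nat.card P = p)
    (hsq : ¬ p ^ 2 ∣ Nat.card G) {b : Set (IrrCharacter (Subgroup.centralizer (P : Set G)))}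
    (hpair : IsBrauerPairOf p M B P b) : IsMaximalBrauerPair p M B P b := by
  refine ⟨hpair, fun R g hg hle => ?_⟩
  have hPR : P ≤ R := below_le (show Relation.ReflTransGen (NormalSubpairRel p M) ⟨P, b⟩ ⟨R, g⟩
    from hle)
  refine (Subgroup.eq_of_le_of_card_ge hPR ?_).symm
  obtain ⟨j, hj⟩ := IsPGroup.iff_card.1 (hg.1.1)
  have hj1 : j ≤ 1 := by
    by_contra hj2
    exact hsq (((pow_dvd_pow p (show 2 ≤ j by omega)).trans hj.symm.dvd).trans
      R.card_subgroup_dvd_card)
  rw [hj, hcard]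
  exact (pow_le_pow_right₀ (Fact.out : p.Prime).one_lt.le hj1).trans (pow_one p).le

theorem commute_of_prime (hcard : Nat.card P = p) :
    ∀ x ∈ P, ∀ y ∈ P, x * y = y * x := fun x hx y hy => by
  obtain ⟨h, -⟩ := subgroupOf_le_center hcard hy
  exact Subgroup.mem_centralizer_iff.1 h x hx

theorem free_of_prime (hcard : Nat.card P = p) {g x : G} (hx : x ∈ P) (hx1 : x ≠ 1)
    (hfix : g * x * g⁻¹ = x) : g ∈ Subgroup.centralizer (P : Set G) := by
  rw [← zpowers_eq_of_prime hcard hx hx1, centralizer_zpowers_eq,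
    Subgroup.mem_centralizer_singleton_iff]
  conv_rhs => rw [← hfix]
  group

variable [Fintype (Subgroup.centralizer (P : Set G))]
  {b : Set (IrrCharacter (Subgroup.centralizer (P : Set G)))}

/-- The block at the Sylow subgroup has one Brauer character. -/
theorem blockRank_local (hM : IsPModular p M) (hcard : Nat.card P = p)
    (hsq : ¬ p ^ 2 ∣ Nat.card G) (hpair : IsBrauerPairOf p M B P b) : blockRank p b = 1 :=
  blockRank_eq_one_of_below_free hM (isMaximal_of_sylow_prime hM.2.2 hcard hsq hpair)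
    (commute_of_prime hcard) (fun _ _ _ hx hx1 h => free_of_prime hcard hx hx1 h)
    (fun h => by
      rw [h, Subgroup.card_bot] at hcard
      exact (Fact.out : p.Prime).ne_one hcard.symm) Relation.ReflTransGen.refl

theorem pow_blockDefect_local (hpM : (p : AlgInt) ∈ M) (hcard : Nat.card P = p)
    (hsq : ¬ p ^ 2 ∣ Nat.card G) (hpair : IsBrauerPairOf p M B P b) :
    p ^ blockDefect p b = p := by
  have hmax := isMaximal_of_sylow_prime hpM hcard hsq hpair
  obtain ⟨⟨u, hu⟩, hu1⟩ : ∃ u : P, u ≠ 1 := by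
    haveI : Nontrivial P := Finite.one_lt_card_iff_nontrivial.1
      (hcard ▸ (Fact.out : p.Prime).one_lt)
    exact exists_ne 1
  have hu1' : u ≠ 1 := fun h => hu1 (Subtype.ext h)
  obtain rfl := zpowers_eq_of_prime hcard hu hu1'
  rw [blockDefect_eq_of_central hpM hmax (subgroupOf_le_center hcard hu).1
      Relation.ReflTransGen.refl,
    ← BlockOrth.card_defectGroup hpM hpair.2.1 (isDefectGroup_of_maximal hpM hmax), hcard]

variable {θ : IrrCharacter (Subgroup.centralizer (P : Set G))}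

/-- All characters of the local block agree on `p`-regular elements. -/
theorem eq_canonical_regular (hM : IsPModular p M) (hcard : Nat.card P = p)
    (hsq : ¬ p ^ 2 ∣ Nat.card G) (hpair : IsBrauerPairOf p M B P b) (hθb : θ ∈ b)
    (hθ : ∀ x : Subgroup.centralizer (P : Set G), (x : G) ∈ P →
      (θ : Subgroup.centralizer (P : Set G) → ℂ) x = (θ : Subgroup.centralizer (P : Set G) → ℂ) 1)
    {η : IrrCharacter (Subgroup.centralizer (P : Set G))} (hη : η ∈ b)
    {y : Subgroup.centralizer (P : Set G)} (hy : ¬ p ∣ orderOf y) :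
    (η : Subgroup.centralizer (P : Set G) → ℂ) y = (θ : Subgroup.centralizer (P : Set G) → ℂ) y := by
  obtain ⟨θ', hθ'b, hθ', h⟩ := exists_canonical_regular hM.2.2 hcard hsq hpair.1.2 hη
  rw [canonical_unique hcard hsq (blockRank_local hM hcard hsq hpair) hθb hθ'b hθ hθ', h y hy]

theorem card_local_block (hM : IsPModular p M) (hcard : Nat.card P = p)
    (hsq : ¬ p ^ 2 ∣ Nat.card G) (hpair : IsBrauerPairOf p M B P b) : Nat.card b = p := by
  classical
  haveI := irrFintype (Subgroup.centralizer (P : Set G))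
  obtain ⟨θ, hθb, hθ⟩ := exists_canonical hM.2.2 hcard hsq hpair.1.2
  obtain ⟨φ, d, -, hd, hdsq⟩ := exists_decomposition_of_rank_one hM.2.2 hpair.1.2
    (blockRank_local hM hcard hsq hpair)
  rw [pow_blockDefect_local hM.2.2 hcard hsq hpair] at hdsq
  have h1 : ¬ p ∣ orderOf (1 : Subgroup.centralizer (P : Set G)) := by
    simp [(Fact.out : p.Prime).ne_one]
  have hdd : ∀ η ∈ b, d η = d θ := fun η hη => by
    have e := eq_canonical_regular hM hcard hsq hpair hθb hθ hη h1
    rw [hd η hη 1 h1, hd θ hθb 1 h1] at e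
    refine Nat.cast_injective (mul_right_cancel₀ (fun h => irr_degree_ne_zero θ.2 ?_) e)
    rw [hd θ hθb 1 h1, h, mul_zero]
  rw [finsum_mem_congr rfl fun η hη => by rw [hdd η hη], finsum_mem_eq_toFinset_sum _,
    Finset.sum_const, smul_eq_mul, ← Set.ncard_eq_toFinset_card' b, ← Nat.card_coe_set_eq] at hdsq
  have hd1 : d θ = 1 := by
    rcases (Nat.dvd_prime (Fact.out : p.Prime)).1 (Dvd.intro_left _ hdsq) with h | h
    · exact (pow_eq_one_iff.1 h).resolve_right two_ne_zero
    · exfalso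
      rcases (Nat.dvd_prime (Fact.out : p.Prime)).1 (h ▸ Dvd.intro (d θ) (sq (d θ)).symm) with h' | h'
      · rw [h', one_pow] at h; exact (Fact.out : p.Prime).ne_one h.symm
      · rw [h'] at h
        have := (Fact.out : p.Prime).one_lt
        nlinarith
  rwa [hd1, one_pow, mul_one] at hdsq

theorem card_mul_blockCoeff_one (hM : IsPModular p M) (hcard : Nat.card P = p)
    (hsq : ¬ p ^ 2 ∣ Nat.card G) (hpair : IsBrauerPairOf p M B P b) (hθb : θ ∈ b)
    (hθ : ∀ x : Subgroup.centralizer (P : Set G), (x : G) ∈ P →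
      (θ : Subgroup.centralizer (P : Set G) → ℂ) x = (θ : Subgroup.centralizer (P : Set G) → ℂ) 1) :
    (Nat.card (Subgroup.centralizer (P : Set G)) : ℂ) * blockCoeff b 1 =
      (p : ℂ) * ((θ : Subgroup.centralizer (P : Set G) → ℂ) 1 *
        (θ : Subgroup.centralizer (P : Set G) → ℂ) 1) := by
  classical
  haveI := irrFintype (Subgroup.centralizer (P : Set G))
  have h1 : ¬ p ∣ orderOf (1 : Subgroup.centralizer (P : Set G)) := by
    simp [(Fact.out : p.Prime).ne_one]
  rw [blockCoeff, mul_inv_cancel_left₀ (Chars.card_ne_zero _), finsum_mem_congr rfl fun η hη => by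
    rw [eq_canonical_regular hM hcard hsq hpair hθb hθ hη h1]]
  obtain ⟨n, -, hn⟩ := irr_degree_nat θ.2
  rw [hn, map_natCast, finsum_mem_eq_toFinset_sum, Finset.sum_const, nsmul_eq_mul,
    ← Set.ncard_eq_toFinset_card', ← Nat.card_coe_set_eq, card_local_block hM hcard hsq hpair]

/-- The automorphisms of `P` induced by the inertial group. -/
def inertia (b : Set (IrrCharacter (Subgroup.centralizer (P : Set G)))) : Subgroup (MulAut P) :=
  ((stabPair ⟨P, b⟩).subgroupOf (Subgroup.normalizer (P : Set G))).map P.normalizerMonoidHom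

theorem mem_inertia {σ : MulAut P} :
    σ ∈ inertia b ↔ ∃ g ∈ stabPair ⟨P, b⟩, ∀ u : P, ((σ u : P) : G) = g * u * g⁻¹ := by
  constructor
  · rintro ⟨n, hn, rfl⟩
    exact ⟨n, hn, fun u => rfl⟩
  · rintro ⟨g, hg, hgu⟩
    exact ⟨⟨g, stabPair_le_normalizer _ hg⟩, hg, MulEquiv.ext fun u => Subtype.ext (hgu u).symm⟩

theorem card_inertia (b : Set (IrrCharacter (Subgroup.centralizer (P : Set G)))) :
    Nat.card (inertia b) =
      (Subgroup.centralizer (P : Set G)).relIndex (stabPair ⟨P, b⟩) := by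
  rw [show Nat.card (inertia b) = _ from (Subgroup.relIndex_ker _ _).symm,
    Subgroup.normalizerMonoidHom_ker]
  exact Subgroup.relIndex_subgroupOf (stabPair_le_normalizer (⟨P, b⟩ : BrauerPairIdx G))

theorem inertia_free (hcard : Nat.card P = p) :
    ∀ σ ∈ inertia b, ∀ u : P, u ≠ 1 → σ u = u → σ = 1 := by
  intro σ _ u hu hσu
  refine MulEquiv.ext fun w => ?_
  obtain ⟨k, rfl⟩ := Subgroup.mem_zpowers_iff.1
    (mem_zpowers_of_prime_card (g' := w) hcard hu)
  rw [map_zpow, hσu]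
  rfl

/-- The column of a character at the pair, as a function on `P`. -/
noncomputable def xiFun (b : Set (IrrCharacter (Subgroup.centralizer (P : Set G)))) (χ : G → ℂ)
    (u : P) : ℂ :=
  ∑ᶠ η ∈ b, classInner (fun h : Subgroup.centralizer (P : Set G) => χ h)
      (η : Subgroup.centralizer (P : Set G) → ℂ) *
    extFun (Subgroup.centralizer (P : Set G))
      (centralScalar (η : Subgroup.centralizer (P : Set G) → ℂ)) u

theorem exists_hom_centralScalar (hcard : Nat.card P = p)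
    (η : IrrCharacter (Subgroup.centralizer (P : Set G))) :
    ∃ lam : P →* ℂˣ, ∀ u : P, extFun (Subgroup.centralizer (P : Set G))
      (centralScalar (η : Subgroup.centralizer (P : Set G) → ℂ)) u = lam u := by
  have hin : ∀ u : P, (u : G) ∈ Subgroup.centralizer (P : Set G) := fun u =>
    (subgroupOf_le_center hcard u.2).1
  have hz : ∀ u : P, (⟨u, hin u⟩ : Subgroup.centralizer (P : Set G)) ∈ Subgroup.center _ :=
    fun u => (subgroupOf_le_center hcard u.2).2
  have hmul : ∀ u v : P, centralScalar (η : Subgroup.centralizer (P : Set G) → ℂ) ⟨_, hin (u * v)⟩ =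
      centralScalar (η : Subgroup.centralizer (P : Set G) → ℂ) ⟨_, hin u⟩ *
        centralScalar (η : Subgroup.centralizer (P : Set G) → ℂ) ⟨_, hin v⟩ := fun u v => by
    rw [show (⟨_, hin (u * v)⟩ : Subgroup.centralizer (P : Set G)) = ⟨_, hin u⟩ * ⟨_, hin v⟩ from rfl]
    simp only [centralScalar]
    rw [irr_central_mul η (hz u) ⟨_, hin v⟩, centralScalar]
    ring
  have hone : centralScalar (η : Subgroup.centralizer (P : Set G) → ℂ) ⟨_, hin 1⟩ = 1 := by
    rw [show (⟨_, hin 1⟩ : Subgroup.centralizer (P : Set G)) = 1 from rfl, centralScalar,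
      div_self (irr_degree_ne_zero η.2)]
  refine ⟨MonoidHom.toHomUnits ⟨⟨fun u => centralScalar
    (η : Subgroup.centralizer (P : Set G) → ℂ) ⟨_, hin u⟩, hone⟩, hmul⟩, fun u => ?_⟩
  exact extFun_coe _ _ ⟨_, hin u⟩

theorem isGeneralized_xiFun (hcard : Nat.card P = p) [Fintype P] (χ : IrrCharacter G) :
    IsGeneralizedCharacter P (xiFun b (χ : G → ℂ)) := by
  classical
  haveI := irrFintype (Subgroup.centralizer (P : Set G))
  choose lam hlam using exists_hom_centralScalar hcard (P := P)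
  choose n hn using fun η : IrrCharacter (Subgroup.centralizer (P : Set G)) =>
    inner_irr_right_nat (isCharacter_restrict _ (isCharacter_of_irr χ.2)) η
  refine isGeneralized_iff_inner.2 ⟨fun x g => ?_, fun l => ?_⟩
  · congr 1
    refine Subtype.ext ?_
    push_cast
    rw [commute_of_prime hcard _ g.2 _ x.2, mul_inv_cancel_right]
  have hexp : xiFun b (χ : G → ℂ) = ∑ η ∈ univ.filter (· ∈ b),
      (n η : ℂ) • ((linearEquiv P (lam η)).1 : P → ℂ) := by
    funext u
    rw [xiFun, finsum_mem_eq_sum_of_inter_support_eq (t := univ.filter (· ∈ b)) _ (by ext; simp),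
      Finset.sum_apply]
    refine Finset.sum_congr rfl fun η _ => ?_
    rw [Pi.smul_apply, smul_eq_mul, linearEquiv_apply, hlam, ← hn η]
  rw [hexp, Chars.inner_sum_left]
  refine Finset.sum_induction _ (fun z : ℂ => ∃ m : ℤ, z = m)
    (fun _ _ ⟨m, hm⟩ ⟨m', hm'⟩ => ⟨m + m', by rw [hm, hm']; push_cast; rfl⟩) ⟨0, by simp⟩
    fun η _ => ?_
  rw [Chars.inner_smul_left, inner_irr]
  split_ifs
  · exact ⟨n η, by simp⟩
  · exact ⟨0, by simp⟩

/-- The part of a character at the pair. -/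
theorem secVal_pair_eq (hM : IsPModular p M) (hcard : Nat.card P = p)
    (hsq : ¬ p ^ 2 ∣ Nat.card G) (hpair : IsBrauerPairOf p M B P b) (hθb : θ ∈ b)
    (hθ : ∀ x : Subgroup.centralizer (P : Set G), (x : G) ∈ P →
      (θ : Subgroup.centralizer (P : Set G) → ℂ) x = (θ : Subgroup.centralizer (P : Set G) → ℂ) 1)
    (χ : IrrCharacter G) {u : P} (hu : u ≠ 1) {y : Subgroup.centralizer (P : Set G)}
    (hy : ¬ p ∣ orderOf y) :
    secVal ⟨P, b⟩ (χ : G → ℂ) ((u : G) * y) =
      xiFun b (χ : G → ℂ) u * (θ : Subgroup.centralizer (P : Set G) → ℂ) y := by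
  classical
  have hreg := fun η hη y hy => eq_canonical_regular hM hcard hsq hpair hθb hθ (η := η) hη
    (y := y) hy
  obtain ⟨u, huP⟩ := u
  obtain rfl := zpowers_eq_of_prime hcard huP fun h => hu (Subtype.ext h)
  rw [secVal_eq_secCol (φ := (θ : Subgroup.centralizer (Subgroup.zpowers u : Set G) → ℂ))
    (d := fun _ => 1) (fun η hη y hy => by rw [hreg η hη y hy, Nat.cast_one, one_mul]) χ hy,
    secCol, xiFun]
  congr 1
  refine finsum_mem_congr rfl fun η _ => ?_
  rw [show extFun _ (centralScalar (η : Subgroup.centralizer (Subgroup.zpowers u : Set G) → ℂ)) u = _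
    from extFun_coe _ _ ⟨u, (subgroupOf_le_center hcard huP).1⟩, Nat.cast_one, mul_one]

theorem secVal_pair_self (hM : IsPModular p M) (hcard : Nat.card P = p)
    (hsq : ¬ p ^ 2 ∣ Nat.card G) (hpair : IsBrauerPairOf p M B P b) (hθb : θ ∈ b)
    (hθ : ∀ x : Subgroup.centralizer (P : Set G), (x : G) ∈ P →
      (θ : Subgroup.centralizer (P : Set G) → ℂ) x = (θ : Subgroup.centralizer (P : Set G) → ℂ) 1)
    (χ : IrrCharacter G) {u : P} (hu : u ≠ 1) :
    secVal ⟨P, b⟩ (χ : G → ℂ) (u : G) =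
      xiFun b (χ : G → ℂ) u * (θ : Subgroup.centralizer (P : Set G) → ℂ) 1 := by
  have h := secVal_pair_eq hM hcard hsq hpair hθb hθ χ hu (y := 1)
    (by simp [(Fact.out : p.Prime).ne_one])
  rwa [Subgroup.coe_one, mul_one] at h

theorem sum_secVal_pair (hpM : (p : AlgInt) ∈ M) (hpair : IsBrauerPairOf p M B P b) {x x' : G}
    (hx : Subgroup.zpowers x = P) (hx' : Subgroup.zpowers x' = P)
    (hxp : ∃ k : ℕ, x ^ p ^ k = 1) (hxp' : ∃ k : ℕ, x' ^ p ^ k = 1)
    [Fintype (IrrCharacter G)] [DecidablePred (· ∈ B)] [DecidableEq G]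
    [DecidablePred (· ∈ stabPair ⟨P, b⟩)] :
    ∑ χ ∈ univ.filter (· ∈ B), secVal ⟨P, b⟩ (χ : G → ℂ) x *
        conj (secVal ⟨P, b⟩ (χ : G → ℂ) x') =
      ((univ.filter fun g : G => g * x * g⁻¹ = x' ∧ g ∈ stabPair ⟨P, b⟩).card : ℂ) *
        blockCoeff b 1 := by
  classical
  obtain rfl := hx.symm
  obtain ⟨b', hb', hpair'⟩ : ∃ b', (⟨Subgroup.zpowers x, b⟩ : BrauerPairIdx G) =
      ⟨Subgroup.zpowers x', b'⟩ ∧ IsBrauerPairOf p M B (Subgroup.zpowers x') b' := by
    generalize Subgroup.zpowers x' = Q at hx'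
    obtain rfl := hx'
    exact ⟨b, rfl, hpair⟩
  have h := sum_secVal_mul_conj hpM hxp hxp' hpair hpair'
  rw [← hb'] at h
  convert h using 4
  ext g
  simp only [Finset.mem_filter, Finset.mem_univ, true_and]
  exact Iff.rfl

/-- A `p`-element times a commuting `p`-regular element is singular. -/
theorem dvd_orderOf_mul (hcard : Nat.card P = p) {u w : G} (hu : u ∈ P) (hu1 : u ≠ 1)
    (hc : Commute u w) (hw : ¬ p ∣ orderOf w) : p ∣ orderOf (u * w) := by
  have ho := orderOf_eq_prime (pow_p_eq_one hcard hu) hu1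
  rw [hc.orderOf_mul_eq_mul_orderOf_of_coprime (ho ▸ (Fact.out : p.Prime).coprime_iff_not_dvd.2 hw),
    ho]
  exact dvd_mul_right _ _

/-- The columns are orthogonal to the values at regular elements. -/
theorem sum_mul_xiFun_eq_zero (hM : IsPModular p M) (hcard : Nat.card P = p)
    (hsq : ¬ p ^ 2 ∣ Nat.card G) (hpair : IsBrauerPairOf p M B P b)
    [Fintype {χ : IrrCharacter G // χ ∈ B}] {g : G} (hg : ¬ p ∣ orderOf g) {u : P} (hu : u ≠ 1) :
    ∑ i : {χ : IrrCharacter G // χ ∈ B}, (i.1 : G → ℂ) g * xiFun b (i.1 : G → ℂ) u = 0 := by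
  classical
  obtain ⟨θ, hθb, hθ⟩ := exists_canonical hM.2.2 hcard hsq hpair.1.2
  refine (mul_eq_zero.1 ?_).resolve_right (irr_degree_ne_zero θ.2)
  rw [Finset.sum_mul]
  simp only [mul_assoc, ← secVal_pair_self hM hcard hsq hpair hθb hθ _ hu]
  simp only [secVal, Finset.mul_sum]
  rw [Finset.sum_comm]
  refine Finset.sum_eq_zero fun w _ => ?_
  by_cases h0 : pairCoeff (⟨P, b⟩ : BrauerPairIdx G) w = 0
  · simp [h0]
  have hwC : w ∈ Subgroup.centralizer (P : Set G) :=
    by_contra fun h => h0 (subgroupBlockCoeff_of_notMem _ h)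
  have hw : ¬ p ∣ orderOf w := fun hd => h0 (by
    rw [pairCoeff, show subgroupBlockCoeff (Subgroup.centralizer (P : Set G)) b w =
      blockCoeff b ⟨w, hwC⟩ from subgroupBlockCoeff_coe _ ⟨w, hwC⟩]
    exact blockCoeff_eq_zero_of_dvd (Fact.out : p.Prime) hM.2.2 hpair.1.2
      (by rwa [← Subgroup.orderOf_coe]))
  have hc : Commute (u : G) w := Subgroup.mem_centralizer_iff.1 hwC u u.2
  have hd : p ∣ orderOf (w * (u : G))⁻¹ := by
    rw [orderOf_inv, ← hc.eq]
    exact dvd_orderOf_mul hcard u.2 (fun h => hu (Subtype.ext h)) hc hw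
  haveI := irrFintype G
  have h := weak_orthogonality (Fact.out : p.Prime) hM.2.2 hpair.2.1 hg hd
  rw [finsum_mem_eq_sum_of_inter_support_eq (t := univ.filter (· ∈ B)) _ (by ext; simp),
    Finset.sum_subtype (p := (· ∈ B)) (univ.filter (· ∈ B)) (fun x => by simp)] at h
  rw [← mul_zero (pairCoeff (⟨P, b⟩ : BrauerPairIdx G) w), ← h, Finset.mul_sum]
  refine Finset.sum_congr rfl fun χ _ => ?_
  rw [← char_inv (isCharacter_of_irr χ.1.2), inv_inv]
  ring

theorem exists_xiFun_ne_zero (hM : IsPModular p M) (hcard : Nat.card P = p)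
    (hsq : ¬ p ^ 2 ∣ Nat.card G) (hpair : IsBrauerPairOf p M B P b) {χ : IrrCharacter G}
    (hχ : χ ∈ B) {u : P} (hu : u ≠ 1) : xiFun b (χ : G → ℂ) u ≠ 0 := by
  classical
  obtain ⟨θ, hθb, hθ⟩ := exists_canonical hM.2.2 hcard hsq hpair.1.2
  intro h0
  have key : ∀ y : Subgroup.centralizer (P : Set G), ¬ p ∣ orderOf y →
      secVal ⟨P, b⟩ (χ : G → ℂ) ((u : G) * y) = 0 := fun y hy => by
    rw [secVal_pair_eq hM hcard hsq hpair hθb hθ χ hu hy, h0, zero_mul]
  obtain ⟨u, huP⟩ := u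
  obtain rfl := zpowers_eq_of_prime hcard huP fun h => hu (Subtype.ext h)
  obtain ⟨y, hy, hyr, hne⟩ := exists_secVal_ne_zero_of_central hM.2.2
    (isMaximal_of_sylow_prime hM.2.2 hcard hsq hpair) huP (subgroupOf_le_center hcard huP).1
    Relation.ReflTransGen.refl hχ
  exact hne (key ⟨y, (mem_centralizer_zpowers_iff u y).2 hy.eq.symm⟩
    (by rwa [← Subgroup.orderOf_coe]))

open scoped Classical in
/-- Orthogonality of the columns. -/
theorem sum_xiFun_mul_conj (hM : IsPModular p M) (hcard : Nat.card P = p)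
    (hsq : ¬ p ^ 2 ∣ Nat.card G) (hpair : IsBrauerPairOf p M B P b)
    [Fintype {χ : IrrCharacter G // χ ∈ B}] {u v : P} (hu : u ≠ 1) (hv : v ≠ 1) :
    ∑ i : {χ : IrrCharacter G // χ ∈ B}, xiFun b (i.1 : G → ℂ) u * conj (xiFun b (i.1 : G → ℂ) v) =
      (p : ℂ) * ((univ.filter fun σ : inertia b => (σ : MulAut P) u = v).card : ℂ) := by
  haveI := irrFintype G
  obtain ⟨θ, hθb, hθ⟩ := exists_canonical hM.2.2 hcard hsq hpair.1.2
  obtain ⟨n, hn0, hn⟩ := irr_degree_nat θ.2
  have hu' : (u : G) ≠ 1 := fun h => hu (Subtype.ext h)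
  have hv' : (v : G) ≠ 1 := fun h => hv (Subtype.ext h)
  have h := sum_secVal_pair hM.2.2 hpair (zpowers_eq_of_prime hcard u.2 hu')
    (zpowers_eq_of_prime hcard v.2 hv') ⟨1, by rw [pow_one]; exact pow_p_eq_one hcard u.2⟩
    ⟨1, by rw [pow_one]; exact pow_p_eq_one hcard v.2⟩
  simp only [secVal_pair_self hM hcard hsq hpair hθb hθ _ hu,
    secVal_pair_self hM hcard hsq hpair hθb hθ _ hv, map_mul, hn, map_natCast,
    mul_mul_mul_comm _ (n : ℂ) _ (n : ℂ), ← Finset.sum_mul] at h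
  rw [Finset.sum_subtype (p := (· ∈ B)) (univ.filter (· ∈ B)) (fun x => by simp)] at h
  refine mul_right_cancel₀ (mul_ne_zero (Nat.cast_ne_zero.2 hn0.ne') (Nat.cast_ne_zero.2 hn0.ne')) (h.trans ?_)
  have hb1 := card_mul_blockCoeff_one hM hcard hsq hpair hθb hθ
  rw [hn] at hb1
  by_cases hex : ∃ g ∈ stabPair ⟨P, b⟩, g * (u : G) * g⁻¹ = v
  swap
  · rw [Finset.filter_false_of_mem (fun g _ hg => hex ⟨g, hg.2, hg.1⟩),
      Finset.filter_false_of_mem fun σ _ hσ => hex ?_]
    · simp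
    obtain ⟨g, hg, hgu⟩ := mem_inertia.1 σ.2
    exact ⟨g, hg, by rw [← hgu, hσ]⟩
  obtain ⟨g₀, hg₀, hg₀u⟩ := hex
  have hone : (univ.filter fun σ : inertia b => (σ : MulAut P) u = v).card = 1 := by
    let σ₀ : inertia b := ⟨P.normalizerMonoidHom ⟨g₀, stabPair_le_normalizer _ hg₀⟩,
      ⟨⟨g₀, stabPair_le_normalizer _ hg₀⟩, hg₀, rfl⟩⟩
    refine Finset.card_eq_one.2 ⟨σ₀, Finset.eq_singleton_iff_unique_mem.2
      ⟨mem_filter.2 ⟨mem_univ _, Subtype.ext hg₀u⟩, fun σ hσ => ?_⟩⟩
    have h1 : ((σ₀ : MulAut P)⁻¹ * (σ : MulAut P)) u = u := by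
      rw [MulAut.mul_apply, (mem_filter.1 hσ).2,
        show v = (σ₀ : MulAut P) u from Subtype.ext hg₀u.symm, MulAut.inv_apply_self]
    exact Subtype.ext (inv_mul_eq_one.1 (inertia_free hcard _
      (mul_mem (inv_mem σ₀.2) σ.2) u hu h1)).symm
  rw [hone, Nat.cast_one, mul_one, ← hb1]
  congr 2
  rw [← Fintype.card_subtype, ← Nat.card_eq_fintype_card]
  refine Nat.card_congr (Equiv.subtypeEquiv (Equiv.mulLeft g₀⁻¹) fun g => ?_)
  simp only [Equiv.coe_mulLeft]
  constructor
  · rintro ⟨hg, -⟩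
    refine free_of_prime hcard u.2 hu' ?_
    calc g₀⁻¹ * g * u * (g₀⁻¹ * g)⁻¹ = g₀⁻¹ * (g * u * g⁻¹) * g₀ := by group
      _ = u := by rw [hg, ← hg₀u]; group
  · intro hc
    have h1 := Subgroup.mem_centralizer_iff.1 hc u u.2
    refine ⟨?_, ?_⟩
    · calc g * (u : G) * g⁻¹ = g₀ * ((g₀⁻¹ * g) * u) * g⁻¹ := by group
        _ = g₀ * ((u : G) * (g₀⁻¹ * g)) * g⁻¹ := by rw [h1]
        _ = v := by rw [← hg₀u]; group
    · have := mul_mem hg₀ (centralizer_le_stabPair hpair.1.2 hc)
      rwa [mul_inv_cancel_left] at this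

/-- A Galois automorphism acts on a column through the power map. -/
theorem galois_xiFun (hcard : Nat.card P = p) (σ : ℂ ≃+* ℂ) {k : ℕ}
    (hσ : ∀ z : ℂ, z ^ p = 1 → σ z = z ^ k) (χ : IrrCharacter G) (u : P) :
    σ (xiFun b (χ : G → ℂ) u) = xiFun b (χ : G → ℂ) (u ^ k) := by
  classical
  haveI := irrFintype (Subgroup.centralizer (P : Set G))
  choose lam hlam using exists_hom_centralScalar hcard (P := P)
  rw [xiFun, xiFun, finsum_mem_eq_sum_of_inter_support_eq (t := univ.filter (· ∈ b)) _ (by ext; simp),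
    finsum_mem_eq_sum_of_inter_support_eq (t := univ.filter (· ∈ b)) _ (by ext; simp), map_sum]
  refine Finset.sum_congr rfl fun η _ => ?_
  obtain ⟨n, hn⟩ := inner_irr_right_nat (isCharacter_restrict _ (isCharacter_of_irr χ.2)) η
  rw [map_mul, inner_congr_inst, hn, map_natCast, hlam, hlam, map_pow, Units.val_pow_eq_pow_val,
    hσ _ ?_]
  rw [← Units.val_pow_eq_pow_val, ← map_pow, ← hcard, pow_card_eq_one', map_one, Units.val_one]

end CfsgLib.Blocks
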