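import Cfsg.Agent.Lib.Blocks.RootLift
import Cfsg.Agent.Lib.Blocks.TwistedTrace

/-!
# Lifting idempotents to the group ring over the local ring, and their twisted traces

For a `p`-element `s` an idempotent of the group ring fixed by `s` is determined, as far as the
values of class functions on `e * s` go, by the Brauer image at `s` of its reduction, up to
equivalence of that image.
-/

set_option linter.unusedSectionVars false
set_option linter.style.haveILetI false

namespace CfsgLib.Blocks

open Cfsg Chars Polynomial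

variable {G : Type*} [Group G] [Fintype G] {M : Ideal AlgInt} [M.IsPrime] {p : ℕ} [Fact p.Prime]

instance instFiniteMonoidAlgebra {R : Type*} [CommRing R] : Module.Finite R (MonoidAlgebra R G) :=
  Module.Finite.equiv (MonoidAlgebra.coeffLinearEquiv R).symm

theorem redAlg_smul (c : loc M) (x : MonoidAlgebra (loc M) G) :
    redAlg (c • x) = red c • redAlg x := by
  apply MonoidAlgebra.ext
  ext g
  simp [coeff_redAlg]

theorem isFixedBy_redAlg {P : Subgroup G} {x : MonoidAlgebra (loc M) G} (hx : IsFixedBy P x) :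
    IsFixedBy P (redAlg x) := fun u hu g => by rw [coeff_redAlg, coeff_redAlg, hx u hu g]

theorem IsFixedBy.add {k : Type*} [CommRing k] {P : Subgroup G} {f h : MonoidAlgebra k G}
    (hf : IsFixedBy P f) (hh : IsFixedBy P h) : IsFixedBy P (f + h) :=
  fun u hu g => by simp [hf u hu g, hh u hu g]

theorem IsFixedBy.sub {k : Type*} [CommRing k] {P : Subgroup G} {f h : MonoidAlgebra k G}
    (hf : IsFixedBy P f) (hh : IsFixedBy P h) : IsFixedBy P (f - h) :=
  fun u hu g => by simp [hf u hu g, hh u hu g]

theorem cut_sub {k : Type*} [CommRing k] (S : Set G) (f h : MonoidAlgebra k G) :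
    cut S (f - h) = cut S f - cut S h := by
  rw [eq_sub_iff_add_eq, ← cut_add, sub_add_cancel]

theorem cut_cut_self {k : Type*} [CommRing k] (S : Set G) (z : MonoidAlgebra k G) :
    cut S (cut S z) = cut S z := by
  rw [cut_cut, Set.inter_self]

theorem IsFixedBy.zero {k : Type*} [CommRing k] {P : Subgroup G} :
    IsFixedBy P (0 : MonoidAlgebra k G) := fun u _ g => by simp

theorem IsFixedBy.aeval {k : Type*} [CommRing k] {P : Subgroup G} {x : MonoidAlgebra k G}
    (hx : IsFixedBy P x) (q : k[X]) : IsFixedBy P (aeval x q) := by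
  induction q using Polynomial.induction_on' with
  | add a b ha hb => rw [map_add]; exact ha.add hb
  | monomial n c => rw [aeval_monomial, ← Algebra.smul_def]; exact (hx.pow n).smul c

theorem exists_fixed_lift (P : Subgroup G) {z : MonoidAlgebra (ResField M) G} (hz : IsFixedBy P z) :
    ∃ x : MonoidAlgebra (loc M) G, IsFixedBy P x ∧ redAlg x = z := by
  obtain ⟨σ, hσ⟩ := (IsLocalRing.residue_surjective (R := loc M)).hasRightInverse
  refine ⟨MonoidAlgebra.ofCoeff (Finsupp.equivFunOnFinite.symm fun g => σ (z.coeff g)),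
    fun u hu g => by simp [hz u hu g], ?_⟩
  apply MonoidAlgebra.ext
  ext g
  rw [coeff_redAlg]
  simpa using hσ (z.coeff g)

theorem cut_redAlg_mul (hpM : (p : AlgInt) ∈ M) {P : Subgroup G} (hP : IsPGroup p P)
    {x y : MonoidAlgebra (loc M) G} (hx : IsFixedBy P x) (hy : IsFixedBy P y) :
    cut (Subgroup.centralizer (P : Set G) : Set G) (redAlg (x * y)) =
      cut (Subgroup.centralizer (P : Set G) : Set G) (redAlg x) *
        cut (Subgroup.centralizer (P : Set G) : Set G) (redAlg y) := by
  haveI := charP_resField (M := M) (Fact.out (p := p.Prime)) hpM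
  rw [map_mul, cut_mul p hP (isFixedBy_redAlg hx) (isFixedBy_redAlg hy)]

theorem cut_redAlg_aeval (hpM : (p : AlgInt) ∈ M) {P : Subgroup G} (hP : IsPGroup p P)
    {x : MonoidAlgebra (loc M) G} (hx : IsFixedBy P x) (q : (loc M)[X]) :
    cut (Subgroup.centralizer (P : Set G) : Set G) (redAlg (aeval x q)) =
      aeval (cut (Subgroup.centralizer (P : Set G) : Set G) (redAlg x)) (q.map red) := by
  haveI := charP_resField (M := M) (Fact.out (p := p.Prime)) hpM
  induction q using Polynomial.induction_on' with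
  | add a b ha hb => rw [map_add, map_add, cut_add, ha, hb, Polynomial.map_add, map_add]
  | monomial n c =>
    rw [aeval_monomial, ← Algebra.smul_def, redAlg_smul, cut_smul, map_pow,
      cut_pow p hP (isFixedBy_redAlg hx), Polynomial.map_monomial, aeval_monomial,
      ← Algebra.smul_def]

/-- Evaluation of a polynomial at an idempotent. -/
theorem aeval_idem {k R : Type*} [CommRing k] [Ring R] [Algebra k R] {z : R} (hz : z * z = z)
    (q : k[X]) : aeval z q = q.eval 0 • (1 - z) + q.eval 1 • z := by
  induction q using Polynomial.induction_on' with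
  | add a b ha hb => rw [map_add, ha, hb, eval_add, eval_add, add_smul, add_smul]; abel
  | monomial n c =>
    rw [aeval_monomial, ← Algebra.smul_def, eval_monomial, eval_monomial, one_pow, mul_one]
    rcases n with _ | n
    · rw [pow_zero, pow_zero, mul_one, ← smul_add, sub_add_cancel]
    · rw [IsIdempotentElem.pow_succ_eq n (show IsIdempotentElem z from hz),
        zero_pow n.succ_ne_zero, mul_zero, zero_smul, zero_add]

/-- The idempotent polynomial of an element: it kills the part with roots outside the local ideal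
and fixes the part where the reduction is an idempotent. -/
theorem exists_idem_poly (x : MonoidAlgebra (loc M) G) :
    ∃ W gM : (loc M)[X],
      aeval x (X * W) * aeval x (X * W) = aeval x (X * W) ∧
      (aeval x (X * W) = 0 → aeval x gM = 0) ∧
      (∀ r : ℂ, gM.eval₂ (loc M).subtype r = 0 → MemLocalIdeal M r) ∧
      ∀ z : MonoidAlgebra (ResField M) G, z * z = z →
        (∀ q : (loc M)[X], aeval x q = 0 → aeval z (q.map red) = 0) →
        aeval z ((X * W).map red) = z := by
  obtain ⟨g, hg, hgx⟩ := (Algebra.IsIntegral.of_finite (loc M) (MonoidAlgebra (loc M) G)).isIntegral x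
  rw [← aeval_def] at hgx
  obtain ⟨gM, gU, rfl, ⟨u, v, huv⟩, hroot, ⟨m, hm⟩, h0⟩ := exists_split hg
  obtain ⟨c, hc⟩ : IsUnit (gU.eval 0) :=
    isUnit_of_notMem_locIdeal fun hmem => h0 (red_eq_zero_iff.2 hmem)
  set W := -(C (↑c⁻¹ : loc M)) * gU.divX * u * gM with hW
  have hgUX : gU = X * gU.divX + C (c : loc M) := by
    rw [hc, ← coeff_zero_eq_eval_zero, X_mul_divX_add]
  have hcc : C (↑c⁻¹ : loc M) * C (c : loc M) = 1 := by rw [← C_mul, Units.inv_mul, C_1]
  have hAW : u * gM = X * W + C (↑c⁻¹ : loc M) * u * (gM * gU) := by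
    rw [hW]
    conv_rhs => arg 2; rw [hgUX]
    linear_combination (-(u * gM)) * hcc
  have hzero : ∀ q, aeval x (q * (gM * gU)) = 0 := fun q => by rw [map_mul, hgx, mul_zero]
  have hE : aeval x (X * W) = aeval x (u * gM) := by rw [hAW, map_add, hzero, add_zero]
  refine ⟨W, gM, ?_, fun he => ?_, hroot, fun z hz hrel => ?_⟩
  · have h1 : u * gM * (u * gM) + u * v * (gM * gU) = u * gM := by linear_combination (u * gM) * huv
    rw [hE, ← map_mul]
    conv_rhs => rw [← h1, map_add, hzero, add_zero]
  · rw [hE] at he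
    have h1 : gM = gM * (u * gM) + v * (gM * gU) := by linear_combination (-gM) * huv
    rw [h1, map_add, hzero, map_mul, he, mul_zero, add_zero]
  · have hz1 : z * (1 - z) = 0 := by rw [mul_sub, mul_one, hz, sub_self]
    have hG := hrel _ hgx
    rw [aeval_idem hz, eval_map, eval_map, ← map_zero (red (M := M)), ← map_one (red (M := M)),
      eval₂_at_apply, eval₂_at_apply, eval_mul, eval_mul, map_mul, map_mul] at hG
    have hG1 : (red (gM.eval 1) * red (gU.eval 1)) • z = 0 := by
      have h1 := congrArg (z * ·) hG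
      simp only [mul_add, mul_smul_comm, hz1, hz, smul_zero, zero_add, mul_zero] at h1
      exact h1
    have hG0 : (red (gM.eval 0) * red (gU.eval 0)) • (1 - z) = 0 := by
      rwa [hG1, add_zero] at hG
    have hM0 : red (gM.eval 0) • (1 - z) = 0 := by
      rw [mul_comm, mul_smul] at hG0
      exact (smul_eq_zero.1 hG0).resolve_left h0
    have hU1 : red (gU.eval 1) • z = 0 := by
      have h1 : red (gM.eval 1) = 1 := by
        rw [← eval₂_at_apply, ← eval_map, hm, map_one, eval_pow, eval_X, one_pow]
      rwa [h1, one_mul] at hG1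
    have hA : aeval z ((X * W).map red) = aeval z ((u * gM).map red) := by
      have h2 := hrel (C (↑c⁻¹ : loc M) * u * (gM * gU)) (hzero _)
      rw [hAW, Polynomial.map_add, map_add, h2, add_zero]
    rw [hA, aeval_idem hz, eval_map, eval_map, ← map_zero (red (M := M)),
      ← map_one (red (M := M)), eval₂_at_apply, eval₂_at_apply]
    have e1 : (u * gM).eval 1 = 1 - v.eval 1 * gU.eval 1 := by
      have := congrArg (Polynomial.eval 1) huv
      simp only [eval_add, eval_mul, eval_one] at this ⊢
      linear_combination this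
    rw [eval_mul, map_mul, mul_smul, hM0, smul_zero, zero_add, e1, map_sub, map_one, map_mul,
      sub_smul, one_smul, mul_smul, hU1, smul_zero, sub_zero]

/-- An idempotent vanishing modulo the local ideal is zero. -/
theorem idem_eq_zero_of_red_eq_zero {e : MonoidAlgebra (loc M) G} (he : e * e = e)
    (h0 : redAlg e = 0) : e = 0 := by
  set N := LinearMap.range (LinearMap.mulLeft (loc M) e) with hN
  have hFG : N.FG := by rw [hN]; exact Module.Finite.iff_fg.1 inferInstance
  have hle : N ≤ locIdeal M • N := by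
    rintro - ⟨y, rfl⟩
    show e * y ∈ _
    have h1 : e * y = ∑ g, e.coeff g • (e * (MonoidAlgebra.single g 1 * y)) := by
      conv_lhs => rw [← he, mul_assoc]; arg 2; arg 1; rw [sum_single_coeff e]
      rw [Finset.sum_mul, Finset.mul_sum]
      refine Finset.sum_congr rfl fun g _ => ?_
      rw [← mul_smul_comm, ← smul_mul_assoc]
      simp
    rw [h1]
    refine Submodule.sum_mem _ fun g _ => Submodule.smul_mem_smul ?_ ⟨_, rfl⟩
    rw [mem_locIdeal, ← coeff_redAlg_eq_zero_iff, h0]
    simp
  have hbot := Submodule.eq_bot_of_le_smul_of_le_jacobson_bot (locIdeal M) N hFG hle (by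
    rw [IsLocalRing.jacobson_eq_maximalIdeal ⊥ bot_ne_top, maximalIdeal_loc])
  have : e * 1 ∈ N := ⟨1, rfl⟩
  rw [hbot, mul_one] at this
  exact (Submodule.mem_bot _).1 this

/-! ## Twisted traces -/

/-- The value of a function on `x * s`, extended linearly. -/
noncomputable def secTrace (θ : G → ℂ) (s : G) (x : MonoidAlgebra (loc M) G) : ℂ :=
  ∑ g, (x.coeff g : ℂ) * θ (g * s)

variable {θ : G → ℂ} {s : G}

theorem secTrace_add (x y : MonoidAlgebra (loc M) G) :
    secTrace θ s (x + y) = secTrace θ s x + secTrace θ s y := by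
  simp [secTrace, add_mul, Finset.sum_add_distrib]

theorem secTrace_sub (x y : MonoidAlgebra (loc M) G) :
    secTrace θ s (x - y) = secTrace θ s x - secTrace θ s y := by
  simp [secTrace, sub_mul, Finset.sum_sub_distrib]

theorem secTrace_smul (c : loc M) (x : MonoidAlgebra (loc M) G) :
    secTrace θ s (c • x) = (c : ℂ) * secTrace θ s x := by
  simp [secTrace, Finset.mul_sum, mul_assoc]

theorem secTrace_single (g : G) (c : loc M) :
    secTrace θ s (MonoidAlgebra.single g c) = (c : ℂ) * θ (g * s) := by
  classical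
  rw [secTrace, Finset.sum_eq_single g]
  · simp
  · intro h _ hh; simp [Finsupp.single_eq_of_ne hh]
  · simp

theorem secTrace_sum {ι : Type*} (S : Finset ι) (F : ι → MonoidAlgebra (loc M) G) :
    secTrace θ s (∑ i ∈ S, F i) = ∑ i ∈ S, secTrace θ s (F i) := by
  simp only [secTrace, MonoidAlgebra.coeff_sum, Finsupp.finsetSum_apply,
    AddSubmonoidClass.coe_finsetSum, Finset.sum_mul]
  rw [Finset.sum_comm]

theorem secTrace_mem_loc (hθ : IsLocClassFun M θ) (x : MonoidAlgebra (loc M) G) :
    secTrace θ s x ∈ loc M :=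
  sum_mem fun g _ => mul_mem (x.coeff g).2 (hθ.2 _)

theorem secTrace_mul_comm (hθ : IsClassFunction G θ) {a : MonoidAlgebra (loc M) G}
    (ha : IsFixedBy (Subgroup.zpowers s) a) (b : MonoidAlgebra (loc M) G) :
    secTrace θ s (a * b) = secTrace θ s (b * a) := by
  classical
  have key : ∀ h : G, secTrace θ s (a * MonoidAlgebra.single h 1) =
      secTrace θ s (MonoidAlgebra.single h 1 * a) := by
    intro h
    have e1 : secTrace θ s (a * MonoidAlgebra.single h 1) =
        ∑ g, (a.coeff g : ℂ) * θ (g * h * s) := by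
      rw [secTrace, ← Equiv.sum_comp (Equiv.mulRight h)]
      simp
    have e2 : secTrace θ s (MonoidAlgebra.single h 1 * a) =
        ∑ g, (a.coeff g : ℂ) * θ (g * s * h) := by
      rw [secTrace, ← Equiv.sum_comp (Equiv.mulLeft h)]
      refine Finset.sum_congr rfl fun g _ => ?_
      simp [classFun_mul_comm hθ h (g * s), mul_assoc]
    rw [e1, e2]
    symm
    rw [← Equiv.sum_comp (MulAut.conj s).toEquiv]
    refine Finset.sum_congr rfl fun g _ => ?_
    show (a.coeff (s * g * s⁻¹) : ℂ) * θ (s * g * s⁻¹ * s * h) = _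
    rw [ha s (Subgroup.mem_zpowers s) g, inv_mul_cancel_right, mul_assoc s g h,
      classFun_mul_comm hθ s (g * h)]
  conv_lhs => rw [sum_single_coeff b, Finset.mul_sum]
  conv_rhs => rw [sum_single_coeff b, Finset.sum_mul]
  rw [secTrace_sum, secTrace_sum]
  refine Finset.sum_congr rfl fun h _ => ?_
  have e : MonoidAlgebra.single h (b.coeff h) = b.coeff h • MonoidAlgebra.single h (1 : loc M) := by
    simp
  rw [e, mul_smul_comm, smul_mul_assoc, secTrace_smul, secTrace_smul, key]

theorem secTrace_idem_eq_zero (hpM : (p : AlgInt) ∈ M) (hθ : IsLocClassFun M θ)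
    (hs : ∃ k : ℕ, s ^ p ^ k = 1) {f : MonoidAlgebra (loc M) G} (hf : f * f = f)
    (hfix : IsFixedBy (Subgroup.zpowers s) f)
    (hcut : cut (Subgroup.centralizer (Subgroup.zpowers s : Set G) : Set G) (redAlg f) = 0) :
    secTrace θ s f = 0 := by
  have hp : p.Prime := Fact.out
  have h := trace_twisted_idempotent_eq_zero (θ := fun g => (⟨θ g, hθ.2 g⟩ : loc M)) hp
    (loc_eq_zero_of_forall_dvd hp hpM) hf hs (fun g => hfix s (Subgroup.mem_zpowers s) g)
    (fun c hc => exists_pow_dvd_of_mem_locIdeal hp hpM (by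
      rw [← coeff_redAlg_eq_zero_iff]
      have hcC : c ∈ Subgroup.centralizer (Subgroup.zpowers s : Set G) := by
        rw [Subgroup.zpowers_eq_closure, Subgroup.centralizer_closure]
        exact Subgroup.mem_centralizer_singleton_iff.2 hc.symm
      rw [← coeff_cut_of_mem (S := (Subgroup.centralizer (Subgroup.zpowers s : Set G) : Set G)) _ hcC,
        hcut]
      simp))
    (fun g h => Subtype.ext (hθ.1 g h))
  have h2 := congrArg Subtype.val h
  push_cast at h2
  rw [secTrace, ← h2]
  exact Finset.sum_congr rfl fun g _ => by rw [classFun_mul_comm hθ.1 g s, mul_comm]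

variable (hpM : (p : AlgInt) ∈ M)

theorem isPGroup_zpowers (hs : ∃ k : ℕ, s ^ p ^ k = 1) : IsPGroup p (Subgroup.zpowers s) := by
  obtain ⟨k, hk⟩ := hs
  obtain ⟨i, -, hi⟩ := (Nat.dvd_prime_pow (Fact.out (p := p.Prime))).1 (orderOf_dvd_of_pow_eq_one hk)
  exact IsPGroup.of_card (n := i) (by rw [Nat.card_zpowers, hi])

/-- An element whose Brauer image is an idempotent gives an idempotent with that image. -/
theorem exists_idem_of_cut (hpM : (p : AlgInt) ∈ M) {P : Subgroup G} (hP : IsPGroup p P)
    {x : MonoidAlgebra (loc M) G} (hx : IsFixedBy P x)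
    (hidem : cut (Subgroup.centralizer (P : Set G) : Set G) (redAlg x) *
      cut (Subgroup.centralizer (P : Set G) : Set G) (redAlg x) =
      cut (Subgroup.centralizer (P : Set G) : Set G) (redAlg x)) :
    ∃ w : MonoidAlgebra (loc M) G, IsFixedBy P w ∧ Commute x w ∧ (x * w) * (x * w) = x * w ∧
      cut (Subgroup.centralizer (P : Set G) : Set G) (redAlg (x * w)) =
        cut (Subgroup.centralizer (P : Set G) : Set G) (redAlg x) := by
  obtain ⟨W, gM, he, -, -, hz⟩ := exists_idem_poly x
  refine ⟨aeval x W, hx.aeval W, ?_, ?_, ?_⟩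
  · have := congrArg (aeval x) (mul_comm (X : (loc M)[X]) W)
    rw [map_mul, map_mul, aeval_X] at this
    exact this
  · simpa only [map_mul, aeval_X] using he
  · have := hz _ hidem fun q hq => by
      rw [← cut_redAlg_aeval hpM hP hx, hq, map_zero, cut_zero]
    rw [← cut_redAlg_aeval hpM hP hx, map_mul, aeval_X] at this
    exact this

/-- **Equivalent Brauer images give equal twisted traces.** -/
theorem secTrace_eq_of_equiv (hpM : (p : AlgInt) ∈ M) (hθ : IsLocClassFun M θ)
    (hs : ∃ k : ℕ, s ^ p ^ k = 1) {a e u v : MonoidAlgebra (loc M) G}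
    (ha : a * a = a) (he : e * e = e) (haf : IsFixedBy (Subgroup.zpowers s) a)
    (hef : IsFixedBy (Subgroup.zpowers s) e) (huf : IsFixedBy (Subgroup.zpowers s) u)
    (hvf : IsFixedBy (Subgroup.zpowers s) v)
    (huv : cut (Subgroup.centralizer (Subgroup.zpowers s : Set G) : Set G) (redAlg (u * v)) =
      cut (Subgroup.centralizer (Subgroup.zpowers s : Set G) : Set G) (redAlg a))
    (hvu : cut (Subgroup.centralizer (Subgroup.zpowers s : Set G) : Set G) (redAlg (v * u)) =
      cut (Subgroup.centralizer (Subgroup.zpowers s : Set G) : Set G) (redAlg e)) :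
    secTrace θ s a = secTrace θ s e := by
  have hP := isPGroup_zpowers hs
  have hm : ∀ {x y : MonoidAlgebra (loc M) G}, IsFixedBy (Subgroup.zpowers s) x →
      IsFixedBy (Subgroup.zpowers s) y →
      cut (Subgroup.centralizer (Subgroup.zpowers s : Set G) : Set G) (redAlg (x * y)) =
        cut (Subgroup.centralizer (Subgroup.zpowers s : Set G) : Set G) (redAlg x) *
          cut (Subgroup.centralizer (Subgroup.zpowers s : Set G) : Set G) (redAlg y) :=
    fun hx hy => cut_redAlg_mul hpM hP hx hy
  obtain ⟨u', hu'⟩ : ∃ u', u' = a * u * e := ⟨_, rfl⟩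
  obtain ⟨v', hv'⟩ : ∃ v', v' = e * v * a := ⟨_, rfl⟩
  have hu'f : IsFixedBy (Subgroup.zpowers s) u' := hu' ▸ (haf.mul huf).mul hef
  have hv'f : IsFixedBy (Subgroup.zpowers s) v' := hv' ▸ (hef.mul hvf).mul haf
  obtain ⟨x, hxdef⟩ : ∃ x, x = u' * v' := ⟨_, rfl⟩
  have hxf : IsFixedBy (Subgroup.zpowers s) x := hxdef ▸ hu'f.mul hv'f
  set A := cut (Subgroup.centralizer (Subgroup.zpowers s : Set G) : Set G) (redAlg a) with hA
  set E := cut (Subgroup.centralizer (Subgroup.zpowers s : Set G) : Set G) (redAlg e) with hEdef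
  set U := cut (Subgroup.centralizer (Subgroup.zpowers s : Set G) : Set G) (redAlg u) with hU
  set V := cut (Subgroup.centralizer (Subgroup.zpowers s : Set G) : Set G) (redAlg v) with hV
  have hAA : A * A = A := by rw [hA, ← hm haf haf, ha]
  have hEE : E * E = E := by rw [hEdef, ← hm hef hef, he]
  have hUV : U * V = A := by rw [hU, hV, ← hm huf hvf, huv]
  have hVU : V * U = E := by rw [hU, hV, ← hm hvf huf, hvu]
  have hcu' : cut (Subgroup.centralizer (Subgroup.zpowers s : Set G) : Set G) (redAlg u') =
      A * U * E := by rw [hu', hm (haf.mul huf) hef, hm haf huf]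
  have hcv' : cut (Subgroup.centralizer (Subgroup.zpowers s : Set G) : Set G) (redAlg v') =
      E * V * A := by rw [hv', hm (hef.mul hvf) haf, hm hef hvf]
  have hcx : cut (Subgroup.centralizer (Subgroup.zpowers s : Set G) : Set G) (redAlg x) = A := by
    rw [hxdef, hm hu'f hv'f, hcu', hcv']
    calc A * U * E * (E * V * A) = A * U * (E * E) * V * A := by simp only [mul_assoc]
      _ = A * (U * V) * (U * V) * A := by rw [hEE, ← hVU]; simp only [mul_assoc]
      _ = A := by rw [hUV, hAA, hAA, hAA]
  obtain ⟨w, hwf, hxw, hidem, hcw⟩ := exists_idem_of_cut hpM hP hxf (by rw [hcx, hAA])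
  rw [hcx] at hcw
  obtain ⟨e1, he1⟩ : ∃ e1, e1 = x * w := ⟨_, rfl⟩
  rw [← he1] at hidem hcw
  have he1f : IsFixedBy (Subgroup.zpowers s) e1 := he1 ▸ hxf.mul hwf
  have hax : a * x = x := by rw [hxdef, hu', ← mul_assoc, ← mul_assoc, ← mul_assoc, ha]
  have hxa : x * a = x := by rw [hxdef, hv']; simp only [mul_assoc]; rw [ha]
  have hae1 : a * e1 = e1 := by rw [he1, ← mul_assoc, hax]
  have he1a : e1 * a = e1 := by rw [he1, hxw.eq, mul_assoc, hxa]
  obtain ⟨e2, he2⟩ : ∃ e2, e2 = v' * w * e1 * (e1 * u') := ⟨_, rfl⟩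
  have hUV' : e1 * u' * (v' * w * e1) = e1 := by
    calc e1 * u' * (v' * w * e1) = e1 * (x * w) * e1 := by rw [hxdef]; simp only [mul_assoc]
      _ = e1 := by rw [← he1, hidem, hidem]
  have he2i : e2 * e2 = e2 := by
    rw [he2]
    calc v' * w * e1 * (e1 * u') * (v' * w * e1 * (e1 * u'))
        = v' * w * e1 * (e1 * u' * (v' * w * e1)) * (e1 * u') := by simp only [mul_assoc]
      _ = v' * w * e1 * (e1 * u') := by rw [hUV', mul_assoc (v' * w) e1 e1, hidem]
  have hvwf : IsFixedBy (Subgroup.zpowers s) (v' * w * e1) := (hv'f.mul hwf).mul he1f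
  have he2f : IsFixedBy (Subgroup.zpowers s) e2 := he2 ▸ hvwf.mul (he1f.mul hu'f)
  have hee2 : e * e2 = e2 := by
    rw [he2, hv']
    simp only [← mul_assoc, he]
  have he2e : e2 * e = e2 := by
    rw [he2, hu']
    simp only [mul_assoc, he]
  have hce2 : cut (Subgroup.centralizer (Subgroup.zpowers s : Set G) : Set G) (redAlg e2) = E := by
    have hwA : cut (Subgroup.centralizer (Subgroup.zpowers s : Set G) : Set G) (redAlg w) * A = A := by
      have := hm hwf hxf
      rw [hcx, ← hxw.eq, ← he1, hcw] at this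
      exact this.symm
    rw [he2, hm hvwf (he1f.mul hu'f), hm (hv'f.mul hwf) he1f, hm hv'f hwf, hm he1f hu'f, hcu', hcv',
      hcw]
    calc E * V * A * cut (Subgroup.centralizer (Subgroup.zpowers s : Set G) : Set G) (redAlg w) * A *
          (A * (A * U * E))
        = E * V * A * (cut (Subgroup.centralizer (Subgroup.zpowers s : Set G) : Set G) (redAlg w) *
          A) * ((A * A) * U * E) := by simp only [mul_assoc]
      _ = E * V * (A * (A * A) * A) * U * E := by rw [hwA]; simp only [mul_assoc]
      _ = E * V * (U * V) * U * E := by rw [hAA, hAA, hAA, hUV]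
      _ = E * (V * U) * (V * U) * E := by simp only [mul_assoc]
      _ = E := by rw [hVU, hEE, hEE, hEE]
  have hz1 : secTrace θ s (a - e1) = 0 := by
    refine secTrace_idem_eq_zero hpM hθ hs ?_ (haf.sub he1f) ?_
    · rw [sub_mul, mul_sub, mul_sub, ha, hae1, he1a, hidem]; abel
    · rw [map_sub, show cut (Subgroup.centralizer (Subgroup.zpowers s : Set G) : Set G)
        (redAlg a - redAlg e1) = A - A by rw [cut_sub, hcw], sub_self]
  have hz2 : secTrace θ s (e - e2) = 0 := by
    refine secTrace_idem_eq_zero hpM hθ hs ?_ (hef.sub he2f) ?_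
    · rw [sub_mul, mul_sub, mul_sub, he, hee2, he2e, he2i]; abel
    · rw [map_sub, show cut (Subgroup.centralizer (Subgroup.zpowers s : Set G) : Set G)
        (redAlg e - redAlg e2) = E - E by rw [cut_sub, hce2], sub_self]
  rw [secTrace_sub, sub_eq_zero] at hz1 hz2
  rw [hz1, hz2]
  calc secTrace θ s e1 = secTrace θ s (e1 * u' * (v' * w * e1)) := by rw [hUV']
    _ = secTrace θ s (v' * w * e1 * (e1 * u')) := secTrace_mul_comm hθ.1 (he1f.mul hu'f) _
    _ = secTrace θ s e2 := by rw [he2]

end CfsgLib.Blocks
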