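import Cfsg.Agent.Lib.Blocks.TrivialInertia
import Cfsg.Agent.Lib.Blocks.FreeAction
import Cfsg.Agent.Lib.Blocks.IdemLift

/-!
# `k(B) = l(B) + (|P| - 1)/|E|` for a free inertial action
-/

set_option linter.unusedSectionVars false
set_option linter.style.haveILetI false

namespace CfsgLib.Blocks

open Cfsg Chars

universe u

variable {G : Type u} [Group G] [Fintype G] {M : Ideal AlgInt} [M.IsPrime] {p : ℕ} [Fact p.Prime]
  {B : Set (IrrCharacter G)} {P : Subgroup G}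
  {e : Set (IrrCharacter (Subgroup.centralizer (P : Set G)))}

/-- A nontrivial pair below a maximal pair with free inertial action has one Brauer character. -/
theorem blockRank_eq_one_of_below_free (hM : IsPModular p M)
    (hmax : IsMaximalBrauerPair p M B P e) (hab : ∀ x ∈ P, ∀ y ∈ P, x * y = y * x)
    (hfree : ∀ g ∈ stabPair ⟨P, e⟩, ∀ x ∈ P, x ≠ 1 → g * x * g⁻¹ = x →
      g ∈ Subgroup.centralizer (P : Set G))
    {Q : Subgroup G} (hQ1 : Q ≠ ⊥) {f : Set (IrrCharacter (Subgroup.centralizer (Q : Set G)))}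
    (hle : Relation.ReflTransGen (NormalSubpairRel p M) (⟨Q, f⟩ : BrauerPairIdx G) ⟨P, e⟩) :
    blockRank p f = 1 := by
  have hint : stabPair ⟨P, e⟩ ⊓ Subgroup.centralizer (Q : Set G) ≤
      Subgroup.centralizer (P : Set G) := by
    intro g hg
    obtain ⟨⟨q, hq⟩, hq1'⟩ := Subgroup.ne_bot_iff_exists_ne_one.1 hQ1
    refine hfree g hg.1 q (below_le hle hq) (fun h => hq1' (Subtype.ext h)) ?_
    rw [← Subgroup.mem_centralizer_iff.1 hg.2 q hq, mul_inv_cancel_right]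
  haveI := Fintype.ofFinite (Subgroup.centralizer (Q : Set G))
  obtain ⟨e', hPC, hmax', htriv'⟩ := exists_maximal_local hM.2.2 (a := ⟨Q, f⟩) (c := ⟨P, e⟩)
    hmax hab hint hle
  exact blockRank_eq_one_of_trivial_inertia hM hmax'
    (fun x hx y hy => Subtype.ext (hab _ hx _ hy)) htriv'

/-- A free action is free on every conjugate pair. -/
theorem free_conj {a : BrauerPairIdx G}
    (hfree : ∀ g ∈ stabPair a, ∀ x ∈ a.1, x ≠ 1 → g * x * g⁻¹ = x →
      g ∈ Subgroup.centralizer (a.1 : Set G)) (z : G) :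
    ∀ g ∈ stabPair (conjPair z a), ∀ x ∈ (conjPair z a).1, x ≠ 1 → g * x * g⁻¹ = x →
      g ∈ Subgroup.centralizer (((conjPair z a).1 : Subgroup G) : Set G) := by
  intro g hg x hx hx1 hfix
  obtain ⟨w, hw, rfl⟩ := hx
  have h1 : z⁻¹ * g * z ∈ stabPair a := by
    rw [← conj_mem_stabPair_iff a z]
    simpa [mul_assoc] using hg
  have h2 := hfree _ h1 w hw (fun h => hx1 (by simp [h])) (by
    change g * (z * w * z⁻¹) * g⁻¹ = z * w * z⁻¹ at hfix
    calc z⁻¹ * g * z * w * (z⁻¹ * g * z)⁻¹ = z⁻¹ * (g * (z * w * z⁻¹) * g⁻¹) * z := by group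
      _ = w := by rw [hfix]; group)
  rw [Subgroup.mem_centralizer_iff]
  rintro v ⟨w', hw', rfl⟩
  have h3 := Subgroup.mem_centralizer_iff.1 h2 w' hw'
  show z * w' * z⁻¹ * g = g * (z * w' * z⁻¹)
  calc z * w' * z⁻¹ * g = z * (w' * (z⁻¹ * g * z)) * z⁻¹ := by group
    _ = _ := by rw [h3]; group

/-- **Counting characters for a free inertial action.** -/
theorem card_eq_rank_add_sections (hM : IsPModular p M) (hmax : IsMaximalBrauerPair p M B P e)
    (hab : ∀ x ∈ P, ∀ y ∈ P, x * y = y * x)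
    (hfree : ∀ g ∈ stabPair ⟨P, e⟩, ∀ x ∈ P, x ≠ 1 → g * x * g⁻¹ = x →
      g ∈ Subgroup.centralizer (P : Set G)) :
    ∃ t : ℕ, t * (Subgroup.centralizer (P : Set G)).relIndex (stabPair ⟨P, e⟩) + 1 = Nat.card P ∧
      Nat.card B = blockRank p B + t := by
  classical
  have hpM := hM.2.2
  have hB : IsPBlock M B := hmax.1.2.1
  have hD := isDefectGroup_of_maximal hpM hmax
  have hord : ∀ x ∈ P, ∃ k, orderOf x = p ^ k := fun x hx =>
    BlockOrth.exists_orderOf_of_mem_defectGroup hD hx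
  have hCT : Subgroup.centralizer (P : Set G) ≤ stabPair ⟨P, e⟩ :=
    centralizer_le_stabPair hmax.1.1.2
  let X : Finset G := (Finset.univ.filter fun g : G => ∃ k, orderOf g = p ^ k).image
    fun g => (ConjClasses.mk g).out
  have hout : ∀ g : G, IsConj g (ConjClasses.mk g).out := fun g =>
    ConjClasses.mk_eq_mk_iff_isConj.1 (Quotient.out_eq (ConjClasses.mk g)).symm
  have hX : ∀ x ∈ X, ∃ k, orderOf x = p ^ k := by
    intro x hx
    obtain ⟨g, hg, rfl⟩ := Finset.mem_image.1 hx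
    obtain ⟨c, hc⟩ := isConj_iff.1 (hout g)
    obtain ⟨k, hk⟩ := (Finset.mem_filter.1 hg).2
    exact ⟨k, by rw [← hc, ← hk]; exact (MulAut.conj c).orderOf_eq g⟩
  have hrep : ∀ g : G, (∃ k, orderOf g = p ^ k) → ∃! x, x ∈ X ∧ IsConj g x := by
    intro g hg
    refine ⟨_, ⟨Finset.mem_image.2 ⟨g, Finset.mem_filter.2 ⟨Finset.mem_univ _, hg⟩, rfl⟩, hout g⟩,
      ?_⟩
    rintro x ⟨hx, hgx⟩
    obtain ⟨g', -, rfl⟩ := Finset.mem_image.1 hx
    rw [ConjClasses.mk_eq_mk_iff_isConj.2 (hgx.trans (hout g').symm)]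
  haveI := irrFintype G
  haveI := fun H : Subgroup G => Fintype.ofFinite H
  haveI := fun H : Subgroup G => irrFintype H
  let T : ∀ x : G, Finset (Set (IrrCharacter
      (Subgroup.centralizer ((Subgroup.zpowers x : Subgroup G) : Set G)))) := fun x =>
    Finset.univ.filter fun b => IsInducedBlock M _ b B
  let S := X.sigma T
  have hk : Nat.card B = ∑ s ∈ S, blockRank p s.2 := by
    rw [Finset.sum_sigma, BlockOrth.card_block_eq_sum_ranks hM hB hX hrep]
    refine Finset.sum_congr rfl fun x _ => ?_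
    have key : ∀ H K : Subgroup G, H = K →
        (∑ᶠ b ∈ {b : Set (IrrCharacter H) | IsInducedBlock M H b B}, blockRank p b) =
          ∑ᶠ b ∈ {b : Set (IrrCharacter K) | IsInducedBlock M K b B}, blockRank p b := by
      rintro H K rfl; rfl
    rw [key _ _ (centralizer_zpowers_eq x).symm]
    exact finsum_mem_eq_sum_of_inter_support_eq _ (by ext; simp [T])
  have hmemS : ∀ x ∈ X, ∀ b, IsBrauerPairOf p M B (Subgroup.zpowers x) b →
      (⟨x, b⟩ : Σ x : G, Set (IrrCharacter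
        (Subgroup.centralizer ((Subgroup.zpowers x : Subgroup G) : Set G)))) ∈ S :=
    fun x hx b hb => Finset.mem_sigma.2 ⟨hx, Finset.mem_filter.2 ⟨Finset.mem_univ _,
      isInducedBlock_centralizer_of_pair hpM hb⟩⟩
  have hpairS : ∀ s ∈ S, s.1 ∈ X ∧ IsBrauerPairOf p M B (Subgroup.zpowers s.1) s.2 := fun s hs => by
    obtain ⟨h1, h2⟩ := Finset.mem_sigma.1 hs
    obtain ⟨k, hk'⟩ := hX _ h1
    exact ⟨h1, (isInducedBlock_centralizer_iff hpM (isPGroup_zpowers ⟨k, by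
      rw [← hk']; exact pow_orderOf_eq_one _⟩)).1 (Finset.mem_filter.1 h2).2⟩
  -- one section for each element of `P`
  have hdata : ∀ v : P, ∃ s ∈ S, ∃ g : G, ∃ f, Relation.ReflTransGen (NormalSubpairRel p M)
      (⟨Subgroup.zpowers (v : G), f⟩ : BrauerPairIdx G) ⟨P, e⟩ ∧ g * (v : G) * g⁻¹ = s.1 ∧
      conjPair g ⟨Subgroup.zpowers (v : G), f⟩ = (⟨Subgroup.zpowers s.1, s.2⟩ : BrauerPairIdx G) := by
    intro v
    obtain ⟨x, ⟨hx, hvx⟩, -⟩ := hrep _ (hord _ v.2)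
    obtain ⟨g, hg⟩ := isConj_iff.1 hvx
    obtain ⟨f, hf⟩ := exists_below (b := ⟨P, e⟩) hpM hmax.1.1 (Subgroup.zpowers (v : G))
      (Subgroup.zpowers_le.2 v.2)
    have hpair := isBrauerPairOf_conj (a := ⟨_, f⟩)
      ((isBrauerPairOf_iff_of_below hpM hf B).2 hmax.1) g
    have hfst : (conjPair g ⟨Subgroup.zpowers (v : G), f⟩).1 = Subgroup.zpowers x := by
      show (Subgroup.zpowers (v : G)).map (MulAut.conj g).toMonoidHom = _
      rw [MonoidHom.map_zpowers]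
      exact congrArg Subgroup.zpowers hg
    obtain ⟨b, hb⟩ : ∃ b, conjPair g ⟨Subgroup.zpowers (v : G), f⟩ =
        (⟨Subgroup.zpowers x, b⟩ : BrauerPairIdx G) := by
      generalize conjPair g ⟨Subgroup.zpowers (v : G), f⟩ = a at hfst
      obtain ⟨Q', b⟩ := a
      obtain rfl : Q' = Subgroup.zpowers x := hfst
      exact ⟨b, rfl⟩
    rw [hb] at hpair
    exact ⟨⟨x, b⟩, hmemS x hx b hpair, g, f, hf, hg, hb⟩
  choose Φ hΦS g f hf hgv hgf using hdata
  have huniq : ∀ s ∈ S, ∀ (v : P) (y : G) (b : _), y * (v : G) * y⁻¹ = s.1 →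
      conjPair y (⟨Subgroup.zpowers (v : G), b⟩ : BrauerPairIdx G) = ⟨Subgroup.zpowers s.1, s.2⟩ →
      Relation.ReflTransGen (NormalSubpairRel p M)
        (⟨Subgroup.zpowers (v : G), b⟩ : BrauerPairIdx G) ⟨P, e⟩ → Φ v = s := by
    intro s hs v y b hy hyb hb
    obtain rfl : b = f v := by
      have := below_unique (b := ⟨P, e⟩) hpM hmax.1.1 hb (hf v)
      exact this
    obtain ⟨x, b'⟩ := s
    obtain ⟨x', hx'eq⟩ : ∃ x', Φ v = x' := ⟨_, rfl⟩
    obtain ⟨x₁, b₁⟩ := x'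
    have hgv' := hgv v
    have hgf' := hgf v
    have hS' := hΦS v
    rw [hx'eq] at hgv' hgf' hS' ⊢
    dsimp only at hy hgv' hgf' hyb
    obtain rfl : x₁ = x := by
      obtain ⟨x₂, -, hx₂⟩ := hrep _ (hord _ v.2)
      exact (hx₂ x₁ ⟨(hpairS _ hS').1, isConj_iff.2 ⟨_, hgv'⟩⟩).trans
        (hx₂ x ⟨(hpairS _ hs).1, isConj_iff.2 ⟨_, hy⟩⟩).symm
    have hz : y * (g v)⁻¹ ∈ stabPair (⟨Subgroup.zpowers x₁, b₁⟩ : BrauerPairIdx G) := by
      refine centralizer_le_stabPair (hpairS _ hS').2.1.2 ?_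
      rw [centralizer_zpowers_eq, Subgroup.mem_centralizer_singleton_iff]
      show y * (g v)⁻¹ * x₁ = x₁ * (y * (g v)⁻¹)
      conv_lhs => rw [← hgv']
      conv_rhs => rw [← hy]
      group
    have : conjPair (y * (g v)⁻¹) (⟨Subgroup.zpowers x₁, b₁⟩ : BrauerPairIdx G) =
        ⟨Subgroup.zpowers x₁, b'⟩ := by
      rw [← hgf', conjPair_mul, inv_mul_cancel_right, hyb]
    rw [show conjPair (y * (g v)⁻¹) (⟨Subgroup.zpowers x₁, b₁⟩ : BrauerPairIdx G) =
      ⟨Subgroup.zpowers x₁, b₁⟩ from hz] at this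
    cases this
    rfl
  have hsurj : ∀ s ∈ S, ∃ v, Φ v = s := by
    intro s hs
    obtain ⟨y, hy⟩ := exists_conj_below (a := ⟨_, s.2⟩) (b := ⟨P, e⟩) hpM hmax (hpairS s hs).2
    have hvP : y * s.1 * y⁻¹ ∈ P := below_le hy ⟨s.1, Subgroup.mem_zpowers _, rfl⟩
    have hfst : (conjPair y ⟨Subgroup.zpowers s.1, s.2⟩).1 = Subgroup.zpowers (y * s.1 * y⁻¹) := by
      show (Subgroup.zpowers s.1).map (MulAut.conj y).toMonoidHom = _
      rw [MonoidHom.map_zpowers]
      rfl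
    obtain ⟨b, hb⟩ : ∃ b, conjPair y ⟨Subgroup.zpowers s.1, s.2⟩ =
        (⟨Subgroup.zpowers (y * s.1 * y⁻¹), b⟩ : BrauerPairIdx G) := by
      generalize conjPair y ⟨Subgroup.zpowers s.1, s.2⟩ = a at hfst
      obtain ⟨Q', b⟩ := a
      obtain rfl : Q' = Subgroup.zpowers (y * s.1 * y⁻¹) := hfst
      exact ⟨b, rfl⟩
    refine ⟨⟨_, hvP⟩, huniq s hs ⟨_, hvP⟩ y⁻¹ b (by simp [mul_assoc]) ?_ (hb ▸ hy)⟩
    rw [← hb, conjPair_mul, inv_mul_cancel, conjPair_one]
  have hΦeq : ∀ v w : P, Φ v = Φ w →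
      ∃ h ∈ stabPair ⟨P, e⟩, h * (v : G) * h⁻¹ = w := by
    intro v w hvw
    have hchain : conjPair ((g w)⁻¹ * g v) ⟨Subgroup.zpowers (v : G), f v⟩ =
        (⟨Subgroup.zpowers (w : G), f w⟩ : BrauerPairIdx G) := by
      rw [← conjPair_mul, hgf v, hvw, ← hgf w, conjPair_mul, inv_mul_cancel, conjPair_one]
    have h2 : ((g w)⁻¹ * g v) * (v : G) * ((g w)⁻¹ * g v)⁻¹ = (w : G) := by
      have h3 := hgv v
      rw [hvw, ← hgv w] at h3
      calc ((g w)⁻¹ * g v) * (v : G) * ((g w)⁻¹ * g v)⁻¹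
          = (g w)⁻¹ * (g v * (v : G) * (g v)⁻¹) * g w := by group
        _ = _ := by rw [h3]; group
    have h4 := below_conj (hf v) ((g w)⁻¹ * g v)
    rw [hchain] at h4
    obtain ⟨c, hc, hcs⟩ := exists_centralizer_conj_of_below hpM hmax hab (hf w) h4
    refine ⟨_, hcs, ?_⟩
    have h6 := Subgroup.mem_centralizer_iff.1 hc w (Subgroup.mem_zpowers _)
    calc c * ((g w)⁻¹ * g v) * (v : G) * (c * ((g w)⁻¹ * g v))⁻¹
        = c * ((g w)⁻¹ * g v * (v : G) * ((g w)⁻¹ * g v)⁻¹) * c⁻¹ := by group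
      _ = (w : G) := by rw [h2, ← h6, mul_inv_cancel_right]
  have hΦconv : ∀ v w : P, ∀ h ∈ stabPair ⟨P, e⟩, h * (v : G) * h⁻¹ = w → Φ v = Φ w := by
    intro v w h hh hvw
    have hfst : (conjPair h ⟨Subgroup.zpowers (v : G), f v⟩).1 = Subgroup.zpowers (w : G) := by
      show (Subgroup.zpowers (v : G)).map (MulAut.conj h).toMonoidHom = _
      rw [MonoidHom.map_zpowers]
      exact congrArg Subgroup.zpowers hvw
    obtain ⟨b, hb⟩ : ∃ b, conjPair h ⟨Subgroup.zpowers (v : G), f v⟩ =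
        (⟨Subgroup.zpowers (w : G), b⟩ : BrauerPairIdx G) := by
      generalize conjPair h ⟨Subgroup.zpowers (v : G), f v⟩ = a at hfst
      obtain ⟨Q', b⟩ := a
      obtain rfl : Q' = Subgroup.zpowers (w : G) := hfst
      exact ⟨b, rfl⟩
    have hbw : Relation.ReflTransGen (NormalSubpairRel p M)
        (⟨Subgroup.zpowers (w : G), b⟩ : BrauerPairIdx G) ⟨P, e⟩ := by
      have := below_conj (hf v) h
      rwa [hb, show conjPair h ⟨P, e⟩ = ⟨P, e⟩ from hh] at this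
    refine (huniq _ (hΦS v) w (g v * h⁻¹) b ?_ ?_ hbw).symm
    · rw [← hgv v, ← hvw]; group
    · rw [← hb, conjPair_mul, inv_mul_cancel_right, hgf]
  have hconj1 : ∀ (v : P) (h : G), h * (v : G) * h⁻¹ = ((1 : P) : G) → v = 1 := fun v h hh => by
    refine Subtype.ext ?_
    rw [Subgroup.coe_one] at hh ⊢
    exact conj_eq_one_iff.1 hh
  -- the fibres
  have hfib : ∀ s ∈ S.erase (Φ 1),
      (Finset.univ.filter fun v : P => Φ v = s).card =
        (Subgroup.centralizer (P : Set G)).relIndex (stabPair ⟨P, e⟩) := by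
    intro s hs
    obtain ⟨v, hv⟩ := hsurj s (Finset.mem_erase.1 hs).2
    have hv1 : v ≠ 1 := fun h => (Finset.mem_erase.1 hs).1 (by rw [← hv, h])
    rw [← Fintype.card_subtype, ← Nat.card_eq_fintype_card, Subgroup.relIndex, Subgroup.index]
    have hmem : ∀ h : stabPair ⟨P, e⟩, (h : G) * (v : G) * (h : G)⁻¹ ∈ P := fun h =>
      (Subgroup.mem_normalizer_iff.1 (stabPair_le_normalizer _ h.2) _).1 v.2
    have hkey : ∀ h h' : stabPair ⟨P, e⟩, ((h : G) * (v : G) * (h : G)⁻¹ =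
        (h' : G) * (v : G) * (h' : G)⁻¹) ↔
        h⁻¹ * h' ∈ (Subgroup.centralizer (P : Set G)).subgroupOf (stabPair ⟨P, e⟩) := by
      intro h h'
      rw [Subgroup.mem_subgroupOf]
      push_cast
      constructor
      · intro heq
        refine hfree _ (mul_mem (inv_mem h.2) h'.2) v v.2 (fun h0 => hv1 (Subtype.ext h0)) ?_
        calc (h : G)⁻¹ * h' * (v : G) * ((h : G)⁻¹ * h')⁻¹
            = (h : G)⁻¹ * ((h' : G) * v * (h' : G)⁻¹) * h := by group
          _ = (v : G) := by rw [← heq]; group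
      · intro hc
        have h3 := Subgroup.mem_centralizer_iff.1 hc v v.2
        calc (h : G) * (v : G) * (h : G)⁻¹
            = (h : G) * ((v : G) * ((h : G)⁻¹ * h')) * (h' : G)⁻¹ := by group
          _ = (h' : G) * (v : G) * (h' : G)⁻¹ := by rw [h3]; group
    refine (Nat.card_congr (Equiv.ofBijective
      (Quotient.lift (fun h : stabPair ⟨P, e⟩ =>
        (⟨⟨_, hmem h⟩, ((hΦconv v ⟨_, hmem h⟩ h h.2 rfl).symm).trans hv⟩ : {w : P // Φ w = s}))
        fun h h' hh => Subtype.ext (Subtype.ext ((hkey h h').2 (QuotientGroup.leftRel_apply.1 hh))))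
      ⟨?_, ?_⟩)).symm
    · intro a b
      refine Quotient.inductionOn₂ a b fun h h' hh => ?_
      exact Quotient.sound (QuotientGroup.leftRel_apply.2 ((hkey h h').1
        (congrArg (fun z : {w : P // Φ w = s} => ((z : P) : G)) hh)))
    · rintro ⟨w, hw⟩
      obtain ⟨h, hh, hvw⟩ := hΦeq v w (hv.trans hw.symm)
      exact ⟨Quotient.mk _ ⟨h, hh⟩, Subtype.ext (Subtype.ext hvw)⟩
  have hfib1 : (Finset.univ.filter fun v : P => Φ v = Φ 1).card = 1 := by
    rw [Finset.card_eq_one]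
    refine ⟨1, Finset.eq_singleton_iff_unique_mem.2 ⟨by simp, fun v hv => ?_⟩⟩
    obtain ⟨h, -, hh⟩ := hΦeq v 1 (Finset.mem_filter.1 hv).2
    exact hconj1 v h hh
  have hcardP : Nat.card P = (S.erase (Φ 1)).card *
      (Subgroup.centralizer (P : Set G)).relIndex (stabPair ⟨P, e⟩) + 1 := by
    rw [Nat.card_eq_fintype_card, ← Finset.card_univ,
      Finset.card_eq_sum_card_fiberwise (fun v _ => hΦS v), ← Finset.sum_erase_add S _ (hΦS 1),
      hfib1, Finset.sum_congr rfl hfib, Finset.sum_const, smul_eq_mul]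
  refine ⟨_, hcardP.symm, ?_⟩
  have h11 : (Φ 1).1 = 1 := by
    have := hgv 1
    simpa using this.symm
  have hrank₁ : blockRank p (Φ 1).2 = blockRank p B := by
    have hp₁ := (hpairS _ (hΦS 1)).2
    generalize Φ 1 = s at h11 hp₁ ⊢
    obtain ⟨x, b₁⟩ := s
    obtain rfl : x = 1 := h11
    have htop : Subgroup.centralizer ((Subgroup.zpowers (1 : G) : Subgroup G) : Set G) = ⊤ :=
      eq_top_iff.2 fun x _ => Subgroup.mem_centralizer_iff.2 fun y hy => by
        obtain ⟨i, rfl⟩ := Subgroup.mem_zpowers_iff.1 hy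
        simp
    obtain ⟨B₀, hB₀, hcoef⟩ := exists_block_of_stable_top hpM hp₁.1 fun x =>
      centralizer_le_stabPair hp₁.1.2 (htop ▸ Subgroup.mem_top x)
    rw [(existsUnique_block_of_pair hpM hp₁.1).unique hp₁ hB₀]
    exact blockRank_eq_of_blockCoeff_top htop hp₁.1.2 hB₀.2.1 hcoef
  have hone : ∀ s ∈ S.erase (Φ 1), blockRank p s.2 = 1 := by
    intro s hs
    obtain ⟨hne, hsS⟩ := Finset.mem_erase.1 hs
    obtain ⟨y, hy⟩ := exists_conj_below (a := ⟨_, s.2⟩) (b := ⟨P, e⟩) hpM hmax (hpairS s hsS).2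
    have hy' := below_conj hy y⁻¹
    rw [conjPair_mul, inv_mul_cancel, conjPair_one] at hy'
    have hmax' : IsMaximalBrauerPair p M B (conjPair y⁻¹ ⟨P, e⟩).1 (conjPair y⁻¹ ⟨P, e⟩).2 := by
      refine isMaximal_of_defectGroup hpM ?_ (isBrauerPairOf_conj hmax.1 y⁻¹)
      exact IsDefectGroup.map_conj hD y⁻¹ hB
    refine blockRank_eq_one_of_below_free hM hmax' ?_ (free_conj hfree y⁻¹) (fun h => hne ?_) hy'
    · rintro _ ⟨a, ha, rfl⟩ _ ⟨c, hc, rfl⟩
      rw [← map_mul, ← map_mul, hab a ha c hc]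
    · obtain ⟨v, hv⟩ := hsurj s hsS
      have hs1 : s.1 = 1 := Subgroup.zpowers_eq_bot.1 h
      have h5 := hgv v
      rw [hv, hs1] at h5
      rw [← hv, hconj1 v (g v) (by simpa using h5)]
  rw [hk, ← Finset.add_sum_erase S _ (hΦS 1), hrank₁, Finset.sum_congr rfl hone,
    Finset.sum_const, smul_eq_mul, mul_one]

end CfsgLib.Blocks
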