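import Cfsg.Agent.Lib.Blocks.TwoChars
import Cfsg.Agent.Lib.Blocks.FreeCount
import Cfsg.Agent.Lib.Blocks.DefectOne
import Cfsg.Agent.Lib.Blocks.FreeAction
import Cfsg.Agent.Lib.BlockOrth.DefectOrder

/-!
# Blocks of rank one with at most four characters

The defect group `P` has order `k ≤ 4`, so it is abelian and the inertial quotient acts freely on
it; counting sections gives `k = l + (|P| - 1) / r`, hence `r = 1` and the block is nilpotent.
-/

set_option autoImplicit false
set_option linter.unusedSectionVars false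
set_option linter.style.haveILetI false

namespace CfsgLib.Blocks

open Cfsg Chars

variable {G : Type*} [Group G] [Fintype G] {M : Ideal AlgInt} [M.IsPrime] {p : ℕ} [Fact p.Prime]
  {B : Set (IrrCharacter G)} {P : Subgroup G}
  {e : Set (IrrCharacter (Subgroup.centralizer (P : Set G)))}

/-- An automorphism of a group of order at most four fixing a nonidentity element squares to the
identity. -/
theorem sq_fixes_of_card_le_four (hcard : Nat.card P ≤ 4) {g x : G}
    (hg : g ∈ Subgroup.normalizer (P : Set G)) (hx : x ∈ P) (hx1 : x ≠ 1)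
    (hfix : g * x * g⁻¹ = x) : g * g ∈ Subgroup.centralizer (P : Set G) := by
  classical
  rw [Subgroup.mem_centralizer_iff]
  intro y hy
  rw [SetLike.mem_coe] at hy
  suffices h : g * (g * y * g⁻¹) * g⁻¹ = y by
    calc y * (g * g) = g * (g * y * g⁻¹) * g⁻¹ * (g * g) := by rw [h]
      _ = g * g * y := by group
  have hN := Subgroup.mem_normalizer_iff.1 hg
  set c : G → G := fun z => g * z * g⁻¹ with hc
  show c (c y) = y
  have hinj : Function.Injective c := fun a b h => mul_left_cancel (mul_right_cancel h)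
  have hc1 : c 1 = 1 := by simp [hc]
  have hcx : c x = x := hfix
  have hmem : ∀ z ∈ P, c z ∈ P := fun z hz => (hN z).1 hz
  by_cases h1 : c y = y
  · rw [h1, h1]
  by_contra h2
  have hy1 : y ≠ 1 := fun h => h1 (h ▸ hc1)
  have hyx : y ≠ x := fun h => h1 (h ▸ hcx)
  have hz1 : c y ≠ 1 := fun h => hy1 (hinj (h.trans hc1.symm))
  have hzx : c y ≠ x := fun h => hyx (hinj (h.trans hcx.symm))
  have hw1 : c (c y) ≠ 1 := fun h => hz1 (hinj (h.trans hc1.symm))
  have hwx : c (c y) ≠ x := fun h => hzx (hinj (h.trans hcx.symm))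
  have hwz : c (c y) ≠ c y := fun h => h1 (hinj h)
  have h5 : ({1, x, y, c y, c (c y)} : Finset G).card = 5 := by
    rw [Finset.card_insert_of_notMem, Finset.card_insert_of_notMem,
      Finset.card_insert_of_notMem, Finset.card_insert_of_notMem, Finset.card_singleton] <;>
      simp only [Finset.mem_insert, Finset.mem_singleton, not_or]
    · exact Ne.symm hwz
    · exact ⟨Ne.symm h1, Ne.symm h2⟩
    · exact ⟨Ne.symm hyx, Ne.symm hzx, Ne.symm hwx⟩
    · exact ⟨Ne.symm hx1, Ne.symm hy1, Ne.symm hz1, Ne.symm hw1⟩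
  have hsub : ({1, x, y, c y, c (c y)} : Finset G) ⊆
      Finset.univ.filter (· ∈ P) := by
    intro z hz
    simp only [Finset.mem_insert, Finset.mem_singleton] at hz
    refine Finset.mem_filter.2 ⟨Finset.mem_univ _, ?_⟩
    rcases hz with rfl | rfl | rfl | rfl | rfl
    exacts [P.one_mem, hx, hy, hmem y hy, hmem _ (hmem y hy)]
  have h6 := Finset.card_le_card hsub
  rw [h5, ← Fintype.card_subtype, ← Nat.card_eq_fintype_card] at h6
  have e : Nat.card {z : G // z ∈ P} = Nat.card P := rfl
  omega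

/-- A block with trivial inertial quotient and abelian defect group is nilpotent. -/
theorem nilpotent_of_trivial_inertia (hpM : (p : AlgInt) ∈ M)
    (hmax : IsMaximalBrauerPair p M B P e) (hab : ∀ x ∈ P, ∀ y ∈ P, x * y = y * x)
    (htriv : stabPair ⟨P, e⟩ ≤ Subgroup.centralizer (P : Set G)) : IsNilpotentBlock p M B := by
  refine ⟨hmax.1.2.1, fun Q f hQf x hxN hst _ => ?_⟩
  obtain ⟨y, hy⟩ := exists_conj_below (b := ⟨P, e⟩) (a := ⟨Q, f⟩) hpM hmax hQf
  have hxs : x ∈ stabPair ⟨Q, f⟩ := (mem_stabPair_iff hQf.1.2).2 ⟨hxN, hst⟩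
  have hxs' := (conj_mem_stabPair_iff _ y x).2 hxs
  obtain ⟨d, hd, hdx⟩ := exists_centralizer_conj hpM hmax hab hy hxs'
  have h5 := Subgroup.mul_mem _ (Subgroup.inv_mem _ hd)
    (centralizer_antitone (below_le hy) (htriv hdx))
  rw [inv_mul_cancel_left] at h5
  exact (centralizer_conj_iff Q y x).1 h5

/-- A commutative group of order at most four. -/
theorem comm_of_card_le_four (hP : IsPGroup p P) (hcard : Nat.card P ≤ 4) :
    ∀ x ∈ P, ∀ y ∈ P, x * y = y * x := by
  obtain ⟨n, hn⟩ := IsPGroup.iff_card.1 hP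
  have hp := (Fact.out : p.Prime)
  have hn2 : n ≤ 2 := by
    by_contra h
    have : 2 ^ 3 ≤ p ^ n :=
      (Nat.pow_le_pow_left hp.two_le 3).trans (Nat.pow_le_pow_right hp.pos (by omega))
    omega
  intro x hx y hy
  have key : ∀ a b : P, a * b = b * a := by
    interval_cases n
    · haveI : Subsingleton P := (Nat.card_eq_one_iff_unique.1 (by simpa using hn)).1
      exact fun a b => Subsingleton.elim _ _
    · haveI : IsCyclic P := isCyclic_of_prime_card (p := p) (by simpa using hn)
      exact IsCyclic.commGroup.mul_comm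
    · exact (IsPGroup.commGroupOfCardEqPrimeSq hn).mul_comm
  exact congrArg Subtype.val (key ⟨x, hx⟩ ⟨y, hy⟩)

/-- **Blocks of rank one with at most four characters are nilpotent.** -/
theorem nilpotent_of_rank_one_card_le_four (hM : IsPModular p M)
    (hmax : IsMaximalBrauerPair p M B P e) (hl : blockRank p B = 1) (hk : Nat.card B ≤ 4) :
    IsNilpotentBlock p M B ∧ Nat.card P = Nat.card B := by
  have hpM := hM.2.2
  have hD := isDefectGroup_of_maximal hpM hmax
  have hcard : Nat.card P = Nat.card B := by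
    rw [card_block_eq_pow_defect hpM hmax.1.2.1 hl (Or.inl hk),
      BlockOrth.card_defectGroup hpM hmax.1.2.1 hD]
  refine ⟨?_, hcard⟩
  have h4 : Nat.card P ≤ 4 := hcard ▸ hk
  have hab := comm_of_card_le_four hmax.1.1.1 h4
  obtain ⟨r, hr⟩ : ∃ r, r = (Subgroup.centralizer (P : Set G)).relIndex (stabPair ⟨P, e⟩) :=
    ⟨_, rfl⟩
  have hcop : ¬ p ∣ r := hr ▸ not_dvd_index_centralizer_stab hpM hmax hab
  have hCT : Subgroup.centralizer (P : Set G) ≤ stabPair ⟨P, e⟩ :=
    centralizer_le_stabPair hmax.1.1.2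
  haveI : ((Subgroup.centralizer (P : Set G)).subgroupOf (stabPair ⟨P, e⟩)).Normal :=
    (Subgroup.normal_subgroupOf_iff_le_normalizer hCT).2
      fun g hg => mem_normalizer_centralizer (stabPair_le_normalizer _ hg)
  have hfree : ∀ g ∈ stabPair ⟨P, e⟩, ∀ x ∈ P, x ≠ 1 → g * x * g⁻¹ = x →
      g ∈ Subgroup.centralizer (P : Set G) := by
    intro g hg x hx hx1 hfix
    by_cases hprime : Nat.card P = p
    · exact free_of_prime hprime hx hx1 hfix
    obtain ⟨n, hn⟩ := IsPGroup.iff_card.1 hmax.1.1.1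
    have hp := (Fact.out : p.Prime)
    have hn2 : 2 ≤ n := by
      by_contra hlt
      interval_cases n
      · rw [pow_zero] at hn
        haveI := (Nat.card_eq_one_iff_unique.1 hn).1
        exact hx1 (congrArg Subtype.val (Subsingleton.elim (⟨x, hx⟩ : P) 1))
      · exact hprime (by simpa using hn)
    have hp2 : p = 2 := by
      by_contra hne
      have h3 : 3 ≤ p := by have := hp.two_le; omega
      have : 3 ^ 2 ≤ p ^ n :=
        (Nat.pow_le_pow_left h3 2).trans (Nat.pow_le_pow_right hp.pos hn2)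
      omega
    have hsq2 := sq_fixes_of_card_le_four h4 (stabPair_le_normalizer _ hg) hx hx1 hfix
    have hpow : g ^ r ∈ Subgroup.centralizer (P : Set G) := by
      have h := Subgroup.pow_index_mem ((Subgroup.centralizer (P : Set G)).subgroupOf
        (stabPair ⟨P, e⟩)) ⟨g, hg⟩
      rw [Subgroup.mem_subgroupOf, SubmonoidClass.coe_pow] at h
      rwa [hr]
    obtain ⟨m, hm⟩ : ∃ m, r = 2 * m + 1 := ⟨r / 2, by rw [hp2] at hcop; omega⟩
    rw [hm, pow_succ, pow_mul, sq] at hpow
    have := Subgroup.mul_mem _ (Subgroup.inv_mem _ (Subgroup.pow_mem _ hsq2 m)) hpow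
    rwa [inv_mul_cancel_left] at this
  obtain ⟨t, ht, hkt⟩ := card_eq_rank_add_sections hM hmax hab hfree
  rw [← hr] at ht
  refine nilpotent_of_trivial_inertia hpM hmax hab ?_
  rcases Nat.eq_zero_or_pos t with h0 | hpos
  · -- the defect group is trivial
    have hP1 : P = ⊥ := Subgroup.card_eq_one.1 (by rw [h0, zero_mul] at ht; omega)
    intro g _
    rw [Subgroup.mem_centralizer_iff]
    intro z hz
    rw [SetLike.mem_coe, hP1, Subgroup.mem_bot] at hz
    rw [hz, one_mul, mul_one]
  refine Subgroup.relIndex_eq_one.1 ?_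
  rw [← hr]
  refine Nat.eq_of_mul_eq_mul_left hpos ?_
  omega

end CfsgLib.Blocks
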