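import Cfsg.Agent.Lib.Blocks.FreeCount
import Cfsg.Agent.Lib.Blocks.SmallRankOne
import Mathlib.GroupTheory.SpecificGroups.Cyclic
import Mathlib.NumberTheory.Basic
import Mathlib.RingTheory.ZMod.UnitsCyclic

/-!
# The pair at the subgroup of order `p` of a cyclic defect group
-/

set_option autoImplicit false
set_option linter.unusedSectionVars false
set_option linter.style.haveILetI false

namespace CfsgLib.Blocks

open Cfsg Chars

variable {G : Type*} [Group G] [Fintype G] {M : Ideal AlgInt} [M.IsPrime] {p : ℕ} [Fact p.Prime]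
  {B : Set (IrrCharacter G)} {P : Subgroup G}
  {c : Set (IrrCharacter (Subgroup.centralizer (P : Set G)))} {Z : Subgroup G}
  {fZ : Set (IrrCharacter (Subgroup.centralizer (Z : Set G)))}

/-- A maximal pair on a cyclic group and the pair below it at the subgroup of order `p`. -/
structure CycLocal (p : ℕ) [Fact p.Prime] (M : Ideal AlgInt) (B : Set (IrrCharacter G))
    (P : Subgroup G) (c : Set (IrrCharacter (Subgroup.centralizer (P : Set G)))) (Z : Subgroup G)
    (fZ : Set (IrrCharacter (Subgroup.centralizer (Z : Set G)))) : Prop where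
  hM : IsPModular p M
  hmax : IsMaximalBrauerPair p M B P c
  hcyc : IsCyclic P
  hZP : Z ≤ P
  hcardZ : Nat.card Z = p
  hbelow : Relation.ReflTransGen (NormalSubpairRel p M) (⟨Z, fZ⟩ : BrauerPairIdx G) ⟨P, c⟩

theorem exists_cycLocal (hM : IsPModular p M) (hmax : IsMaximalBrauerPair p M B P c)
    (hcyc : IsCyclic P) (hP : P ≠ ⊥) : ∃ Z fZ, CycLocal p M B P c Z fZ := by
  have hp : p.Prime := Fact.out
  obtain ⟨j, hj⟩ := IsPGroup.iff_card.1 hmax.1.1.1
  have hdvd : p ∣ Nat.card P := by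
    rcases j with _ | j
    · exact absurd (Subgroup.card_eq_one.1 (by simpa using hj)) hP
    · rw [hj]; exact dvd_pow_self p (Nat.succ_ne_zero j)
  obtain ⟨z, hz⟩ := exists_prime_orderOf_dvd_card' (G := P) p hdvd
  have hle : Subgroup.zpowers (z : G) ≤ P := Subgroup.zpowers_le.2 z.2
  obtain ⟨fZ, hfZ⟩ := exists_below (b := ⟨P, c⟩) hM.2.2 hmax.1.1 (Subgroup.zpowers (z : G)) hle
  exact ⟨_, fZ, hM, hmax, hcyc, hle, by rw [Nat.card_zpowers, Subgroup.orderOf_coe, hz], hfZ⟩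

namespace CycLocal

variable (L : CycLocal p M B P c Z fZ)
include L

theorem hab : ∀ x ∈ P, ∀ y ∈ P, x * y = y * x := fun x hx y hy => by
  haveI := L.hcyc
  exact congrArg Subtype.val ((IsCyclic.commGroup (α := P)).mul_comm ⟨x, hx⟩ ⟨y, hy⟩)

theorem pblock : IsPBlock M fZ := (below_isBrauerPair L.hbelow L.hmax.1.1).2

theorem Z_ne_bot : Z ≠ ⊥ := fun h => by
  have := L.hcardZ
  rw [h, Subgroup.card_bot] at this
  exact (Fact.out : p.Prime).ne_one this.symm

theorem le_of_ne_bot {R : Subgroup G} (hR : R ≤ P) (hR0 : R ≠ ⊥) : Z ≤ R := by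
  classical
  have hp : p.Prime := Fact.out
  haveI := L.hcyc
  haveI := Fintype.ofFinite P
  obtain ⟨j, hj⟩ := IsPGroup.iff_card.1 (L.hmax.1.1.1.to_le hR)
  have hj0 : j ≠ 0 := fun h => hR0 (Subgroup.card_eq_one.1 (by rw [hj, h, pow_zero]))
  obtain ⟨r, hr⟩ := exists_prime_orderOf_dvd_card' (G := R) p (hj ▸ dvd_pow_self p hj0)
  have hrp : (⟨(r : G), hR r.2⟩ : P) ^ p = 1 := Subtype.ext (by
    show (r : G) ^ p = 1
    rw [← hr, ← Subgroup.orderOf_coe r]
    exact pow_orderOf_eq_one _)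
  have hsub : (Finset.univ.filter fun z : P => (z : G) ∈ Z) ⊆
      Finset.univ.filter fun z : P => z ^ p = 1 := fun z hz => by
    refine Finset.mem_filter.2 ⟨Finset.mem_univ _, Subtype.ext ?_⟩
    have h := pow_card_eq_one' (x := (⟨(z : G), (Finset.mem_filter.1 hz).2⟩ : Z))
    rw [L.hcardZ] at h
    simpa using congrArg (fun y : Z => (y : G)) h
  have hle := IsCyclic.card_pow_eq_one_le (α := P) hp.pos
  have hcard : (Finset.univ.filter fun z : P => (z : G) ∈ Z).card = p := by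
    rw [← Fintype.card_subtype, ← Nat.card_eq_fintype_card, ← L.hcardZ]
    exact Nat.card_congr (Subgroup.subgroupOfEquivOfLe L.hZP).toEquiv
  have heq := Finset.eq_of_subset_of_card_le hsub (by rw [hcard]; exact hle)
  have hrZ : (r : G) ∈ Z := by
    have : (⟨(r : G), hR r.2⟩ : P) ∈ Finset.univ.filter fun z : P => z ^ p = 1 :=
      Finset.mem_filter.2 ⟨Finset.mem_univ _, hrp⟩
    rw [← heq] at this
    exact (Finset.mem_filter.1 this).2
  have hzp : Subgroup.zpowers (r : G) = Z := Subgroup.eq_of_le_of_card_ge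
    (Subgroup.zpowers_le.2 hrZ)
    (by rw [L.hcardZ, Nat.card_zpowers, Subgroup.orderOf_coe, hr])
  rw [← hzp]
  exact Subgroup.zpowers_le.2 r.2

theorem le_zpowers {x : G} (hx : x ∈ P) (hx1 : x ≠ 1) : Z ≤ Subgroup.zpowers x :=
  L.le_of_ne_bot (Subgroup.zpowers_le.2 hx) (fun h => hx1 (Subgroup.zpowers_eq_bot.1 h))

/-- The normalizer of the defect group normalizes `Z`. -/
theorem normalizer_le : Subgroup.normalizer (P : Set G) ≤ Subgroup.normalizer (Z : Set G) := by
  intro g hg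
  have hmap : Z.map (MulAut.conj g).toMonoidHom ≤ P := by
    rintro _ ⟨z, hz, rfl⟩
    exact (Subgroup.mem_normalizer_iff.1 hg z).1 (L.hZP hz)
  have hle := L.le_of_ne_bot hmap fun h => L.Z_ne_bot
    ((Subgroup.map_eq_bot_iff_of_injective _ (MulAut.conj g).injective).1 h)
  have heq := Subgroup.eq_of_le_of_card_ge hle (le_of_eq (Base.card_map_conj g Z))
  refine Subgroup.mem_normalizer_iff.2 fun z => ⟨fun hz => ?_, fun hz => ?_⟩
  · rw [heq]; exact ⟨z, hz, rfl⟩
  · rw [heq] at hz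
    obtain ⟨z', hz', he⟩ := hz
    change g * z' * g⁻¹ = g * z * g⁻¹ at he
    rwa [← mul_left_cancel (mul_right_cancel he)]

/-- An element of the inertial group fixing a nontrivial element of `P` centralizes `P`. -/
theorem hfree : ∀ g ∈ stabPair ⟨P, c⟩, ∀ x ∈ P, x ≠ 1 → g * x * g⁻¹ = x →
    g ∈ Subgroup.centralizer (P : Set G) := by
  intro g hg x hx hx1 hfix
  have hp : p.Prime := Fact.out
  haveI := L.hcyc
  obtain ⟨⟨u, hu⟩, hgen⟩ := IsCyclic.exists_generator (α := P)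
  have hgen' : ∀ v ∈ P, ∃ j : ℤ, u ^ j = v := fun v hv => by
    obtain ⟨j, hj⟩ := Subgroup.mem_zpowers_iff.1 (hgen ⟨v, hv⟩)
    exact ⟨j, congrArg Subtype.val hj⟩
  obtain ⟨z, hz, hz1⟩ : ∃ z ∈ Z, z ≠ 1 := (Subgroup.bot_or_exists_ne_one Z).resolve_left L.Z_ne_bot
  have hgz : g * z * g⁻¹ = z := by
    obtain ⟨j, hj⟩ := Subgroup.mem_zpowers_iff.1 (L.le_zpowers hx hx1 hz)
    rw [← hj, show g * x ^ j * g⁻¹ = MulAut.conj g (x ^ j) from rfl, map_zpow, MulAut.conj_apply,
      hfix]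
  obtain ⟨m, hm⟩ := hgen' _ ((Subgroup.mem_normalizer_iff.1 (stabPair_le_normalizer _ hg) u).1 hu)
  have hpow : ∀ i : ℕ, g ^ i * u * (g ^ i)⁻¹ = u ^ m ^ i := by
    intro i
    induction i with
    | zero => simp
    | succ i ih =>
      rw [pow_succ' g, show g * g ^ i * u * (g * g ^ i)⁻¹ = MulAut.conj g (g ^ i * u * (g ^ i)⁻¹) by
        simp [mul_assoc], ih, map_zpow, MulAut.conj_apply, ← hm, ← zpow_mul, pow_succ' m]
  obtain ⟨a, ha⟩ := exists_pow_orderOf_of_mem L.hmax.1.1.1 hu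
  -- `m` is congruent to one modulo `p`
  have hm1 : (p : ℤ) ∣ m - 1 := by
    obtain ⟨j, hj⟩ := hgen' z (L.hZP hz)
    have h1 : g * u ^ j * g⁻¹ = u ^ (m * j) := by
      rw [show g * u ^ j * g⁻¹ = MulAut.conj g (u ^ j) from rfl, map_zpow, MulAut.conj_apply, ← hm,
        ← zpow_mul]
    rw [hj, hgz, mul_comm, zpow_mul, hj] at h1
    have hoz : (orderOf z : ℤ) ∣ m - 1 := by
      refine orderOf_dvd_iff_zpow_eq_one.2 ?_
      rw [zpow_sub, zpow_one, ← h1, mul_inv_cancel]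
    have hzp : orderOf z = p := by
      refine orderOf_eq_prime ?_ hz1
      have h := pow_card_eq_one' (x := (⟨z, hz⟩ : Z))
      rw [L.hcardZ] at h
      exact congrArg Subtype.val h
    rwa [hzp] at hoz
  -- hence `u` is fixed
  obtain ⟨n, hn, hnp⟩ : ∃ n, g ^ n ∈ Subgroup.centralizer (P : Set G) ∧ ¬ p ∣ n := by
    have hCT := centralizer_le_stabPair (Q := P) (f := c) L.hmax.1.1.2
    haveI : ((Subgroup.centralizer (P : Set G)).subgroupOf (stabPair ⟨P, c⟩)).Normal :=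
      (Subgroup.normal_subgroupOf_iff_le_normalizer hCT).2 fun v hv =>
        mem_normalizer_centralizer (stabPair_le_normalizer _ hv)
    exact ⟨_, Subgroup.mem_subgroupOf.1 (((Subgroup.centralizer (P : Set G)).subgroupOf
      (stabPair ⟨P, c⟩)).pow_index_mem ⟨g, hg⟩),
      not_dvd_index_centralizer_stab L.hM.2.2 L.hmax L.hab⟩
  have hun : u ^ (m ^ n - 1) = 1 := by
    have h1 := hpow n
    rw [← Subgroup.mem_centralizer_iff.1 hn u hu, mul_inv_cancel_right] at h1
    rw [zpow_sub, zpow_one, ← h1, mul_inv_cancel]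
  have hup : u ^ (m ^ p ^ a - 1) = 1 := by
    refine orderOf_dvd_iff_zpow_eq_one.1 ?_
    rw [ha]
    have h := dvd_sub_pow_of_dvd_sub (R := ℤ) (p := p) (a := m) (b := 1) hm1 a
    rw [one_pow] at h
    push_cast
    exact (pow_dvd_pow _ (Nat.le_succ a)).trans h
  have hu1 : u ^ (m - 1) = 1 := by
    refine orderOf_dvd_iff_zpow_eq_one.1 ?_
    rw [← ZMod.intCast_zmod_eq_zero_iff_dvd]
    have e1 : ((m : ZMod (orderOf u))) ^ n = 1 := by
      rw [← sub_eq_zero]
      exact_mod_cast (ZMod.intCast_zmod_eq_zero_iff_dvd _ _).2 (orderOf_dvd_iff_zpow_eq_one.2 hun)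
    have e2 : ((m : ZMod (orderOf u))) ^ (p ^ a) = 1 := by
      rw [← sub_eq_zero]
      exact_mod_cast (ZMod.intCast_zmod_eq_zero_iff_dvd _ _).2 (orderOf_dvd_iff_zpow_eq_one.2 hup)
    have e3 := pow_gcd_eq_one.2 ⟨e1, e2⟩
    rw [Nat.Coprime.gcd_eq_one (Nat.Coprime.pow_right a
      (Nat.coprime_comm.1 (hp.coprime_iff_not_dvd.2 hnp))), pow_one] at e3
    push_cast
    rw [e3, sub_self]
  rw [Subgroup.mem_centralizer_iff]
  intro v hv
  obtain ⟨j, rfl⟩ := hgen' v hv
  have hgu : g * u = u * g := by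
    have : g * u * g⁻¹ = u := by
      rw [← hm]
      rw [zpow_sub, zpow_one, mul_inv_eq_one] at hu1
      exact hu1
    rwa [mul_inv_eq_iff_eq_mul] at this
  exact (Commute.zpow_right (show Commute g u from hgu) j).eq.symm

theorem stab_le : stabPair ⟨P, c⟩ ≤ stabPair ⟨Z, fZ⟩ := fun g hg =>
  inf_normalizer_le_stabPair L.hM.2.2 L.hmax.1.1 L.hbelow
    ⟨hg, L.normalizer_le (stabPair_le_normalizer _ hg)⟩

/-- The inertial index may be computed at `Z`. -/
theorem relIndex_eq : (Subgroup.centralizer (Z : Set G)).relIndex (stabPair ⟨Z, fZ⟩) =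
    (Subgroup.centralizer (P : Set G)).relIndex (stabPair ⟨P, c⟩) := by
  have hH := stabPair_le_normalizer (⟨Z, fZ⟩ : BrauerPairIdx G)
  have key : ∀ K : Subgroup G, K ≤ Subgroup.normalizer (Z : Set G) →
      (Subgroup.centralizer (Z : Set G)).relIndex K =
        Nat.card ((K.subgroupOf (Subgroup.normalizer (Z : Set G))).map Z.normalizerMonoidHom) :=
    fun K hK => by
    rw [← Subgroup.relIndex_subgroupOf hK, ← Subgroup.normalizerMonoidHom_ker,
      Subgroup.relIndex_ker]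
  have hmid : (Subgroup.centralizer (P : Set G)).relIndex (stabPair ⟨P, c⟩) =
      (Subgroup.centralizer (Z : Set G)).relIndex (stabPair ⟨P, c⟩) := by
    rw [← Subgroup.inf_relIndex_right (Subgroup.centralizer (Z : Set G))]
    congr 1
    refine le_antisymm (le_inf (centralizer_antitone L.hZP)
      (centralizer_le_stabPair L.hmax.1.1.2)) fun g hg => ?_
    obtain ⟨z, hz, hz1⟩ : ∃ z ∈ Z, z ≠ 1 :=
      (Subgroup.bot_or_exists_ne_one Z).resolve_left L.Z_ne_bot
    refine L.hfree g hg.2 z (L.hZP hz) hz1 ?_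
    rw [← Subgroup.mem_centralizer_iff.1 hg.1 z hz, mul_inv_cancel_right]
  rw [hmid, key _ hH, key _ (L.stab_le.trans hH)]
  congr 2
  refine le_antisymm ?_ (Subgroup.map_mono fun g hg => L.stab_le hg)
  rintro _ ⟨g, hg, rfl⟩
  obtain ⟨d, hd, hdg⟩ := exists_centralizer_conj L.hM.2.2 L.hmax L.hab L.hbelow hg
  refine ⟨⟨d * g, mul_mem (centralizer_le_normalizer' Z hd) g.2⟩, hdg, ?_⟩
  rw [show (⟨d * g, mul_mem (centralizer_le_normalizer' Z hd) g.2⟩ :
      Subgroup.normalizer (Z : Set G)) = ⟨d, centralizer_le_normalizer' Z hd⟩ * g from rfl, map_mul,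
    show Z.normalizerMonoidHom ⟨d, centralizer_le_normalizer' Z hd⟩ = 1 from ?_, one_mul]
  rw [← MonoidHom.mem_ker, Subgroup.normalizerMonoidHom_ker, Subgroup.mem_subgroupOf]
  exact hd

/-- The stabilizer at `Z` is cyclic over the centralizer. -/
theorem exists_cyclic_gen : ∃ t ∈ stabPair ⟨Z, fZ⟩,
    (∀ h ∈ stabPair ⟨Z, fZ⟩, ∃ i : ℕ, i < (Subgroup.centralizer (Z : Set G)).relIndex
        (stabPair ⟨Z, fZ⟩) ∧ (t ^ i)⁻¹ * h ∈ Subgroup.centralizer (Z : Set G)) ∧
    (∀ i : ℕ, t ^ i ∈ Subgroup.centralizer (Z : Set G) ↔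
      (Subgroup.centralizer (Z : Set G)).relIndex (stabPair ⟨Z, fZ⟩) ∣ i) ∧
    (Subgroup.centralizer (Z : Set G)).relIndex (stabPair ⟨Z, fZ⟩) ∣ p - 1 := by
  have hp : p.Prime := Fact.out
  have hH := stabPair_le_normalizer (⟨Z, fZ⟩ : BrauerPairIdx G)
  haveI : IsCyclic Z := isCyclic_of_prime_card (p := p) L.hcardZ
  haveI : IsCyclic (ZMod (Nat.card Z))ˣ := by
    rw [L.hcardZ]; exact ZMod.isCyclic_units_prime hp
  haveI : IsCyclic (MulAut Z) :=
    isCyclic_of_surjective (IsCyclic.mulAutMulEquiv Z).symm.toMonoidHom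
      (IsCyclic.mulAutMulEquiv Z).symm.surjective
  set φ : stabPair ⟨Z, fZ⟩ →* MulAut Z := Z.normalizerMonoidHom.comp (Subgroup.inclusion hH) with hφ
  have hker : ∀ h : stabPair ⟨Z, fZ⟩,
      φ h = 1 ↔ (h : G) ∈ Subgroup.centralizer (Z : Set G) := fun h => by
    rw [hφ, MonoidHom.comp_apply, ← MonoidHom.mem_ker, Subgroup.normalizerMonoidHom_ker,
      Subgroup.mem_subgroupOf]
    rfl
  set e := (Subgroup.centralizer (Z : Set G)).relIndex (stabPair ⟨Z, fZ⟩) with he
  have hke : Nat.card φ.range = e := by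
    rw [← Subgroup.index_ker φ, he, Subgroup.relIndex]
    congr 1
    ext h
    rw [MonoidHom.mem_ker, hker, Subgroup.mem_subgroupOf]
  obtain ⟨⟨s, t, rfl⟩, hs⟩ := IsCyclic.exists_generator (α := φ.range)
  have hord : orderOf (φ t) = e := by
    rw [← hke, ← orderOf_eq_card_of_forall_mem_zpowers hs]
    exact (Subgroup.orderOf_mk _ _).symm
  refine ⟨(t : G), t.2, fun h hh => ?_, fun i => ?_, ?_⟩
  · obtain ⟨i, hi⟩ := (isOfFinOrder_of_finite _).mem_powers_iff_mem_zpowers.2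
      (hs ⟨φ ⟨h, hh⟩, ⟨_, rfl⟩⟩)
    have hi' : φ t ^ i = φ ⟨h, hh⟩ := congrArg Subtype.val hi
    refine ⟨i % e, Nat.mod_lt _ (hord ▸ orderOf_pos _), ?_⟩
    have h2 := (hker ((t ^ (i % e))⁻¹ * ⟨h, hh⟩)).1 (by
      rw [map_mul, map_inv, map_pow, ← hord, pow_mod_orderOf, hi', inv_mul_cancel])
    simpa using h2
  · rw [← hord, orderOf_dvd_iff_pow_eq_one, ← map_pow, hker]
    simp
  · rw [← hke]
    refine (Subgroup.card_subgroup_dvd_card φ.range).trans (dvd_of_eq ?_)
    rw [Nat.card_congr (IsCyclic.mulAutMulEquiv Z).toEquiv, L.hcardZ, Nat.card_eq_fintype_card,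
      ZMod.card_units]

theorem relIndex_dvd :
    (Subgroup.centralizer (P : Set G)).relIndex (stabPair ⟨P, c⟩) ∣ p - 1 := by
  obtain ⟨t, -, -, -, h⟩ := L.exists_cyclic_gen
  rwa [L.relIndex_eq] at h

/-- The block at `Z` is nilpotent, of defect group `P`. -/
theorem local_block : ∃ e' : Set (IrrCharacter (Subgroup.centralizer
      (P.subgroupOf (Subgroup.centralizer (Z : Set G)) : Set (Subgroup.centralizer (Z : Set G))))),
    P ≤ Subgroup.centralizer (Z : Set G) ∧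
    (∀ [Fintype (Subgroup.centralizer (Z : Set G))],
      IsMaximalBrauerPair p M fZ (P.subgroupOf (Subgroup.centralizer (Z : Set G))) e' ∧
      IsNilpotentBlock p M fZ ∧
      IsDefectGroup p M fZ (P.subgroupOf (Subgroup.centralizer (Z : Set G))) ∧
      blockRank p fZ = 1) := by
  haveI hft := Fintype.ofFinite (Subgroup.centralizer (Z : Set G))
  have hint : stabPair ⟨P, c⟩ ⊓ Subgroup.centralizer (Z : Set G) ≤
      Subgroup.centralizer (P : Set G) := by
    intro g hg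
    obtain ⟨z, hz, hz1⟩ : ∃ z ∈ Z, z ≠ 1 :=
      (Subgroup.bot_or_exists_ne_one Z).resolve_left L.Z_ne_bot
    refine L.hfree g hg.1 z (L.hZP hz) hz1 ?_
    rw [← Subgroup.mem_centralizer_iff.1 hg.2 z hz, mul_inv_cancel_right]
  obtain ⟨e', hPC, hmax', htriv⟩ :=
    exists_maximal_local (a := ⟨Z, fZ⟩) (c := ⟨P, c⟩) L.hM.2.2 L.hmax L.hab hint L.hbelow
  have hab' : ∀ x ∈ P.subgroupOf (Subgroup.centralizer (Z : Set G)),
      ∀ y ∈ P.subgroupOf (Subgroup.centralizer (Z : Set G)), x * y = y * x :=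
    fun x hx y hy => Subtype.ext (L.hab _ hx _ hy)
  refine ⟨e', hPC, fun {inst} => ?_⟩
  obtain rfl : inst = hft := Subsingleton.elim _ _
  exact ⟨hmax', nilpotent_of_trivial_inertia L.hM.2.2 hmax' hab' htriv,
    isDefectGroup_of_maximal L.hM.2.2 hmax',
    blockRank_eq_one_of_trivial_inertia L.hM hmax' hab' htriv⟩

end CycLocal

end CfsgLib.Blocks
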