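import Cfsg.Agent.Lib.Blocks.RankOneAlgebra
import Cfsg.Agent.Lib.Blocks.BrauerHom

/-!
# Traces of maps and corners with a cyclic radical

The data of a local corner `f k[H] f` which is a twisted group ring of a cyclic group over a
truncated polynomial algebra, and the two facts about it used to count simple modules: a trace
sends socle vectors of the corner into the projective part, and the elements of `k[G]` killed by
the radical lie in the socle.
-/

set_option autoImplicit false
set_option linter.unusedSectionVars false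
set_option linter.style.haveILetI false

namespace CfsgLib.Blocks

open Cfsg Chars Modular Module

variable {k G V W : Type*} [Field k] [Group G] [Fintype G] [AddCommGroup V] [Module k V]
  [AddCommGroup W] [Module k W]

/-- A left factor supported on the subgroup leaves `cut`. -/
theorem cut_mul_left (C : Subgroup G) {c : MonoidAlgebra k G} (hc : cut (C : Set G) c = c)
    (a : MonoidAlgebra k G) : cut (C : Set G) (c * a) = c * cut (C : Set G) a := by
  classical
  apply MonoidAlgebra.ext
  ext g
  rw [coeff_cut, coeff_mul_eq_sum, coeff_mul_eq_sum]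
  split_ifs with hg
  · refine Finset.sum_congr rfl fun y _ => ?_
    by_cases hy : y ∈ C
    · rw [coeff_cut_of_mem a (show y⁻¹ * g ∈ (C : Set G) from C.mul_mem (C.inv_mem hy) hg)]
    · rw [cut_eq_self_iff.1 hc y hy, zero_mul, zero_mul]
  · refine (Finset.sum_eq_zero fun y _ => ?_).symm
    by_cases hy : y ∈ C
    · rw [coeff_cut_of_notMem a (show y⁻¹ * g ∉ (C : Set G) from fun h => hg (by
        simpa using C.mul_mem hy h)), mul_zero]
    · rw [cut_eq_self_iff.1 hc y hy, zero_mul]

/-- A right factor supported on the subgroup leaves `cut`. -/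
theorem cut_mul_right (C : Subgroup G) {c : MonoidAlgebra k G} (hc : cut (C : Set G) c = c)
    (a : MonoidAlgebra k G) : cut (C : Set G) (a * c) = cut (C : Set G) a * c := by
  classical
  apply MonoidAlgebra.ext
  ext g
  rw [coeff_cut, coeff_mul_eq_sum, coeff_mul_eq_sum]
  split_ifs with hg
  · refine Finset.sum_congr rfl fun y _ => ?_
    by_cases hy : y ∈ C
    · rw [coeff_cut_of_mem a (show y ∈ (C : Set G) from hy)]
    · rw [cut_eq_self_iff.1 hc (y⁻¹ * g) (fun h => hy (by
        have := C.mul_mem hg (C.inv_mem h)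
        simpa using this)), mul_zero, mul_zero]
  · refine (Finset.sum_eq_zero fun y _ => ?_).symm
    by_cases hy : y ∈ C
    · rw [cut_eq_self_iff.1 hc (y⁻¹ * g) (fun h => hg (by simpa using C.mul_mem hy h)), mul_zero]
    · rw [coeff_cut_of_notMem a hy, zero_mul]

theorem cut_prod {C : Subgroup G} {a b : MonoidAlgebra k G} (ha : cut (C : Set G) a = a)
    (hb : cut (C : Set G) b = b) : cut (C : Set G) (a * b) = a * b := by
  rw [cut_mul_left C ha, hb]

theorem cut_pow_sub {C : Subgroup G} {a : MonoidAlgebra k G} (ha : cut (C : Set G) a = a) (i : ℕ) :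
    cut (C : Set G) (a ^ i) = a ^ i := by
  induction i with
  | zero => rw [pow_zero, cut_one]
  | succ i ih => rw [pow_succ, cut_prod ih ha]

open scoped Classical in
/-- The trace over a subgroup of a linear map between two representations. -/
noncomputable def trHom (K : Subgroup G) (σ : Representation k G V) (τ : Representation k G W)
    (θ : V →ₗ[k] W) : V →ₗ[k] W :=
  ∑ g ∈ Finset.univ.filter (· ∈ K), τ g ∘ₗ θ ∘ₗ σ g⁻¹

open scoped Classical in
theorem trHom_apply (K : Subgroup G) (σ : Representation k G V) (τ : Representation k G W)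
    (θ : V →ₗ[k] W) (v : V) :
    trHom K σ τ θ v = ∑ g ∈ Finset.univ.filter (· ∈ K), τ g (θ (σ g⁻¹ v)) := by
  simp [trHom, LinearMap.sum_apply]

theorem trHom_comm (K : Subgroup G) (σ : Representation k G V) (τ : Representation k G W)
    (θ : V →ₗ[k] W) {h : G} (hh : h ∈ K) (v : V) :
    trHom K σ τ θ (σ h v) = τ h (trHom K σ τ θ v) := by
  classical
  rw [trHom_apply, trHom_apply, map_sum]
  refine Finset.sum_nbij' (h⁻¹ * ·) (h * ·)
    (fun g hg => Finset.mem_filter.2 ⟨Finset.mem_univ _,
      K.mul_mem (K.inv_mem hh) (Finset.mem_filter.1 hg).2⟩)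
    (fun g hg => Finset.mem_filter.2 ⟨Finset.mem_univ _, K.mul_mem hh (Finset.mem_filter.1 hg).2⟩)
    (fun g _ => mul_inv_cancel_left h g) (fun g _ => inv_mul_cancel_left h g) fun g _ => ?_
  show _ = τ h (τ (h⁻¹ * g) (θ (σ (h⁻¹ * g)⁻¹ v)))
  rw [← Module.End.mul_apply (τ h), ← map_mul, mul_inv_cancel_left, mul_inv_rev, inv_inv, map_mul σ,
    Module.End.mul_apply]

theorem trHom_add (K : Subgroup G) (σ : Representation k G V) (τ : Representation k G W)
    (θ θ' : V →ₗ[k] W) : trHom K σ τ (θ + θ') = trHom K σ τ θ + trHom K σ τ θ' := by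
  classical
  simp [trHom, LinearMap.add_comp, LinearMap.comp_add, Finset.sum_add_distrib]

theorem trHom_sum (K : Subgroup G) (σ : Representation k G V) (τ : Representation k G W)
    {ι : Type*} (s : Finset ι) (θ : ι → V →ₗ[k] W) :
    trHom K σ τ (∑ i ∈ s, θ i) = ∑ i ∈ s, trHom K σ τ (θ i) := by
  classical
  refine LinearMap.ext fun v => ?_
  simp only [trHom_apply, LinearMap.sum_apply, map_sum]
  rw [Finset.sum_comm]

/-- Maps of representations pass through the trace. -/
theorem comp_trHom {U : Type*} [AddCommGroup U] [Module k U] (K : Subgroup G)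
    (σ : Representation k G V) (τ : Representation k G W) (π : Representation k G U)
    (θ : V →ₗ[k] W) {f : W →ₗ[k] U} (hf : ∀ g w, f (τ g w) = π g (f w)) :
    f ∘ₗ trHom K σ τ θ = trHom K σ π (f ∘ₗ θ) := by
  classical
  refine LinearMap.ext fun v => ?_
  rw [LinearMap.comp_apply, trHom_apply, trHom_apply, map_sum]
  exact Finset.sum_congr rfl fun g _ => hf g _

/-- An element supported on a subgroup acts compatibly with maps of that subgroup. -/
theorem asAlgebraHom_comm_of_cut {H : Subgroup G} {σ : Representation k G V}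
    {τ : Representation k G W} {f : V →ₗ[k] W} (hf : ∀ h ∈ H, ∀ v, f (σ h v) = τ h (f v))
    {a : MonoidAlgebra k G} (ha : cut (H : Set G) a = a) (v : V) :
    f (σ.asAlgebraHom a v) = τ.asAlgebraHom a (f v) := by
  classical
  rw [sum_single_coeff a]
  simp only [map_sum, LinearMap.sum_apply]
  refine Finset.sum_congr rfl fun g _ => ?_
  rw [Representation.asAlgebraHom_single, Representation.asAlgebraHom_single,
    LinearMap.smul_apply, LinearMap.smul_apply, map_smul]
  by_cases hg : g ∈ H
  · rw [hf g hg]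
  · rw [cut_eq_self_iff.1 ha g hg, zero_smul, zero_smul]

/-- A corner whose part on `C` is `k[x]` and whose part on `H` is a twisted group ring of a
cyclic group of order `e` over it. -/
structure SocleData (C H : Subgroup G) (f x u : MonoidAlgebra k G)
    (c0 : MonoidAlgebra k G →ₗ[k] k) (ω : k) (n e : ℕ) : Prop where
  cutf : cut (C : Set G) f = f
  cutx : cut (C : Set G) x = x
  hff : f * f = f
  hfx : f * x = x
  hxf : x * f = x
  hfu : f * u = u
  huf : u * f = u
  hux : u * x = ω • (x * u)
  hue : u ^ e = f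
  he0 : 0 < e
  hek : (e : k) ≠ 0
  hn : 0 < n
  htop : x ^ n * f ≠ 0
  hnil : x ^ (n + 1) = 0
  spanC : ∀ a, cut (C : Set G) a = a →
    f * a * f ∈ Submodule.span k (Set.range fun i : Fin (n + 1) => x ^ (i : ℕ) * f)
  spanH : ∀ a, cut (H : Set G) a = a → f * a * f ∈
    Submodule.span k (Set.range fun q : Fin (n + 1) × Fin e => x ^ (q.1 : ℕ) * (u ^ (q.2 : ℕ) * f))
  hc0 : c0 f = 1
  hc0x : ∀ i, c0 (x ^ (i + 1) * f) = 0

namespace SocleData

variable {C H : Subgroup G} {f x u : MonoidAlgebra k G} {c0 : MonoidAlgebra k G →ₗ[k] k} {ω : k}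
  {n e : ℕ} (D : SocleData C H f x u c0 ω n e)
include D

theorem x_pow_f (i : ℕ) : f * x ^ i = x ^ i * f := by
  induction i with
  | zero => rw [pow_zero, mul_one, one_mul]
  | succ i ih => rw [pow_succ, ← mul_assoc, ih, mul_assoc, D.hfx, mul_assoc, D.hxf]

theorem u_pow_f (i : ℕ) : f * u ^ i = u ^ i * f := by
  induction i with
  | zero => rw [pow_zero, mul_one, one_mul]
  | succ i ih => rw [pow_succ, ← mul_assoc, ih, mul_assoc, D.hfu, mul_assoc, D.huf]

theorem u_pow_x (i : ℕ) : u ^ i * x = ω ^ i • (x * u ^ i) := by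
  induction i with
  | zero => rw [pow_zero, pow_zero, one_smul, one_mul, mul_one]
  | succ i ih =>
    rw [pow_succ, mul_assoc, D.hux, mul_smul_comm, ← mul_assoc, ih, smul_mul_assoc, smul_smul,
      mul_assoc, ← pow_succ']

theorem x_ne_zero : x ≠ 0 := fun h => D.htop (by
  rw [h, zero_pow D.hn.ne', zero_mul])

theorem omega_pow : ω ^ e = 1 := by
  have h := D.u_pow_x e
  rw [D.hue, D.hfx, D.hxf] at h
  by_contra hne
  have h2 : ((1 : k) - ω ^ e) • x = 0 := by rw [sub_smul, one_smul, sub_eq_zero]; exact h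
  exact D.x_ne_zero ((smul_eq_zero.1 h2).resolve_left (sub_ne_zero.2 (Ne.symm hne)))

theorem omega_ne_zero : ω ≠ 0 := fun h => by
  have := D.omega_pow
  rw [h, zero_pow D.he0.ne'] at this
  exact zero_ne_one this

theorem x_u_pow (m i : ℕ) : x ^ m * u ^ i = ((ω ^ i)⁻¹) ^ m • (u ^ i * x ^ m) := by
  induction m with
  | zero => rw [pow_zero, pow_zero, one_smul, one_mul, mul_one]
  | succ m ih =>
    have h0 : ω ^ i ≠ 0 := pow_ne_zero _ D.omega_ne_zero
    have h1 : x * u ^ i = (ω ^ i)⁻¹ • (u ^ i * x) := by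
      rw [D.u_pow_x i, smul_smul, inv_mul_cancel₀ h0, one_smul]
    rw [pow_succ x, mul_assoc, h1, mul_smul_comm, ← mul_assoc, ih, smul_mul_assoc, smul_smul,
      mul_assoc, mul_comm ((ω ^ i)⁻¹), ← pow_succ (ω ^ i)⁻¹]

theorem cut_top : cut (C : Set G) (x ^ n * f) = x ^ n * f := cut_prod (cut_pow_sub D.cutx n) D.cutf

/-- An element of the corner on `C` killed by `x` is a multiple of the socle element. -/
theorem eq_smul_top {r : MonoidAlgebra k G}
    (hr : r ∈ Submodule.span k (Set.range fun i : Fin (n + 1) => x ^ (i : ℕ) * f))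
    (hxr : x * r = 0) : ∃ c : k, r = c • (x ^ n * f) := by
  classical
  obtain ⟨w, rfl⟩ := (Submodule.mem_span_range_iff_exists_fun k).1 hr
  have hzero : ∀ j, n + 1 ≤ j → x ^ j = 0 := fun j hj => by
    obtain ⟨t, rfl⟩ := Nat.exists_eq_add_of_le hj
    rw [pow_add, D.hnil, zero_mul]
  suffices h : ∀ j : ℕ, ∀ hj : j < n, w ⟨j, by omega⟩ = 0 by
    refine ⟨w ⟨n, Nat.lt_succ_self n⟩, ?_⟩
    rw [Finset.sum_eq_single (⟨n, Nat.lt_succ_self n⟩ : Fin (n + 1)) (fun i _ hi => ?_)
      (fun hh => absurd (Finset.mem_univ _) hh)]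
    have hlt : (i : ℕ) < n := by
      have := i.2
      have h2 : (i : ℕ) ≠ n := fun h' => hi (Fin.ext h')
      omega
    rw [show w i = 0 from h i hlt, zero_smul]
  intro j
  induction j using Nat.strong_induction_on with
  | _ j ih =>
    intro hj
    have h1 := congrArg (fun z => x ^ (n - j - 1) * z) hxr
    simp only [mul_zero, Finset.mul_sum, mul_smul_comm, ← mul_assoc, ← pow_succ', ← pow_succ,
      ← pow_add] at h1
    rw [Finset.sum_eq_single (⟨j, by omega⟩ : Fin (n + 1)) (fun i _ hi => ?_)
      (fun hh => absurd (Finset.mem_univ _) hh)] at h1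
    · refine (smul_eq_zero.1 h1).resolve_right fun h2 => D.htop ?_
      rw [← h2]
      congr 2
      show n = n - j - 1 + ((j : ℕ) + 1)
      omega
    · rcases lt_or_gt_of_ne (show (i : ℕ) ≠ j from fun h' => hi (Fin.ext h')) with hlt | hgt
      · rw [show w i = 0 from ih i hlt (hlt.trans hj), zero_smul]
      · rw [hzero _ (by omega), zero_mul, smul_zero]

/-- The part on the left of `f` is free over `k[x]`: what `x` kills is in the socle. -/
theorem exists_eq_top_mul {ε : MonoidAlgebra k G} {ι : Type*} [Fintype ι]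
    (al bl : ι → MonoidAlgebra k G) (hal : ∀ i, cut (C : Set G) (al i) = al i)
    (hdec : ε = ∑ i, al i * f * bl i) (hεf : ε * f = f)
    (hεC : ∀ a, cut (C : Set G) a = a → a * ε = ε * a)
    {a : MonoidAlgebra k G} (hfa : f * a = a) (hxa : x * a = 0) :
    ∃ c, a = x ^ n * f * c := by
  classical
  have hdecomp : a = ∑ q : G ⧸ C, cut (C : Set G) (a * MonoidAlgebra.single q.out 1) *
      MonoidAlgebra.single (q.out)⁻¹ 1 := by
    apply MonoidAlgebra.ext
    ext g
    rw [MonoidAlgebra.coeff_sum, Finsupp.finsetSum_apply,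
      Finset.sum_eq_single (QuotientGroup.mk g⁻¹ : G ⧸ C) (fun q _ hq => ?_)
        (fun hh => absurd (Finset.mem_univ _) hh)]
    · rw [MonoidAlgebra.coeff_mul_single_apply, mul_one, inv_inv]
      obtain ⟨⟨d, hd⟩, hd'⟩ := QuotientGroup.mk_out_eq_mul C g⁻¹
      rw [hd', coeff_cut_of_mem _ (show g * (g⁻¹ * d) ∈ (C : Set G) by simpa using hd),
        MonoidAlgebra.coeff_mul_single_apply, mul_one]
      congr 1
      simp [mul_assoc]
    · rw [MonoidAlgebra.coeff_mul_single_apply, mul_one, inv_inv, coeff_cut_of_notMem]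
      intro hmem
      refine hq ?_
      conv_lhs => rw [← QuotientGroup.out_eq' q]
      refine QuotientGroup.eq.2 ?_
      have := C.inv_mem hmem
      simpa using this
  suffices h : ∀ q : G ⧸ C, ∃ c, cut (C : Set G) (a * MonoidAlgebra.single q.out 1) =
      x ^ n * f * c by
    choose c hc using h
    refine ⟨∑ q, c q * MonoidAlgebra.single (q.out)⁻¹ 1, ?_⟩
    rw [hdecomp, Finset.mul_sum]
    exact Finset.sum_congr rfl fun q _ => by rw [hc q, mul_assoc]
  intro q
  obtain ⟨r, hr, hrC⟩ : ∃ r, r = cut (C : Set G) (a * MonoidAlgebra.single q.out 1) ∧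
      cut (C : Set G) r = r := ⟨_, rfl, by rw [cut_cut, Set.inter_self]⟩
  rw [← hr]
  have hfr : f * r = r := by
    rw [hr, ← cut_mul_left C D.cutf, ← mul_assoc, hfa]
  have hxr : x * r = 0 := by
    rw [hr, ← cut_mul_left C D.cutx, ← mul_assoc, hxa, zero_mul, cut_zero]
  have hterm : ∀ i, ∃ l : k, f * (r * al i) * f = l • (x ^ n * f) := fun i => by
    refine D.eq_smul_top (D.spanC _ (cut_prod hrC (hal i))) ?_
    rw [← mul_assoc, ← mul_assoc, D.hxf, ← mul_assoc, hxr, zero_mul, zero_mul]
  choose l hl using hterm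
  refine ⟨∑ i, l i • bl i, ?_⟩
  have hεr : r * ε = r := by
    rw [hεC r hrC]
    conv_lhs => rw [← hfr, ← mul_assoc, hεf, hfr]
  calc r = f * (r * ε) := by rw [hεr, hfr]
    _ = ∑ i, f * (r * al i) * f * bl i := by
      rw [hdec, Finset.mul_sum, Finset.mul_sum]
      exact Finset.sum_congr rfl fun i _ => by simp only [mul_assoc]
    _ = _ := by
      rw [Finset.mul_sum]
      exact Finset.sum_congr rfl fun i _ => by rw [hl i, smul_mul_assoc, mul_smul_comm]

omit D in
/-- A trace takes vectors killed by the radical into the projective part. -/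
theorem trHom_mem {s : MonoidAlgebra k G} (hf : cut (C : Set G) f = f)
    (hx : cut (C : Set G) x = x)
    (hfree : ∀ a, f * a = a → x * a = 0 → ∃ c, a = s * c) {K : Subgroup G} (hCK : C ≤ K)
    (σ : Representation k G V) (τ : Representation k G W) [FiniteDimensional k W]
    (θ : V →ₗ[k] W) {v : V} (hfv : σ.asAlgebraHom f v = v) (hxv : σ.asAlgebraHom x v = 0) :
    ∃ w, trHom K σ τ θ v = τ.asAlgebraHom s w := by
  classical
  set b := Module.finBasis k W
  obtain ⟨al, hal⟩ : ∃ al : Fin (finrank k W) → V →ₗ[k] MonoidAlgebra k G, ∀ i v',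
      al i v' = ∑ g ∈ Finset.univ.filter (· ∈ K),
        MonoidAlgebra.single g (b.coord i (θ (σ g⁻¹ v'))) :=
    ⟨fun i =>
      { toFun := fun v' => ∑ g ∈ Finset.univ.filter (· ∈ K),
          MonoidAlgebra.single g (b.coord i (θ (σ g⁻¹ v')))
        map_add' := fun v' v'' => by
          simp [Finset.sum_add_distrib, MonoidAlgebra.single_add]
        map_smul' := fun c v' => by
          simp [Finset.smul_sum, MonoidAlgebra.smul_single'] }, fun _ _ => rfl⟩
  have hcomm : ∀ i, ∀ h ∈ K, ∀ v', al i (σ h v') = leftRep k G h (al i v') := by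
    intro i h hh v'
    rw [hal, hal, leftRep_apply, Finset.mul_sum]
    refine Finset.sum_nbij' (h⁻¹ * ·) (h * ·)
      (fun g hg => Finset.mem_filter.2 ⟨Finset.mem_univ _,
        K.mul_mem (K.inv_mem hh) (Finset.mem_filter.1 hg).2⟩)
      (fun g hg => Finset.mem_filter.2 ⟨Finset.mem_univ _, K.mul_mem hh (Finset.mem_filter.1 hg).2⟩)
      (fun g _ => mul_inv_cancel_left h g) (fun g _ => inv_mul_cancel_left h g) fun g _ => ?_
    rw [MonoidAlgebra.single_mul_single, one_mul, mul_inv_cancel_left, mul_inv_rev, inv_inv,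
      map_mul, Module.End.mul_apply]
  have hKs : ∀ a : MonoidAlgebra k G, cut (C : Set G) a = a → cut (K : Set G) a = a := fun a ha =>
    cut_eq_self_iff.2 fun g hg => cut_eq_self_iff.1 ha g fun h => hg (hCK h)
  have hT : ∀ i, ∃ c, al i v = s * c := fun i => by
    refine hfree _ ?_ ?_
    · rw [← asAlgebraHom_leftRep f, ← asAlgebraHom_comm_of_cut (hcomm i) (hKs f hf), hfv]
    · rw [← asAlgebraHom_leftRep x, ← asAlgebraHom_comm_of_cut (hcomm i) (hKs x hx), hxv, map_zero]
  choose c hc using hT
  refine ⟨∑ i, τ.asAlgebraHom (c i) (b i), ?_⟩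
  rw [map_sum, Finset.sum_congr rfl fun i _ => by
    rw [← Module.End.mul_apply, ← map_mul, ← hc, hal]]
  simp only [map_sum, LinearMap.sum_apply, Representation.asAlgebraHom_single,
    LinearMap.smul_apply]
  rw [trHom_apply, Finset.sum_comm]
  refine Finset.sum_congr rfl fun g _ => ?_
  conv_lhs => rw [← b.sum_repr (θ (σ g⁻¹ v)), map_sum]
  exact Finset.sum_congr rfl fun i _ => by rw [map_smul]; rfl

end SocleData

end CfsgLib.Blocks
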