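import Cfsg.Agent.Lib.Blocks.CyclicBound
import Cfsg.Agent.Lib.Blocks.CyclicSections

/-!
# Dade's structure of a block with cyclic defect group
-/

set_option autoImplicit false
set_option linter.unusedSectionVars false
set_option linter.style.haveILetI false

namespace CfsgLib.Blocks

open Cfsg Chars BlockOrth Finset
open scoped ComplexConjugate

universe u

variable {G : Type u} [Group G] [Fintype G] {M : Ideal AlgInt} [M.IsPrime] {p : ℕ} [Fact p.Prime]

/-- An integral combination of characters vanishing at the singular elements has degree divisible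
by the `p`-part of the group order. -/
theorem pow_dvd_of_vanish {ι : Type*} [Fintype ι] (χ : ι → IrrCharacter G) (w : ι → ℤ)
    (h : ∀ g : G, p ∣ orderOf g → ∑ i, (w i : ℂ) * (χ i : G → ℂ) g = 0) :
    (p : ℤ) ^ (Nat.card G).factorization p ∣
      ∑ i, w i * (charDegree (χ i : G → ℂ) : ℤ) := by
  classical
  obtain ⟨Q⟩ : Nonempty (Sylow p G) := inferInstance
  haveI := Fintype.ofFinite (Q : Subgroup G)
  choose m hm using fun i => inner_irr_right_nat
    (isCharacter_restrict (Q : Subgroup G) (isCharacter_of_irr (χ i).2))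
    (principal (Q : Subgroup G))
  refine ⟨∑ i, w i * (m i : ℤ), ?_⟩
  apply Int.cast_injective (α := ℂ)
  push_cast
  simp only [charDegree_cast]
  rw [show ((p : ℂ) ^ (Nat.card G).factorization p) = (Nat.card (Q : Subgroup G) : ℂ) by
    rw [Q.card_eq_multiplicity]; push_cast; rfl]
  have hsum : ∀ i, (Nat.card (Q : Subgroup G) : ℂ) * (m i : ℂ) =
      ∑ x : (Q : Subgroup G), (χ i : G → ℂ) x := fun i => by
    rw [← hm i, inner_def, mul_inv_cancel_left₀ (Chars.card_ne_zero _)]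
    exact Finset.sum_congr rfl fun x _ => by rw [principal_apply, map_one, mul_one]
  rw [Finset.mul_sum, Finset.sum_congr rfl fun i _ =>
    show (Nat.card (Q : Subgroup G) : ℂ) * ((w i : ℂ) * (m i : ℂ)) =
      ∑ x : (Q : Subgroup G), (w i : ℂ) * (χ i : G → ℂ) x by
        rw [mul_left_comm, hsum, Finset.mul_sum], Finset.sum_comm,
    Finset.sum_eq_single (1 : (Q : Subgroup G)) (fun x _ hx => h x ?_)
      (fun h => absurd (mem_univ _) h)]
  · rfl
  · obtain ⟨k, hk⟩ := IsPGroup.iff_orderOf.1 Q.2 x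
    rw [Subgroup.orderOf_coe, hk]
    refine dvd_pow_self p fun h0 => hx ?_
    rw [h0, pow_zero] at hk
    exact orderOf_eq_one_iff.1 hk

variable {B : Set (IrrCharacter G)} {P : Subgroup G}
  {c : Set (IrrCharacter (Subgroup.centralizer (P : Set G)))} {Z : Subgroup G}
  {fZ : Set (IrrCharacter (Subgroup.centralizer (Z : Set G)))}

namespace CycLocal

variable (L : CycLocal p M B P c Z fZ)
include L

open scoped Classical in
/-- The columns of a block with cyclic defect group. -/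
theorem exists_columns [Fintype P] [Fintype {χ : IrrCharacter G // χ ∈ B}] :
    ∃ ξ : {χ : IrrCharacter G // χ ∈ B} → P → ℂ,
      (∀ i, IsGeneralizedCharacter P (ξ i)) ∧
      (∀ u v : P, u ≠ 1 → v ≠ 1 → ∑ i, ξ i u * conj (ξ i v) = (Nat.card P : ℂ) *
        ((univ.filter fun σ : inertia c => (σ : MulAut P) u = v).card : ℂ)) ∧
      (∀ i, ∀ u : P, u ≠ 1 → ξ i u ≠ 0) ∧
      (∀ g : G, ¬ p ∣ orderOf g → ∀ u : P, u ≠ 1 → ∑ i, (i.1 : G → ℂ) g * ξ i u = 0) ∧
      ∀ w : {χ : IrrCharacter G // χ ∈ B} → ℂ, (∀ u : P, u ≠ 1 → ∑ i, w i * ξ i u = 0) →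
        ∀ g : G, p ∣ orderOf g → ∑ i, w i * (i.1 : G → ℂ) g = 0 := by
  have hpM : (p : AlgInt) ∈ M := L.hM.2.2
  have hp : p.Prime := Fact.out
  have hB : IsPBlock M B := L.hmax.1.2.1
  have hc : IsBrauerPair p M P c := L.hmax.1.1
  haveI := Fintype.ofFinite (Subgroup.centralizer (Z : Set G))
  obtain ⟨e', hPC, hloc⟩ := L.local_block
  obtain ⟨-, hnil, -, -⟩ := hloc
  have hCP : Subgroup.centralizer (P : Set G) ≤ Subgroup.centralizer (Z : Set G) :=
    centralizer_antitone L.hZP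
  have hmaxK : IsMaximalBrauerPair p M fZ (P.subgroupOf (Subgroup.centralizer (Z : Set G)))
      (relBlock hPC hCP c) :=
    isMaximal_rel_of_maximal hpM hPC hCP L.hmax
      ((isBrauerPairOf_rel_iff hpM hPC hCP hc.1 hc.2 L.pblock).2
        (IsNormalSubpair.mul_cut hpM (isNormalSubpair_of_below (b := ⟨P, c⟩) hpM hc L.hbelow
          Relation.ReflTransGen.refl L.hZP (hPC.trans (centralizer_le_normalizer' Z)))))
  obtain ⟨ξ, V, hgen, horth, hcol, hV⟩ := exists_columns_of_local hpM L.hmax L.hab L.hfree hPC hCP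
    (fun u hu hu1 => centralizer_antitone (L.le_zpowers hu hu1)) hnil hmaxK
    (fun g hg => ((mem_stabPair_iff L.pblock).1 (L.stab_le hg)).2) (by
      obtain ⟨k, hk⟩ := IsPGroup.iff_card.1 hc.1
      rw [card_inertia, hk]
      refine Nat.Coprime.pow_right k (Nat.coprime_comm.1 (hp.coprime_iff_not_dvd.2 fun h => ?_))
      have h1 := Nat.le_of_dvd (by have := hp.two_le; omega) (h.trans L.relIndex_dvd)
      have := hp.two_le
      omega)
  have hord : ∀ (u : P) (w : G), u ≠ 1 → Commute (u : G) w → ¬ p ∣ orderOf w →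
      p ∣ orderOf ((u : G) * w) := fun u w hu hw hwr => by
    obtain ⟨k, hk⟩ := exists_pow_orderOf_of_mem hc.1 u.2
    have hk0 : k ≠ 0 := fun h => hu (Subtype.ext (orderOf_eq_one_iff.1 (by rw [hk, h, pow_zero])))
    rw [hw.orderOf_mul_eq_mul_orderOf_of_coprime
      (hk ▸ Nat.Coprime.pow_left k (hp.coprime_iff_not_dvd.2 hwr)), hk]
    exact Dvd.dvd.mul_right (dvd_pow_self p hk0) _
  refine ⟨ξ, hgen, horth, fun i u hu h0 => ?_, fun g hg u hu => ?_, fun w hw g hg => ?_⟩
  · obtain ⟨b, hb⟩ := exists_below (b := ⟨P, c⟩) hpM hc _ (Subgroup.zpowers_le.2 u.2)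
    obtain ⟨y, hy, hyr, hne⟩ := exists_secVal_ne_zero_of_central hpM L.hmax u.2
      (Subgroup.mem_centralizer_iff.2 fun v hv => L.hab v hv u u.2) hb i.2
    refine hne ?_
    rw [eq_pairBelow (c := (⟨P, c⟩ : BrauerPairIdx G)) (a := ⟨Subgroup.zpowers (u : G), b⟩) hpM hc hb
      rfl, hcol i u hu y hy hyr, h0, zero_mul]
  · refine (mul_eq_zero.1 ?_).resolve_right (hV u hu)
    rw [Finset.sum_mul]
    have h1 : ∀ i : {χ : IrrCharacter G // χ ∈ B}, ξ i u * V u (u : G) =
        secVal (pairBelow p M ⟨P, c⟩ (u : G)) (i.1 : G → ℂ) (u : G) := fun i => by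
      have h := hcol i u hu 1 (Commute.one_right _) (by rw [orderOf_one]; exact hp.not_dvd_one)
      rw [mul_one] at h
      exact h.symm
    simp only [mul_assoc, h1, secVal, Finset.mul_sum]
    rw [Finset.sum_comm]
    refine Finset.sum_eq_zero fun x _ => ?_
    obtain ⟨b, hb⟩ := exists_below (b := ⟨P, c⟩) hpM hc _ (Subgroup.zpowers_le.2 u.2)
    rw [← eq_pairBelow (c := (⟨P, c⟩ : BrauerPairIdx G)) (a := ⟨Subgroup.zpowers (u : G), b⟩) hpM hc
      hb rfl]
    by_cases h0 : pairCoeff (⟨Subgroup.zpowers (u : G), b⟩ : BrauerPairIdx G) x = 0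
    · simp [h0]
    haveI := Fintype.ofFinite (Subgroup.centralizer (Subgroup.zpowers (u : G) : Set G))
    have hxC : x ∈ Subgroup.centralizer (Subgroup.zpowers (u : G) : Set G) :=
      by_contra fun h => h0 (subgroupBlockCoeff_of_notMem _ h)
    have hxr : ¬ p ∣ orderOf x := fun hd => h0 (by
      rw [pairCoeff, show subgroupBlockCoeff (Subgroup.centralizer (Subgroup.zpowers (u : G) : Set G))
        b x = blockCoeff b ⟨x, hxC⟩ from subgroupBlockCoeff_coe _ ⟨x, hxC⟩]
      exact blockCoeff_eq_zero_of_dvd hp hpM (below_isBrauerPair hb hc).2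
        (by rwa [← Subgroup.orderOf_coe]))
    have hcm : Commute (u : G) x :=
      ((mem_centralizer_zpowers_iff _ x).1 hxC).symm
    have hd : p ∣ orderOf (x * (u : G))⁻¹ := by
      rw [orderOf_inv, ← hcm.eq]
      exact hord u x hu hcm hxr
    haveI := irrFintype G
    have h := weak_orthogonality hp hpM hB hg hd
    rw [finsum_mem_eq_sum_of_inter_support_eq (t := univ.filter (· ∈ B)) _ (by ext; simp),
      Finset.sum_subtype (p := (· ∈ B)) (univ.filter (· ∈ B)) (fun x => by simp)] at h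
    rw [← mul_zero (pairCoeff (⟨Subgroup.zpowers (u : G), b⟩ : BrauerPairIdx G) x), ← h,
      Finset.mul_sum]
    refine Finset.sum_congr rfl fun χ _ => ?_
    rw [← char_inv (isCharacter_of_irr χ.1.2), inv_inv]
    ring
  · obtain ⟨hxy, hgeq⟩ := commute_pPartElt_pPrimePart (p := p) g
    have hyr : ¬ p ∣ orderOf (pPrimePart p g) := not_dvd_orderOf_pPrimePart g
    have hx := exists_pow_eq_one_pPartElt (p := p) g
    have hsplit : ∀ i : {χ : IrrCharacter G // χ ∈ B}, (i.1 : G → ℂ) g =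
        ∑ a ∈ pairsAt M (pPartElt p g), secVal a (i.1 : G → ℂ) g := fun i => (sum_secVal _ _ g).symm
    simp only [hsplit, Finset.mul_sum]
    rw [Finset.sum_comm]
    refine Finset.sum_eq_zero fun a ha => ?_
    by_cases hBa : IsBrauerPairOf p M B a.1 a.2
    swap
    · refine Finset.sum_eq_zero fun i _ => mul_eq_zero_of_right _ ?_
      rw [← hgeq]
      exact secVal_eq_zero hpM hB i.2 hxy hx hyr ha hBa
    obtain ⟨z, hz⟩ := exists_conj_below (b := (⟨P, c⟩ : BrauerPairIdx G)) hpM L.hmax hBa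
    have hu : z * pPartElt p g * z⁻¹ ∈ P := below_le hz ⟨_, by
      show pPartElt p g ∈ a.1
      rw [(mem_pairsAt.1 ha).1]
      exact Subgroup.mem_zpowers _, rfl⟩
    have hu1 : (⟨_, hu⟩ : P) ≠ 1 := fun h => by
      have h1 : z * pPartElt p g * z⁻¹ = 1 := congrArg Subtype.val h
      rw [mul_inv_eq_one, mul_eq_left] at h1
      rw [← hgeq, h1, one_mul] at hg
      exact hyr hg
    have heq : conjPair z a = pairBelow p M ⟨P, c⟩ (z * pPartElt p g * z⁻¹) := by
      refine eq_pairBelow (c := (⟨P, c⟩ : BrauerPairIdx G)) hpM hc hz ?_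
      show a.1.map _ = _
      rw [(mem_pairsAt.1 ha).1, map_zpowers_conj]
    have hval : ∀ i : {χ : IrrCharacter G // χ ∈ B}, secVal a (i.1 : G → ℂ) g =
        ξ i ⟨_, hu⟩ * V ⟨_, hu⟩ (z * pPartElt p g * z⁻¹ * (z * pPrimePart p g * z⁻¹)) := fun i => by
      rw [← secVal_conj (isClassFunction_irr i.1) z a g, heq,
        show z * g * z⁻¹ = z * pPartElt p g * z⁻¹ * (z * pPrimePart p g * z⁻¹) by
          conv_lhs => rw [← hgeq]
          group]
      exact hcol i ⟨_, hu⟩ hu1 _ ((Commute.conj_iff z).2 hxy)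
        (by rwa [← (SemiconjBy.conj_mk z _).orderOf_eq])
    simp only [hval, ← mul_assoc, ← Finset.sum_mul, hw _ hu1, zero_mul]

/-- **Dade**: blocks with cyclic defect group. -/
theorem dade_structure :
    ∃ (Y : Set (IrrCharacter G)) (δ : IrrCharacter G → ℤ) (δ₀ : ℤ), Y ⊆ B ∧
      Nat.card Y * (Subgroup.centralizer (P : Set G)).relIndex (stabPair ⟨P, c⟩) + 1 = Nat.card P ∧
      Nat.card (B \ Y : Set (IrrCharacter G)) =
        (Subgroup.centralizer (P : Set G)).relIndex (stabPair ⟨P, c⟩) ∧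
      blockRank p B = (Subgroup.centralizer (P : Set G)).relIndex (stabPair ⟨P, c⟩) ∧
      (∀ χ ∈ B \ Y, δ χ = 1 ∨ δ χ = -1) ∧ (δ₀ = 1 ∨ δ₀ = -1) ∧
      (∀ ψ ∈ Y, ∀ ψ' ∈ Y, ∀ g : G, ¬ p ∣ orderOf g → (ψ : G → ℂ) g = (ψ' : G → ℂ) g) ∧
      (∀ ψ ∈ Y, ∀ g : G, ¬ p ∣ orderOf g →
        (δ₀ : ℂ) * (ψ : G → ℂ) g + ∑ᶠ χ ∈ B \ Y, (δ χ : ℂ) * (χ : G → ℂ) g = 0) ∧
      ∀ χ ∈ B \ Y, ∀ χ' ∈ B \ Y, (p : ℤ) ^ (Nat.card G).factorization p ∣
        δ χ * (charDegree (χ : G → ℂ) : ℤ) - δ χ' * (charDegree (χ' : G → ℂ) : ℤ) := by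
  classical
  have hpM : (p : AlgInt) ∈ M := L.hM.2.2
  have hp : p.Prime := Fact.out
  haveI := irrFintype G
  haveI : Fintype P := Fintype.ofFinite P
  haveI := irrFintype P
  have hA : ∀ a b : P, a * b = b * a := fun a b => Subtype.ext (L.hab _ a.2 _ b.2)
  have hP1 : 1 < Nat.card P :=
    lt_of_lt_of_le (L.hcardZ ▸ hp.one_lt) (Subgroup.card_le_of_le L.hZP)
  haveI : Nontrivial P := Finite.one_lt_card_iff_nontrivial.1 hP1
  have hifree : ∀ σ ∈ inertia c, ∀ u : P, u ≠ 1 → σ u = u → σ = 1 := by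
    intro σ hσ u hu hσu
    obtain ⟨g, hg, hgu⟩ := mem_inertia.1 hσ
    have h2 := L.hfree g hg u u.2 (fun h => hu (Subtype.ext h)) (by rw [← hgu, hσu])
    refine MulEquiv.ext fun z => Subtype.ext ?_
    rw [hgu, ← Subgroup.mem_centralizer_iff.1 h2 z z.2, mul_inv_cancel_right]
    rfl
  obtain ⟨ξ, hgen, horth, hne, hreg, hvan⟩ := L.exists_columns
  obtain ⟨y, ε, r, a, hε, hy, hval, ha, ht, hc, hψ⟩ := free_coherence hA hP1 (inertia c) hifree ξ
    hgen (fun u v hu hv => by rw [horth u v hu hv]; congr!)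
    (fun i => ⟨_, (exists_ne (1 : P)).choose_spec, hne i _ (exists_ne (1 : P)).choose_spec⟩)
    (fun i => charDegree (i.1 : G → ℂ)) (fun i => Nat.pos_of_ne_zero (irr_charDegree_ne_zero i.1))
    (fun u hu => by
      rw [← hreg 1 (by rw [orderOf_one]; exact hp.not_dvd_one) u hu]
      exact Finset.sum_congr rfl fun i _ => by rw [charDegree_cast])
  haveI := Fintype.ofFinite (inertia c)
  replace hval : ∀ l : IrrCharacter P, l ≠ principal P → ∀ u : P, u ≠ 1 →
      ξ (y l) u = (r : ℂ) + (ε : ℂ) * ∑ σ : inertia c, (l : P → ℂ) ((σ : MulAut P) u) :=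
    fun l hl u hu => by convert hval l hl u hu using 4; ext; simp
  rw [card_inertia] at ht hc
  obtain ⟨e, he⟩ : ∃ e, e = (Subgroup.centralizer (P : Set G)).relIndex (stabPair ⟨P, c⟩) := ⟨_, rfl⟩
  rw [← he] at ht hc ⊢
  have he0 : e ≠ 0 := he ▸ card_inertia c ▸ Nat.card_pos.ne'
  obtain ⟨t, ht'⟩ : ∃ t, t = Nat.card {i : {χ : IrrCharacter G // χ ∈ B} //
      ∃ l : IrrCharacter P, l ≠ principal P ∧ y l = i} := ⟨_, rfl⟩
  rw [← ht'] at ht hc hψ
  have ht0 : t ≠ 0 := fun h => by rw [h, zero_mul, zero_add] at ht; omega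
  obtain ⟨S, hS⟩ : ∃ S : Finset {χ : IrrCharacter G // χ ∈ B},
      S = univ.filter fun i => ∀ l : IrrCharacter P, l ≠ principal P → y l ≠ i := ⟨_, rfl⟩
  replace hc : (∑ i ∈ S, a i * a i) + (t : ℤ) * r * r - 2 * ε * r = (e : ℤ) := by
    rw [hS]; convert hc using 4
    ext i; simp only [Finset.mem_filter, Finset.mem_univ, true_and]
  replace hψ : ∀ ψ : {χ : IrrCharacter G // χ ∈ B} → ℂ,
      (∀ u : P, u ≠ 1 → ∑ i, ψ i * ξ i u = 0) →
      ∀ l : IrrCharacter P, l ≠ principal P →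
        (∀ m : IrrCharacter P, m ≠ principal P → ψ (y m) = ψ (y l)) ∧
        (∑ i ∈ S, (a i : ℂ) * ψ i) + ((t : ℂ) * r - ε) * ψ (y l) = 0 := by
    intro ψ h0 l hl
    rw [hS]
    convert hψ ψ h0 l hl using 6
  obtain ⟨Y, hY⟩ : ∃ Y : Set (IrrCharacter G), Y = {χ | ∃ h : χ ∈ B,
      ∃ l : IrrCharacter P, l ≠ principal P ∧ y l = ⟨χ, h⟩} := ⟨_, rfl⟩
  have hYB : Y ⊆ B := fun χ hχ => by rw [hY] at hχ; exact hχ.1
  have hmemY : ∀ i : {χ : IrrCharacter G // χ ∈ B}, i.1 ∈ Y ↔ i ∉ S := fun i => by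
    rw [hY, hS, Set.mem_setOf_eq, mem_filter]
    simp only [mem_univ, true_and, not_forall, not_not]
    exact ⟨fun ⟨_, l, hl, hl'⟩ => ⟨l, hl, hl'⟩, fun ⟨l, hl, hl'⟩ => ⟨i.2, l, hl, hl'⟩⟩
  have hcardY : Nat.card Y = t := by
    rw [ht']
    refine Nat.card_congr
      { toFun := fun χ => ⟨⟨χ.1, hYB χ.2⟩, ?_⟩
        invFun := fun i => ⟨i.1.1, ?_⟩
        left_inv := fun χ => rfl
        right_inv := fun i => rfl }
    · obtain ⟨_, l, hl, hl'⟩ := hY.le χ.2
      exact ⟨l, hl, hl'⟩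
    · obtain ⟨l, hl, hl'⟩ := i.2
      exact hY.ge ⟨i.1.2, l, hl, hl'⟩
  have hcardX : Nat.card (B \ Y : Set (IrrCharacter G)) = S.card := by
    rw [← Fintype.card_coe, ← Nat.card_eq_fintype_card]
    refine Nat.card_congr
      { toFun := fun χ => ⟨⟨χ.1, χ.2.1⟩, by
          by_contra h
          exact χ.2.2 ((hmemY ⟨χ.1, χ.2.1⟩).2 h)⟩
        invFun := fun i => ⟨i.1.1, i.1.2, fun h => (hmemY i.1).1 h i.2⟩
        left_inv := fun χ => rfl
        right_inv := fun i => rfl }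
  have hcardB : Nat.card B = S.card + t := by
    rw [← hcardX, ← hcardY, Nat.card_coe_set_eq, Nat.card_coe_set_eq, Nat.card_coe_set_eq,
      Set.ncard_sdiff_add_ncard_of_subset hYB (Set.toFinite _)]
  obtain ⟨t', ht1, hcount⟩ := card_eq_rank_add_sections L.hM L.hmax L.hab L.hfree
  rw [← he, ← ht] at ht1
  obtain rfl : t' = t := Nat.eq_of_mul_eq_mul_right (Nat.pos_of_ne_zero he0) (Nat.succ.inj ht1)
  have hrank : blockRank p B = S.card := by omega
  have hbound : e ≤ S.card := hrank ▸ he ▸ L.relIndex_eq ▸ L.relIndex_le_blockRank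
  have hai : ∀ i ∈ S, a i ≠ 0 ∧ ∀ u : P, u ≠ 1 → ξ i u = (a i : ℂ) := fun i hi =>
    ha i (by rw [hS] at hi; exact (mem_filter.1 hi).2)
  have hge : ∀ i ∈ S, (1 : ℤ) ≤ a i * a i := fun i hi =>
    Int.add_one_le_iff.2 (mul_self_pos.2 (hai i hi).1)
  have hsumge : (S.card : ℤ) ≤ ∑ i ∈ S, a i * a i := by
    have := Finset.sum_le_sum hge
    simpa using this
  -- the range sums
  have hsum1 : t' = 1 → ∀ l : IrrCharacter P, l ≠ principal P → ∀ u : P, u ≠ 1 →
      ∑ σ : inertia c, (l : P → ℂ) ((σ : MulAut P) u) = -1 := by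
    intro h1 l hl u hu
    have hall : ∀ m : IrrCharacter P, m ≠ principal P →
        ∃ σ : inertia c, pullIrr (σ : MulAut P) l = m := by
      intro m hm
      refine (hy l m hl hm).1 ?_
      obtain ⟨z, hz⟩ : ∃ z, ∀ i : {i : {χ : IrrCharacter G // χ ∈ B} //
          ∃ l : IrrCharacter P, l ≠ principal P ∧ y l = i}, i = z := by
        haveI := (Nat.card_eq_one_iff_unique.1 (ht'.symm.trans h1)).1
        exact ⟨⟨y l, l, hl, rfl⟩, fun i => Subsingleton.elim _ _⟩
      exact congrArg Subtype.val ((hz ⟨y l, l, hl, rfl⟩).trans (hz ⟨y m, m, hm, rfl⟩).symm)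
    have hne : ∀ σ : inertia c, pullIrr (σ : MulAut P) l ≠ principal P := fun σ =>
      pullIrr_ne_principal hl _
    have hcard' : Fintype.card (inertia c) = (univ.filter fun m => m ≠ principal P).card := by
      rw [Finset.filter_ne', Finset.card_erase_of_mem (mem_univ _), Finset.card_univ,
        ← Nat.card_eq_fintype_card, ← Nat.card_eq_fintype_card, card_inertia, ← he,
        card_irrCharacter_of_comm hA]
      rw [h1, one_mul] at ht
      omega
    have hsum := sum_degree_mul (G := P) u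
    simp only [irr_one_of_comm hA, one_mul, if_neg hu] at hsum
    rw [← Finset.sum_filter_add_sum_filter_not univ (fun m => m ≠ principal P),
      show univ.filter (fun m : IrrCharacter P => ¬m ≠ principal P) = {principal P} by ext; simp,
      Finset.sum_singleton, principal_apply] at hsum
    rw [← eq_neg_of_add_eq_zero_left hsum]
    refine (Finset.sum_nbij' (fun σ : inertia c => pullIrr (σ : MulAut P) l)
      (fun m => if hm : m ≠ principal P then (hall m hm).choose else 1) (fun σ _ => by simp [hne σ])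
      (fun m _ => mem_univ _) (fun σ _ => ?_) (fun m hm => ?_) fun σ _ => rfl)
    · rw [dif_pos (hne σ)]
      have hbij : Function.Bijective fun τ : inertia c => (⟨pullIrr (τ : MulAut P) l, hne τ⟩ :
          {m : IrrCharacter P // m ≠ principal P}) := by
        rw [Fintype.bijective_iff_surjective_and_card]
        exact ⟨fun m => (hall m.1 m.2).imp fun τ hτ => Subtype.ext hτ,
          hcard'.trans (Fintype.card_subtype _).symm⟩
      exact hbij.1 (Subtype.ext (hall _ (hne σ)).choose_spec)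
    · rw [mem_filter] at hm
      rw [dif_pos hm.2]
      exact (hall m hm.2).choose_spec
  have hl0 : ∃ l : IrrCharacter P, l ≠ principal P := by
    obtain ⟨⟨i, l, hl, -⟩⟩ : Nonempty {i : {χ : IrrCharacter G // χ ∈ B} //
        ∃ l : IrrCharacter P, l ≠ principal P ∧ y l = i} :=
      (Nat.card_ne_zero.1 (ht' ▸ ht0)).1
    exact ⟨l, hl⟩
  have hnn : 0 ≤ (t' : ℤ) * r * r - 2 * ε * r := by
    rcases (show t' = 1 ∨ 2 ≤ t' by omega) with h1 | h1
    · obtain ⟨l, hl⟩ := hl0
      obtain ⟨u, hu⟩ := exists_ne (1 : P)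
      have hne' : r - ε ≠ 0 := fun h => by
        refine hne (y l) u hu ?_
        rw [hval l hl u hu, hsum1 h1 l hl u hu]
        have : (r : ℂ) - ε = 0 := by exact_mod_cast h
        linear_combination this
      have h2 : 1 ≤ (r - ε) * (r - ε) := Int.add_one_le_iff.2 (mul_self_pos.2 hne')
      have hn1 : (t' : ℤ) = 1 := by exact_mod_cast h1
      have hε2 : ε * ε = 1 := by rcases hε with h | h <;> simp [h]
      rw [hn1]
      nlinarith
    · have h2 : (2 : ℤ) ≤ t' := by exact_mod_cast h1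
      have h3 : 0 ≤ r * r - ε * r := by
        rcases hε with h | h <;> subst h <;> rcases le_or_gt r 0 with hr | hr <;>
          rcases eq_or_ne r 0 with h0 | h0 <;> first | (subst h0; norm_num) | nlinarith
      nlinarith [mul_self_nonneg r]
  have hR : S.card = e := by
    have : (S.card : ℤ) ≤ e := by linarith
    omega
  have hsq0 : (t' : ℤ) * r * r - 2 * ε * r = 0 := by
    have : (S.card : ℤ) = e := by exact_mod_cast hR
    linarith
  have ha1 : ∀ i ∈ S, a i = 1 ∨ a i = -1 := by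
    intro i hi
    have h1 : ∑ j ∈ S, (a j * a j - 1) = 0 := by
      rw [Finset.sum_sub_distrib]
      simp only [Finset.sum_const, Nat.smul_one_eq_cast]
      have : (S.card : ℤ) = e := by exact_mod_cast hR
      linarith
    have h2 := (Finset.sum_eq_zero_iff_of_nonneg fun j hj => sub_nonneg.2 (hge j hj)).1 h1 i hi
    exact sq_eq_one_iff.1 (by rw [sq]; linarith)
  have hcoef : (t' : ℤ) * r - ε = 1 ∨ (t' : ℤ) * r - ε = -1 := by
    rcases eq_or_ne r 0 with hr | hr
    · rw [hr, mul_zero, zero_sub]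
      rcases hε with h | h <;> simp [h]
    · have h0 : r * ((t' : ℤ) * r - 2 * ε) = 0 := by linarith
      rw [show (t' : ℤ) * r = 2 * ε by linarith [(mul_eq_zero.1 h0).resolve_left hr]]
      rcases hε with h | h <;> simp [h]
  let a' : IrrCharacter G → ℤ := fun χ => if h : χ ∈ B then a ⟨χ, h⟩ else 0
  have hXS : ∀ χ (hχ : χ ∈ B \ Y), (⟨χ, hχ.1⟩ : {χ : IrrCharacter G // χ ∈ B}) ∈ S := fun χ hχ => by
    by_contra h
    exact hχ.2 ((hmemY _).2 h)
  have hψg : ∀ g : G, ¬ p ∣ orderOf g → ∀ l : IrrCharacter P, l ≠ principal P →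
      (∀ m : IrrCharacter P, m ≠ principal P → ((y m).1 : G → ℂ) g = ((y l).1 : G → ℂ) g) ∧
      (∑ i ∈ S, (a i : ℂ) * (i.1 : G → ℂ) g) + ((t' : ℂ) * r - ε) * ((y l).1 : G → ℂ) g = 0 :=
    fun g hg => hψ (fun i => (i.1 : G → ℂ) g) fun u hu => hreg g hg u hu
  refine ⟨Y, a', (t' : ℤ) * r - ε, hYB, by rw [hcardY, ← ht], hcardX.trans hR, hrank.trans hR,
    fun χ hχ => ?_, hcoef, fun θ hθ θ' hθ' g hg => ?_, fun θ hθ g hg => ?_, fun χ hχ χ' hχ' => ?_⟩
  · simp only [a', dif_pos hχ.1]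
    exact ha1 _ (hXS χ hχ)
  · obtain ⟨hB, l, hl, hyl⟩ := hY.le hθ
    obtain ⟨hB', m, hm, hym⟩ := hY.le hθ'
    have h := (hψg g hg l hl).1 m hm
    rw [hym, hyl] at h
    exact h.symm
  · obtain ⟨hB, l, hl, hyl⟩ := hY.le hθ
    have h := (hψg g hg l hl).2
    rw [hyl] at h
    rw [finsum_mem_eq_sum_of_inter_support_eq (t := S.image Subtype.val) _ ?_,
      Finset.sum_image fun i _ j _ h => Subtype.ext h,
      Finset.sum_congr rfl (g := fun i => (a i : ℂ) * (i.1 : G → ℂ) g) fun i _ => by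
        simp only [a', dif_pos i.2]]
    · push_cast
      linear_combination h
    · refine congrArg (· ∩ _) (Set.ext fun χ => ?_)
      simp only [Set.mem_sdiff, Finset.coe_image, Set.mem_image, Finset.mem_coe]
      constructor
      · exact fun h => ⟨⟨χ, h.1⟩, hXS χ h, rfl⟩
      · rintro ⟨i, hi, rfl⟩
        exact ⟨i.2, fun h' => (hmemY i).1 h' hi⟩
  · obtain ⟨i, hi, rfl⟩ : ∃ i ∈ S, i.1 = χ := ⟨_, hXS χ hχ, rfl⟩
    obtain ⟨j, hj, rfl⟩ : ∃ j ∈ S, j.1 = χ' := ⟨_, hXS χ' hχ', rfl⟩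
    simp only [a', dif_pos i.2, dif_pos j.2, Subtype.coe_eta]
    have hsqa : ∀ k ∈ S, (a k : ℂ) * (a k : ℂ) = 1 := fun k hk => by
      rcases ha1 k hk with h | h <;> simp [h]
    have h := pow_dvd_of_vanish (p := p) (fun k : {χ : IrrCharacter G // χ ∈ B} => k.1)
      (fun k => (if k = i then a i else 0) - if k = j then a j else 0) (fun g hg => by
        push_cast
        refine hvan (fun k => ((if k = i then (a i : ℂ) else 0) - if k = j then (a j : ℂ) else 0))
          (fun u hu => ?_) g hg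
        simp only [sub_mul, ite_mul, zero_mul, Finset.sum_sub_distrib, Finset.sum_ite_eq', mem_univ,
          if_true, (hai i hi).2 u hu, (hai j hj).2 u hu, hsqa i hi, hsqa j hj, sub_self])
    simpa [sub_mul, ite_mul, Finset.sum_sub_distrib] using h

end CycLocal

end CfsgLib.Blocks
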