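import Cfsg.Agent.Lib.Blocks.DefectOneGalois
import Cfsg.Agent.Lib.Blocks.NormalBlocks
import Cfsg.Agent.Lib.CharApps.AbelianSylow

/-!
# Characters of degree prime to `p` for a Sylow subgroup of order `p`
-/

set_option linter.unusedSectionVars false
set_option linter.style.haveILetI false

namespace CfsgLib.Blocks

open Cfsg Chars BlockOrth Modular Finset
open scoped ComplexConjugate

universe u

variable {G : Type u} [Group G] [Fintype G] {M : Ideal AlgInt} [M.IsPrime] {p : ℕ} [Fact p.Prime]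
  {P : Subgroup G} {B : Set (IrrCharacter G)}

theorem not_dvd_relIndex_normalizer (hcard : Nat.card P = p) :
    ¬ p ∣ (Subgroup.centralizer (P : Set G)).relIndex (Subgroup.normalizer (P : Set G)) := by
  have hp : p.Prime := Fact.out
  haveI : Finite P := Nat.finite_of_card_ne_zero (hcard ▸ hp.ne_zero)
  haveI : Nontrivial P := Finite.one_lt_card_iff_nontrivial.1 (hcard ▸ hp.one_lt)
  obtain ⟨u, hu⟩ := exists_ne (1 : P)
  rw [← card_range_normalizerMonoidHom]
  intro hd
  have hinj : Function.Injective fun σ : P.normalizerMonoidHom.range =>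
      (⟨(σ : MulAut P) u, fun h => hu ((map_eq_one_iff _ (σ : MulAut P).injective).1 h)⟩ :
        {w : P // w ≠ 1}) := fun σ τ h => by
    refine Subtype.ext (MulEquiv.ext fun w => ?_)
    obtain ⟨k, rfl⟩ := Subgroup.mem_zpowers_iff.1
      (mem_zpowers_of_prime_card (g' := w) hcard hu)
    rw [map_zpow, map_zpow]
    exact congrArg (· ^ k) (congrArg Subtype.val h)
  have h2 := Nat.card_le_card_of_injective _ hinj
  have h3 : Nat.card {w : P // w ≠ 1} < p := by
    rw [← hcard]
    exact Finite.card_subtype_lt (x := (1 : P)) (by simp)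
  have h4 := Nat.le_of_dvd Nat.card_pos hd
  omega

variable [Fintype (Subgroup.centralizer (P : Set G))]
  {b : Set (IrrCharacter (Subgroup.centralizer (P : Set G)))}

theorem not_dvd_degree_of_pair (hM : IsPModular p M) (hcard : Nat.card P = p)
    (hsq : ¬ p ^ 2 ∣ Nat.card G) (hpair : IsBrauerPairOf p M B P b) {χ : IrrCharacter G}
    (hχ : χ ∈ B) : ¬ p ∣ charDegree (χ : G → ℂ) := by
  classical
  have hp : p.Prime := Fact.out
  obtain ⟨θ, hθb, hθ⟩ := exists_canonical hM.2.2 hcard hsq hpair.1.2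
  obtain ⟨Y, ε, a, hε, hYB, hte, -, -, -, ha, hY, -, -, -, -, -⟩ :=
    defect_one_structure hM hcard hsq hpair
  obtain ⟨e, he⟩ : ∃ e, e = (Subgroup.centralizer (P : Set G)).relIndex (stabPair ⟨P, b⟩) := ⟨_, rfl⟩
  rw [← he] at hte hY
  obtain ⟨m, hm⟩ := he ▸ relIndex_stab_dvd hpair
  have he0 : 0 < e := he ▸ card_inertia b ▸ Nat.card_pos
  have hep : e < p := by
    rcases Nat.eq_zero_or_pos (Nat.card Y) with h | h
    · rw [h, zero_mul, zero_add] at hte; exact absurd hte.symm hp.ne_one
    · nlinarith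
  obtain ⟨c, hc, hmem⟩ : ∃ c : ℤ, ¬ (p : ℤ) ∣ c ∧
      ∀ v : P, v ≠ 1 → MemLocalIdeal M (xiFun b (χ : G → ℂ) v - (c : ℂ)) := by
    have hnd : ∀ n : ℕ, 0 < n → n < p → ∀ s : ℤ, (s = 1 ∨ s = -1) → ¬ (p : ℤ) ∣ s * n := by
      intro n h0 hn s hs hd
      have h1 : (p : ℤ) ∣ (n : ℤ) := by rcases hs with h | h <;> rw [h] at hd <;> simpa using hd
      exact absurd (Nat.le_of_dvd h0 (Int.natCast_dvd_natCast.1 h1)) (by omega)
    by_cases hχY : χ ∈ Y
    · exact ⟨ε * e, hnd e he0 hep ε hε, fun v hv => by exact_mod_cast hY χ hχY v hv⟩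
    · refine ⟨a χ, by simpa using hnd 1 one_pos hp.one_lt _ (ha χ ⟨hχ, hχY⟩).1, fun v hv => ?_⟩
      rw [(ha χ ⟨hχ, hχY⟩).2 v hv, sub_self]
      exact MemLocalIdeal.zero'
  have h := degree_modEq hM hcard hsq hpair hθb hθ hχ hmem
  rw [← he, hm, Nat.mul_div_cancel_left _ he0] at h
  intro hd
  have h1 := Int.ModEq.dvd (((Int.modEq_zero_iff_dvd).2 (Int.natCast_dvd_natCast.2 hd)).symm.trans h)
  rw [sub_zero, Nat.cast_mul] at h1
  rcases ((Int.prime_iff_natAbs_prime.2 (by simpa using hp)).dvd_or_dvd h1) with h2 | h2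
  · rcases ((Int.prime_iff_natAbs_prime.2 (by simpa using hp)).dvd_or_dvd h2) with h3 | h3
    · refine not_dvd_relIndex_normalizer hcard ?_
      rw [hm]
      exact (Int.natCast_dvd_natCast.1 h3).mul_left _
    · exact not_dvd_degree_canonical hM hcard hsq hpair hθb hθ (Int.natCast_dvd_natCast.1 h3)
  · exact hc h2

/-- A character of degree prime to `p` has a pair at `P`. -/
theorem exists_pair_of_not_dvd (hM : IsPModular p M) (S : Sylow p G) (hS : (S : Subgroup G) = P)
    (hcard : Nat.card P = p) (hsq : ¬ p ^ 2 ∣ Nat.card G) {χ : IrrCharacter G}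
    (hχ : ¬ p ∣ charDegree (χ : G → ℂ)) :
    ∃ b, IsBrauerPairOf p M (blockOf M (χ : G → ℂ)) P b := by
  classical
  have hp : p.Prime := Fact.out
  have hd : 0 < blockDefect p (blockOf M (χ : G → ℂ)) := by
    rw [blockDefect, Nat.sub_pos_iff_lt]
    refine lt_of_le_of_lt (Nat.sInf_le ⟨χ, mem_blockOf_self χ, rfl⟩) ?_
    simp only [Nat.factorization_eq_zero_of_not_dvd hχ]
    exact (hp.dvd_iff_one_le_factorization Nat.card_pos.ne').1
      (hcard ▸ Subgroup.card_subgroup_dvd_card P)
  obtain ⟨D, b, hD, hb⟩ := exists_pair_of_pos_defect hM.2.2 hsq (isPBlock_blockOf χ) hd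
  obtain ⟨T, hT⟩ := hb.1.1.exists_le_sylow
  have hDT : D = T := Subgroup.eq_of_le_of_card_ge hT (by
    rw [hD, Sylow.card_eq_multiplicity T, ← Sylow.card_eq_multiplicity S, hS, hcard])
  obtain ⟨x, hx⟩ := MulAction.exists_smul_eq G T S
  have h2 := isBrauerPairOf_conj (a := ⟨D, b⟩) hb x
  have hmap : D.map (MulAut.conj x).toMonoidHom = P := by
    rw [hDT, ← hS, ← hx]
    rfl
  have hfst : (conjPair x (⟨D, b⟩ : BrauerPairIdx G)).1 = P := hmap
  generalize conjPair x (⟨D, b⟩ : BrauerPairIdx G) = q at hfst h2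
  obtain ⟨Q, c⟩ := q
  obtain rfl : Q = P := hfst
  exact ⟨c, h2⟩

open scoped Classical in
/-- The pairs of a block at `P` form an orbit of size the index of the inertial group. -/
theorem card_pairs_mul (hM : IsPModular p M) (hcard : Nat.card P = p)
    (hsq : ¬ p ^ 2 ∣ Nat.card G) (hpair : IsBrauerPairOf p M B P b) :
    Nat.card {c : Set (IrrCharacter (Subgroup.centralizer (P : Set G))) //
        IsBrauerPairOf p M B P c} *
      (Subgroup.centralizer (P : Set G)).relIndex (stabPair ⟨P, b⟩) =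
      (Subgroup.centralizer (P : Set G)).relIndex (Subgroup.normalizer (P : Set G)) := by
  have hmax := isMaximal_of_sylow_prime hM.2.2 hcard hsq hpair
  obtain ⟨N, hN⟩ : ∃ N : Subgroup G, N = Subgroup.normalizer (P : Set G) := ⟨_, rfl⟩
  obtain ⟨T, hT⟩ : ∃ T : Subgroup G, T = stabPair ⟨P, b⟩ := ⟨_, rfl⟩
  have hTN : T ≤ N := hT ▸ hN ▸ stabPair_le_normalizer _
  have hex : ∀ x : N, ∃ c, IsBrauerPairOf p M B P c ∧
      conjPair (x : G) (⟨P, b⟩ : BrauerPairIdx G) = ⟨P, c⟩ := fun x => by
    have h2 := isBrauerPairOf_conj (a := ⟨P, b⟩) hpair (x : G)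
    have hfst : (conjPair (x : G) (⟨P, b⟩ : BrauerPairIdx G)).1 = P :=
      map_conj_of_mem_normalizer' (hN ▸ x.2)
    generalize conjPair (x : G) (⟨P, b⟩ : BrauerPairIdx G) = q at hfst h2
    obtain ⟨Q, c⟩ := q
    obtain rfl : Q = P := hfst
    exact ⟨c, h2, rfl⟩
  choose c hc hxc using hex
  have hidx : Nat.card {c : Set (IrrCharacter (Subgroup.centralizer (P : Set G))) //
      IsBrauerPairOf p M B P c} = T.relIndex N := by
    rw [Subgroup.relIndex, Subgroup.index_eq_card]
    refine (Nat.card_congr (Equiv.ofBijective (Quotient.lift (fun x : N => (⟨c x, hc x⟩ :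
      {c : Set (IrrCharacter (Subgroup.centralizer (P : Set G))) // IsBrauerPairOf p M B P c}))
      fun x y hxy => Subtype.ext ?_) ⟨?_, ?_⟩)).symm
    · have h2 : ((x : G))⁻¹ * y ∈ T :=
        Subgroup.mem_subgroupOf.1 (QuotientGroup.leftRel_apply.1 hxy)
      rw [hT] at h2
      have h3 : conjPair (x : G) (⟨P, b⟩ : BrauerPairIdx G) = conjPair (y : G) ⟨P, b⟩ := by
        conv_lhs => rw [← show conjPair ((x : G)⁻¹ * y) (⟨P, b⟩ : BrauerPairIdx G) = ⟨P, b⟩ from h2,
          conjPair_mul, mul_inv_cancel_left]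
      rw [hxc, hxc] at h3
      exact eq_of_heq (Sigma.mk.inj_iff.1 h3).2
    · intro x y
      induction x using Quotient.inductionOn with | _ x => ?_
      induction y using Quotient.inductionOn with | _ y => ?_
      intro hxy
      refine Quotient.sound (QuotientGroup.leftRel_apply.2 (Subgroup.mem_subgroupOf.2 ?_))
      rw [hT]
      show conjPair ((x : G)⁻¹ * y) _ = _
      rw [← conjPair_mul, hxc y, ← show c x = c y from congrArg Subtype.val hxy, ← hxc x,
        conjPair_mul, inv_mul_cancel, conjPair_one]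
    · rintro ⟨c', hc'⟩
      obtain ⟨g, hg, hga⟩ := exists_conj_pair_same_group hM.2.2 hmax hc'
      refine ⟨Quotient.mk _ ⟨g, hN ▸ hg⟩, Subtype.ext ?_⟩
      exact eq_of_heq (Sigma.mk.inj_iff.1 ((hxc ⟨g, hN ▸ hg⟩).symm.trans hga)).2
  rw [hidx, ← hT, ← hN, mul_comm]
  exact Subgroup.relIndex_mul_relIndex _ _ _ (hT ▸ centralizer_le_stabPair hpair.1.2) hTN

/-- The weight of a character of `C(P)` in the count. -/
noncomputable def countWeight (p : ℕ) (P : Subgroup G)
    (θ : IrrCharacter (Subgroup.centralizer (P : Set G))) : ℕ :=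
  (Nat.card {g : G // g ∈ Subgroup.normalizer (P : Set G) ∧
      ∀ c c' : Subgroup.centralizer (P : Set G), (c' : G) = g * c * g⁻¹ →
        (θ : Subgroup.centralizer (P : Set G) → ℂ) c' =
          (θ : Subgroup.centralizer (P : Set G) → ℂ) c} /
      Nat.card (Subgroup.centralizer (P : Set G))) ^ 2 + (p - 1)

open scoped Classical in
/-- **Counting characters of degree prime to `p`.** -/
theorem card_mul_relIndex_eq_sum (hM : IsPModular p M) (S : Sylow p G)
    (hS : (S : Subgroup G) = P) (hcard : Nat.card P = p) (hsq : ¬ p ^ 2 ∣ Nat.card G)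
    [Fintype {θ : IrrCharacter (Subgroup.centralizer (P : Set G)) //
      ∀ x : Subgroup.centralizer (P : Set G), (x : G) ∈ P →
        (θ : Subgroup.centralizer (P : Set G) → ℂ) x =
          (θ : Subgroup.centralizer (P : Set G) → ℂ) 1}] :
    Nat.card {χ : IrrCharacter G // ¬ p ∣ charDegree (χ : G → ℂ)} *
        (Subgroup.centralizer (P : Set G)).relIndex (Subgroup.normalizer (P : Set G)) =
      ∑ θ : {θ : IrrCharacter (Subgroup.centralizer (P : Set G)) //
        ∀ x : Subgroup.centralizer (P : Set G), (x : G) ∈ P →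
          (θ : Subgroup.centralizer (P : Set G) → ℂ) x =
            (θ : Subgroup.centralizer (P : Set G) → ℂ) 1}, countWeight p P θ.1 := by
  haveI := irrFintype G
  haveI := irrFintype (Subgroup.centralizer (P : Set G))
  have hpM := hM.2.2
  have hPg : IsPGroup p P := hS ▸ S.2
  obtain ⟨f, hf⟩ : ∃ f, f = (Subgroup.centralizer (P : Set G)).relIndex
      (Subgroup.normalizer (P : Set G)) := ⟨_, rfl⟩
  rw [← hf]
  -- the blocks of `C(P)`
  have hblk : ∀ θ : IrrCharacter (Subgroup.centralizer (P : Set G)), ∃ B, IsBrauerPairOf p M B P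
      (blockOf M (θ : Subgroup.centralizer (P : Set G) → ℂ)) := fun θ =>
    (existsUnique_block_of_pair hpM (⟨hPg, isPBlock_blockOf θ⟩ : IsBrauerPair p M P _)).exists
  choose Bof hBof using hblk
  let E : IrrCharacter (Subgroup.centralizer (P : Set G)) → ℕ := fun θ =>
    (Subgroup.centralizer (P : Set G)).relIndex
      (stabPair ⟨P, blockOf M (θ : Subgroup.centralizer (P : Set G) → ℂ)⟩)
  have hw : ∀ θ : {θ : IrrCharacter (Subgroup.centralizer (P : Set G)) //
      ∀ x : Subgroup.centralizer (P : Set G), (x : G) ∈ P →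
        (θ : Subgroup.centralizer (P : Set G) → ℂ) x =
          (θ : Subgroup.centralizer (P : Set G) → ℂ) 1},
      countWeight p P θ.1 = ∑ χ : {χ : IrrCharacter G // ¬ p ∣ charDegree (χ : G → ℂ)},
        if IsBrauerPairOf p M (blockOf M (χ.1 : G → ℂ)) P
          (blockOf M (θ.1 : Subgroup.centralizer (P : Set G) → ℂ)) then E θ.1 else 0 := by
    intro θ
    have hpair := hBof θ.1
    obtain ⟨Y, ε, a, -, -, hte, -, -, hB, -, -, -, -, -, -, -⟩ :=
      defect_one_structure hM hcard hsq hpair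
    have hsum : (∑ χ : {χ : IrrCharacter G // ¬ p ∣ charDegree (χ : G → ℂ)},
        if IsBrauerPairOf p M (blockOf M (χ.1 : G → ℂ)) P
          (blockOf M (θ.1 : Subgroup.centralizer (P : Set G) → ℂ)) then E θ.1 else 0) =
        Nat.card (Bof θ.1) * E θ.1 := by
      rw [← Finset.sum_filter, Finset.sum_const, smul_eq_mul, ← Fintype.card_subtype,
        ← Nat.card_eq_fintype_card]
      congr 1
      refine Nat.card_congr
        { toFun := fun χ => ⟨χ.1.1, (existsUnique_block_of_pair hpM hpair.1).unique χ.2 hpair ▸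
            mem_blockOf_self χ.1.1⟩
          invFun := fun χ => ⟨⟨χ.1, not_dvd_degree_of_pair hM hcard hsq hpair χ.2⟩, by
            rw [← IsPBlock.eq_blockOf hpair.2.1 χ.2]; exact hpair⟩
          left_inv := fun χ => rfl
          right_inv := fun χ => rfl }
    rw [hsum, hB]
    have hT : Nat.card {g : G // g ∈ Subgroup.normalizer (P : Set G) ∧
        ∀ c c' : Subgroup.centralizer (P : Set G), (c' : G) = g * c * g⁻¹ →
          (θ.1 : Subgroup.centralizer (P : Set G) → ℂ) c' =
            (θ.1 : Subgroup.centralizer (P : Set G) → ℂ) c} =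
        Nat.card (Subgroup.centralizer (P : Set G)) * E θ.1 := by
      rw [Nat.card_congr (Equiv.subtypeEquivRight (q := (· ∈ stabPair
        (⟨P, blockOf M (θ.1 : Subgroup.centralizer (P : Set G) → ℂ)⟩ : BrauerPairIdx G))) fun g =>
          (mem_stabPair_canonical_iff hM hcard hsq hpair (mem_blockOf_self θ.1) θ.2 g).symm)]
      show Nat.card (stabPair _) = _
      rw [← Subgroup.card_mul_index ((Subgroup.centralizer (P : Set G)).subgroupOf (stabPair
          (⟨P, blockOf M (θ.1 : Subgroup.centralizer (P : Set G) → ℂ)⟩ : BrauerPairIdx G))),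
        Nat.card_congr (Subgroup.subgroupOfEquivOfLe (centralizer_le_stabPair hpair.1.2)).toEquiv]
      rfl
    rw [countWeight, hT, Nat.mul_div_cancel_left _ Nat.card_pos,
      show p - 1 = Nat.card Y * E θ.1 by simp only [E]; omega]
    simp only [E]
    ring
  simp only [hw]
  rw [Finset.sum_comm, Nat.card_eq_fintype_card, ← Finset.card_univ, ← smul_eq_mul,
    ← Finset.sum_const]
  refine Finset.sum_congr rfl fun χ _ => ?_
  obtain ⟨b₀, hb₀⟩ := exists_pair_of_not_dvd hM S hS hcard hsq χ.2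
  obtain ⟨m, hm⟩ : ∃ m, m = Nat.card {c : Set (IrrCharacter (Subgroup.centralizer (P : Set G))) //
      IsBrauerPairOf p M (blockOf M (χ.1 : G → ℂ)) P c} := ⟨_, rfl⟩
  have hm0 : 0 < m := by
    haveI : Nonempty {c : Set (IrrCharacter (Subgroup.centralizer (P : Set G))) //
      IsBrauerPairOf p M (blockOf M (χ.1 : G → ℂ)) P c} := ⟨⟨b₀, hb₀⟩⟩
    rw [hm]; exact Nat.card_pos
  rw [← Finset.sum_filter]
  have hE : ∀ θ ∈ univ.filter (fun θ : {θ : IrrCharacter (Subgroup.centralizer (P : Set G)) //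
      ∀ x : Subgroup.centralizer (P : Set G), (x : G) ∈ P →
        (θ : Subgroup.centralizer (P : Set G) → ℂ) x =
          (θ : Subgroup.centralizer (P : Set G) → ℂ) 1} =>
      IsBrauerPairOf p M (blockOf M (χ.1 : G → ℂ)) P
        (blockOf M (θ.1 : Subgroup.centralizer (P : Set G) → ℂ))), E θ.1 = f / m := fun θ hθ => by
    have h := card_pairs_mul hM hcard hsq (mem_filter.1 hθ).2
    rw [← hm, ← hf] at h
    rw [← h, Nat.mul_div_cancel_left _ hm0]
  have hmf : m ∣ f := by
    rw [hm, hf, ← card_pairs_mul hM hcard hsq hb₀]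
    exact dvd_mul_right _ _
  rw [Finset.sum_congr rfl hE, Finset.sum_const, smul_eq_mul]
  conv_lhs => rw [← Nat.mul_div_cancel' hmf]
  congr 1
  rw [hm, ← Fintype.card_subtype, ← Nat.card_eq_fintype_card]
  refine Nat.card_congr (Equiv.ofBijective (fun θ =>
    (⟨blockOf M (θ.1.1 : Subgroup.centralizer (P : Set G) → ℂ), θ.2⟩ :
      {c : Set (IrrCharacter (Subgroup.centralizer (P : Set G))) //
        IsBrauerPairOf p M (blockOf M (χ.1 : G → ℂ)) P c})) ⟨fun θ θ' h => ?_, fun c => ?_⟩).symm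
  · have hh := congrArg Subtype.val h
    refine Subtype.ext (Subtype.ext (canonical_unique hcard hsq
      (blockRank_local hM hcard hsq θ.2) (mem_blockOf_self θ.1.1) ?_ θ.1.2 θ'.1.2))
    rw [show blockOf M (θ.1.1 : Subgroup.centralizer (P : Set G) → ℂ) =
      blockOf M (θ'.1.1 : Subgroup.centralizer (P : Set G) → ℂ) from hh]
    exact mem_blockOf_self θ'.1.1
  · obtain ⟨θ, hθc, hθ⟩ := exists_canonical hpM hcard hsq c.2.1.2
    have e : blockOf M (θ : Subgroup.centralizer (P : Set G) → ℂ) = c.1 :=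
      (IsPBlock.eq_blockOf c.2.1.2 hθc).symm
    exact ⟨⟨⟨θ, hθ⟩, e ▸ c.2⟩, Subtype.ext e⟩

open scoped Classical in
/-- The count does not change on passing to the normalizer. -/
theorem sum_countWeight_normalizer {N : Subgroup G} (hN : N = Subgroup.normalizer (P : Set G))
    [Fintype {θ : IrrCharacter (Subgroup.centralizer (P : Set G)) //
      ∀ x : Subgroup.centralizer (P : Set G), (x : G) ∈ P →
        (θ : Subgroup.centralizer (P : Set G) → ℂ) x =
          (θ : Subgroup.centralizer (P : Set G) → ℂ) 1}]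
    [Fintype (Subgroup.centralizer ((P.subgroupOf N : Subgroup N) : Set N))]
    [Fintype {θ : IrrCharacter (Subgroup.centralizer ((P.subgroupOf N : Subgroup N) : Set N)) //
      ∀ x : Subgroup.centralizer ((P.subgroupOf N : Subgroup N) : Set N), (x : N) ∈ P.subgroupOf N →
        (θ : Subgroup.centralizer ((P.subgroupOf N : Subgroup N) : Set N) → ℂ) x =
          (θ : Subgroup.centralizer ((P.subgroupOf N : Subgroup N) : Set N) → ℂ) 1}] :
    ∑ θ : {θ : IrrCharacter (Subgroup.centralizer ((P.subgroupOf N : Subgroup N) : Set N)) //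
        ∀ x : Subgroup.centralizer ((P.subgroupOf N : Subgroup N) : Set N), (x : N) ∈ P.subgroupOf N →
          (θ : Subgroup.centralizer ((P.subgroupOf N : Subgroup N) : Set N) → ℂ) x =
            (θ : Subgroup.centralizer ((P.subgroupOf N : Subgroup N) : Set N) → ℂ) 1},
        countWeight p (P.subgroupOf N) θ.1 =
      ∑ θ : {θ : IrrCharacter (Subgroup.centralizer (P : Set G)) //
        ∀ x : Subgroup.centralizer (P : Set G), (x : G) ∈ P →
          (θ : Subgroup.centralizer (P : Set G) → ℂ) x =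
            (θ : Subgroup.centralizer (P : Set G) → ℂ) 1}, countWeight p P θ.1 := by
  have hPN : P ≤ N := hN ▸ Subgroup.le_normalizer
  have hCN : Subgroup.centralizer (P : Set G) ≤ N := hN ▸ centralizer_le_normalizer' P
  have hmem : ∀ c : N, c ∈ Subgroup.centralizer ((P.subgroupOf N : Subgroup N) : Set N) ↔
      (c : G) ∈ Subgroup.centralizer (P : Set G) := fun c => by
    rw [Subgroup.mem_centralizer_iff, Subgroup.mem_centralizer_iff]
    exact ⟨fun h v hv => congrArg Subtype.val (h ⟨v, hPN hv⟩ (Subgroup.mem_subgroupOf.2 hv)),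
      fun h v hv => Subtype.ext (h v (Subgroup.mem_subgroupOf.1 hv))⟩
  let α : Subgroup.centralizer ((P.subgroupOf N : Subgroup N) : Set N) ≃*
      Subgroup.centralizer (P : Set G) :=
    { toFun := fun c => ⟨((c : N) : G), (hmem c).1 c.2⟩
      invFun := fun c => ⟨⟨c, hCN c.2⟩, (hmem _).2 c.2⟩
      left_inv := fun c => rfl
      right_inv := fun c => rfl
      map_mul' := fun c c' => rfl }
  let Φ : IrrCharacter (Subgroup.centralizer (P : Set G)) ≃
      IrrCharacter (Subgroup.centralizer ((P.subgroupOf N : Subgroup N) : Set N)) :=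
    { toFun := pullIrr α
      invFun := pullIrr α.symm
      left_inv := fun θ => Subtype.ext (funext fun x => congrArg (θ : _ → ℂ) (α.apply_symm_apply x))
      right_inv := fun θ => Subtype.ext (funext fun x =>
        congrArg (θ : _ → ℂ) (α.symm_apply_apply x)) }
  refine (Fintype.sum_equiv (Equiv.subtypeEquiv Φ fun θ => ?_) _ _ fun θ => ?_).symm
  · constructor
    · intro h x hx
      show (θ : _ → ℂ) (α x) = (θ : _ → ℂ) (α 1)
      rw [map_one]
      exact h (α x) (Subgroup.mem_subgroupOf.1 hx)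
    · intro h x hx
      have h2 := h (α.symm x) (Subgroup.mem_subgroupOf.2 hx)
      change (θ : _ → ℂ) (α (α.symm x)) = (θ : _ → ℂ) (α 1) at h2
      rwa [α.apply_symm_apply, map_one] at h2
  · unfold countWeight
    rw [Nat.card_congr α.toEquiv]
    congr 3
    refine Nat.card_congr
      { toFun := fun g => ⟨⟨g.1, hN ▸ g.2.1⟩, ?_, fun c c' h => ?_⟩
        invFun := fun g => ⟨(g.1 : G), hN ▸ g.1.2, fun c c' h => ?_⟩
        left_inv := fun g => rfl
        right_inv := fun g => rfl }
    · rw [Subgroup.mem_normalizer_iff]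
      intro v
      rw [Subgroup.mem_subgroupOf, Subgroup.mem_subgroupOf]
      exact Subgroup.mem_normalizer_iff.1 g.2.1 (v : G)
    · exact g.2.2 (α c) (α c') (congrArg Subtype.val h)
    · have h2 := g.2.2 (α.symm c) (α.symm c') (Subtype.ext h)
      change (θ.1 : _ → ℂ) (α (α.symm c')) = (θ.1 : _ → ℂ) (α (α.symm c)) at h2
      rwa [α.apply_symm_apply, α.apply_symm_apply] at h2

/-- A normal Sylow subgroup of order `p` meets no degree. -/
theorem not_dvd_degree_of_normal (hM : IsPModular p M) (S : Sylow p G) (hS : (S : Subgroup G) = P)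
    [P.Normal] (hcard : Nat.card P = p) (hsq : ¬ p ^ 2 ∣ Nat.card G) (χ : IrrCharacter G) :
    ¬ p ∣ charDegree (χ : G → ℂ) := by
  obtain ⟨D, hD⟩ := exists_isDefectGroup (p := p) (isPBlock_blockOf (M := M) χ)
  have hle := IsDefectGroup.normal_le hM.2.2 (isPBlock_blockOf χ) hD (P := P) (hS ▸ S.2)
  obtain ⟨b, hb⟩ := exists_pair_on_defectGroup hM.2.2 (isPBlock_blockOf χ) hD
  obtain ⟨T, hT⟩ := hb.1.1.exists_le_sylow
  obtain rfl : P = D := Subgroup.eq_of_le_of_card_ge hle ((Subgroup.card_le_of_le hT).trans (by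
    rw [hcard, Sylow.card_eq_multiplicity T, ← Sylow.card_eq_multiplicity S, hS, hcard]))
  exact not_dvd_degree_of_pair hM hcard hsq hb (mem_blockOf_self χ)

/-- **Characters of degree prime to `p`** are as many as the classes of the normalizer. -/
theorem card_not_dvd_degree_eq (S : Sylow p G) (hS : (S : Subgroup G) = P)
    (hcard : Nat.card P = p) (hsq : ¬ p ^ 2 ∣ Nat.card G) :
    Nat.card {χ : IrrCharacter G // ¬ p ∣ charDegree (χ : G → ℂ)} =
      Nat.card (ConjClasses (Subgroup.normalizer (P : Set G))) := by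
  classical
  obtain ⟨M, hM⟩ := CharApps.exists_pModular p
  haveI := hM.2.1.isPrime
  haveI := irrFintype (Subgroup.centralizer (P : Set G))
  obtain ⟨N, hN⟩ : ∃ N : Subgroup G, N = Subgroup.normalizer (P : Set G) := ⟨_, rfl⟩
  rw [← hN]
  have hPN : P ≤ N := hN ▸ Subgroup.le_normalizer
  haveI hPn : (P.subgroupOf N).Normal := hN ▸ Subgroup.normal_in_normalizer
  have hcard' : Nat.card (P.subgroupOf N) = p :=
    (Nat.card_congr (Subgroup.subgroupOfEquivOfLe hPN).toEquiv).trans hcard
  have hsq' : ¬ p ^ 2 ∣ Nat.card N := fun h => hsq (h.trans N.card_subgroup_dvd_card)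
  haveI := Fintype.ofFinite N
  haveI := Fintype.ofFinite (Subgroup.centralizer ((P.subgroupOf N : Subgroup N) : Set N))
  haveI := irrFintype (Subgroup.centralizer ((P.subgroupOf N : Subgroup N) : Set N))
  obtain ⟨S', hS'⟩ : ∃ S' : Sylow p N, (S' : Subgroup N) = P.subgroupOf N := by
    refine ⟨S.subtype (hS ▸ hPN), ?_⟩
    rw [Sylow.coe_subtype, hS]
  have h1 := card_mul_relIndex_eq_sum hM S hS hcard hsq
  have h2 := card_mul_relIndex_eq_sum hM S' hS' hcard' hsq'
  rw [sum_countWeight_normalizer hN, ← h1] at h2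
  have hall : Nat.card {χ : IrrCharacter N // ¬ p ∣ charDegree (χ : N → ℂ)} =
      Nat.card (ConjClasses N) := by
    rw [← card_irr_eq_card_classes (G := N)]
    exact Nat.card_congr (Equiv.subtypeUnivEquiv fun χ =>
      not_dvd_degree_of_normal hM S' hS' hcard' hsq' χ)
  rw [← hall]
  have hf : (Subgroup.centralizer ((P.subgroupOf N : Subgroup N) : Set N)).relIndex
      (Subgroup.normalizer ((P.subgroupOf N : Subgroup N) : Set N)) =
      (Subgroup.centralizer (P : Set G)).relIndex (Subgroup.normalizer (P : Set G)) := by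
    rw [Subgroup.normalizer_eq_top_iff.2 hPn, Subgroup.relIndex_top_right, ← hN, Subgroup.relIndex]
    congr 1
    ext c
    rw [Subgroup.mem_subgroupOf, Subgroup.mem_centralizer_iff, Subgroup.mem_centralizer_iff]
    exact ⟨fun h v hv => congrArg Subtype.val (h ⟨v, hPN hv⟩ (Subgroup.mem_subgroupOf.2 hv)),
      fun h v hv => Subtype.ext (h v (Subgroup.mem_subgroupOf.1 hv))⟩
  rw [hf] at h2
  have hpos : 0 < (Subgroup.centralizer (P : Set G)).relIndex (Subgroup.normalizer (P : Set G)) :=
    Nat.pos_of_ne_zero fun h => not_dvd_relIndex_normalizer (p := p) hcard (by rw [h]; exact dvd_zero p)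
  exact (Nat.eq_of_mul_eq_mul_right hpos h2).symm

end CfsgLib.Blocks
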