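import Cfsg.Agent.Lib.Blocks.DefectOneCount
import Cfsg.Agent.Lib.BlockOrth.SelfCentralFacts
import Mathlib.RingTheory.ZMod.UnitsCyclic

/-!
# Determinants for a self-centralizing element of prime order
-/

set_option linter.unusedSectionVars false
set_option linter.style.haveILetI false

namespace CfsgLib.Blocks

open Cfsg Chars BlockOrth Modular Finset

universe u

variable {G : Type u} [Group G] [Fintype G]

/-- The determinant of an element acting periodically. -/
theorem det_eq_of_periodic {n : ℕ} (ρ : Representation ℂ G (Fin n → ℂ)) {g : G} {f t : ℕ}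
    (hf : 0 < f) (hg : g ^ f = 1) (hn : n = t * f)
    (hz : ∀ i : ℕ, 0 < i → i < f → ρ.character (g ^ i) = 0) :
    LinearMap.det (ρ g) = ((-1) ^ (f - 1)) ^ t := by
  classical
  obtain ⟨bb, μ, hμ, -, hb, -, -, -⟩ := exists_eigenbasis_rep ρ g
  have hμf : ∀ i, μ i ^ f = 1 := fun i => by
    obtain ⟨d, hd⟩ := orderOf_dvd_of_pow_eq_one hg
    rw [hd, pow_mul, hμ i, one_pow]
  have hpow : ∀ (k : ℕ) i, ρ (g ^ k) (bb i) = μ i ^ k • bb i := fun k i => by
    induction k with
    | zero => simp
    | succ k ih => rw [pow_succ, map_mul, Module.End.mul_apply, hb, map_smul, ih, smul_smul,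
        pow_succ, mul_comm]
  have hchar : ∀ k : ℕ, ρ.character (g ^ k) = ∑ i, μ i ^ k := fun k =>
    trace_eq_sum_of_eigenbasis _ bb _ (hpow k)
  have hdet : LinearMap.det (ρ g) = ∏ i, μ i := by
    rw [← LinearMap.det_toMatrix bb, show LinearMap.toMatrix bb bb (ρ g) = Matrix.diagonal μ from ?_,
      Matrix.det_diagonal]
    ext i j
    rw [LinearMap.toMatrix_apply, hb, map_smul, Module.Basis.repr_self, Finsupp.smul_single,
      Matrix.diagonal_apply, smul_eq_mul, mul_one, Finsupp.single_apply]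
    by_cases h : i = j
    · subst h; simp
    · simp [h, Ne.symm h]
  have hζ := Complex.isPrimitiveRoot_exp f hf.ne'
  obtain ⟨ζ, hζdef⟩ : ∃ ζ, ζ = Complex.exp (2 * Real.pi * Complex.I / (f : ℕ)) := ⟨_, rfl⟩
  rw [← hζdef] at hζ
  haveI : NeZero f := ⟨hf.ne'⟩
  have hmult : ∀ j ∈ range f, (univ.filter fun i => μ i = ζ ^ j).card = t := by
    intro j _
    have hgeo : ∀ i, ∑ k ∈ range f, (μ i * (ζ ^ j)⁻¹) ^ k = if μ i = ζ ^ j then (f : ℂ) else 0 := by
      intro i
      by_cases h : μ i = ζ ^ j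
      · rw [if_pos h, h, mul_inv_cancel₀ (pow_ne_zero _ (hζ.ne_zero hf.ne'))]
        simp
      · rw [if_neg h, geom_sum_eq]
        · rw [mul_pow, hμf i, inv_pow, ← pow_mul, mul_comm j f, pow_mul, hζ.pow_eq_one, one_pow]
          simp
        · intro h1
          exact h ((mul_inv_eq_one₀ (pow_ne_zero _ (hζ.ne_zero hf.ne'))).1 h1)
    have h1 : ((univ.filter fun i => μ i = ζ ^ j).card : ℂ) * f = (t : ℂ) * f := by
      calc ((univ.filter fun i => μ i = ζ ^ j).card : ℂ) * f
          = ∑ i, ∑ k ∈ range f, (μ i * (ζ ^ j)⁻¹) ^ k := by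
            simp only [hgeo, ← Finset.sum_filter, Finset.sum_const, nsmul_eq_mul]
        _ = ∑ k ∈ range f, ((ζ ^ j)⁻¹) ^ k * ρ.character (g ^ k) := by
            rw [Finset.sum_comm]
            refine Finset.sum_congr rfl fun k _ => ?_
            rw [hchar, Finset.mul_sum]
            exact Finset.sum_congr rfl fun i _ => by rw [mul_pow, mul_comm]
        _ = ρ.character 1 := by
            rw [Finset.sum_eq_single 0 (fun k hk h0 => by
              rw [hz k (Nat.pos_of_ne_zero h0) (mem_range.1 hk), mul_zero])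
              fun h => absurd (mem_range.2 hf) h, pow_zero, pow_zero, one_mul]
        _ = (t : ℂ) * f := by
            rw [Representation.char_one, Module.finrank_fin_fun, hn, Nat.cast_mul]
    exact_mod_cast mul_right_cancel₀ (Nat.cast_ne_zero.2 hf.ne') h1
  rw [hdet, ← Finset.prod_fiberwise_of_maps_to (t := (range f).image (ζ ^ ·)) (g := μ) fun i _ => by
      obtain ⟨j, hj, hj'⟩ := hζ.eq_pow_of_pow_eq_one (hμf i)
      exact mem_image.2 ⟨j, mem_range.2 hj, hj'⟩,
    Finset.prod_image fun a ha b hb h => hζ.pow_inj (mem_range.1 ha) (mem_range.1 hb) h]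
  rw [Finset.prod_congr rfl fun j hj => (Finset.prod_congr rfl (fun i hi => (mem_filter.1 hi).2)).trans
    (Finset.prod_const _)]
  rw [Finset.prod_congr rfl fun j hj => by rw [hmult j hj], Finset.prod_pow]
  congr 1
  rw [Finset.prod_pow_eq_pow_sum]
  rcases Nat.lt_or_ge f 2 with h2 | h2
  · obtain rfl : f = 1 := by omega
    simp
  have hsum : (∑ i ∈ range f, i) * 2 = f * (f - 1) := Finset.sum_range_id_mul_two f
  rcases Nat.even_or_odd f with hev | hodd
  · obtain ⟨c, hc⟩ := hev
    have hs : ∑ i ∈ range f, i = c * (f - 1) := by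
      have h4 : c * (f - 1) * 2 = f * (f - 1) := by rw [hc]; ring
      omega
    rw [hs, pow_mul]
    congr 1
    refine (sq_eq_one_iff.1 ?_).resolve_left ?_
    · rw [← pow_mul, show c * 2 = f by omega, hζ.pow_eq_one]
    · exact hζ.pow_ne_one_of_pos_of_lt (by omega) (by omega)
  · obtain ⟨c, hc⟩ := hodd
    have hs : ∑ i ∈ range f, i = f * c := by
      have h4 : f * c * 2 = f * (f - 1) := by rw [hc, Nat.add_sub_cancel]; ring
      omega
    rw [hs, pow_mul, hζ.pow_eq_one, one_pow, hc, Nat.add_sub_cancel, pow_mul, neg_one_sq, one_pow]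

/-- **Degree `p - 1` with a self-centralizing element of order `p`.** -/
theorem even_classes_or_index {p : ℕ} [Fact p.Prime] {x : G} (hx : orderOf x = p)
    (hC : Subgroup.centralizer ({x} : Set G) = Subgroup.zpowers x) (χ : IrrCharacter G)
    (hχ : charDegree (χ : G → ℂ) + 1 = p) :
    Even (Nat.card {C : ConjClasses G // ∃ g ∈ C.carrier, orderOf g = p}) ∨
      Even (commutator G).index := by
  classical
  have hp : p.Prime := Fact.out
  obtain ⟨f, hf⟩ : ∃ f, f = (Subgroup.zpowers x).relIndex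
      (Subgroup.normalizer (Subgroup.zpowers x : Set G)) := ⟨_, rfl⟩
  have hcount := BlockOrth.card_classes_mul hx hC
  rw [← hf] at hcount
  obtain ⟨t, ht⟩ : ∃ t, t = Nat.card {C : ConjClasses G // ∃ g ∈ C.carrier, orderOf g = p} := ⟨_, rfl⟩
  rw [← ht] at hcount ⊢
  rcases Nat.even_or_odd t with h | htodd
  · exact Or.inl h
  right
  rcases eq_or_ne p 2 with hp2 | hp2
  · have h1 : f = 1 := by
      rw [hp2] at hcount
      exact Nat.eq_one_of_mul_eq_one_left hcount
    rw [(BlockOrth.commutator_of_relIndex_one hx hC (hf ▸ h1)).2.1, hp2]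
    exact even_two
  have hpodd : Odd p := hp.odd_of_ne_two hp2
  have hfev : Even f := by
    rcases Nat.even_or_odd f with h | h
    · exact h
    · exfalso
      have h2 := htodd.mul h
      rw [hcount] at h2
      obtain ⟨c, hc⟩ := hpodd
      rw [hc, Nat.add_sub_cancel] at h2
      exact (Nat.not_odd_iff_even.2 (even_two_mul c)) h2
  have hf0 : 0 < f := Nat.pos_of_ne_zero fun h => by
    rw [h, mul_zero] at hcount
    have := hp.two_le
    omega
  have hf2 : 2 ≤ f := by obtain ⟨c, hc⟩ := hfev; omega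
  obtain ⟨S, hS⟩ := BlockOrth.exists_sylow_eq hx hC
  obtain ⟨P, hP⟩ : ∃ P, P = Subgroup.zpowers x := ⟨_, rfl⟩
  have hcard : Nat.card P = p := by rw [hP, BlockOrth.card_zpowers_eq hx]
  have hsq : ¬ p ^ 2 ∣ Nat.card G := by
    intro h
    have h1 := S.card_eq_multiplicity
    rw [hS, ← hP, hcard] at h1
    have h2 := (hp.pow_dvd_iff_le_factorization Nat.card_pos.ne').1 h
    have h3 : (Nat.card G).factorization p = 1 := Nat.pow_right_injective hp.two_le
      (show p ^ (Nat.card G).factorization p = p ^ 1 by rw [pow_one, ← h1])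
    omega
  have hCP : Subgroup.centralizer (P : Set G) = P := by
    rw [hP, centralizer_zpowers_eq, hC]
  haveI : Fintype (Subgroup.centralizer (P : Set G)) := Fintype.ofFinite _
  have hN : f = (Subgroup.centralizer (P : Set G)).relIndex (Subgroup.normalizer (P : Set G)) := by
    rw [hCP, hf, hP]
  -- the block of the character
  obtain ⟨M, hM⟩ := CharApps.exists_pModular p
  haveI := hM.2.1.isPrime
  have hχp : ¬ p ∣ charDegree (χ : G → ℂ) := fun h => by
    have h0 : charDegree (χ : G → ℂ) ≠ 0 := irr_charDegree_ne_zero χ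
    have := Nat.le_of_dvd (Nat.pos_of_ne_zero h0) h
    omega
  obtain ⟨b, hpair⟩ := exists_pair_of_not_dvd hM S (hS.trans hP.symm) hcard hsq hχp
  obtain ⟨θ, hθb, hθ⟩ := exists_canonical hM.2.2 hcard hsq hpair.1.2
  have hθ1 : ∀ c, (θ : Subgroup.centralizer (P : Set G) → ℂ) c = 1 := fun c => by
    rw [hθ c (hCP.le c.2)]
    exact irr_abelian_degree (fun a c' => Subtype.ext
      (commute_of_prime hcard _ (hCP.le a.2) _ (hCP.le c'.2))) θ.2
  have hTN : stabPair (⟨P, b⟩ : BrauerPairIdx G) = Subgroup.normalizer (P : Set G) := by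
    ext g
    rw [mem_stabPair_canonical_iff hM hcard hsq hpair hθb hθ g]
    exact ⟨fun h => h.1, fun h => ⟨h, fun c c' _ => by rw [hθ1, hθ1]⟩⟩
  have hdegθ : charDegree (θ : Subgroup.centralizer (P : Set G) → ℂ) = 1 := by
    refine Nat.cast_injective (R := ℂ) ?_
    rw [charDegree_cast, hθ1, Nat.cast_one]
  obtain ⟨Y, ε, a, hε, hYB, hte, -, -, -, ha, hY, -, -, -, -, -⟩ :=
    defect_one_structure hM hcard hsq hpair
  rw [hTN, ← hN] at hte hY
  -- constant on the nontrivial elements
  obtain ⟨c, hc⟩ : ∃ c : ℂ, ∀ u : P, u ≠ 1 → (χ : G → ℂ) u = c := by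
    by_cases hχY : χ ∈ Y
    swap
    · refine ⟨(a χ : ℂ), fun u hu => ?_⟩
      obtain ⟨Sf, v, hcardS, hv, hval⟩ :=
        char_apply_eq_sum hM hcard hsq hpair hθb hθ (mem_blockOf_self χ) hu
      rw [hTN, ← hN] at hcardS
      have h1 : Sf.card = 1 := (Nat.mul_eq_right hf0.ne').1 hcardS
      rw [hval, hθ1, one_mul, Finset.sum_congr rfl fun q _ =>
        (ha χ ⟨mem_blockOf_self χ, hχY⟩).2 _ (hv q), Finset.sum_const, h1, one_smul]
    · have h := degree_modEq hM hcard hsq hpair hθb hθ (mem_blockOf_self χ) (c := ε * f) fun v hv => by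
        exact_mod_cast hY χ hχY v hv
      rw [hTN, ← hN, hdegθ, Nat.div_self hf0, one_mul, Nat.cast_one, one_mul] at h
      have hd : (p : ℤ) ∣ ε * f + 1 := by
        have := h.dvd
        have hx' : (charDegree (χ : G → ℂ) : ℤ) + 1 = p := by exact_mod_cast hχ
        have h3 := dvd_add this (dvd_refl (p : ℤ))
        rwa [show ε * (f : ℤ) - (charDegree (χ : G → ℂ) : ℤ) + p = ε * f + 1 by linarith] at h3
      have hfp : f ≤ p - 1 := Nat.le_of_dvd (by have := hp.two_le; omega) (Dvd.intro_left _ hcount)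
      have hfeq : f + 1 = p := by
        rcases hε with he | he <;> subst he
        · have h4 : (p : ℤ) ∣ ((f + 1 : ℕ) : ℤ) := by push_cast; simpa using hd
          have := Nat.le_of_dvd (by omega) (Int.natCast_dvd_natCast.1 h4)
          have := hp.two_le
          omega
        · exfalso
          have h4 : (p : ℤ) ∣ ((f - 1 : ℕ) : ℤ) := by
            rw [Nat.cast_sub hf0, ← dvd_neg]
            simpa [sub_eq_add_neg, add_comm] using hd
          have := Nat.le_of_dvd (by omega) (Int.natCast_dvd_natCast.1 h4)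
          omega
      haveI : Nontrivial P := Finite.one_lt_card_iff_nontrivial.1 (hcard ▸ hp.one_lt)
      obtain ⟨w, hw⟩ := exists_ne (1 : P)
      refine ⟨(χ : G → ℂ) w, fun u hu => ?_⟩
      have hsurj : Function.Surjective fun σ : P.normalizerMonoidHom.range =>
          (⟨(σ : MulAut P) w, fun h => hw ((map_eq_one_iff _ (σ : MulAut P).injective).1 h)⟩ :
            {z : P // z ≠ 1}) := by
        haveI : Fintype P := Fintype.ofFinite P
        refine ((Fintype.bijective_iff_injective_and_card _).2 ⟨fun σ τ h => ?_, ?_⟩).2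
        · refine Subtype.ext (MulEquiv.ext fun z => ?_)
          obtain ⟨k, rfl⟩ := Subgroup.mem_zpowers_iff.1
            (mem_zpowers_of_prime_card (g' := z) hcard hw)
          rw [map_zpow, map_zpow]
          exact congrArg (· ^ k) (congrArg Subtype.val h)
        · rw [← Nat.card_eq_fintype_card, card_range_normalizerMonoidHom, ← hN,
            Fintype.card_subtype_compl, Fintype.card_subtype_eq, ← Nat.card_eq_fintype_card, hcard]
          omega
      obtain ⟨⟨σ, n, hn⟩, hσ⟩ := hsurj ⟨u, hu⟩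
      have h5 : (σ w : P) = u := congrArg Subtype.val hσ
      rw [← h5, ← hn]
      exact isClassFunction_irr χ (w : G) (n : G)
  -- the constant is `-1`
  haveI : Fintype P := Fintype.ofFinite P
  obtain ⟨χf, d, ρ, hρ, rfl⟩ := χ
  have hd1 : (ρ.character 1 : ℂ) = (p : ℂ) - 1 := by
    rw [show ρ.character 1 = (charDegree ρ.character : ℂ) from
      (charDegree_cast (⟨ρ.character, d, ρ, hρ, rfl⟩ : IrrCharacter G)).symm, ← hχ]
    push_cast
    ring
  obtain ⟨E, hE⟩ : ∃ E : Module.End ℂ (Fin d → ℂ), E = (p : ℂ)⁻¹ • ∑ u : P, ρ (u : G) := ⟨_, rfl⟩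
  have hsumP : ∑ u : P, ρ.character (u : G) = (p : ℂ) - 1 + ((p : ℂ) - 1) * c := by
    rw [← Finset.sum_erase_add _ _ (mem_univ (1 : P)), OneMemClass.coe_one, hd1,
      Finset.sum_congr rfl fun u hu => hc u (Finset.ne_of_mem_erase hu), Finset.sum_const,
      Finset.card_erase_of_mem (mem_univ _), Finset.card_univ, ← Nat.card_eq_fintype_card, hcard,
      nsmul_eq_mul, Nat.cast_sub hp.one_lt.le, Nat.cast_one]
    ring
  have hEmul : ∀ u : P, E * ρ (u : G) = E := fun u => by
    rw [hE, smul_mul_assoc, Finset.sum_mul]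
    congr 1
    exact Fintype.sum_equiv (Equiv.mulRight u) _ _ fun v => by
      rw [← map_mul]; rfl
  have hEE : E * E = E := by
    conv_lhs => rhs; rw [hE]
    rw [mul_smul_comm, Finset.mul_sum, Finset.sum_congr rfl fun u _ => hEmul u, Finset.sum_const,
      Finset.card_univ, ← Nat.card_eq_fintype_card, hcard, ← Nat.cast_smul_eq_nsmul ℂ, smul_smul,
      inv_mul_cancel₀ (Nat.cast_ne_zero.2 hp.ne_zero), one_smul]
  have htrE : LinearMap.trace ℂ _ E = ((p : ℂ) - 1) * (1 + c) / p := by
    rw [hE, map_smul, map_sum, smul_eq_mul,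
      show ∑ u : P, LinearMap.trace ℂ _ (ρ (u : G)) = _ from hsumP]
    ring
  have hc1 : c = -1 := by
    -- the fixed space is zero
    obtain ⟨r, hr, hrd⟩ : ∃ r : ℕ, LinearMap.trace ℂ _ E = r ∧ r ≤ d := by
      refine ⟨Module.finrank ℂ (LinearMap.range E), ?_,
        (Submodule.finrank_le _).trans (Module.finrank_fin_fun ℂ).le⟩
      exact (LinearMap.IsProj.trace ⟨fun v => LinearMap.mem_range_self E v, fun v hv => by
        obtain ⟨w, rfl⟩ := hv
        rw [← Module.End.mul_apply, hEE]⟩)
    have hd : d + 1 = p := by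
      rw [← hχ]
      congr 1
      refine Nat.cast_injective (R := ℂ) ?_
      rw [charDegree_cast (⟨ρ.character, d, ρ, hρ, rfl⟩ : IrrCharacter G)]
      show (d : ℂ) = ρ.character 1
      rw [Representation.char_one, Module.finrank_fin_fun]
    rw [htrE] at hr
    have hp0 : (p : ℂ) ≠ 0 := Nat.cast_ne_zero.2 hp.ne_zero
    have hr' : ((p : ℂ) - 1) * (1 + c) = r * p := by rw [← hr]; field_simp
    have hci : IsIntegral ℤ c := by
      haveI : Nontrivial P := Finite.one_lt_card_iff_nontrivial.1 (hcard ▸ hp.one_lt)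
      obtain ⟨w, hw⟩ := exists_ne (1 : P)
      rw [← hc w hw]
      exact isIntegral_character ρ _
    -- `c` is an integer with `p ∣ c + 1`, bounded by the second orthogonality relation
    have hp1 : ((p : ℂ) - 1) ≠ 0 := sub_ne_zero.2 (by exact_mod_cast hp.ne_one)
    have hcq : c = (((r * p : ℤ) / ((p : ℤ) - 1) : ℚ) - 1 : ℚ) := by
      push_cast
      rw [← hr']
      field_simp
      ring
    have hci2 : IsIntegral ℤ ((((r * p : ℤ) / ((p : ℤ) - 1) : ℚ) - 1 : ℚ)) :=
      (isIntegral_algHom_iff ((algebraMap ℚ ℂ).toIntAlgHom) (RingHom.injective _)).1 (by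
        show IsIntegral ℤ ((algebraMap ℚ ℂ) _)
        rw [eq_ratCast, ← hcq]; exact hci)
    obtain ⟨q, hq⟩ := IsIntegrallyClosed.isIntegral_iff.1 hci2
    rw [eq_intCast] at hq
    have hcz : c = (q : ℂ) := by rw [hcq, ← hq, Rat.cast_intCast]
    rw [hcz] at hr' ⊢
    have hrz : ((p : ℤ) - 1) * (1 + q) = r * p := by exact_mod_cast hr'
    have hdz : (p : ℤ) ∣ 1 + q := by
      refine ((Int.prime_iff_natAbs_prime.2 (by simpa using hp)).dvd_or_dvd
        (Dvd.intro_left _ hrz.symm)).resolve_left fun h => ?_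
      have h5 : (p : ℤ) ∣ 1 := by simpa using dvd_sub (dvd_refl (p : ℤ)) h
      exact hp.ne_one (by exact_mod_cast Int.eq_one_of_dvd_one (by positivity) h5)
    obtain ⟨j, hj⟩ := hdz
    rw [hj] at hrz
    have hrj : ((p : ℤ) - 1) * j = r :=
      mul_right_cancel₀ (Int.natCast_ne_zero.2 hp.ne_zero) (by linear_combination hrz)
    have hrle : (r : ℤ) ≤ (p : ℤ) - 1 := by omega
    have hp1' : (0 : ℤ) < (p : ℤ) - 1 := by have := hp.two_le; omega
    have hj0 : 0 ≤ j := le_of_mul_le_mul_left (by rw [mul_zero, hrj]; positivity) hp1'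
    have hj1 : j ≤ 1 := le_of_mul_le_mul_left (by rw [mul_one, hrj]; exact hrle) hp1'
    obtain rfl | rfl : j = 0 ∨ j = 1 := by omega
    · rw [mul_zero] at hj
      rw [show q = -1 by omega]
      norm_num
    · -- then `P` would lie in the kernel
      exfalso
      rw [mul_one] at hj
      haveI := irrFintype G
      have h6 := second_orthogonality x x
      rw [if_pos (IsConj.refl x), hC, BlockOrth.card_zpowers_eq hx] at h6
      have hxP : x ∈ P := hP ▸ Subgroup.mem_zpowers x
      have h7 : (⟨ρ.character, d, ρ, hρ, rfl⟩ : IrrCharacter G).1 x = ((p : ℂ) - 1) := by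
        refine (hc ⟨x, hxP⟩ (fun h => hp.ne_one (by
          rw [← hx, show x = 1 from congrArg Subtype.val h, orderOf_one]))).trans ?_
        rw [hcz, show q = (p : ℤ) - 1 by omega]
        push_cast; ring
      have h8 := congrArg Complex.re h6
      rw [Complex.re_sum, Complex.natCast_re] at h8
      have h9 : ((⟨ρ.character, d, ρ, hρ, rfl⟩ : IrrCharacter G).1 x *
          (starRingEnd ℂ) ((⟨ρ.character, d, ρ, hρ, rfl⟩ : IrrCharacter G).1 x)).re ≤ (p : ℝ) := by
        rw [← h8]
        refine Finset.single_le_sum (f := fun χ : IrrCharacter G =>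
          ((χ : G → ℂ) x * (starRingEnd ℂ) ((χ : G → ℂ) x)).re) (fun i _ => ?_) (mem_univ _)
        show 0 ≤ ((i : G → ℂ) x * (starRingEnd ℂ) ((i : G → ℂ) x)).re
        rw [Complex.mul_conj, Complex.ofReal_re]
        exact Complex.normSq_nonneg _
      rw [h7, show ((p : ℂ) - 1) = (((p : ℝ) - 1 : ℝ) : ℂ) by push_cast; rfl, Complex.conj_ofReal,
        ← Complex.ofReal_mul, Complex.ofReal_re] at h9
      have h3 : (3 : ℝ) ≤ p := by exact_mod_cast hp.two_le.lt_of_ne' hp2
      nlinarith
  subst hc1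
  have hE0 : E = 0 := by
    have h1 : LinearMap.trace ℂ _ E = 0 := by rw [htrE]; ring
    have h2 : (Module.finrank ℂ (LinearMap.range E) : ℂ) = 0 := by
      rw [← h1]
      exact (LinearMap.IsProj.trace ⟨fun v => LinearMap.mem_range_self E v, fun v hv => by
        obtain ⟨w, rfl⟩ := hv
        rw [← Module.End.mul_apply, hEE]⟩).symm
    rwa [Nat.cast_eq_zero, Submodule.finrank_eq_zero, LinearMap.range_eq_bot] at h2
  -- an element permuting the eigenspaces freely
  obtain ⟨g, hg, hgN, hgi⟩ : ∃ g : G, g ^ f = 1 ∧ g ∈ Subgroup.normalizer (P : Set G) ∧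
      ∀ i : ℕ, 0 < i → i < f → g ^ i ∉ P := by
    haveI hcycP : IsCyclic P := isCyclic_of_prime_card hcard
    haveI : Fact (Nat.card P).Prime := ⟨hcard ▸ hp⟩
    haveI : IsCyclic (MulAut P) := by
      haveI : IsCyclic (ZMod (Nat.card P))ˣ := inferInstance
      exact isCyclic_of_injective (IsCyclic.mulAutMulEquiv P).toMonoidHom (MulEquiv.injective _)
    obtain ⟨⟨_, n, rfl⟩, hgen⟩ := IsCyclic.exists_generator (α := P.normalizerMonoidHom.range)
    have hord : orderOf (P.normalizerMonoidHom n) = f := by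
      have h1 := orderOf_eq_card_of_forall_mem_zpowers hgen
      rw [← Subgroup.orderOf_coe, card_range_normalizerMonoidHom, ← hN] at h1
      exact h1
    have hker : ∀ i : ℕ, (P.normalizerMonoidHom n) ^ i = 1 ↔ ((n : G) ^ i) ∈ P := fun i => by
      rw [← map_pow, ← MonoidHom.mem_ker, Subgroup.normalizerMonoidHom_ker, Subgroup.mem_subgroupOf,
        hCP]
      rfl
    refine ⟨((n : G)) ^ p, ?_, pow_mem n.2 p, fun i hi hif h => ?_⟩
    · rw [← pow_mul, mul_comm, pow_mul]
      exact pow_p_eq_one hcard ((hker f).1 (hord ▸ pow_orderOf_eq_one _))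
    · rw [← pow_mul] at h
      have h1 := orderOf_dvd_of_pow_eq_one ((hker (p * i)).2 h)
      rw [hord] at h1
      have hcop : f.Coprime p := by
        rw [Nat.coprime_comm, hp.coprime_iff_not_dvd]
        exact hN ▸ not_dvd_relIndex_normalizer hcard
      exact absurd (Nat.le_of_dvd hi (hcop.dvd_of_dvd_mul_left h1)) (by omega)
  have hz : ∀ i : ℕ, 0 < i → i < f → ρ.character (g ^ i) = 0 := by
    intro i hi hif
    obtain ⟨h, hh⟩ : ∃ h, h = g ^ i := ⟨_, rfl⟩
    rw [← hh]
    have hhN : h ∈ Subgroup.normalizer (P : Set G) := hh ▸ pow_mem hgN i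
    let φ : P → P := fun w => ⟨(w : G) * (h * (w : G)⁻¹ * h⁻¹), P.mul_mem w.2
      ((Subgroup.mem_normalizer_iff.1 hhN _).1 (P.inv_mem w.2))⟩
    have hφinj : Function.Injective φ := fun w w' hww => by
      by_contra hne
      have hww' : (w : G) * (h * (w : G)⁻¹ * h⁻¹) = (w' : G) * (h * (w' : G)⁻¹ * h⁻¹) :=
        congrArg Subtype.val hww
      have hne' : (w' : G)⁻¹ * w ≠ 1 := fun h1 => hne (Subtype.ext (inv_mul_eq_one.1 h1).symm)
      have hfix : h * ((w' : G)⁻¹ * w) * h⁻¹ = (w' : G)⁻¹ * w := by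
        have e : (w' : G)⁻¹ * (w : G) = h * (w' : G)⁻¹ * h⁻¹ * (h * (w : G) * h⁻¹) := by
          calc (w' : G)⁻¹ * (w : G)
              = (w' : G)⁻¹ * ((w : G) * (h * (w : G)⁻¹ * h⁻¹)) * (h * (w : G) * h⁻¹) := by group
            _ = (w' : G)⁻¹ * ((w' : G) * (h * (w' : G)⁻¹ * h⁻¹)) * (h * (w : G) * h⁻¹) := by
              rw [hww']
            _ = _ := by group
        conv_rhs => rw [e]
        group
      refine hgi i hi hif (hh ▸ hCP.le ?_)
      exact free_of_prime hcard (mul_mem (inv_mem w'.2) w.2) hne' hfix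
    have hconj : ∀ v : P, ρ.character ((v : G) * h) = ρ.character h := fun v => by
      obtain ⟨w, rfl⟩ := (Finite.injective_iff_surjective.1 hφinj) v
      rw [show ((φ w : P) : G) * h = (w : G) * h * (w : G)⁻¹ by simp only [φ]; group]
      exact Representation.char_conj ρ _ _
    have h3 : LinearMap.trace ℂ _ (E * ρ h) = ρ.character h := by
      rw [hE, smul_mul_assoc, map_smul, Finset.sum_mul, map_sum]
      simp only [← map_mul]
      rw [show ∑ u : P, LinearMap.trace ℂ _ (ρ ((u : G) * h)) = ∑ u : P, ρ.character ((u : G) * h)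
        from rfl, Finset.sum_congr rfl fun v _ => hconj v, Finset.sum_const, Finset.card_univ,
        ← Nat.card_eq_fintype_card, hcard, nsmul_eq_mul, smul_eq_mul, ← mul_assoc,
        inv_mul_cancel₀ (Nat.cast_ne_zero.2 hp.ne_zero), one_mul]
    rw [← h3, hE0, zero_mul, map_zero]
  have hd : d = t * f := by
    rw [hcount]
    have h1 : (d : ℂ) = ((p - 1 : ℕ) : ℂ) := by
      rw [Nat.cast_sub hp.one_lt.le, Nat.cast_one, ← hd1, Representation.char_one,
        Module.finrank_fin_fun]
    exact_mod_cast h1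
  have hdet := det_eq_of_periodic ρ hf0 hg hd hz
  have hneg : LinearMap.det (ρ g) = -1 := by
    rw [hdet, Odd.neg_one_pow (Nat.Even.sub_odd hf0 hfev odd_one), Odd.neg_one_pow htodd]
  let l : G →* ℂˣ := (Units.map LinearMap.det).comp ρ.toHomUnits
  have hl : l g = -1 := Units.ext (by simpa [l] using hneg)
  rw [← card_monoidHom_units]
  refine even_iff_two_dvd.2 ?_
  -- an element of even order in the dual
  have h2 : 2 ∣ orderOf l := by
    by_contra h
    have hodd : Odd (orderOf l) := Nat.odd_iff.2 (by omega)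
    have h1 := congrArg (fun m : G →* ℂˣ => m g) (pow_orderOf_eq_one l)
    simp only [MonoidHom.pow_apply, hl, MonoidHom.one_apply] at h1
    rw [hodd.neg_one_pow] at h1
    have h4 := congrArg Units.val h1
    norm_num at h4
  exact h2.trans (orderOf_dvd_natCard l)

end CfsgLib.Blocks
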