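import Cfsg.Agent.Lib.Blocks.DefectOneValues

/-!
# The exceptional family of a block of defect one
-/

set_option linter.unusedSectionVars false
set_option linter.style.haveILetI false

namespace CfsgLib.Blocks

open Cfsg Chars BlockOrth Modular Finset
open scoped ComplexConjugate

universe u

variable {G : Type u} [Group G] [Fintype G] {M : Ideal AlgInt} [M.IsPrime] {p : ℕ} [Fact p.Prime]

/-- A block of positive defect has a pair at a subgroup of order `p`. -/
theorem exists_pair_of_pos_defect (hpM : (p : AlgInt) ∈ M) (hsq : ¬ p ^ 2 ∣ Nat.card G)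
    {B : Set (IrrCharacter G)} (hB : IsPBlock M B) (hd : 0 < blockDefect p B) :
    ∃ (P : Subgroup G) (b : Set (IrrCharacter (Subgroup.centralizer (P : Set G)))),
      Nat.card P = p ∧ IsBrauerPairOf p M B P b := by
  obtain ⟨D, hD⟩ := exists_isDefectGroup (p := p) hB
  obtain ⟨b, hb⟩ := exists_pair_on_defectGroup hpM hB hD
  refine ⟨D, b, ?_, hb⟩
  have h1 := BlockOrth.card_defectGroup hpM hB hD
  have h2 : blockDefect p B ≤ 1 := by
    by_contra h
    exact hsq (((pow_dvd_pow p (show 2 ≤ blockDefect p B by omega)).trans h1.symm.dvd).trans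
      D.card_subgroup_dvd_card)
  rw [h1, show blockDefect p B = 1 by omega, pow_one]

theorem fix_roots_of_exp {σ : ℂ ≃+* ℂ} {N : ℕ} (hN : N ≠ 0)
    (hσ : σ (Complex.exp (2 * Real.pi * Complex.I / (N : ℕ))) =
      Complex.exp (2 * Real.pi * Complex.I / (N : ℕ))) :
    ∀ z : ℂ, z ^ N = 1 → σ z = z := fun z hz => by
  haveI : NeZero N := ⟨hN⟩
  obtain ⟨i, -, rfl⟩ := (Complex.isPrimitiveRoot_exp N hN).eq_pow_of_pow_eq_one hz
  rw [map_pow, hσ]

variable {P : Subgroup G} {B : Set (IrrCharacter G)} [Fintype (Subgroup.centralizer (P : Set G))]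
  {b : Set (IrrCharacter (Subgroup.centralizer (P : Set G)))}

open scoped Classical in
/-- **The exceptional family**: `p`-conjugation fixes the other characters and permutes it
transitively. -/
theorem defect_one_galois (hM : IsPModular p M) (hcard : Nat.card P = p)
    (hsq : ¬ p ^ 2 ∣ Nat.card G) (hpair : IsBrauerPairOf p M B P b) :
    ∃ (Y : Set (IrrCharacter G)) (ε : ℤ) (a : IrrCharacter G → ℤ), Y ⊆ B ∧
      Nat.card Y * (Subgroup.centralizer (P : Set G)).relIndex (stabPair ⟨P, b⟩) + 1 = p ∧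
      Nat.card B =
        (Subgroup.centralizer (P : Set G)).relIndex (stabPair ⟨P, b⟩) + Nat.card Y ∧
      (ε = 1 ∨ ε = -1) ∧ (∀ χ ∈ B \ Y, a χ = 1 ∨ a χ = -1) ∧
      (∀ θ ∈ Y, ∀ g : G, ¬ p ∣ orderOf g →
        (ε : ℂ) * (θ : G → ℂ) g = ∑ᶠ χ ∈ B \ Y, (a χ : ℂ) * (χ : G → ℂ) g) ∧
      (∀ σ : ℂ ≃+* ℂ,
        (∀ z : ℂ, z ^ (Nat.card G / p ^ (Nat.card G).factorization p) = 1 → σ z = z) →
        (∀ χ ∈ B \ Y, CharApps.galoisIrr σ χ = χ) ∧
          ∀ θ ∈ Y, CharApps.galoisIrr σ θ ∈ Y) ∧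
      ∀ θ ∈ Y, ∀ θ' ∈ Y, ∃ σ : ℂ ≃+* ℂ,
        (∀ z : ℂ, z ^ (Nat.card G / p ^ (Nat.card G).factorization p) = 1 → σ z = z) ∧
          CharApps.galoisIrr σ θ = θ' := by
  have hpM := hM.2.2
  have hp : p.Prime := Fact.out
  haveI := irrFintype G
  obtain ⟨Y, ε, a, hε, hYB, hte, hX, hrank, hB, ha, -, hagree, hrel, htrans, hinj, hnc⟩ :=
    defect_one_structure hM hcard hsq hpair
  obtain ⟨N, hN⟩ : ∃ N, N = Nat.card G / p ^ (Nat.card G).factorization p := ⟨_, rfl⟩
  have hfac : (Nat.card G).factorization p = 1 := by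
    refine le_antisymm ?_ ((hp.dvd_iff_one_le_factorization Nat.card_pos.ne').1
      (hcard ▸ Subgroup.card_subgroup_dvd_card P))
    by_contra h
    exact hsq ((pow_dvd_pow p (show 2 ≤ (Nat.card G).factorization p by omega)).trans
      (Nat.ordProj_dvd _ p))
  have hmulN : p * N = Nat.card G := by
    have := Nat.ordProj_mul_ordCompl_eq_self (Nat.card G) p
    rw [hN, hfac, pow_one]
    rwa [hfac, pow_one] at this
  have hNcop : N.Coprime p := by
    rw [Nat.coprime_comm, hp.coprime_iff_not_dvd]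
    intro h
    exact hsq (by rw [← hmulN, sq]; exact mul_dvd_mul_left p h)
  have hN0 : N ≠ 0 := fun h => by
    rw [h, mul_zero] at hmulN
    exact Nat.card_pos.ne' hmulN.symm
  -- independence of the other characters
  obtain ⟨v, hv⟩ : ∃ v : (B \ Y : Set (IrrCharacter G)) → G → ℂ,
      v = fun χ => pRegularPart p (χ.1 : G → ℂ) := ⟨_, rfl⟩
  have hexp : ∀ θ ∈ Y, (ε : ℂ) • pRegularPart p (θ : G → ℂ) =
      ∑ χ : (B \ Y : Set (IrrCharacter G)), (a χ.1 : ℂ) • v χ := by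
    intro θ hθ
    funext g
    simp only [Pi.smul_apply, Finset.sum_apply, smul_eq_mul, hv]
    by_cases hg : IsPRegular p g
    · have hg' : ¬ p ∣ orderOf g := hg
      simp only [pRegularPart, if_pos hg]
      rw [hrel θ hθ g hg', finsum_mem_eq_sum_of_inter_support_eq (t := univ.filter (· ∈ B \ Y)) _
        (by ext; simp), Finset.sum_subtype (p := (· ∈ B \ Y)) (univ.filter (· ∈ B \ Y))
          (fun x => by simp)]
    · simp [pRegularPart, if_neg hg]
  have hεC : (ε : ℂ) ≠ 0 := by rcases hε with h | h <;> simp [h]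
  have hspan : Submodule.span ℂ ((fun χ : IrrCharacter G => pRegularPart p (χ : G → ℂ)) '' B) =
      Submodule.span ℂ (Set.range v) := by
    refine le_antisymm (Submodule.span_le.2 ?_) (Submodule.span_mono ?_)
    · rintro _ ⟨χ, hχ, rfl⟩
      by_cases hY : χ ∈ Y
      · have h := hexp χ hY
        show pRegularPart p (χ : G → ℂ) ∈ Submodule.span ℂ (Set.range v)
        rw [show pRegularPart p (χ : G → ℂ) =
          (ε : ℂ)⁻¹ • ((ε : ℂ) • pRegularPart p (χ : G → ℂ)) by rw [inv_smul_smul₀ hεC], h]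
        exact Submodule.smul_mem _ _ (Submodule.sum_mem _ fun i _ =>
          Submodule.smul_mem _ _ (Submodule.subset_span ⟨i, rfl⟩))
      · exact Submodule.subset_span ⟨⟨χ, hχ, hY⟩, by rw [hv]⟩
    · rintro _ ⟨χ, rfl⟩
      exact ⟨χ.1, χ.2.1, by rw [hv]⟩
  have hind : LinearIndependent ℂ v := by
    rw [linearIndependent_iff_card_eq_finrank_span, ← Nat.card_eq_fintype_card, hX, ← hrank,
      blockRank, hspan, Set.finrank]
  have hreg : ∀ σ : ℂ ≃+* ℂ, (∀ z : ℂ, z ^ N = 1 → σ z = z) → ∀ χ : IrrCharacter G,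
      pRegularPart p ((CharApps.galoisIrr σ χ : IrrCharacter G) : G → ℂ) =
        pRegularPart p (χ : G → ℂ) := fun σ hσ χ => by
    funext g
    by_cases hg : IsPRegular p g
    · simp only [pRegularPart, if_pos hg, CharApps.galoisIrr_apply]
      exact galois_apply_regular hσ χ (hN ▸ pow_pPrime_card_eq_one hg)
    · simp [pRegularPart, if_neg hg]
  have hfixX : ∀ σ : ℂ ≃+* ℂ, (∀ z : ℂ, z ^ N = 1 → σ z = z) →
      ∀ χ ∈ B \ Y, CharApps.galoisIrr σ χ = χ := by
    intro σ hσ χ hχ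
    have hmem := galoisIrr_mem hpM hpair.2.1 (hN ▸ hσ) hχ.1
    by_cases hY : CharApps.galoisIrr σ χ ∈ Y
    swap
    · exact congrArg Subtype.val (hind.injective (a₁ := ⟨_, hmem, hY⟩) (a₂ := ⟨χ, hχ⟩)
        (by rw [hv]; exact hreg σ hσ χ))
    -- only possible for `p = 2`
    by_cases hp2 : p = 2
    · refine Subtype.ext (funext fun g => ?_)
      rw [CharApps.galoisIrr_apply]
      refine galois_apply_regular (N := p * N) (fun z hz => ?_) χ (hmulN ▸ pow_card_eq_one')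
      rw [hp2, mul_comm, pow_mul] at hz
      have hodd : Odd N := by
        rw [Nat.odd_iff]
        by_contra h
        rw [hp2] at hNcop
        exact Nat.prime_two.not_dvd_one (hNcop ▸ Nat.dvd_gcd (Nat.dvd_of_mod_eq_zero (by omega))
          dvd_rfl)
      rcases sq_eq_one_iff.1 hz with h | h
      · exact hσ z h
      · have h2 := hσ (-z) (by rw [hodd.neg_pow, h, neg_neg])
        rwa [map_neg, neg_inj] at h2
    exfalso
    have h := hexp _ hY
    rw [hreg σ hσ χ, show pRegularPart p (χ : G → ℂ) = v ⟨χ, hχ⟩ by rw [hv]] at h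
    have h0 := Fintype.linearIndependent_iff.1 hind
      (fun i => (a i.1 : ℂ) - if i = ⟨χ, hχ⟩ then (ε : ℂ) else 0) (by
        simp only [sub_smul, Finset.sum_sub_distrib, ite_smul, zero_smul, Finset.sum_ite_eq',
          mem_univ, if_true, ← h, sub_self])
    have hall : ∀ i : (B \ Y : Set (IrrCharacter G)), i = ⟨χ, hχ⟩ := fun i => by
      by_contra hne
      have := h0 i
      rw [if_neg hne, sub_zero, Int.cast_eq_zero] at this
      rcases (ha i.1 i.2).1 with h1 | h1 <;> omega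
    have he1 : (Subgroup.centralizer (P : Set G)).relIndex (stabPair ⟨P, b⟩) = 1 := by
      rw [← hX]
      exact Nat.card_eq_one_iff_unique.2 ⟨⟨fun i j => (hall i).trans (hall j).symm⟩, ⟨⟨χ, hχ⟩⟩⟩
    rw [he1, mul_one] at hte
    obtain ⟨u, hu, hne⟩ := hnc (by have := hp.two_le; omega) _ hY (σ (a χ : ℂ))
    exact hne (by rw [xiFun_galoisIrr hM hcard hsq hpair (hN ▸ hσ) χ hu, (ha χ hχ).2 u hu])
  have hfixY : ∀ σ : ℂ ≃+* ℂ, (∀ z : ℂ, z ^ N = 1 → σ z = z) →
      ∀ θ ∈ Y, CharApps.galoisIrr σ θ ∈ Y := by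
    intro σ hσ θ hθ
    by_contra hY
    have hσ' : ∀ z : ℂ, z ^ N = 1 → σ.symm z = z := fun z hz => by
      conv_lhs => rw [← hσ z hz]
      exact σ.symm_apply_apply z
    have h := hfixX σ.symm hσ' _ ⟨galoisIrr_mem hpM hpair.2.1 (hN ▸ hσ) (hYB hθ), hY⟩
    have h2 : CharApps.galoisIrr σ.symm (CharApps.galoisIrr σ θ) = θ := Subtype.ext (funext fun g => by
      rw [CharApps.galoisIrr_apply, CharApps.galoisIrr_apply, σ.symm_apply_apply])
    rw [h2] at h
    exact hY (h ▸ hθ)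
  refine ⟨Y, ε, a, hYB, hte, hB, hε, fun χ hχ => (ha χ hχ).1, hrel, fun σ hσ =>
    ⟨hfixX σ (hN ▸ hσ), hfixY σ (hN ▸ hσ)⟩, fun θ hθ θ' hθ' => ?_⟩
  obtain ⟨k, hk, hxi⟩ := htrans θ hθ θ' hθ'
  obtain ⟨k', hk1, hkp⟩ := Nat.chineseRemainder hNcop 1 k
  have hcop : k'.Coprime (p * N) := by
    refine Nat.Coprime.mul_right ?_ ?_
    · rw [Nat.Coprime, Nat.ModEq.gcd_eq hkp]; exact hk
    · rw [Nat.Coprime, Nat.ModEq.gcd_eq hk1, Nat.gcd_one_left]
  haveI : NeZero (p * N) := ⟨mul_ne_zero hp.ne_zero hN0⟩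
  obtain ⟨σ, hσ⟩ := CharApps.exists_galois_pow (p * N) hcop
  have hσN : ∀ z : ℂ, z ^ N = 1 → σ z = z := fun z hz => by
    rw [hσ z (by rw [mul_comm, pow_mul, hz, one_pow]), pow_eq_pow_mod _ hz, hk1,
      ← pow_eq_pow_mod _ hz, pow_one]
  have hσp : ∀ z : ℂ, z ^ p = 1 → σ z = z ^ k := fun z hz => by
    rw [hσ z (by rw [pow_mul, hz, one_pow]), pow_eq_pow_mod _ hz, hkp, ← pow_eq_pow_mod _ hz]
  refine ⟨σ, hN ▸ hσN, hinj _ (hfixY σ hσN θ hθ) θ' hθ' fun u hu => ?_⟩
  rw [xiFun_galoisIrr hM hcard hsq hpair (hN ▸ hσN) θ hu, galois_xiFun hcard σ hσp, hxi u hu]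

end CfsgLib.Blocks
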