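import Mathlib.FieldTheory.IsAlgClosed.Classification
import Mathlib.FieldTheory.IsAlgClosed.AlgebraicClosure
import Mathlib.NumberTheory.Padics.ProperSpace
import Mathlib.Topology.Algebra.Module.Cardinality
import Mathlib.Analysis.Complex.Polynomial.Basic
import Mathlib.Analysis.Complex.Cardinality
import Mathlib.RingTheory.Polynomial.Eisenstein.IsIntegral
import Mathlib.RingTheory.Polynomial.Cyclotomic.Eval

/-!
# An embedding of the `p`-adic integers into the complex numbers
-/

set_option autoImplicit false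

namespace CfsgLib.Blocks

open Cardinal

theorem padic_mk_eq_continuum (p : ℕ) [Fact p.Prime] : #ℚ_[p] = 𝔠 := by
  refine le_antisymm ?_ (continuum_le_cardinal_of_nontriviallyNormedField ℚ_[p])
  refine mk_quotient_le.trans ((mk_subtype_le _).trans ?_)
  rw [← power_def, mk_nat, mk_eq_aleph0 ℚ, aleph0_power_aleph0]

theorem exists_padicInt_embedding (p : ℕ) [Fact p.Prime] :
    ∃ ι : ℤ_[p] →+* ℂ, Function.Injective ι := by
  have hc : #(AlgebraicClosure ℚ_[p]) = 𝔠 := by
    refine le_antisymm ?_ ?_
    · refine (Algebra.IsAlgebraic.cardinalMk_le_max ℚ_[p] (AlgebraicClosure ℚ_[p])).trans ?_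
      rw [padic_mk_eq_continuum]
      exact max_le le_rfl aleph0_le_continuum
    · rw [← padic_mk_eq_continuum p]
      exact mk_le_of_injective (algebraMap ℚ_[p] (AlgebraicClosure ℚ_[p])).injective
  obtain ⟨e⟩ := IsAlgClosed.ringEquiv_of_equiv_of_charZero (K := AlgebraicClosure ℚ_[p]) (L := ℂ)
    (by rw [hc]; exact aleph0_lt_continuum) (Cardinal.eq.1 (by rw [hc, Cardinal.mk_complex]))
  exact ⟨(e.toRingHom.comp (algebraMap ℚ_[p] (AlgebraicClosure ℚ_[p]))).comp PadicInt.Coe.ringHom,
    (e.injective.comp (algebraMap ℚ_[p] (AlgebraicClosure ℚ_[p])).injective).comp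
      Subtype.coe_injective⟩

open Polynomial in
/-- The cyclotomic polynomial of prime order stays irreducible over the `p`-adic integers. -/
theorem irreducible_cyclotomic_padicInt (p : ℕ) [hp : Fact p.Prime] :
    Irreducible (cyclotomic p ℤ_[p]) := by
  have hE := cyclotomic_comp_X_add_one_isEisensteinAt p
  have hmap : (cyclotomic p ℤ_[p]).comp (X + 1) =
      ((cyclotomic p ℤ).comp (X + 1)).map (Int.castRingHom ℤ_[p]) := by
    rw [map_comp, map_cyclotomic, Polynomial.map_add, map_X, Polynomial.map_one]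
  have hmon : ((cyclotomic p ℤ).comp (X + 1)).Monic :=
    (cyclotomic.monic p ℤ).comp_X_add_C 1
  have h : ((cyclotomic p ℤ_[p]).comp (X + 1)).IsEisensteinAt
      (IsLocalRing.maximalIdeal ℤ_[p]) := by
    rw [PadicInt.maximalIdeal_eq_span_p, hmap]
    refine ⟨?_, fun {n} hn => ?_, ?_⟩
    · rw [(hmon.map _).leadingCoeff, Ideal.mem_span_singleton]
      exact fun hd => PadicInt.p_nonunit (isUnit_of_dvd_one hd)
    · rw [hmon.natDegree_map] at hn
      have h1 := hE.mem hn
      rw [Ideal.submodule_span_eq, Ideal.mem_span_singleton] at h1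
      rw [coeff_map, Ideal.mem_span_singleton]
      simpa using map_dvd (Int.castRingHom ℤ_[p]) h1
    · rw [coeff_map, coeff_zero_eq_eval_zero, eval_comp]
      simp only [eval_add, eval_X, eval_one, zero_add, eval_one_cyclotomic_prime, eq_intCast,
        Int.cast_natCast, Ideal.span_singleton_pow, Ideal.mem_span_singleton]
      intro hd
      have h2 : (p : ℤ_[p]) * p ∣ (p : ℤ_[p]) * 1 := by rwa [mul_one, ← sq]
      exact PadicInt.p_nonunit (isUnit_of_dvd_one
        ((mul_dvd_mul_iff_left (by exact_mod_cast hp.out.ne_zero)).1 h2))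
  have hirr : Irreducible ((cyclotomic p ℤ_[p]).comp (X + 1)) := by
    refine h.irreducible (IsLocalRing.maximalIdeal.isMaximal _).isPrime
      (((cyclotomic.monic p ℤ_[p]).comp_X_add_C 1).isPrimitive) ?_
    rw [natDegree_comp, natDegree_cyclotomic, ← map_one C, natDegree_X_add_C, mul_one]
    exact Nat.totient_pos.2 hp.out.pos
  rw [← MulEquiv.irreducible_iff (algEquivAevalXAddC (1 : ℤ_[p]))]
  simpa [algEquivAevalXAddC_apply, comp, aeval_def] using hirr

end CfsgLib.Blocks
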