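import Cfsg.Agent.Lib.Blocks.Omega
import Cfsg.Agent.Lib.Blocks.PadicEmbedding
import Cfsg.Agent.Lib.CharApps.Basic

/-!
# Minimal lattices over the `p`-adic integers containing a given character
-/

set_option autoImplicit false
set_option linter.style.haveILetI false
set_option linter.unusedSectionVars false

namespace CfsgLib.Blocks

open Cfsg Chars
open scoped ComplexConjugate

universe u v

variable {p : ℕ} [Fact p.Prime] {G : Type u} [Group G] [Fintype G]

/-- The regular action on functions. -/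
noncomputable def regRep (R : Type v) [CommRing R] (G : Type u) [Group G] :
    Representation R G (G → R) where
  toFun g := LinearMap.funLeft R R (fun x => g⁻¹ * x)
  map_one' := by ext f x; simp [LinearMap.funLeft]
  map_mul' a b := by ext f x; simp [LinearMap.funLeft, mul_assoc]

theorem trace_regRep {R : Type v} [CommRing R] [DecidableEq G] (g : G) :
    LinearMap.trace R (G → R) (regRep R G g) = if g = 1 then (Fintype.card G : R) else 0 := by
  rw [LinearMap.trace_eq_matrix_trace R (Pi.basisFun R G), Matrix.trace]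
  simp only [Matrix.diag_apply, LinearMap.toMatrix_apply, Pi.basisFun_repr, Pi.basisFun_apply,
    regRep, MonoidHom.coe_mk, OneHom.coe_mk, LinearMap.funLeft_apply, Pi.single_apply]
  split_ifs with h
  · subst h; simp
  · refine Finset.sum_eq_zero fun x _ => if_neg fun e => h ?_
    rwa [mul_eq_right, inv_eq_one] at e

section Split

variable {R : Type v} [CommRing R] [IsDomain R] [IsPrincipalIdealRing R] {V : Type*}
  [AddCommGroup V] [Module R V] [Module.Free R V] [Module.Finite R V]

/-- The trace of an endomorphism commuting with `F` is the sum of the traces on the kernel and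
on the image of `F`. -/
theorem trace_eq_ker_add_range (F T : Module.End R V) (hcomm : F * T = T * F)
    (h1 : ∀ x ∈ LinearMap.ker F, T x ∈ LinearMap.ker F)
    (h2 : ∀ x ∈ LinearMap.range F, T x ∈ LinearMap.range F) :
    LinearMap.trace R V T = LinearMap.trace R (LinearMap.ker F) (T.restrict h1) +
      LinearMap.trace R (LinearMap.range F) (T.restrict h2) := by
  have hcomm' : ∀ x, F (T x) = T (F x) := fun x => LinearMap.congr_fun hcomm x
  obtain ⟨s, hs⟩ := Module.projective_lifting_property F.rangeRestrict LinearMap.id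
    F.surjective_rangeRestrict
  have hs' : ∀ y, F (s y) = (y : V) := fun y =>
    congrArg Subtype.val (LinearMap.congr_fun hs y)
  set π : Module.End R V := 1 - s.comp F.rangeRestrict with hπ
  have hπker : ∀ x, π x ∈ LinearMap.ker F := fun x => by
    rw [LinearMap.mem_ker, hπ, LinearMap.sub_apply, Module.End.one_apply, map_sub,
      LinearMap.comp_apply, hs']
    exact sub_self _
  have hT : T = T * π + T.comp (s.comp F.rangeRestrict) := by
    rw [hπ, mul_sub, mul_one]
    exact (sub_add_cancel T _).symm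
  conv_lhs => rw [hT]
  rw [map_add]
  congr 1
  · rw [← LinearMap.trace_restrict_eq_of_forall_mem (LinearMap.ker F) (T * π)
      (fun x => h1 _ (hπker x))]
    congr 1
    ext ⟨x, hx⟩
    show T (π x) = T x
    have h0 : F.rangeRestrict x = 0 := Subtype.ext (LinearMap.mem_ker.1 hx)
    rw [hπ, LinearMap.sub_apply, Module.End.one_apply, LinearMap.comp_apply, h0, map_zero,
      sub_zero]
  · rw [← LinearMap.comp_assoc, LinearMap.trace_comp_comm']
    congr 1
    ext y
    show F (T (s y)) = T y
    rw [hcomm', hs']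

end Split

variable (ι : ℤ_[p] →+* ℂ)

/-- The multiplicity sum of `χ` in the trace function of a `p`-adic representation. -/
noncomputable def latMult {V : Type*} [AddCommGroup V] [Module ℤ_[p] V]
    (ρ : Representation ℤ_[p] G V) (χ : IrrCharacter G) : ℂ :=
  ∑ g, ι (LinearMap.trace ℤ_[p] V (ρ g)) * conj ((χ : G → ℂ) g)

theorem exists_smaller {V : Type*} [AddCommGroup V] [Module ℤ_[p] V] [Module.Free ℤ_[p] V]
    [Module.Finite ℤ_[p] V] (τ : Representation ℤ_[p] G V) (χ : IrrCharacter G)
    (hne : latMult ι τ χ ≠ 0) {F : Module.End ℤ_[p] V} (hF : ∀ g, F * τ g = τ g * F)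
    (hF0 : F ≠ 0) (hFi : ¬ Function.Injective F) :
    ∃ (A : Submodule ℤ_[p] V) (hA : ∀ g, ∀ x ∈ A, τ g x ∈ A),
      ∑ g, ι (LinearMap.trace ℤ_[p] A ((τ g).restrict (hA g))) * conj ((χ : G → ℂ) g) ≠ 0 ∧
      Module.finrank ℤ_[p] A < Module.finrank ℤ_[p] V := by
  have hkerinv : ∀ g, ∀ x ∈ LinearMap.ker F, τ g x ∈ LinearMap.ker F := fun g x hx => by
    rw [LinearMap.mem_ker] at hx ⊢
    have := LinearMap.congr_fun (hF g) x
    simp only [Module.End.mul_apply] at this
    rw [this, hx, map_zero]
  have hraninv : ∀ g, ∀ x ∈ LinearMap.range F, τ g x ∈ LinearMap.range F := by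
    rintro g _ ⟨y, rfl⟩
    exact ⟨τ g y, LinearMap.congr_fun (hF g) y⟩
  haveI : Module.Free ℤ_[p] (LinearMap.ker F) := Module.free_of_finite_type_torsion_free'
  haveI : Module.Free ℤ_[p] (LinearMap.range F) := Module.free_of_finite_type_torsion_free'
  have hrank : Module.finrank ℤ_[p] (LinearMap.ker F) + Module.finrank ℤ_[p] (LinearMap.range F)
      = Module.finrank ℤ_[p] V := by
    have h := trace_eq_ker_add_range F 1 (by rw [mul_one, one_mul]) (fun x hx => hx) fun x hx => hx
    rw [LinearMap.trace_one,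
      show ((1 : Module.End ℤ_[p] V).restrict (p := LinearMap.ker F) (q := LinearMap.ker F)
        fun x hx => hx) = 1 from LinearMap.ext fun _ => rfl,
      show ((1 : Module.End ℤ_[p] V).restrict (p := LinearMap.range F) (q := LinearMap.range F)
        fun x hx => hx) = 1 from LinearMap.ext fun _ => rfl,
      LinearMap.trace_one ℤ_[p] (LinearMap.ker F),
      LinearMap.trace_one ℤ_[p] (LinearMap.range F)] at h
    exact_mod_cast h.symm
  have hrpos : 0 < Module.finrank ℤ_[p] (LinearMap.range F) := by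
    rw [pos_iff_ne_zero]
    intro h0
    exact hF0 (LinearMap.range_eq_bot.1 (Submodule.finrank_eq_zero.1 h0))
  have hkpos : 0 < Module.finrank ℤ_[p] (LinearMap.ker F) := by
    rw [pos_iff_ne_zero]
    intro h0
    exact hFi (LinearMap.ker_eq_bot.1 (Submodule.finrank_eq_zero.1 h0))
  have hsum : latMult ι τ χ =
      ∑ g, ι (LinearMap.trace ℤ_[p] _ ((τ g).restrict (hkerinv g))) * conj ((χ : G → ℂ) g) +
      ∑ g, ι (LinearMap.trace ℤ_[p] _ ((τ g).restrict (hraninv g))) * conj ((χ : G → ℂ) g) := by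
    rw [latMult, ← Finset.sum_add_distrib]
    refine Finset.sum_congr rfl fun g _ => ?_
    rw [← add_mul, ← map_add, ← trace_eq_ker_add_range F (τ g) (hF g)]
  rw [hsum] at hne
  by_cases h1 : ∑ g, ι (LinearMap.trace ℤ_[p] _ ((τ g).restrict (hkerinv g))) *
      conj ((χ : G → ℂ) g) = 0
  · rw [h1, zero_add] at hne
    exact ⟨_, hraninv, hne, by omega⟩
  · exact ⟨_, hkerinv, h1, by omega⟩

open scoped Classical in
theorem exists_minimal_lattice (χ : IrrCharacter G) :
    ∃ (n : ℕ) (ρ : Representation ℤ_[p] G (Fin n → ℤ_[p])), latMult ι ρ χ ≠ 0 ∧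
      ∀ F : Module.End ℤ_[p] (Fin n → ℤ_[p]), (∀ g, F * ρ g = ρ g * F) →
        F = 0 ∨ Function.Injective F := by
  set ρ₀ := regRep ℤ_[p] G with hρ₀
  let σ : (U : Submodule ℤ_[p] (G → ℤ_[p])) → (∀ g, ∀ x ∈ U, ρ₀ g x ∈ U) →
      Representation ℤ_[p] G U := fun U hU =>
    { toFun := fun g => (ρ₀ g).restrict (hU g)
      map_one' := by ext x; simp [LinearMap.restrict_apply]
      map_mul' := fun a b => by ext x; simp [LinearMap.restrict_apply] }
  let P : ℕ → Prop := fun k => ∃ (U : Submodule ℤ_[p] (G → ℤ_[p]))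
    (hU : ∀ g, ∀ x ∈ U, ρ₀ g x ∈ U), latMult ι (σ U hU) χ ≠ 0 ∧ Module.finrank ℤ_[p] U = k
  have hex : ∃ k, P k := by
    refine ⟨_, ⊤, fun g x _ => Submodule.mem_top, ?_, rfl⟩
    have e : ∀ g, LinearMap.trace ℤ_[p] _ (σ ⊤ (fun g x _ => Submodule.mem_top) g) =
        if g = 1 then (Fintype.card G : ℤ_[p]) else 0 := fun g => by
      rw [← trace_regRep (R := ℤ_[p]) g]
      exact LinearMap.trace_restrict_eq_of_forall_mem _ _ (fun x => Submodule.mem_top) (fun x _ => Submodule.mem_top)
    simp only [latMult, e, apply_ite ι, map_zero, map_natCast, ite_mul, zero_mul,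
      Finset.sum_ite_eq', Finset.mem_univ, if_true]
    exact mul_ne_zero (Nat.cast_ne_zero.2 Fintype.card_ne_zero)
      (fun h => irr_degree_ne_zero χ.2 ((map_eq_zero _).1 h))
  obtain ⟨U, hU, hne, hk⟩ := Nat.find_spec hex
  set τ := σ U hU with hτ
  have hdom : ∀ F : Module.End ℤ_[p] U, (∀ g, F * τ g = τ g * F) →
      F = 0 ∨ Function.Injective F := by
    intro F hF
    by_contra hno
    rw [not_or] at hno
    obtain ⟨hF0, hFi⟩ := hno
    -- an invariant submodule of `U` seen inside the regular lattice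
    have push : ∀ (A : Submodule ℤ_[p] U) (hA : ∀ g, ∀ x ∈ A, τ g x ∈ A),
        (∑ g, ι (LinearMap.trace ℤ_[p] A ((τ g).restrict (hA g))) * conj ((χ : G → ℂ) g) ≠ 0) →
        Nat.find hex ≤ Module.finrank ℤ_[p] A := by
      intro A hA hA0
      refine Nat.find_min' hex ⟨A.map U.subtype, ?_, ?_, ?_⟩
      · rintro g _ ⟨a, ha, rfl⟩
        exact ⟨τ g a, hA g a ha, rfl⟩
      · intro h
        apply hA0
        rw [← h, latMult]
        refine Finset.sum_congr rfl fun g _ => ?_
        congr 2
        refine (LinearMap.trace_conj' (R := ℤ_[p]) (M := A) (N := A.map U.subtype)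
          ((τ g).restrict (hA g)) (A.equivMapOfInjective U.subtype U.subtype_injective)).symm.trans ?_
        congr 1
        apply LinearMap.ext
        intro y
        obtain ⟨a, rfl⟩ := (A.equivMapOfInjective U.subtype U.subtype_injective).surjective y
        apply Subtype.ext
        simp [LinearEquiv.conj_apply_apply, σ, LinearMap.restrict_apply, τ]
      · exact (A.equivMapOfInjective U.subtype U.subtype_injective).finrank_eq.symm
    obtain ⟨A, hA, hA0, hlt⟩ := exists_smaller ι τ χ hne hF hF0 hFi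
    have := push A hA hA0
    omega
  -- move to coordinates
  set e := (Module.finBasis ℤ_[p] U).equivFun with he
  let ρ : Representation ℤ_[p] G (Fin (Module.finrank ℤ_[p] U) → ℤ_[p]) :=
    { toFun := fun g => e.conj (τ g)
      map_one' := by ext x; simp [LinearEquiv.conj_apply_apply]
      map_mul' := fun a b => by ext x; simp [LinearEquiv.conj_apply_apply] }
  refine ⟨_, ρ, ?_, fun F hF => ?_⟩
  · have e2 : latMult ι ρ χ = latMult ι τ χ := by
      refine Finset.sum_congr rfl fun g _ => ?_
      congr 2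
      exact LinearMap.trace_conj' (τ g) e
    rw [e2]; exact hne
  · have hcomm : ∀ g, e.symm.conj F * τ g = τ g * e.symm.conj F := fun g => by
      refine LinearMap.ext fun x => e.injective ?_
      have h := LinearMap.congr_fun (hF g) (e x)
      simpa [ρ, LinearEquiv.conj_apply_apply] using h
    rcases hdom _ hcomm with h | h
    · left
      refine LinearMap.ext fun x => ?_
      have h' := congrArg e (LinearMap.congr_fun h (e.symm x))
      simpa [LinearEquiv.conj_apply_apply] using h'
    · right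
      intro a b hab
      apply e.symm.injective
      apply h
      simp [LinearEquiv.conj_apply_apply, hab]

section Character

variable {n : ℕ} (ρ : Representation ℤ_[p] G (Fin n → ℤ_[p]))

/-- The complex matrices of a `p`-adic representation. -/
noncomputable def latMat : G →* Matrix (Fin n) (Fin n) ℂ :=
  (ι.mapMatrix.toMonoidHom).comp
    ((LinearMap.toMatrixAlgEquiv' (R := ℤ_[p]) (n := Fin n)).toRingEquiv.toRingHom.toMonoidHom.comp ρ)

/-- The trace function of a `p`-adic representation. -/
noncomputable def latChar : G → ℂ := fun g => ι (LinearMap.trace ℤ_[p] _ (ρ g))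

theorem trace_latMat (g : G) : Matrix.trace (latMat ι ρ g) = latChar ι ρ g := by
  rw [latChar, LinearMap.trace_eq_matrix_trace ℤ_[p] (Pi.basisFun ℤ_[p] (Fin n))]
  simp [latMat, Matrix.trace, LinearMap.toMatrixAlgEquiv', LinearMap.toMatrix', LinearMap.toMatrix_apply]

theorem isCharacter_latChar : IsCharacter G (latChar ι ρ) := by
  refine ⟨n, (Matrix.toLinAlgEquiv' (R := ℂ) (n := Fin n)).toRingEquiv.toRingHom.toMonoidHom.comp
    (latMat ι ρ), ?_⟩
  funext g
  rw [← trace_latMat]
  show LinearMap.trace ℂ _ (Matrix.toLinAlgEquiv' (latMat ι ρ g)) = _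
  rw [LinearMap.trace_eq_matrix_trace ℂ (Pi.basisFun ℂ (Fin n))]
  congr 1
  exact LinearMap.toMatrix'_toLin' _

theorem sum_conj_latChar (χ : IrrCharacter G) :
    ∑ g, latChar ι ρ g * conj ((χ : G → ℂ) g) = latMult ι ρ χ := rfl

/-- A class function killed by the central character of `χ` is killed by those of all
constituents of a minimal lattice containing `χ`. -/
theorem omega_eq_zero_of_lattice (hι : Function.Injective ι) {χ ψ : IrrCharacter G}
    (hχ : latMult ι ρ χ ≠ 0)
    (hρ : ∀ F : Module.End ℤ_[p] (Fin n → ℤ_[p]), (∀ g, F * ρ g = ρ g * F) →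
      F = 0 ∨ Function.Injective F)
    (hψ : classInner (latChar ι ρ) (ψ : G → ℂ) ≠ 0) {φ : G → ℤ}
    (hφ : ∀ g c : G, φ (c * g * c⁻¹) = φ g)
    (h0 : omega (χ : G → ℂ) (fun g => (φ g : ℂ)) = 0) :
    omega (ψ : G → ℂ) (fun g => (φ g : ℂ)) = 0 := by
  classical
  haveI := irrFintype G
  have hcl : IsClassFunction G (fun g => (φ g : ℂ)) := fun g c => by
    show (φ (c * g * c⁻¹) : ℂ) = _
    rw [hφ]
  set F : Module.End ℤ_[p] (Fin n → ℤ_[p]) := ∑ g, (φ g : ℤ_[p]) • ρ g with hF
  have hcomm : ∀ g, F * ρ g = ρ g * F := fun c => by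
    rw [hF, Finset.sum_mul, Finset.mul_sum,
      ← Equiv.sum_comp (MulAut.conj c).toEquiv (fun g => (φ g : ℤ_[p]) • ρ g * ρ c)]
    refine Finset.sum_congr rfl fun g _ => ?_
    simp only [MulEquiv.toEquiv_eq_coe, MulEquiv.coe_toEquiv, MulAut.conj_apply]
    rw [hφ, smul_mul_assoc, mul_smul_comm, ← map_mul, ← map_mul, inv_mul_cancel_right]
  rcases hρ F hcomm with hF0 | hinj
  · -- all constituents are killed
    have h1 : ∀ h, ∑ g, (φ g : ℂ) * latChar ι ρ (g * h) = 0 := fun h => by
      have e : F * ρ h = 0 := by rw [hF0, zero_mul]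
      have e2 := congrArg (fun T => ι (LinearMap.trace ℤ_[p] _ T)) e
      simp only [hF, Finset.sum_mul, smul_mul_assoc, ← map_mul, map_sum, map_smul, smul_eq_mul,
        map_intCast, map_zero] at e2
      simpa [latChar] using e2
    have hexp : latChar ι ρ = ∑ η : IrrCharacter G,
        classInner (latChar ι ρ) (η : G → ℂ) • (η : G → ℂ) :=
      classFun_eq_sum (isClassFunction_of_isCharacter (isCharacter_latChar ι ρ))
    have h2 : ∀ h, ∑ η : IrrCharacter G, classInner (latChar ι ρ) (η : G → ℂ) *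
        (omega (η : G → ℂ) (fun g => (φ g : ℂ)) * (η : G → ℂ) h) = 0 := fun h => by
      rw [← h1 h]
      simp only [← sum_mul_irr _ hcl h, Finset.mul_sum]
      rw [Finset.sum_comm]
      refine Finset.sum_congr rfl fun g _ => ?_
      conv_rhs => rw [hexp]
      simp only [Finset.sum_apply, Pi.smul_apply, smul_eq_mul, Finset.mul_sum]
      exact Finset.sum_congr rfl fun η _ => by ring
    have h3 : classInner (∑ η : IrrCharacter G, (classInner (latChar ι ρ) (η : G → ℂ) *
        omega (η : G → ℂ) (fun g => (φ g : ℂ))) • (η : G → ℂ)) (ψ : G → ℂ) = 0 := by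
      rw [show (∑ η : IrrCharacter G, (classInner (latChar ι ρ) (η : G → ℂ) *
        omega (η : G → ℂ) (fun g => (φ g : ℂ))) • (η : G → ℂ)) = 0 from funext fun h => by
          simp only [Finset.sum_apply, Pi.smul_apply, smul_eq_mul, Pi.zero_apply, mul_assoc]
          exact h2 h, Chars.inner_zero_left]
    rw [inner_sum_left] at h3
    simp only [Chars.inner_smul_left, inner_irr, mul_ite, mul_one, mul_zero, Finset.sum_ite_eq',
      Finset.mem_univ, if_true] at h3
    exact (mul_eq_zero.1 h3).resolve_left hψ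
  · exfalso
    apply hχ
    set FC : Matrix (Fin n) (Fin n) ℂ := ∑ g, (φ g : ℂ) • latMat ι ρ g with hFC
    set E : Matrix (Fin n) (Fin n) ℂ := ∑ g, conj ((χ : G → ℂ) g) • latMat ι ρ g with hE
    have hdet : FC.det ≠ 0 := by
      have e : FC = ι.mapMatrix (LinearMap.toMatrix' F) := by
        rw [hFC, hF, map_sum, map_sum]
        refine Finset.sum_congr rfl fun g _ => ?_
        ext i j
        simp [latMat, LinearMap.toMatrixAlgEquiv', map_intCast]
      rw [e, ← RingHom.map_det, LinearMap.det_toMatrix']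
      intro h
      exact (LinearMap.det_eq_zero_iff_ker_ne_bot.1 (hι (h.trans (map_zero ι).symm)))
        (LinearMap.ker_eq_bot.2 hinj)
    have hmul : FC * E = 0 := by
      rw [hFC, hE, Finset.sum_mul]
      simp only [Finset.mul_sum, smul_mul_smul_comm, ← map_mul]
      rw [Finset.sum_comm]
      have : ∀ g : G, ∑ h : G, ((φ g : ℂ) * conj ((χ : G → ℂ) h)) • latMat ι ρ (g * h) =
          ∑ x : G, ((φ g : ℂ) * conj ((χ : G → ℂ) (g⁻¹ * x))) • latMat ι ρ x := fun g => by
        rw [← Equiv.sum_comp (Equiv.mulLeft g) (fun x => ((φ g : ℂ) *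
          conj ((χ : G → ℂ) (g⁻¹ * x))) • latMat ι ρ x)]
        simp
      rw [Finset.sum_comm, Finset.sum_congr rfl fun g _ => this g, Finset.sum_comm,
        Finset.sum_eq_zero]
      intro x _
      rw [← Finset.sum_smul]
      have h4 : ∑ g, (φ g : ℂ) * conj ((χ : G → ℂ) (g⁻¹ * x)) = 0 := by
        have h5 := sum_mul_irr χ hcl x⁻¹
        rw [h0, zero_mul] at h5
        rw [← h5]
        refine Finset.sum_congr rfl fun g _ => ?_
        rw [← irr_inv, mul_inv_rev, inv_inv,
          show x⁻¹ * g = x⁻¹ * (g * x⁻¹) * (x⁻¹)⁻¹ by group, isClassFunction_irr χ]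
      rw [h4, zero_smul]
    have hE0 : E = 0 := by
      have h6 := congrArg (fun A => FC⁻¹ * A) hmul
      simpa [← Matrix.mul_assoc, Matrix.nonsing_inv_mul _ (isUnit_iff_ne_zero.2 hdet)] using h6
    have h7 := congrArg Matrix.trace hE0
    simp only [hE, Matrix.trace_sum, Matrix.trace_smul, trace_latMat, smul_eq_mul,
      Matrix.trace_zero] at h7
    rw [← sum_conj_latChar, ← h7]
    exact Finset.sum_congr rfl fun g _ => mul_comm _ _

open Polynomial in
/-- The trace function takes one value on the nontrivial powers of an element of order `p`. -/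
theorem latChar_pow_eq (hι : Function.Injective ι) {u : G} (hu : orderOf u = p) {j : ℕ}
    (hj : ¬ p ∣ j) : latChar ι ρ (u ^ j) = latChar ι ρ u := by
  classical
  have hp : p.Prime := Fact.out
  obtain ⟨ζ, hζ⟩ : ∃ ζ : ℂ, IsPrimitiveRoot ζ p :=
    ⟨_, Complex.isPrimitiveRoot_exp p hp.ne_zero⟩
  haveI : NeZero p := ⟨hp.ne_zero⟩
  obtain ⟨d, σ, hσ⟩ := isCharacter_latChar ι ρ
  obtain ⟨b, μ, hμ, -, hb, -, htr, -⟩ := exists_eigenbasis_rep σ u
  rw [hu] at hμ
  choose k hk hkμ using fun i => hζ.eq_pow_of_pow_eq_one (hμ i)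
  have hval : ∀ l : ℕ, latChar ι ρ (u ^ l) = ∑ i, (ζ ^ l) ^ k i := fun l => by
    have hpow : ∀ (m : ℕ) i, σ (u ^ m) (b i) = μ i ^ m • b i := by
      intro m
      induction m with
      | zero => intro i; simp
      | succ m ih =>
        intro i
        rw [pow_succ', map_mul, Module.End.mul_apply, ih, map_smul, hb, smul_smul, ← pow_succ]
    rw [← hσ]
    show LinearMap.trace ℂ _ (σ (u ^ l)) = _
    rw [trace_eq_sum_of_eigenbasis _ b _ (hpow l)]
    exact Finset.sum_congr rfl fun i _ => by rw [← hkμ i, ← pow_mul, ← pow_mul, mul_comm]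
  obtain ⟨z, hz⟩ : ∃ z, ι z = latChar ι ρ u := ⟨_, rfl⟩
  set f : ℤ_[p][X] := (∑ i, X ^ k i) - C z with hf
  letI : Algebra ℤ_[p] ℂ := ι.toAlgebra
  haveI : Module.IsTorsionFree ℤ_[p] ℂ := by
    refine Module.isTorsionFree_iff_algebraMap_injective.2 ?_
    exact hι
  have halg : algebraMap ℤ_[p] ℂ = ι := rfl
  have haev : ∀ (g : ℤ_[p][X]) (x : ℂ), aeval x g = eval₂ ι x g := fun g x => rfl
  have hf0 : aeval ζ f = 0 := by
    simp only [hf, map_sub, map_sum, map_pow, aeval_X, aeval_C, halg, hz]
    rw [sub_eq_zero]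
    have := hval 1
    rw [pow_one] at this
    simpa using this.symm
  have hint : IsIntegral ℤ_[p] ζ :=
    IsIntegral.of_pow hp.pos (by rw [hζ.pow_eq_one]; exact isIntegral_one)
  have hcyc : ∀ {x : ℂ}, IsPrimitiveRoot x p → aeval x (cyclotomic p ℤ_[p]) = 0 := fun {x} hx => by
    rw [aeval_def, ← eval_map, map_cyclotomic]
    exact hx.isRoot_cyclotomic hp.pos
  have hdvd : cyclotomic p ℤ_[p] ∣ f := by
    have h1 := minpoly.isIntegrallyClosed_dvd hint (hcyc hζ)
    have h2 := minpoly.isIntegrallyClosed_dvd hint hf0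
    rcases (irreducible_cyclotomic_padicInt p).dvd_iff.1 h1 with h3 | h3
    · exact absurd h3 (minpoly.not_isUnit ℤ_[p] ζ)
    · exact h3.dvd.trans h2
  obtain ⟨q, hq⟩ := hdvd
  have hroot : aeval (ζ ^ j) f = 0 := by
    rw [hq, map_mul, hcyc (hζ.pow_of_coprime j ((hp.coprime_iff_not_dvd.2 hj).symm)), zero_mul]
  simp only [hf, map_sub, map_sum, map_pow, aeval_X, aeval_C, halg, hz, sub_eq_zero] at hroot
  rw [hval, hroot]

end Character

end CfsgLib.Blocks
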