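import Cfsg.Agent.Lib.Blocks.TateBound
import Cfsg.Agent.Lib.Blocks.PadicLattice
import Cfsg.Agent.Lib.Blocks.FreePrincipal
import Cfsg.Agent.Lib.Blocks.FreeCoherence
import Cfsg.Agent.Lib.CharApps.PrincipalRational

/-!
# The principal block for a Sylow subgroup of prime order
-/

set_option autoImplicit false
set_option linter.unusedSectionVars false
set_option linter.style.haveILetI false

namespace CfsgLib.Blocks

open Cfsg Chars Finset
open scoped ComplexConjugate

universe u

variable {G : Type u} [Group G] [Fintype G] {M : Ideal AlgInt} [M.IsPrime] {p : ℕ} [Fact p.Prime]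

theorem zpowers_eq_of_prime_card {P : Subgroup G} (hP : Nat.card P = p) {x : G} (hx : x ∈ P)
    (hx1 : x ≠ 1) : Subgroup.zpowers x = P := by
  refine Subgroup.eq_of_le_of_card_ge (Subgroup.zpowers_le.2 hx) ?_
  rw [Nat.card_zpowers, hP]
  have h : orderOf x ∣ p := hP ▸ Subgroup.orderOf_dvd_natCard P hx
  rcases (Nat.dvd_prime Fact.out).1 h with h1 | h1
  · exact absurd (orderOf_eq_one_iff.1 h1) hx1
  · exact h1.ge

theorem free_of_prime_card {P : Subgroup G} (hP : Nat.card P = p) :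
    ∀ g ∈ Subgroup.normalizer (P : Set G), ∀ x ∈ P, x ≠ 1 →
      g * x * g⁻¹ = x → g ∈ Subgroup.centralizer (P : Set G) := by
  intro g _ x hx hx1 hfix y hy
  obtain ⟨k, rfl⟩ := (zpowers_eq_of_prime_card hP hx hx1).symm ▸ hy
  exact (((show Commute g x from mul_inv_eq_iff_eq_mul.1 hfix).zpow_right k).eq).symm

theorem comm_of_prime_card {P : Subgroup G} (hP : Nat.card P = p) :
    ∀ x ∈ P, ∀ y ∈ P, x * y = y * x := by
  intro x hx y hy
  rcases eq_or_ne x 1 with rfl | hx1
  · simp
  obtain ⟨k, rfl⟩ := (zpowers_eq_of_prime_card hP hx hx1).symm ▸ hy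
  exact ((Commute.refl x).zpow_right k).eq

/-- The local data at an element generating a Sylow subgroup of prime order. -/
theorem exists_cyclicLocal (P : Sylow p G) (hP : Nat.card P = p) {u : G} (hu : u ∈ (P : Subgroup G))
    (hu1 : u ≠ 1) : ∃ L : CyclicLocal p G, L.u = u := by
  classical
  have hz : Subgroup.zpowers u = (P : Subgroup G) := zpowers_eq_of_prime_card hP hu hu1
  have hou : orderOf u = p := by
    rw [← Nat.card_zpowers, hz]
    exact hP
  have hcen : Subgroup.centralizer ({u} : Set G) = Subgroup.centralizer ((P : Subgroup G) : Set G) := by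
    rw [← hz, Subgroup.zpowers_eq_closure, Subgroup.centralizer_closure]
  have hPC : (P : Subgroup G) ≤ Subgroup.centralizer ({u} : Set G) := fun x hx =>
    Subgroup.mem_centralizer_singleton_iff.2 (comm_of_prime_card hP x hx u hu)
  let S : Sylow p (Subgroup.centralizer ({u} : Set G)) := P.subtype hPC
  have hS : Subgroup.normalizer ((S : Subgroup (Subgroup.centralizer ({u} : Set G))) : Set (Subgroup.centralizer ({u} : Set G))) ≤
      Subgroup.centralizer ((S : Subgroup (Subgroup.centralizer ({u} : Set G))) : Set (Subgroup.centralizer ({u} : Set G))) := by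
    intro c _ x hx
    have hc : (c : G) ∈ Subgroup.centralizer ((P : Subgroup G) : Set G) := hcen ▸ c.2
    exact Subtype.ext (hc (x : G) hx)
  set K := (MonoidHom.transferSylow S hS).ker with hK
  have hKP := MonoidHom.ker_transferSylow_isComplement' S hS
  have hKn : ¬ p ∣ Nat.card K := MonoidHom.not_dvd_card_ker_transferSylow S hS
  have hKi : K.index = p ^ 1 := by
    rw [pow_one, hK, hKP.symm.index_eq_card]
    exact (Nat.card_congr (Subgroup.subgroupOfEquivOfLe hPC).toEquiv).trans hP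
  have hKmem : ∀ c : G, c ∈ K.map (Subgroup.centralizer ({u} : Set G)).subtype ↔
      Commute u c ∧ ¬ p ∣ orderOf c := by
    intro c
    constructor
    · rintro ⟨k, hk, rfl⟩
      refine ⟨(Subgroup.mem_centralizer_singleton_iff.1 k.2).symm, fun h => hKn ?_⟩
      rw [Subgroup.coe_subtype, Subgroup.orderOf_coe] at h
      exact h.trans (Subgroup.orderOf_dvd_natCard _ hk)
    · rintro ⟨h1, h2⟩
      refine ⟨⟨c, Subgroup.mem_centralizer_singleton_iff.2 h1.eq.symm⟩, ?_, rfl⟩
      refine index_eq_pow_mem_of_regular hKi ?_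
      rwa [← Subgroup.orderOf_coe]
  -- the automizer
  haveI : IsCyclic (P : Subgroup G) := isCyclic_of_prime_card hP
  set f := (P : Subgroup G).normalizerMonoidHom with hf
  haveI hfact : Fact (Nat.card (P : Subgroup G)).Prime := ⟨by rw [hP]; exact Fact.out⟩
  haveI : IsCyclic (MulAut (P : Subgroup G)) :=
    isCyclic_of_surjective (IsCyclic.mulAutMulEquiv (P : Subgroup G)).symm.toMonoidHom
      (IsCyclic.mulAutMulEquiv (P : Subgroup G)).symm.surjective
  obtain ⟨⟨_, n, rfl⟩, hgen⟩ := IsCyclic.exists_generator (α := f.range)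
  have hker : ∀ m : Subgroup.normalizer ((P : Subgroup G) : Set G), f m = 1 → Commute u (m : G) := by
    intro m hm
    rw [← MonoidHom.mem_ker, hf, Subgroup.normalizerMonoidHom_ker, Subgroup.mem_subgroupOf] at hm
    exact hm u hu
  have hnorm : ∀ g : G, g * u * g⁻¹ ∈ Subgroup.zpowers u →
      g ∈ Subgroup.normalizer ((P : Subgroup G) : Set G) := by
    intro g hg
    have hmap : (P : Subgroup G).map (MulAut.conj g).toMonoidHom = (P : Subgroup G) := by
      refine Subgroup.eq_of_le_of_card_ge ?_ ?_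
      · conv_lhs => rw [← hz]
        rw [MonoidHom.map_zpowers, Subgroup.zpowers_le, ← hz]
        exact hg
      · rw [Subgroup.card_map_of_injective (MulAut.conj g).injective]
    rw [Subgroup.mem_normalizer_iff]
    intro h
    conv_rhs => rw [← hmap]
    exact (Subgroup.mem_map_iff_mem (MulAut.conj g).injective).symm
  have hn : (n : G) * u * (n : G)⁻¹ ∈ Subgroup.zpowers u := by
    rw [hz]
    exact (Subgroup.mem_normalizer_iff.1 n.2 u).1 hu
  refine ⟨{ u := u, V := K.map (Subgroup.centralizer ({u} : Set G)).subtype, n₀ := (n : G),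
            order_u := hou, commute_V := fun v hv => ((hKmem v).1 hv).1, not_dvd := ?_,
            split := ?_, norm_V := ?_, n₀_mem := hn, gen := ?_, pow_n₀ := ?_ }, rfl⟩
  · rw [Subgroup.card_map_of_injective (Subgroup.centralizer ({u} : Set G)).subtype_injective]
    exact hKn
  · intro c hc
    obtain ⟨⟨k, q⟩, hkq⟩ := hKP.2 ⟨c, Subgroup.mem_centralizer_singleton_iff.2 hc.eq.symm⟩
    refine ⟨(q.1 : G), hz.symm ▸ q.2, (k.1 : G), ⟨k.1, k.2, rfl⟩, ?_⟩
    have h1 : ((k.1 : G) * (q.1 : G)) = c := congrArg Subtype.val hkq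
    have h2 : (k.1 : G) ∈ Subgroup.centralizer ((P : Subgroup G) : Set G) := hcen ▸ k.1.2
    rw [← h1]
    exact (h2 (q.1 : G) q.2).symm
  · intro g hg v
    rw [hKmem, hKmem]
    have ho : orderOf (g * v * g⁻¹) = orderOf v :=
      orderOf_injective (MulAut.conj g).toMonoidHom (MulAut.conj g).injective v
    rw [ho, and_congr_left_iff]
    intro _
    have e : ∀ w, (Commute u w ↔ w ∈ Subgroup.centralizer ((P : Subgroup G) : Set G)) := fun w => by
      rw [← hcen, Subgroup.mem_centralizer_singleton_iff]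
      exact ⟨fun h => h.eq.symm, fun h => h.symm⟩
    rw [e, e, Subgroup.mem_centralizer_iff, Subgroup.mem_centralizer_iff]
    have hg' := Subgroup.mem_normalizer_iff.1 (hnorm g hg)
    constructor
    · intro h x hx
      have h3 := h (g⁻¹ * x * g) ((hg' _).2 (by
        rwa [show g * (g⁻¹ * x * g) * g⁻¹ = x by group]))
      calc x * (g * v * g⁻¹) = g * ((g⁻¹ * x * g) * v) * g⁻¹ := by group
        _ = g * (v * (g⁻¹ * x * g)) * g⁻¹ := by rw [h3]
        _ = g * v * g⁻¹ * x := by group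
    · intro h x hx
      have h3 := h (g * x * g⁻¹) ((hg' x).1 hx)
      calc x * v = g⁻¹ * ((g * x * g⁻¹) * (g * v * g⁻¹)) * g := by group
        _ = g⁻¹ * (g * v * g⁻¹ * (g * x * g⁻¹)) * g := by rw [h3]
        _ = v * x := by group
  · intro g hg
    obtain ⟨i, hi⟩ := mem_powers_iff_mem_zpowers.2
      (hgen ⟨f ⟨g, hnorm g hg⟩, ⟨⟨g, hnorm g hg⟩, rfl⟩⟩)
    refine ⟨i, hker (⟨g, hnorm g hg⟩ * (n ^ i)⁻¹) ?_⟩
    have hi' : f n ^ i = f ⟨g, hnorm g hg⟩ := congrArg Subtype.val hi
    rw [map_mul, map_inv, map_pow, hi', mul_inv_cancel]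
  · refine hker (n ^ (p - 1)) ?_
    rw [map_pow]
    have hcard : Nat.card (MulAut (P : Subgroup G)) = p - 1 := by
      rw [IsCyclic.card_mulAut, hP, Nat.totient_prime Fact.out]
    rw [← hcard]
    exact pow_card_eq_one'

/-- The regular indicator. -/
theorem omega_regular_ne_zero (hpM : (p : AlgInt) ∈ M) (ψ : IrrCharacter G)
    [DecidablePred fun g : G => ¬ p ∣ orderOf g] :
    omega (ψ : G → ℂ) (fun g => (((if ¬ p ∣ orderOf g then 1 else 0 : ℤ)) : ℂ)) ≠ 0 ↔
      ψ ∈ principalBlock M G := by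
  rw [CharApps.mem_principalBlock_iff_regularSum hpM, omega, ne_eq, div_eq_zero_iff,
    or_iff_left (irr_degree_ne_zero ψ.2), Finset.sum_filter]
  refine not_congr (Eq.congr_left (Finset.sum_congr rfl fun g _ => ?_))
  by_cases h : p ∣ orderOf g <;> simp [h]

/-- The constituents of a minimal lattice containing a character of the principal block: their
sum is constant with absolute value at most one on the nontrivial elements of the Sylow
subgroup. -/
theorem exists_constituents (hM : IsPModular p M) (P : Sylow p G) (hP : Nat.card P = p)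
    [Fintype (IrrCharacter G)] {χ : IrrCharacter G} (hχ : χ ∈ principalBlock M G) :
    ∃ (m : IrrCharacter G → ℕ) (k : ℤ), (k = 0 ∨ k = 1 ∨ k = -1) ∧ m χ ≠ 0 ∧
      (∀ ψ, m ψ ≠ 0 → ψ ∈ principalBlock M G) ∧
      (∀ φ : G → ℤ, (∀ g c : G, φ (c * g * c⁻¹) = φ g) → ∀ ψ η : IrrCharacter G,
        m ψ ≠ 0 → m η ≠ 0 → omega (ψ : G → ℂ) (fun g => (φ g : ℂ)) = 0 →
        omega (η : G → ℂ) (fun g => (φ g : ℂ)) = 0) ∧
      ∀ y ∈ (P : Subgroup G), y ≠ 1 → ∑ ψ, (m ψ : ℂ) * (ψ : G → ℂ) y = k := by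
  classical
  have hp : p.Prime := Fact.out
  obtain ⟨ι, hι⟩ := exists_padicInt_embedding p
  obtain ⟨n, ρ, hmχ, hρ⟩ := exists_minimal_lattice ι χ
  have hmult : ∀ ψ : IrrCharacter G,
      latMult ι ρ ψ = (Nat.card G : ℂ) * classInner (latChar ι ρ) (ψ : G → ℂ) := fun ψ => by
    rw [inner_def, mul_inv_cancel_left₀ (card_ne_zero G)]
    rfl
  choose m hm using fun ψ => inner_irr_right_nat (isCharacter_latChar ι ρ) ψ
  have hmne : ∀ ψ, m ψ ≠ 0 ↔ latMult ι ρ ψ ≠ 0 := fun ψ => by
    rw [hmult, hm, mul_ne_zero_iff_left (card_ne_zero G), Nat.cast_ne_zero]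
  have htr : ∀ φ : G → ℤ, (∀ g c : G, φ (c * g * c⁻¹) = φ g) → ∀ ψ η : IrrCharacter G,
      m ψ ≠ 0 → m η ≠ 0 → omega (ψ : G → ℂ) (fun g => (φ g : ℂ)) = 0 →
      omega (η : G → ℂ) (fun g => (φ g : ℂ)) = 0 := fun φ hφ ψ η hψ hη h0 =>
    omega_eq_zero_of_lattice ι ρ hι ((hmne ψ).1 hψ) hρ
      (by rw [hm]; exact_mod_cast hη) hφ h0
  have hmem : ∀ ψ, m ψ ≠ 0 → ψ ∈ principalBlock M G := fun ψ hψ => by
    rw [← omega_regular_ne_zero hM.2.2]
    intro h0
    refine (omega_regular_ne_zero hM.2.2 χ).2 hχ (htr _ (fun g c => ?_) ψ χ hψ ((hmne χ).2 hmχ) h0)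
    rw [show orderOf (c * g * c⁻¹) = orderOf g from
      orderOf_injective (MulAut.conj c).toMonoidHom (MulAut.conj c).injective g]
  have hθ : ∀ g, latChar ι ρ g = ∑ ψ : IrrCharacter G, (m ψ : ℂ) * (ψ : G → ℂ) g := fun g => by
    conv_lhs => rw [classFun_eq_sum (isClassFunction_of_isCharacter (isCharacter_latChar ι ρ))]
    simp [Finset.sum_apply, hm]
  haveI : Nontrivial (P : Subgroup G) := by
    rw [← Finite.one_lt_card_iff_nontrivial, hP]; exact hp.one_lt
  obtain ⟨⟨u, hu⟩, hu1⟩ := exists_ne (1 : (P : Subgroup G))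
  have hu1' : u ≠ 1 := fun h => hu1 (Subtype.ext h)
  obtain ⟨L, rfl⟩ := exists_cyclicLocal P hP hu hu1'
  have hz : Subgroup.zpowers L.u = (P : Subgroup G) := zpowers_eq_of_prime_card hP hu hu1'
  have hconst : ∀ y ∈ Subgroup.zpowers L.u, y ≠ 1 → latChar ι ρ y = latChar ι ρ L.u := by
    intro y hy hy1
    obtain ⟨j, rfl⟩ := mem_powers_iff_mem_zpowers.2 hy
    refine latChar_pow_eq ι ρ hι L.order_u fun hd => hy1 ?_
    show L.u ^ j = 1
    exact orderOf_dvd_iff_pow_eq_one.1 (L.order_u.symm ▸ hd)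
  have hval : ∀ y ∈ Subgroup.zpowers L.u, y ≠ 1 → ∀ v : L.V,
      latChar ι ρ (y * v) = latChar ι ρ L.u := by
    intro y hy hy1 v
    rw [← hconst y hy hy1, hθ, hθ]
    refine Finset.sum_congr rfl fun ψ _ => ?_
    rcases eq_or_ne (m ψ) 0 with h | h
    · simp [h]
    obtain ⟨j, rfl⟩ := mem_powers_iff_mem_zpowers.2 hy
    congr 1
    refine (principal_column (M := M) hM P (comm_of_prime_card hP) (free_of_prime_card hP)
      (hz ▸ hy) hy1).1 ψ (hmem ψ h) v ((L.commute_V v v.2).pow_left j) fun hd => L.not_dvd ?_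
    exact hd.trans (Subgroup.orderOf_dvd_natCard _ v.2)
  obtain ⟨k, hk, hck⟩ := tate_bound ρ L hρ (LinearMap.trace ℤ_[p] _ (ρ L.u)) fun y hy hy1 => by
    rw [Finset.sum_congr rfl fun v _ => hι (hval y hy hy1 v), Finset.sum_const, Finset.card_univ,
      nsmul_eq_mul, Nat.card_eq_fintype_card]
  refine ⟨m, k, hk, (hmne χ).2 hmχ, hmem, htr, fun y hy hy1 => ?_⟩
  rw [← hθ, hconst y (hz.symm ▸ hy) hy1, latChar, hck, map_intCast]

end CfsgLib.Blocks
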