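import Cfsg.Agent.Lib.Blocks.DefectOneStructure

/-!
# Blocks with a Sylow defect group of order `p`: values, degrees and Galois conjugates
-/

set_option linter.unusedSectionVars false
set_option linter.style.haveILetI false

namespace CfsgLib.Blocks

open Cfsg Chars BlockOrth Modular Finset
open scoped ComplexConjugate

universe u

variable {G : Type u} [Group G] [Fintype G] {M : Ideal AlgInt} [M.IsPrime] {p : ℕ} [Fact p.Prime]
  {P : Subgroup G} {B : Set (IrrCharacter G)}

theorem char_sub_degree_mem (hpM : (p : AlgInt) ∈ M) (χ : IrrCharacter G) {x : G}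
    (hx : x ^ p = 1) : MemLocalIdeal M ((χ : G → ℂ) x - (χ : G → ℂ) 1) := by
  obtain ⟨χ, d, ρ, hρ, hχ⟩ := χ
  subst hχ
  obtain ⟨bb, μ, hμ, -, -, -, h1, -⟩ := exists_eigenbasis_rep ρ x
  show MemLocalIdeal M (ρ.character x - ρ.character 1)
  rw [h1, Representation.char_one, show (Module.finrank ℂ (Fin d → ℂ) : ℂ) =
      ∑ _i : Fin (Module.finrank ℂ (Fin d → ℂ)), (1 : ℂ) by
    rw [Finset.sum_const, Finset.card_univ, ← Module.finrank_eq_card_basis bb, nsmul_one],
    ← Finset.sum_sub_distrib]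
  refine MemLocalIdeal.sum' fun i _ => memLocalIdeal_root_sub_one hpM (n := 1) ?_
  obtain ⟨k, hk⟩ := orderOf_dvd_of_pow_eq_one hx
  rw [pow_one, hk, pow_mul, hμ i, one_pow]

theorem dvd_of_memLocalIdeal_intCast (hpM : (p : AlgInt) ∈ M) {z : ℤ}
    (h : MemLocalIdeal M (z : ℂ)) : (p : ℤ) ∣ z := by
  rw [← Int.natAbs_dvd_natAbs, Int.natAbs_natCast,
    ← memLocalIdeal_natCast_iff (Fact.out : p.Prime) hpM]
  rcases Int.natAbs_eq z with hz | hz
  · rw [hz] at h
    simpa using h
  · rw [hz] at h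
    have := MemLocalIdeal.neg' h
    simpa using this

/-- The `p'`-part of the group order kills the `p`-regular elements. -/
theorem pow_pPrime_card_eq_one {y : G} (hy : ¬ p ∣ orderOf y) :
    y ^ (Nat.card G / p ^ (Nat.card G).factorization p) = 1 := by
  refine orderOf_dvd_iff_pow_eq_one.1 ?_
  refine Nat.Coprime.dvd_of_dvd_mul_left ?_
    ((Nat.ordProj_mul_ordCompl_eq_self (Nat.card G) p).symm ▸ orderOf_dvd_natCard y)
  exact (((Fact.out : p.Prime).coprime_iff_not_dvd.2 hy).symm).pow_right _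

theorem galois_apply_regular {H : Type*} [Group H] [Finite H] {σ : ℂ ≃+* ℂ} {N : ℕ}
    (hσ : ∀ z : ℂ, z ^ N = 1 → σ z = z) (χ : IrrCharacter H) {y : H} (hy : y ^ N = 1) :
    σ ((χ : H → ℂ) y) = (χ : H → ℂ) y := by
  have h := CharApps.galois_apply (k := 1) σ (fun z hz => by rw [hσ z hz, pow_one])
    (isCharacter_of_irr χ.2) y hy
  rwa [pow_one] at h

/-- Automorphisms fixing the `p'`-th roots of unity fix block idempotents. -/
theorem galois_blockCoeff_fixed {H : Type*} [Group H] [Fintype H] (hpM : (p : AlgInt) ∈ M)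
    {C : Set (IrrCharacter H)} (hC : IsPBlock M C) {σ : ℂ ≃+* ℂ} {N : ℕ}
    (hσ : ∀ z : ℂ, z ^ N = 1 → σ z = z) (hN : ∀ y : H, ¬ p ∣ orderOf y → y ^ N = 1) (y : H) :
    σ (blockCoeff C y) = blockCoeff C y := by
  classical
  haveI := irrFintype H
  by_cases hy : p ∣ orderOf y
  · rw [blockCoeff_eq_zero_of_dvd (Fact.out : p.Prime) hpM hC hy, map_zero]
  have hy' : ¬ p ∣ orderOf y⁻¹ := by rwa [orderOf_inv]
  rw [blockCoeff, map_mul, map_inv₀, map_natCast,
    finsum_mem_eq_sum_of_inter_support_eq (t := univ.filter (· ∈ C)) _ (by ext; simp), map_sum]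
  congr 1
  refine Finset.sum_congr rfl fun η _ => ?_
  obtain ⟨n, -, hn⟩ := irr_degree_nat η.2
  rw [← char_inv (isCharacter_of_irr η.2), map_mul, hn, map_natCast,
    galois_apply_regular hσ η (hN _ hy')]

/-- Automorphisms fixing the `p'`-th roots of unity permute each block. -/
theorem galoisIrr_mem (hpM : (p : AlgInt) ∈ M) (hB : IsPBlock M B) {σ : ℂ ≃+* ℂ}
    (hσ : ∀ z : ℂ, z ^ (Nat.card G / p ^ (Nat.card G).factorization p) = 1 → σ z = z)
    {χ : IrrCharacter G} (hχ : χ ∈ B) : CharApps.galoisIrr σ χ ∈ B := by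
  classical
  haveI := irrFintype G
  have h1 : omega (χ : G → ℂ) (blockCoeff B) = 1 := by rw [omega_blockCoeff, if_pos hχ]
  by_contra hno
  have h2 : omega ((CharApps.galoisIrr σ χ : IrrCharacter G) : G → ℂ) (blockCoeff B) = 0 := by
    rw [omega_blockCoeff, if_neg hno]
  have h3 : omega ((CharApps.galoisIrr σ χ : IrrCharacter G) : G → ℂ) (blockCoeff B) =
      σ (omega (χ : G → ℂ) (blockCoeff B)) := by
    simp only [omega, CharApps.galoisIrr_apply, map_div₀, map_sum, map_mul,
      galois_blockCoeff_fixed hpM hB hσ (fun y hy => pow_pPrime_card_eq_one hy)]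
  rw [h1, map_one, h2] at h3
  exact zero_ne_one h3

variable [Fintype (Subgroup.centralizer (P : Set G))]
  {b : Set (IrrCharacter (Subgroup.centralizer (P : Set G)))}
  {θ : IrrCharacter (Subgroup.centralizer (P : Set G))}

/-- The degree of the canonical character is prime to `p`. -/
theorem not_dvd_degree_canonical (hM : IsPModular p M) (hcard : Nat.card P = p)
    (hsq : ¬ p ^ 2 ∣ Nat.card G) (hpair : IsBrauerPairOf p M B P b) (hθb : θ ∈ b)
    (hθ : ∀ x : Subgroup.centralizer (P : Set G), (x : G) ∈ P →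
      (θ : Subgroup.centralizer (P : Set G) → ℂ) x = (θ : Subgroup.centralizer (P : Set G) → ℂ) 1) :
    ¬ p ∣ charDegree (θ : Subgroup.centralizer (P : Set G) → ℂ) := by
  have hp : p.Prime := Fact.out
  have hd : blockDefect p b = 1 := Nat.pow_right_injective hp.two_le
    (show p ^ blockDefect p b = p ^ 1 by rw [pow_one, pow_blockDefect_local hM.2.2 hcard hsq hpair])
  have hle : (Nat.card (Subgroup.centralizer (P : Set G))).factorization p ≤ 1 := by
    by_contra h
    exact hsq ((((pow_dvd_pow p (show 2 ≤ (Nat.card (Subgroup.centralizer (P : Set G))).factorization p by omega)).trans (Nat.ordProj_dvd _ p))).trans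
      (Subgroup.card_subgroup_dvd_card _))
  obtain ⟨η, hη, hη0⟩ : ∃ η ∈ b,
      (charDegree (η : Subgroup.centralizer (P : Set G) → ℂ)).factorization p = 0 := by
    rw [blockDefect] at hd
    rcases Nat.sInf_eq_zero.1 (show sInf ((fun χ : IrrCharacter (Subgroup.centralizer (P : Set G)) =>
        (charDegree (χ : Subgroup.centralizer (P : Set G) → ℂ)).factorization p) '' b) = 0 by omega)
      with ⟨η, hη, h⟩ | h
    · exact ⟨η, hη, h⟩
    · exact absurd h (Set.Nonempty.image _ ⟨θ, hθb⟩).ne_empty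
  have e : (charDegree (η : Subgroup.centralizer (P : Set G) → ℂ) : ℂ) =
      charDegree (θ : Subgroup.centralizer (P : Set G) → ℂ) := by
    rw [charDegree_cast, charDegree_cast]
    exact eq_canonical_regular hM hcard hsq hpair hθb hθ hη (by simp [hp.ne_one])
  rw [← Nat.cast_inj.1 e]
  intro h
  have := (hp.dvd_iff_one_le_factorization (irr_charDegree_ne_zero η)).1 h
  omega

/-- A Galois automorphism fixing the `p'`-th roots of unity commutes with the columns. -/
theorem xiFun_galoisIrr (hM : IsPModular p M) (hcard : Nat.card P = p)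
    (hsq : ¬ p ^ 2 ∣ Nat.card G) (hpair : IsBrauerPairOf p M B P b) {σ : ℂ ≃+* ℂ}
    (hσ : ∀ z : ℂ, z ^ (Nat.card G / p ^ (Nat.card G).factorization p) = 1 → σ z = z)
    (χ : IrrCharacter G) {u : P} (hu : u ≠ 1) :
    xiFun b ((CharApps.galoisIrr σ χ : IrrCharacter G) : G → ℂ) u = σ (xiFun b (χ : G → ℂ) u) := by
  classical
  obtain ⟨θ, hθb, hθ⟩ := exists_canonical hM.2.2 hcard hsq hpair.1.2
  obtain ⟨n, hn0, hn⟩ := irr_degree_nat θ.2
  refine mul_right_cancel₀ (Nat.cast_ne_zero.2 hn0.ne' : (n : ℂ) ≠ 0) ?_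
  rw [← hn, ← secVal_pair_self hM hcard hsq hpair hθb hθ _ hu,
    show σ (xiFun b (χ : G → ℂ) u) * (θ : Subgroup.centralizer (P : Set G) → ℂ) 1 =
      σ (xiFun b (χ : G → ℂ) u * (θ : Subgroup.centralizer (P : Set G) → ℂ) 1) by
        rw [map_mul, hn, map_natCast],
    ← secVal_pair_self hM hcard hsq hpair hθb hθ _ hu, secVal, secVal, map_sum]
  refine Finset.sum_congr rfl fun w _ => ?_
  rw [map_mul, CharApps.galoisIrr_apply]
  congr 1
  by_cases hw : w ∈ Subgroup.centralizer (P : Set G)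
  · rw [pairCoeff, show subgroupBlockCoeff (Subgroup.centralizer (P : Set G)) b w =
      blockCoeff b ⟨w, hw⟩ from subgroupBlockCoeff_coe _ ⟨w, hw⟩,
      galois_blockCoeff_fixed hM.2.2 hpair.1.2 hσ fun y hy => Subtype.ext (by
        push_cast
        exact pow_pPrime_card_eq_one (by rwa [Subgroup.orderOf_coe y]))]
  · rw [pairCoeff, subgroupBlockCoeff_of_notMem _ hw, map_zero]

/-- The value at a nontrivial element of `P` as a sum over the conjugate pairs. -/
theorem char_apply_eq_sum (hM : IsPModular p M) (hcard : Nat.card P = p)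
    (hsq : ¬ p ^ 2 ∣ Nat.card G) (hpair : IsBrauerPairOf p M B P b) (hθb : θ ∈ b)
    (hθ : ∀ x : Subgroup.centralizer (P : Set G), (x : G) ∈ P →
      (θ : Subgroup.centralizer (P : Set G) → ℂ) x = (θ : Subgroup.centralizer (P : Set G) → ℂ) 1)
    {χ : IrrCharacter G} (hχ : χ ∈ B) {u : P} (hu : u ≠ 1) :
    ∃ (S : Finset (BrauerPairIdx G)) (v : BrauerPairIdx G → P),
      S.card * (Subgroup.centralizer (P : Set G)).relIndex (stabPair ⟨P, b⟩) =
        (Subgroup.centralizer (P : Set G)).relIndex (Subgroup.normalizer (P : Set G)) ∧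
      (∀ a, v a ≠ 1) ∧
      (χ : G → ℂ) u =
        (θ : Subgroup.centralizer (P : Set G) → ℂ) 1 * ∑ a ∈ S, xiFun b (χ : G → ℂ) (v a) := by
  classical
  have hpM := hM.2.2
  have hu' : (u : G) ≠ 1 := fun h => hu (Subtype.ext h)
  have hz := zpowers_eq_of_prime hcard u.2 hu'
  have hmax := isMaximal_of_sylow_prime hpM hcard hsq hpair
  have h1 : ¬ p ∣ orderOf (1 : G) := by simp [(Fact.out : p.Prime).ne_one]
  have hup : ∃ k : ℕ, (u : G) ^ p ^ k = 1 := ⟨1, by rw [pow_one]; exact pow_p_eq_one hcard u.2⟩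
  let S : Finset (BrauerPairIdx G) :=
    (pairsAt M (u : G)).filter fun a => IsBrauerPairOf p M B a.1 a.2
  have hS : ∀ a ∈ S, ∃ g ∈ Subgroup.normalizer (P : Set G), conjPair g ⟨P, b⟩ = a := by
    intro a ha
    obtain ⟨h2, h3⟩ := mem_filter.1 ha
    have h4 : a.1 = P := (mem_pairsAt.1 h2).1.trans hz
    obtain ⟨Q, c⟩ := a
    obtain rfl : Q = P := h4
    exact exists_conj_pair_same_group hpM hmax h3
  choose g hgN hga using hS
  let v : BrauerPairIdx G → P := fun a => if ha : a ∈ S then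
    ⟨(g a ha)⁻¹ * u * g a ha, by
      simpa using (Subgroup.mem_normalizer_iff.1 (inv_mem (hgN a ha)) u).1 u.2⟩ else u
  refine ⟨S, v, ?_, fun a => ?_, ?_⟩
  · -- the pairs form one orbit of the normalizer
    obtain ⟨N, hN⟩ : ∃ N : Subgroup G, N = Subgroup.normalizer (P : Set G) := ⟨_, rfl⟩
    obtain ⟨T, hT⟩ : ∃ T : Subgroup G, T = stabPair ⟨P, b⟩ := ⟨_, rfl⟩
    have hTN : T ≤ N := hT ▸ hN ▸ stabPair_le_normalizer _
    have hmem : ∀ x : N, conjPair (x : G) ⟨P, b⟩ ∈ S := fun x => by
      have hx : (x : G) ∈ Subgroup.normalizer (P : Set G) := hN ▸ x.2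
      have hfst : (conjPair (x : G) (⟨P, b⟩ : BrauerPairIdx G)).1 = P :=
        map_conj_of_mem_normalizer' hx
      exact mem_filter.2 ⟨mem_pairsAt.2 ⟨hfst.trans hz.symm, isPBlock_conjBlock hpair.1.2 _⟩,
        isBrauerPairOf_conj hpair _⟩
    have hidx : S.card = T.relIndex N := by
      rw [← Fintype.card_coe, ← Nat.card_eq_fintype_card, Subgroup.relIndex, Subgroup.index_eq_card]
      refine (Nat.card_congr (Equiv.ofBijective (Quotient.lift (fun x : N => (⟨_, hmem x⟩ : S))
        fun x y hxy => Subtype.ext ?_) ⟨?_, ?_⟩)).symm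
      · have h2 : ((x : G))⁻¹ * y ∈ T := Subgroup.mem_subgroupOf.1 (QuotientGroup.leftRel_apply.1 hxy)
        rw [hT] at h2
        show conjPair (x : G) _ = conjPair (y : G) _
        conv_lhs => rw [← show conjPair ((x : G)⁻¹ * y) (⟨P, b⟩ : BrauerPairIdx G) = ⟨P, b⟩ from h2,
          conjPair_mul, mul_inv_cancel_left]
      · intro x y
        induction x using Quotient.inductionOn with | _ x => ?_
        induction y using Quotient.inductionOn with | _ y => ?_
        intro hxy
        refine Quotient.sound (QuotientGroup.leftRel_apply.2 (Subgroup.mem_subgroupOf.2 ?_))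
        rw [hT]
        show conjPair ((x : G)⁻¹ * y) _ = _
        rw [← conjPair_mul, ← show conjPair (x : G) _ = conjPair (y : G) _ from congrArg Subtype.val hxy,
          conjPair_mul, inv_mul_cancel, conjPair_one]
      · rintro ⟨a, ha⟩
        exact ⟨Quotient.mk _ ⟨g a ha, hN ▸ hgN a ha⟩, Subtype.ext (hga a ha)⟩
    rw [hidx, ← hT, ← hN, mul_comm]
    exact Subgroup.relIndex_mul_relIndex _ _ _ (hT ▸ centralizer_le_stabPair hpair.1.2) hTN
  · by_cases ha : a ∈ S
    · simp only [v, dif_pos ha]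
      intro h
      refine hu' ?_
      have h2 : (g a ha)⁻¹ * (u : G) * g a ha = 1 := congrArg Subtype.val h
      calc (u : G) = g a ha * ((g a ha)⁻¹ * u * g a ha) * (g a ha)⁻¹ := by group
        _ = 1 := by rw [h2]; group
    · simp only [v, dif_neg ha]
      exact hu
  · rw [← sum_secVal (M := M) (χ : G → ℂ) (u : G) (u : G),
      ← Finset.sum_subset (Finset.filter_subset (fun a => IsBrauerPairOf p M B a.1 a.2) _)
        fun a ha hno => ?_, Finset.mul_sum]
    swap
    · have h := secVal_eq_zero hpM hpair.2.1 hχ (Commute.one_right (u : G)) hup h1 ha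
        fun h => hno (mem_filter.2 ⟨ha, h⟩)
      rwa [mul_one] at h
    refine Finset.sum_congr rfl fun a ha => ?_
    simp only [v, dif_pos (show a ∈ S from ha)]
    rw [mul_comm, ← secVal_pair_self hM hcard hsq hpair hθb hθ χ ?_]
    · conv_lhs => rw [← hga a ha, show (u : G) = g a ha * ((g a ha)⁻¹ * u * g a ha) * (g a ha)⁻¹ by group]
      exact secVal_conj (isClassFunction_irr χ) _ _ _
    · intro h
      refine hu' ?_
      have h2 : (g a ha)⁻¹ * (u : G) * g a ha = 1 := congrArg Subtype.val h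
      calc (u : G) = g a ha * ((g a ha)⁻¹ * u * g a ha) * (g a ha)⁻¹ := by group
        _ = 1 := by rw [h2]; group

theorem relIndex_stab_dvd (hpair : IsBrauerPairOf p M B P b) :
    (Subgroup.centralizer (P : Set G)).relIndex (stabPair ⟨P, b⟩) ∣
      (Subgroup.centralizer (P : Set G)).relIndex (Subgroup.normalizer (P : Set G)) :=
  Dvd.intro _ (Subgroup.relIndex_mul_relIndex _ _ _ (centralizer_le_stabPair hpair.1.2)
    (stabPair_le_normalizer (⟨P, b⟩ : BrauerPairIdx G)))

/-- The degree modulo `p` from the values of the column. -/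
theorem degree_modEq (hM : IsPModular p M) (hcard : Nat.card P = p)
    (hsq : ¬ p ^ 2 ∣ Nat.card G) (hpair : IsBrauerPairOf p M B P b) (hθb : θ ∈ b)
    (hθ : ∀ x : Subgroup.centralizer (P : Set G), (x : G) ∈ P →
      (θ : Subgroup.centralizer (P : Set G) → ℂ) x = (θ : Subgroup.centralizer (P : Set G) → ℂ) 1)
    {χ : IrrCharacter G} (hχ : χ ∈ B) {c : ℤ}
    (hc : ∀ v : P, v ≠ 1 → MemLocalIdeal M (xiFun b (χ : G → ℂ) v - (c : ℂ))) :
    (charDegree (χ : G → ℂ) : ℤ) ≡
      (((Subgroup.centralizer (P : Set G)).relIndex (Subgroup.normalizer (P : Set G)) /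
          (Subgroup.centralizer (P : Set G)).relIndex (stabPair ⟨P, b⟩) *
        charDegree (θ : Subgroup.centralizer (P : Set G) → ℂ) : ℕ) : ℤ) * c [ZMOD p] := by
  classical
  haveI : Nontrivial P := Finite.one_lt_card_iff_nontrivial.1
    (hcard ▸ (Fact.out : p.Prime).one_lt)
  obtain ⟨u, hu⟩ := exists_ne (1 : P)
  obtain ⟨S, v, hS, hv, hval⟩ := char_apply_eq_sum hM hcard hsq hpair hθb hθ hχ hu
  have he0 : (Subgroup.centralizer (P : Set G)).relIndex (stabPair ⟨P, b⟩) ≠ 0 :=
    card_inertia b ▸ Nat.card_pos.ne'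
  rw [← hS, Nat.mul_div_cancel _ (Nat.pos_of_ne_zero he0)]
  refine (Int.modEq_iff_dvd.2 (dvd_of_memLocalIdeal_intCast hM.2.2 ?_)).symm
  have h1 := char_sub_degree_mem hM.2.2 χ (pow_p_eq_one hcard u.2)
  have h2 : MemLocalIdeal M (∑ a ∈ S, (xiFun b (χ : G → ℂ) (v a) - (c : ℂ))) :=
    MemLocalIdeal.sum' fun a _ => hc _ (hv a)
  obtain ⟨n, -, hn⟩ := irr_degree_nat θ.2
  have h3 := MemLocalIdeal.sub' (MemLocalIdeal.mul_left' (natCast_mem_loc n) h2) h1
  convert h3 using 1
  have hn' : charDegree (θ : Subgroup.centralizer (P : Set G) → ℂ) = n := by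
    refine Nat.cast_injective (R := ℂ) ?_
    rw [charDegree_cast, hn]
  rw [hval, hn, hn', Finset.sum_sub_distrib, Finset.sum_const, nsmul_eq_mul]
  push_cast
  rw [charDegree_cast]
  ring

/-- The inertial group is the stabilizer of the canonical character. -/
theorem mem_stabPair_canonical_iff (hM : IsPModular p M) (hcard : Nat.card P = p)
    (hsq : ¬ p ^ 2 ∣ Nat.card G) (hpair : IsBrauerPairOf p M B P b) (hθb : θ ∈ b)
    (hθ : ∀ x : Subgroup.centralizer (P : Set G), (x : G) ∈ P →
      (θ : Subgroup.centralizer (P : Set G) → ℂ) x = (θ : Subgroup.centralizer (P : Set G) → ℂ) 1)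
    (g : G) :
    g ∈ stabPair ⟨P, b⟩ ↔ g ∈ Subgroup.normalizer (P : Set G) ∧
      ∀ c c' : Subgroup.centralizer (P : Set G), (c' : G) = g * c * g⁻¹ →
        (θ : Subgroup.centralizer (P : Set G) → ℂ) c' =
          (θ : Subgroup.centralizer (P : Set G) → ℂ) c := by
  classical
  have hconjC : ∀ t ∈ Subgroup.normalizer (P : Set G), ∀ z, z ∈ Subgroup.centralizer (P : Set G) →
      t * z * t⁻¹ ∈ Subgroup.centralizer (P : Set G) := by
    intro t ht z hz
    rw [Subgroup.mem_centralizer_iff] at hz ⊢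
    intro w hw
    have h1 := hz _ ((Subgroup.mem_normalizer_iff.1 (inv_mem ht) w).1 hw)
    simp only [inv_inv] at h1
    calc w * (t * z * t⁻¹) = t * ((t⁻¹ * w * t) * z) * t⁻¹ := by group
      _ = t * (z * (t⁻¹ * w * t)) * t⁻¹ := by rw [h1]
      _ = _ := by group
  let α : ∀ t ∈ Subgroup.normalizer (P : Set G),
      Subgroup.centralizer (P : Set G) ≃* Subgroup.centralizer (P : Set G) := fun t ht =>
    { toFun := fun c => ⟨t * c * t⁻¹, hconjC t ht c c.2⟩
      invFun := fun c => ⟨t⁻¹ * c * t, by simpa using hconjC t⁻¹ (inv_mem ht) c c.2⟩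
      left_inv := fun c => Subtype.ext (by group)
      right_inv := fun c => Subtype.ext (by group)
      map_mul' := fun c c' => Subtype.ext (by push_cast; group) }
  constructor
  · intro hg
    have ht := stabPair_le_normalizer _ hg
    refine ⟨ht, ?_⟩
    have hmem : pullIrr (α g ht) θ ∈ b := by
      have h2 : omega ((pullIrr (α g ht) θ : IrrCharacter _) :
          Subgroup.centralizer (P : Set G) → ℂ) (blockCoeff b) = 1 := by
        rw [show (1 : ℂ) = omega (θ : Subgroup.centralizer (P : Set G) → ℂ) (blockCoeff b) by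
          rw [omega_blockCoeff, if_pos hθb]]
        simp only [omega, pullIrr_apply, map_one]
        congr 1
        refine Fintype.sum_equiv (α g ht).toEquiv _ _ fun c => ?_
        show blockCoeff b c * _ = blockCoeff b (α g ht c) * _
        congr 1
        have hst : pairCoeff (conjPair g⁻¹ ⟨P, b⟩) (c : G) = pairCoeff ⟨P, b⟩ (c : G) := by
          rw [show conjPair g⁻¹ (⟨P, b⟩ : BrauerPairIdx G) = ⟨P, b⟩ from
            (inv_mem hg : g⁻¹ ∈ stabPair ⟨P, b⟩)]
        rw [pairCoeff_conjPair, inv_inv] at hst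
        rw [← subgroupBlockCoeff_coe b c, ← subgroupBlockCoeff_coe b (α g ht c)]
        exact hst.symm
      by_contra hno
      rw [omega_blockCoeff, if_neg hno] at h2
      exact zero_ne_one h2
    have heq := canonical_unique hcard hsq (blockRank_local hM hcard hsq hpair) hθb hmem hθ
      fun x hx => by
        show (θ : Subgroup.centralizer (P : Set G) → ℂ) (α g ht x) =
          (θ : Subgroup.centralizer (P : Set G) → ℂ) (α g ht 1)
        rw [map_one]
        exact hθ _ ((Subgroup.mem_normalizer_iff.1 ht _).1 hx)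
    intro c c' hc
    conv_rhs => rw [heq]
    show _ = (θ : Subgroup.centralizer (P : Set G) → ℂ) (α g ht c)
    exact congrArg _ (Subtype.ext (show (c' : G) = ((α g ht c : Subgroup.centralizer (P : Set G)) : G)
      from hc))
  · rintro ⟨ht, hinv⟩
    suffices h : g⁻¹ ∈ stabPair ⟨P, b⟩ by simpa using inv_mem h
    have hfst : (conjPair g⁻¹ (⟨P, b⟩ : BrauerPairIdx G)).1 = P :=
      map_conj_of_mem_normalizer' (inv_mem ht)
    obtain ⟨b', hb'⟩ : ∃ b', conjPair g⁻¹ (⟨P, b⟩ : BrauerPairIdx G) = ⟨P, b'⟩ := by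
      generalize conjPair g⁻¹ (⟨P, b⟩ : BrauerPairIdx G) = a at hfst
      obtain ⟨Q, b'⟩ := a
      obtain rfl : Q = P := hfst
      exact ⟨b', rfl⟩
    have hb'B : IsPBlock M b' := by
      have := (isBrauerPair_conj (a := ⟨P, b⟩) hpair.1 g⁻¹).2
      rw [hb'] at this
      exact this
    show conjPair g⁻¹ (⟨P, b⟩ : BrauerPairIdx G) = ⟨P, b⟩
    rw [hb']
    suffices h : θ ∈ b' by rw [IsPBlock.eq_of_mem hb'B hpair.1.2 h hθb]
    have hcoef : ∀ c, blockCoeff b' c = blockCoeff b (α g ht c) := fun c => by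
      have h := pairCoeff_conjPair g⁻¹ (⟨P, b⟩ : BrauerPairIdx G) (c : G)
      rw [hb', inv_inv] at h
      rw [← subgroupBlockCoeff_coe b' c, ← subgroupBlockCoeff_coe b (α g ht c)]
      exact h
    have h2 : omega (θ : Subgroup.centralizer (P : Set G) → ℂ) (blockCoeff b') = 1 := by
      rw [show (1 : ℂ) = omega (θ : Subgroup.centralizer (P : Set G) → ℂ) (blockCoeff b) by
        rw [omega_blockCoeff, if_pos hθb]]
      simp only [omega, hcoef]
      congr 1
      refine Fintype.sum_equiv (α g ht).toEquiv _ _ fun c => ?_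
      show blockCoeff b (α g ht c) * _ = blockCoeff b (α g ht c) * _
      congr 1
      exact (hinv c (α g ht c) rfl).symm
    by_contra hno
    rw [omega_blockCoeff, if_neg hno] at h2
    exact zero_ne_one h2

end CfsgLib.Blocks
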