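import Cfsg.Agent.Lib.Blocks.CoveredDefectGroup

/-!
# Defect groups under isomorphisms and conjugation of a covered block
-/

set_option linter.unusedSectionVars false
set_option linter.style.haveILetI false

namespace CfsgLib.Blocks

open Cfsg Chars

variable {M : Ideal AlgInt} [M.IsPrime] {p : ℕ} [Fact p.Prime]

theorem isDefectGroup_pullIrr {K H : Type*} [Group K] [Group H] [Finite K] [Finite H] (e : K ≃* H)
    {b : Set (IrrCharacter H)} {D : Subgroup H} (hD : IsDefectGroup p M b D) :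
    IsDefectGroup p M (pullIrr e '' b) (D.map e.symm.toMonoidHom) := by
  haveI := Fintype.ofFinite H
  haveI := Fintype.ofFinite K
  obtain ⟨h, ⟨h1, h2, h3⟩, P, rfl⟩ := hD
  refine ⟨e.symm h, ⟨?_, ?_, ?_⟩, ?_⟩
  · rwa [blockCoeff_image_pullIrr, e.apply_symm_apply]
  · rwa [blockCoeff_image_pullIrr, e.apply_symm_apply]
  · rintro _ ⟨φ, hφ, rfl⟩
    rw [centralChar_pullIrr, e.apply_symm_apply]
    exact h3 φ hφ
  · have hmem : ∀ k : K, k ∈ Subgroup.centralizer ({e.symm h} : Set K) ↔
        e k ∈ Subgroup.centralizer ({h} : Set H) := by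
      intro k
      rw [Subgroup.mem_centralizer_singleton_iff, Subgroup.mem_centralizer_singleton_iff]
      rw [← e.injective.eq_iff, map_mul, map_mul, e.apply_symm_apply]
    let ι : Subgroup.centralizer ({h} : Set H) ≃* Subgroup.centralizer ({e.symm h} : Set K) :=
      { toFun := fun u => ⟨e.symm u, (hmem _).2 (by rw [e.apply_symm_apply]; exact u.2)⟩
        invFun := fun k => ⟨e k, (hmem _).1 k.2⟩
        left_inv := fun u => Subtype.ext (e.apply_symm_apply _)
        right_inv := fun k => Subtype.ext (e.symm_apply_apply _)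
        map_mul' := fun u v => Subtype.ext (by simp) }
    refine ⟨P.mapSurjective (f := ι.toMonoidHom) ι.surjective, ?_⟩
    show _ = ((P : Subgroup (Subgroup.centralizer ({h} : Set H))).map ι.toMonoidHom).map _
    rw [Subgroup.map_map, Subgroup.map_map]
    rfl

variable {G : Type*} [Group G] [Fintype G] (N : Subgroup G) [N.Normal] [Fintype N]

/-- **Knörr's theorem.** A defect group of a covering block meets `N` in a given defect group
of the covered block. -/
theorem exists_defect_inf_eq (hpM : (p : AlgInt) ∈ M) {b : Set (IrrCharacter N)}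
    (hb : IsPBlock M b) {Q : Subgroup G} (hQN : Q ≤ N) (hQ : IsDefectGroup p M b (Q.subgroupOf N))
    {B : Set (IrrCharacter G)} (hB : IsPBlock M B)
    (hcov : ∃ χ ∈ B, ∃ θ ∈ b, classInner (fun n : N => (χ : G → ℂ) n) (θ : N → ℂ) ≠ 0) :
    ∃ P : Subgroup G, IsDefectGroup p M B P ∧ P ⊓ N = Q := by
  classical
  obtain ⟨P₀, hP₀⟩ := exists_isDefectGroup (p := p) hB
  obtain ⟨c, hc, -, hne, hcD⟩ := exists_stable_covered (N := N) hpM hB hP₀
  obtain ⟨χ', hχ', θ', hθ', hne'⟩ := covers_of_mul_ne_zero hc hB hne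
  obtain ⟨χ, hχ, θ, hθ, hcne⟩ := hcov
  obtain ⟨x, θ'', hθ'', hx⟩ :=
    mem_conjSet_of_sameBlock N hb (IsPBlock.sameBlock hB hχ hχ') hθ hcne hne'
  have hxN : x⁻¹ ∈ Subgroup.normalizer (N : Set G) := by
    rw [Subgroup.normalizer_eq_top]
    exact Subgroup.mem_top _
  set h := conj_mem_iff_of_mem_normalizer hxN with hh
  have hbx : c = conjImage x⁻¹ h b := by
    refine IsPBlock.eq_of_mem hc (isPBlock_conjImage _ h hb) hθ' ⟨θ'', hθ'', ?_⟩
    rw [hx]
    refine Subtype.ext (funext fun n => ?_)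
    rw [pullIrr_apply, coe_conjIrr]
    refine congrArg _ (Subtype.ext ?_)
    simp [conjIso, mul_assoc]
  have hD' := isDefectGroup_pullIrr (conjIso x⁻¹ h).symm hQ
  rw [MulEquiv.symm_symm] at hD'
  change IsDefectGroup p M (conjImage x⁻¹ h b) _ at hD'
  rw [← hbx] at hD'
  obtain ⟨n, hn⟩ := IsDefectGroup.exists_conj_eq hpM hc hcD hD'
  refine ⟨P₀.map (MulAut.conj (x * (n : G))).toMonoidHom, IsDefectGroup.map_conj hP₀ _ hB, ?_⟩
  ext g
  have key : ∀ g : G, (x * n)⁻¹ * g * (x * n) ∈ P₀ ⊓ N ↔ g ∈ Q := by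
    intro g
    by_cases hg : g ∈ N
    · have h1 : (x * n)⁻¹ * g * (x * n) ∈ N := by
        simpa [mul_assoc] using ‹N.Normal›.conj_mem g hg (x * n : G)⁻¹
      have h2 : x⁻¹ * g * x ∈ N := by
        simpa [mul_assoc] using ‹N.Normal›.conj_mem g hg x⁻¹
      have h3 := SetLike.ext_iff.1 hn ⟨x⁻¹ * g * x, h2⟩
      rw [Subgroup.mem_map, Subgroup.mem_map] at h3
      constructor
      · intro hm
        obtain ⟨u, hu, he⟩ := h3.1 ⟨⟨(x * n)⁻¹ * g * (x * n), h1⟩, hm, Subtype.ext (by
          simp [mul_assoc])⟩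
        have hgu : (u : G) = g := by
          have := congrArg (fun v : N => x * (v : G) * x⁻¹) he
          simpa [conjIso, mul_assoc] using this
        exact hgu ▸ hu
      · intro hm
        obtain ⟨u, hu, he⟩ := h3.2 ⟨⟨g, hg⟩, hm, Subtype.ext (by
          simp [conjIso])⟩
        have hgu : (u : G) = (x * n)⁻¹ * g * (x * n) := by
          have := congrArg (fun v : N => (n : G)⁻¹ * (v : G) * n) he
          simpa [mul_assoc] using this
        exact hgu ▸ hu
    · refine ⟨fun hm => absurd ?_ hg, fun hm => absurd (hQN hm) hg⟩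
      have := ‹N.Normal›.conj_mem _ hm.2 (x * n : G)
      simpa [mul_assoc] using this
  rw [Subgroup.mem_inf, ← key g, Subgroup.mem_inf, Subgroup.mem_map]
  constructor
  · rintro ⟨⟨u, hu, rfl⟩, hgN⟩
    refine ⟨by simpa [mul_assoc] using hu, ?_⟩
    have := ‹N.Normal›.conj_mem _ hgN (x * n : G)⁻¹
    simpa [mul_assoc] using this
  · rintro ⟨hm, hmN⟩
    refine ⟨⟨_, hm, by simp [mul_assoc]⟩, ?_⟩
    have := ‹N.Normal›.conj_mem _ hmN (x * n : G)
    simpa [mul_assoc] using this

end CfsgLib.Blocks
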