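import Mathlib.Algebra.BigOperators.Group.Finset.Basic
import Mathlib.Algebra.Order.BigOperators.Group.Finset
import Mathlib.Algebra.BigOperators.Fin
import Mathlib.Data.Complex.Basic
import Mathlib.Algebra.BigOperators.Ring.Finset
import Mathlib.Data.Finset.Card
import Mathlib.Tactic.Linarith
import Mathlib.Tactic.LinearCombination
import Mathlib.Tactic.FieldSimp
import Mathlib.Tactic.NormNum
import Mathlib.Tactic.Ring

/-!
# The configurations of the Fourier columns of a block with dihedral defect group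
-/

set_option autoImplicit false

namespace CfsgLib.Blocks

/-- Two sign vectors with inner product two, the first of norm three, share exactly two places,
with the same signs. -/
theorem sign_inner_two {ι : Type*} {s : Finset ι} {f g : ι → ℤ}
    (hf : ∀ u ∈ s, f u = 1 ∨ f u = 0 ∨ f u = -1) (hg : ∀ u ∈ s, g u = 1 ∨ g u = 0 ∨ g u = -1)
    (hfn : ∑ u ∈ s, f u ^ 2 = 3) (hfg : ∑ u ∈ s, f u * g u = 2) :
    (∀ u ∈ s, f u ≠ 0 → g u ≠ 0 → f u = g u) ∧
      (s.filter fun u => f u ≠ 0 ∧ g u ≠ 0).card = 2 ∧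
      (s.filter fun u => f u ≠ 0 ∧ g u = 0).card = 1 := by
  classical
  set T := s.filter fun u => f u ≠ 0 ∧ g u ≠ 0 with hT
  set U := s.filter fun u => f u ≠ 0 ∧ g u = 0 with hU
  have h3 : (T.card : ℤ) + U.card = 3 := by
    rw [← hfn, ← Finset.sum_filter_of_ne (p := fun u => f u ≠ 0)
      (fun u _ hu h0 => hu (by rw [h0]; norm_num)),
      Finset.sum_congr rfl (g := fun _ => (1 : ℤ)) fun u hu => by
        obtain ⟨hus, hu0⟩ := Finset.mem_filter.1 hu
        rcases hf u hus with h | h | h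
        · rw [h]; norm_num
        · exact absurd h hu0
        · rw [h]; norm_num,
      Finset.sum_const, nsmul_eq_mul, mul_one, ← Nat.cast_add, Nat.cast_inj,
      ← Finset.card_union_of_disjoint]
    · congr 1
      ext u
      simp only [hT, hU, Finset.mem_union, Finset.mem_filter]
      by_cases hg0 : g u = 0 <;> simp [hg0]
    · refine Finset.disjoint_left.2 fun u hu hu' => ?_
      exact (Finset.mem_filter.1 hu).2.2 (Finset.mem_filter.1 hu').2.2
  have hsum : ∑ u ∈ T, f u * g u = 2 := by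
    rw [← hfg, hT, Finset.sum_filter_of_ne]
    intro u _ hu
    exact ⟨left_ne_zero_of_mul hu, right_ne_zero_of_mul hu⟩
  have hterm : ∀ u ∈ T, f u * g u = 1 ∨ f u * g u = -1 := fun u hu => by
    obtain ⟨hus, hu1, hu2⟩ := Finset.mem_filter.1 hu
    rcases hf u hus with h | h | h <;> rcases hg u hus with h' | h' | h' <;>
      simp_all
  have hdiff : ∑ u ∈ T, (1 - f u * g u) = (T.card : ℤ) - 2 := by
    rw [Finset.sum_sub_distrib, hsum]; simp
  have heven : (2 : ℤ) ∣ (T.card : ℤ) - 2 := hdiff ▸ Finset.dvd_sum fun u hu => by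
    rcases hterm u hu with h | h <;> rw [h] <;> norm_num
  have hnn : ∀ u ∈ T, 0 ≤ 1 - f u * g u := fun u hu => by
    rcases hterm u hu with h | h <;> rw [h] <;> norm_num
  have hge : 0 ≤ (T.card : ℤ) - 2 := hdiff ▸ Finset.sum_nonneg hnn
  have hT2 : (T.card : ℤ) = 2 := by
    obtain ⟨m, hm⟩ := heven
    have : (0 : ℤ) ≤ U.card := Int.natCast_nonneg _
    omega
  refine ⟨fun u hu h1 h2 => ?_, by exact_mod_cast hT2, by omega⟩
  have huT : u ∈ T := Finset.mem_filter.2 ⟨hu, h1, h2⟩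
  rw [hT2, sub_self] at hdiff
  have h := (Finset.sum_eq_zero_iff_of_nonneg hnn).1 hdiff u huT
  rcases hf u hu with hf' | hf' | hf' <;> rcases hg u hu with hg' | hg' | hg' <;>
    simp_all

/-- The sum attached to a column vector of five entries. -/
theorem five_sum {ι : Type*} [DecidableEq ι] {E p q r t : ι} (hEp : E ≠ p) (hEq : E ≠ q)
    (hEr : E ≠ r) (hEt : E ≠ t) (hpq : p ≠ q) (hpr : p ≠ r) (hpt : p ≠ t) (hqr : q ≠ r)
    (hqt : q ≠ t) (hrt : r ≠ t) (F : ι → ℂ) :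
    ∑ u ∈ ({E, p, q, r, t} : Finset ι), F u = F E + F p + F q + F r + F t := by
  rw [Finset.sum_insert (by simp [hEp, hEq, hEr, hEt]),
    Finset.sum_insert (by simp [hpq, hpr, hpt]), Finset.sum_insert (by simp [hqr, hqt]),
    Finset.sum_pair hrt]
  ring

theorem five_sum_int {ι : Type*} [DecidableEq ι] {E p q r t : ι} (hEp : E ≠ p) (hEq : E ≠ q)
    (hEr : E ≠ r) (hEt : E ≠ t) (hpq : p ≠ q) (hpr : p ≠ r) (hpt : p ≠ t) (hqr : q ≠ r)
    (hqt : q ≠ t) (hrt : r ≠ t) (F : ι → ℤ) :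
    ∑ u ∈ ({E, p, q, r, t} : Finset ι), F u = F E + F p + F q + F r + F t := by
  rw [Finset.sum_insert (by simp [hEp, hEq, hEr, hEt]),
    Finset.sum_insert (by simp [hpq, hpr, hpt]), Finset.sum_insert (by simp [hqr, hqt]),
    Finset.sum_pair hrt]
  ring

/-- **The configurations**: either every `v k` has its own place outside the support of `w`, or
`h = 3` and the cubic sum below is determined. -/
theorem dihedral_config {ι : Type*} [DecidableEq ι] (s : Finset ι) (d : ι → ℕ)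
    (hd : ∀ u ∈ s, 0 < d u) {h : ℕ} (hh : Odd h) (v : Fin h → ι → ℤ) (w : ι → ℤ)
    (hvn : ∀ k, ∑ u ∈ s, v k u ^ 2 = 3) (hwn : ∑ u ∈ s, w u ^ 2 = 4)
    (hvv : ∀ k k', k ≠ k' → ∑ u ∈ s, v k u * v k' u = 2)
    (hvw : ∀ k, ∑ u ∈ s, v k u * w u = 2)
    (hvd : ∀ k, ∑ u ∈ s, v k u * (d u : ℤ) = 0) (hwd : ∑ u ∈ s, w u * (d u : ℤ) = 0)
    (hsupp : ∀ u ∈ s, w u ≠ 0 ∨ ∃ k, v k u ≠ 0) :
    (∀ u ∈ s, w u = 1 ∨ w u = 0 ∨ w u = -1) ∧ (s.filter fun u => w u ≠ 0).card = 4 ∧
    ((∃ e : Fin h → ι, Function.Injective e ∧ ∀ k, e k ∈ s ∧ w (e k) = 0 ∧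
        (v k (e k) = 1 ∨ v k (e k) = -1) ∧ ∀ u ∈ s, w u = 0 → u ≠ e k → v k u = 0) ∨
      ∃ (h3 : h = 3) (D : ℕ) (ρ : ℤ), (ρ = 1 ∨ ρ = -1) ∧ s.card = 5 ∧ (∃ u ∈ s, d u = D) ∧
        (∀ u ∈ s, D ∣ d u) ∧ ∀ τ : ℂ,
          ∑ u ∈ s, (((w u - 2 * v ⟨0, by omega⟩ u + 2 * v ⟨1, by omega⟩ u -
              2 * v ⟨2, by omega⟩ u : ℤ) : ℂ)) ^ 2 *
            (-(w u : ℂ) + τ * ((v ⟨0, by omega⟩ u : ℂ) - (v ⟨2, by omega⟩ u : ℂ))) / (d u : ℂ) =
          -32 * (ρ : ℂ) / (3 * (D : ℂ))) := by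
  classical
  have hvpm : ∀ k, ∀ u ∈ s, v k u = 1 ∨ v k u = 0 ∨ v k u = -1 := fun k u hu => by
    have h2 : v k u ^ 2 ≤ 3 :=
      hvn k ▸ Finset.single_le_sum (f := fun u => v k u ^ 2) (fun _ _ => sq_nonneg _) hu
    have a : -1 ≤ v k u := by nlinarith
    have b : v k u ≤ 1 := by nlinarith
    omega
  have hwpm : ∀ u ∈ s, w u = 1 ∨ w u = 0 ∨ w u = -1 := by
    intro u hu
    have hA := hwn
    rw [← Finset.add_sum_erase _ _ hu] at hA
    have hrest : 0 ≤ ∑ y ∈ s.erase u, w y ^ 2 := Finset.sum_nonneg fun _ _ => sq_nonneg _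
    have a : -2 ≤ w u := by nlinarith
    have b : w u ≤ 2 := by nlinarith
    by_contra hno
    simp only [not_or] at hno
    have hu4 : w u ^ 2 = 4 := by
      have : w u = 2 ∨ w u = -2 := by omega
      rcases this with e | e <;> rw [e] <;> norm_num
    have hzero : ∀ y ∈ s.erase u, w y = 0 := fun y hy => by
      have := (Finset.sum_eq_zero_iff_of_nonneg fun y _ => sq_nonneg (w y)).1
        (by linarith : ∑ y ∈ s.erase u, w y ^ 2 = 0) y hy
      exact pow_eq_zero_iff two_ne_zero |>.1 this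
    have hD := hwd
    rw [← Finset.add_sum_erase _ _ hu, Finset.sum_eq_zero fun y hy => by
      rw [hzero y hy, zero_mul], add_zero] at hD
    rcases mul_eq_zero.1 hD with e | e
    · exact hno.2.1 e
    · have := hd u hu
      omega
  set W := s.filter fun u => w u ≠ 0 with hW
  have hWcard : W.card = 4 := by
    have e : ((W.card : ℕ) : ℤ) = 4 := by
      rw [← hwn, ← Finset.sum_filter_of_ne (p := fun u => w u ≠ 0)
        (fun u _ hu h0 => hu (by rw [h0]; norm_num)),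
        Finset.sum_congr rfl (g := fun _ => (1 : ℤ)) fun u hu => by
          obtain ⟨hus, hu0⟩ := Finset.mem_filter.1 hu
          rcases hwpm u hus with h | h | h
          · rw [h]; norm_num
          · exact absurd h hu0
          · rw [h]; norm_num,
        Finset.sum_const, nsmul_eq_mul, mul_one]
    exact_mod_cast e
  refine ⟨hwpm, hWcard, ?_⟩
  have hagw : ∀ k, ∀ u ∈ s, v k u ≠ 0 → w u ≠ 0 → v k u = w u := fun k =>
    (sign_inner_two (hvpm k) hwpm (hvn k) (hvw k)).1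
  choose e he using fun k => Finset.card_eq_one.1 (sign_inner_two (hvpm k) hwpm (hvn k) (hvw k)).2.2
  have hek : ∀ k, e k ∈ s ∧ v k (e k) ≠ 0 ∧ w (e k) = 0 := fun k => by
    have : e k ∈ s.filter fun u => v k u ≠ 0 ∧ w u = 0 := by rw [he k]; exact Finset.mem_singleton_self _
    exact Finset.mem_filter.1 this
  have hout : ∀ k, ∀ u ∈ s, w u = 0 → u ≠ e k → v k u = 0 := fun k u hu hw0 hne => by
    by_contra hv0
    have : u ∈ s.filter fun u => v k u ≠ 0 ∧ w u = 0 := Finset.mem_filter.2 ⟨hu, hv0, hw0⟩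
    rw [he k, Finset.mem_singleton] at this
    exact hne this
  by_cases hinj : Function.Injective e
  · refine Or.inl ⟨e, hinj, fun k => ⟨(hek k).1, (hek k).2.2, ?_, hout k⟩⟩
    rcases hvpm k _ (hek k).1 with h1 | h1 | h1
    · exact Or.inl h1
    · exact absurd h1 (hek k).2.1
    · exact Or.inr h1
  right
  -- the pairs in the support of `w`
  set P : Fin h → Finset ι := fun k => W.filter fun u => v k u ≠ 0 with hP
  have hPcard : ∀ k, (P k).card = 2 := fun k => by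
    rw [← (sign_inner_two (hvpm k) hwpm (hvn k) (hvw k)).2.1]
    congr 1
    ext u
    simp only [hP, hW, Finset.mem_filter]
    tauto
  have hagv : ∀ k k', ∀ u ∈ s, v k u ≠ 0 → v k' u ≠ 0 → v k u = v k' u := by
    intro k k' u hu h1 h2
    by_cases hk : k = k'
    · rw [hk]
    · exact (sign_inner_two (hvpm k) (hvpm k') (hvn k) (hvv k k' hk)).1 u hu h1 h2
  have hmeet : ∀ k k', k ≠ k' → ((P k ∩ P k').card = if e k = e k' then 1 else 2) := by
    intro k k' hk
    have hc := (sign_inner_two (hvpm k) (hvpm k') (hvn k) (hvv k k' hk)).2.1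
    have hsplit : (s.filter fun u => v k u ≠ 0 ∧ v k' u ≠ 0) =
        if e k = e k' then insert (e k) (P k ∩ P k') else P k ∩ P k' := by
      ext u
      by_cases hw0 : w u = 0
      · have hn : u ∉ P k ∩ P k' := fun hu =>
          (Finset.mem_filter.1 (Finset.mem_filter.1 (Finset.mem_inter.1 hu).1).1).2 hw0
        simp only [Finset.mem_filter]
        split_ifs with hee
        · rw [Finset.mem_insert, or_iff_left hn]
          refine ⟨fun ⟨hu, h1, _⟩ => by_contra fun hne => h1 (hout k u hu hw0 hne), ?_⟩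
          rintro rfl
          exact ⟨(hek k).1, (hek k).2.1, hee ▸ (hek k').2.1⟩
        · refine iff_of_false (fun ⟨hu, h1, h2⟩ => hee ?_) hn
          have e1 : u = e k := by_contra fun hne => h1 (hout k u hu hw0 hne)
          have e2 : u = e k' := by_contra fun hne => h2 (hout k' u hu hw0 hne)
          exact e1.symm.trans e2
      · have hne : u ≠ e k := fun h' => hw0 (h' ▸ (hek k).2.2)
        simp only [Finset.mem_filter]
        split_ifs <;>
          simp only [Finset.mem_insert, hne, false_or, Finset.mem_inter, hP, hW,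
            Finset.mem_filter] <;> tauto
    rw [hsplit] at hc
    split_ifs at hc with hee
    · have hnot : e k ∉ P k ∩ P k' := fun hu =>
        (Finset.mem_filter.1 (Finset.mem_filter.1 (Finset.mem_inter.1 hu).1).1).2 (hek k).2.2
      rw [Finset.card_insert_of_notMem hnot] at hc
      rw [if_pos hee]; omega
    · rw [if_neg hee]; exact hc
  obtain ⟨k₀, k₁, h01, hk01⟩ : ∃ k₀ k₁, e k₀ = e k₁ ∧ k₀ ≠ k₁ := by
    simp only [Function.Injective, not_forall] at hinj
    obtain ⟨a, b, h1, h2⟩ := hinj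
    exact ⟨a, b, h1, h2⟩
  have hne01 : P k₀ ≠ P k₁ := fun hPP => by
    have := hmeet k₀ k₁ hk01
    rw [if_pos h01, hPP, Finset.inter_self, hPcard] at this
    omega
  have hall : ∀ k, e k = e k₀ := by
    intro k
    by_contra hne
    have hk0 : k ≠ k₀ := fun h' => hne (h' ▸ rfl)
    have hk1 : k ≠ k₁ := fun h' => hne (h' ▸ h01.symm)
    have a0 := hmeet k k₀ hk0
    have a1 := hmeet k k₁ hk1
    rw [if_neg hne] at a0
    rw [if_neg fun h' => hne (h'.trans h01.symm)] at a1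
    have key : ∀ j, (P k ∩ P j).card = 2 → P k = P j := fun j hj => by
      have b1 := Finset.eq_of_subset_of_card_le (Finset.inter_subset_left : P k ∩ P j ⊆ P k)
        (by rw [hj, hPcard k])
      have b2 := Finset.eq_of_subset_of_card_le (Finset.inter_subset_right : P k ∩ P j ⊆ P j)
        (by rw [hj, hPcard j])
      exact b1.symm.trans b2
    exact hne01 ((key k₀ a0).symm.trans (key k₁ a1))
  have hmeet1 : ∀ k k', k ≠ k' → (P k ∩ P k').card = 1 := fun k k' hk => by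
    rw [hmeet k k' hk, if_pos ((hall k).trans (hall k').symm)]
  have hh3 : 3 ≤ h := by
    obtain ⟨m, hm⟩ := hh
    have h0 := k₀.2
    have h1 := k₁.2
    have : (k₀ : ℕ) ≠ k₁ := fun h' => hk01 (Fin.ext h')
    omega
  -- the first three
  set i₀ : Fin h := ⟨0, by omega⟩ with hi₀
  set i₁ : Fin h := ⟨1, by omega⟩ with hi₁
  set i₂ : Fin h := ⟨2, by omega⟩ with hi₂
  have n01 : i₀ ≠ i₁ := by simp [hi₀, hi₁, Fin.ext_iff]
  have n02 : i₀ ≠ i₂ := by simp [hi₀, hi₂, Fin.ext_iff]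
  have n12 : i₁ ≠ i₂ := by simp [hi₁, hi₂, Fin.ext_iff]
  obtain ⟨p, hp⟩ := Finset.card_eq_one.1 (hmeet1 i₀ i₁ n01)
  have hp0 : p ∈ P i₀ := (Finset.mem_inter.1 (hp ▸ Finset.mem_singleton_self p)).1
  have hp1 : p ∈ P i₁ := (Finset.mem_inter.1 (hp ▸ Finset.mem_singleton_self p)).2
  obtain ⟨q, hq⟩ := Finset.card_eq_one.1
    (show ((P i₀).erase p).card = 1 by rw [Finset.card_erase_of_mem hp0, hPcard])
  obtain ⟨r, hr⟩ := Finset.card_eq_one.1
    (show ((P i₁).erase p).card = 1 by rw [Finset.card_erase_of_mem hp1, hPcard])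
  have hq' : q ∈ (P i₀).erase p := hq ▸ Finset.mem_singleton_self q
  have hr' : r ∈ (P i₁).erase p := hr ▸ Finset.mem_singleton_self r
  have hqp : q ≠ p := (Finset.mem_erase.1 hq').1
  have hrp : r ≠ p := (Finset.mem_erase.1 hr').1
  have hP0 : P i₀ = {p, q} := by rw [← Finset.insert_erase hp0, hq]
  have hP1 : P i₁ = {p, r} := by rw [← Finset.insert_erase hp1, hr]
  have hqr : q ≠ r := fun h' => hqp (by
    have : q ∈ P i₀ ∩ P i₁ := Finset.mem_inter.2 ⟨(Finset.mem_erase.1 hq').2,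
      h' ▸ (Finset.mem_erase.1 hr').2⟩
    rw [hp, Finset.mem_singleton] at this
    exact this)
  have hPW : ∀ k, P k ⊆ W := fun k => Finset.filter_subset _ _
  have hpqr : ({p, q, r} : Finset ι) ⊆ W := by
    simp only [Finset.insert_subset_iff, Finset.singleton_subset_iff]
    exact ⟨hPW _ hp0, hPW _ (Finset.mem_erase.1 hq').2, hPW _ (Finset.mem_erase.1 hr').2⟩
  obtain ⟨t, ht⟩ := Finset.card_eq_one.1 (show (W \ {p, q, r}).card = 1 by
    rw [Finset.card_sdiff_of_subset hpqr, hWcard]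
    simp [hqp.symm, hrp.symm, hqr])
  have ht' : t ∈ W \ {p, q, r} := ht ▸ Finset.mem_singleton_self t
  have htp : t ≠ p ∧ t ≠ q ∧ t ≠ r := by simpa using (Finset.mem_sdiff.1 ht').2
  have hWeq : W = {p, q, r, t} := by
    rw [← Finset.union_sdiff_of_subset hpqr, ht]
    ext u; simp [or_assoc]
  -- the further pairs
  have hedge : ∀ k, k ≠ i₀ → k ≠ i₁ → P k = {p, t} ∨ P k = {q, r} := by
    intro k hk0 hk1
    have hsub : P k ⊆ {p, q, r, t} := hWeq ▸ hPW k
    have a0 := hmeet1 k i₀ hk0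
    have a1 := hmeet1 k i₁ hk1
    rw [hP0] at a0
    rw [hP1] at a1
    obtain ⟨a, b, hab, hkab⟩ := Finset.card_eq_two.1 (hPcard k)
    rw [hkab] at hsub a0 a1 ⊢
    simp only [Finset.insert_subset_iff, Finset.singleton_subset_iff, Finset.mem_insert,
      Finset.mem_singleton] at hsub
    obtain ⟨ha, hb⟩ := hsub
    obtain ⟨n1, n2, n3⟩ := htp
    rcases ha with rfl | rfl | rfl | rfl <;> rcases hb with rfl | rfl | rfl | rfl <;>
      first
        | exact absurd rfl hab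
        | exact Or.inl rfl
        | exact Or.inl (Finset.pair_comm _ _)
        | exact Or.inr rfl
        | exact Or.inr (Finset.pair_comm _ _)
        | (exfalso; simp [Finset.insert_inter_of_mem, Finset.insert_inter_of_notMem,
            Finset.singleton_inter_of_mem, Finset.singleton_inter_of_notMem, hqp, hrp, hqr, hqp.symm,
            hrp.symm, hqr.symm, n1, n2, n3, n1.symm, n2.symm, n3.symm] at a0 a1)
  have hh' : h = 3 := by
    by_contra hne
    set i₃ : Fin h := ⟨3, by omega⟩ with hi₃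
    have n23 : i₂ ≠ i₃ := by simp [hi₂, hi₃, Fin.ext_iff]
    have c := hmeet1 i₂ i₃ n23
    obtain ⟨n1, n2, n3⟩ := htp
    rcases hedge i₂ n02.symm n12.symm with h2 | h2 <;>
      rcases hedge i₃ (by simp [hi₀, hi₃, Fin.ext_iff]) (by simp [hi₁, hi₃, Fin.ext_iff]) with
        h3 | h3 <;>
      rw [h2, h3] at c <;>
      simp [Finset.insert_inter_of_mem, Finset.insert_inter_of_notMem,
        Finset.singleton_inter_of_mem, Finset.singleton_inter_of_notMem, hqp, hrp, hqr, hqp.symm,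
        hrp.symm, hqr.symm, n1, n2, n3, n1.symm, n2.symm, n3.symm] at c
  refine ⟨hh', ?_⟩
  -- the common place outside
  set E := e i₀ with hE
  have hE' : ∀ k, e k = E := fun k => (hall k).trans (hall i₀).symm
  have hWmem : ∀ {u}, u ∈ W → u ∈ s ∧ w u ≠ 0 := fun hu => Finset.mem_filter.1 hu
  obtain ⟨hps, hpw⟩ := hWmem (hPW _ hp0)
  obtain ⟨hqs, hqw⟩ := hWmem (hPW _ (Finset.mem_erase.1 hq').2)
  obtain ⟨hrs, hrw⟩ := hWmem (hPW _ (Finset.mem_erase.1 hr').2)
  obtain ⟨hts, htw⟩ := hWmem (Finset.mem_sdiff.1 ht').1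
  obtain ⟨hEs, hEv, hEw⟩ := hek i₀
  have hEne : ∀ {u}, w u ≠ 0 → E ≠ u := fun hu h' => hu (h' ▸ hEw)
  have hs5 : s = {E, p, q, r, t} := by
    refine Finset.Subset.antisymm (fun u hu => ?_) ?_
    · by_cases hw0 : w u = 0
      · obtain ⟨k, hk⟩ := (hsupp u hu).resolve_left fun h' => h' hw0
        have : u = E := (by_contra fun hne => hk (hout k u hu hw0 hne) : u = e k).trans (hE' k)
        simp [this]
      · have : u ∈ W := Finset.mem_filter.2 ⟨hu, hw0⟩
        rw [hWeq] at this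
        exact Finset.mem_insert_of_mem this
    · simp only [Finset.insert_subset_iff, Finset.singleton_subset_iff]
      exact ⟨hEs, hps, hqs, hrs, hts⟩
  have hS := five_sum_int (hEne hpw) (hEne hqw) (hEne hrw) (hEne htw) hqp.symm hrp.symm
    htp.1.symm hqr htp.2.1.symm htp.2.2.symm
  -- the values
  have hvW : ∀ k, ∀ u ∈ W, v k u = if u ∈ P k then w u else 0 := fun k u hu => by
    split_ifs with hk
    · exact hagw k u (hWmem hu).1 (Finset.mem_filter.1 hk).2 (hWmem hu).2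
    · by_contra h0
      exact hk (Finset.mem_filter.2 ⟨hu, h0⟩)
  have hvE : ∀ k, v k E = v i₀ E := fun k =>
    hagv k i₀ E hEs (hE' k ▸ (hek k).2.1) hEv
  have hWp : p ∈ W := hPW _ hp0
  have hWq : q ∈ W := hPW _ (Finset.mem_erase.1 hq').2
  have hWr : r ∈ W := hPW _ (Finset.mem_erase.1 hr').2
  have hWt : t ∈ W := (Finset.mem_sdiff.1 ht').1
  obtain ⟨n1, n2, n3⟩ := htp
  have a0p : v i₀ p = w p := by rw [hvW _ _ hWp, hP0]; simp
  have a0q : v i₀ q = w q := by rw [hvW _ _ hWq, hP0]; simp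
  have a0r : v i₀ r = 0 := by rw [hvW _ _ hWr, hP0]; simp [hrp, hqr.symm]
  have a0t : v i₀ t = 0 := by rw [hvW _ _ hWt, hP0]; simp [n1, n2]
  have a1p : v i₁ p = w p := by rw [hvW _ _ hWp, hP1]; simp
  have a1q : v i₁ q = 0 := by rw [hvW _ _ hWq, hP1]; simp [hqp, hqr]
  have a1r : v i₁ r = w r := by rw [hvW _ _ hWr, hP1]; simp
  have a1t : v i₁ t = 0 := by rw [hvW _ _ hWt, hP1]; simp [n1, n3]
  set dE := v i₀ E * (d E : ℤ) with hdE
  set dp := w p * (d p : ℤ) with hdp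
  set dq := w q * (d q : ℤ) with hdq
  set dr := w r * (d r : ℤ) with hdr
  set dt := w t * (d t : ℤ) with hdt
  have e0 : dE + dp + dq = 0 := by
    have := hvd i₀
    rw [hs5, hS, a0p, a0q, a0r, a0t] at this
    linarith
  have e1 : dE + dp + dr = 0 := by
    have := hvd i₁
    rw [hs5, hS, hvE i₁, a1p, a1q, a1r, a1t] at this
    linarith
  have ew : dp + dq + dr + dt = 0 := by
    have := hwd
    rw [hs5, hS, hEw] at this
    linarith
  have hval : ∀ (x : ℤ) (D : ℤ) (n : ℕ), (x = 1 ∨ x = -1) → x * (n : ℤ) = D → (n : ℤ) = |D| := by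
    intro x D n hx hD
    rcases hx with rfl | rfl <;> rw [← hD] <;> simp
  have hpm1 : ∀ {u}, u ∈ s → w u ≠ 0 → w u = 1 ∨ w u = -1 := fun hu h0 => by
    rcases hwpm _ hu with h1 | h1 | h1
    · exact Or.inl h1
    · exact absurd h1 h0
    · exact Or.inr h1
  have hpmE : v i₀ E = 1 ∨ v i₀ E = -1 := by
    rcases hvpm i₀ E hEs with h1 | h1 | h1
    · exact Or.inl h1
    · exact absurd h1 hEv
    · exact Or.inr h1
  set D := d q with hD
  have hDpos : 0 < D := hd q hqs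
  -- everything is a multiple of the least degree
  have hfin : ∀ (a b c : ℤ), dp = a * dq → dt = b * dq → dE = c * dq →
      (∀ τ : ℂ, (((-2 * v i₀ E : ℤ) : ℂ)) ^ 2 * 0 +
        (((w p - 2 * v i₀ p + 2 * v i₁ p - 2 * v i₂ p : ℤ) : ℂ)) ^ 2 *
          (-(w p : ℂ) + τ * ((v i₀ p : ℂ) - (v i₂ p : ℂ))) * ((w p : ℂ) / ((a : ℂ) * (w q : ℂ))) +
        (((w q - 2 * v i₀ q + 2 * v i₁ q - 2 * v i₂ q : ℤ) : ℂ)) ^ 2 *
          (-(w q : ℂ) + τ * ((v i₀ q : ℂ) - (v i₂ q : ℂ))) +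
        (((w r - 2 * v i₀ r + 2 * v i₁ r - 2 * v i₂ r : ℤ) : ℂ)) ^ 2 *
          (-(w r : ℂ) + τ * ((v i₀ r : ℂ) - (v i₂ r : ℂ))) * ((w r : ℂ) / (w q : ℂ)) +
        (((w t - 2 * v i₀ t + 2 * v i₁ t - 2 * v i₂ t : ℤ) : ℂ)) ^ 2 *
          (-(w t : ℂ) + τ * ((v i₀ t : ℂ) - (v i₂ t : ℂ))) * ((w t : ℂ) / ((b : ℂ) * (w q : ℂ))) =
        -32 * (w q : ℂ) / 3) →
      ∃ (D : ℕ) (ρ : ℤ), (ρ = 1 ∨ ρ = -1) ∧ s.card = 5 ∧ (∃ u ∈ s, d u = D) ∧ (∀ u ∈ s, D ∣ d u) ∧ ∀ τ : ℂ,
        ∑ u ∈ s, (((w u - 2 * v i₀ u + 2 * v i₁ u - 2 * v i₂ u : ℤ) : ℂ)) ^ 2 *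
            (-(w u : ℂ) + τ * ((v i₀ u : ℂ) - (v i₂ u : ℂ))) / (d u : ℂ) =
          -32 * (ρ : ℂ) / (3 * (D : ℂ)) := by
    intro a b c ha hb hc hsum
    have hdvd : ∀ u ∈ s, (D : ℤ) ∣ (d u : ℤ) := by
      have key : ∀ (x : ℤ) (n : ℕ) (m : ℤ), (x = 1 ∨ x = -1) → x * (n : ℤ) = m * dq →
          (D : ℤ) ∣ (n : ℤ) := by
        intro x n m hx hxn
        refine ⟨x * m * w q, ?_⟩
        rw [hdq] at hxn
        rcases hx with rfl | rfl <;> linarith
      intro u hu
      rw [hs5] at hu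
      simp only [Finset.mem_insert, Finset.mem_singleton] at hu
      rcases hu with h' | h' | h' | h' | h' <;> subst h'
      · exact key _ _ c hpmE hc
      · exact key _ _ a (hpm1 hps hpw) ha
      · exact dvd_refl _
      · exact key _ _ 1 (hpm1 hrs hrw) (by rw [one_mul]; linarith)
      · exact key _ _ b (hpm1 hts htw) hb
    refine ⟨D, w q, hpm1 hqs hqw, by
      rw [hs5]; simp [hEne hpw, hEne hqw, hEne hrw, hEne htw, hqp.symm, hrp.symm, n1.symm, hqr,
        n2.symm, n3.symm], ⟨q, hqs, rfl⟩,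
      fun u hu => Int.natCast_dvd_natCast.1 (hdvd u hu), fun τ => ?_⟩
    rw [hs5, five_sum (hEne hpw) (hEne hqw) (hEne hrw) (hEne htw) hqp.symm hrp.symm n1.symm hqr
      n2.symm n3.symm, hEw, hvE i₁, hvE i₂]
    have hsq : ∀ {x : ℤ}, (x = 1 ∨ x = -1) → (x : ℂ) * (x : ℂ) = 1 := fun hx => by
      rcases hx with rfl | rfl <;> norm_num
    have hdiv : ∀ (x : ℤ) (n : ℕ) (m : ℤ), (x = 1 ∨ x = -1) → 0 < n → x * (n : ℤ) = m * dq →
        ((n : ℂ))⁻¹ = (x : ℂ) / ((m : ℂ) * (w q : ℂ)) * (D : ℂ)⁻¹ := by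
      intro x n m hx hn hxn
      have hxn' : (n : ℂ) = (x : ℂ) * ((m : ℂ) * ((w q : ℂ) * (D : ℂ))) := by
        have h1 := congrArg (fun z : ℤ => (z : ℂ)) hxn
        rw [hdq] at h1
        push_cast at h1
        linear_combination (x : ℂ) * h1 - (n : ℂ) * hsq hx
      have hxinv : (x : ℂ)⁻¹ = (x : ℂ) := inv_eq_of_mul_eq_one_right (hsq hx)
      rw [hxn', mul_inv, mul_inv, mul_inv, hxinv, div_eq_mul_inv, mul_inv]
      ring
    simp only [div_eq_mul_inv _ ((d _ : ℕ) : ℂ)]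
    rw [hdiv _ _ a (hpm1 hps hpw) (hd p hps) ha,
      hdiv _ _ 1 (hpm1 hrs hrw) (hd r hrs) (by rw [one_mul]; linarith),
      hdiv _ _ b (hpm1 hts htw) (hd t hts) hb]
    have hs := hsum τ
    rw [show -32 * (w q : ℂ) / (3 * (D : ℂ)) = -32 * (w q : ℂ) / 3 * (D : ℂ)⁻¹ by
      rw [div_eq_mul_inv, div_eq_mul_inv, mul_inv]; ring, ← hs]
    push_cast
    ring
  rcases hedge i₂ n02.symm n12.symm with h2 | h2
  · have a2p : v i₂ p = w p := by rw [hvW _ _ hWp, h2]; simp
    have a2q : v i₂ q = 0 := by rw [hvW _ _ hWq, h2]; simp [hqp, n2.symm]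
    have a2r : v i₂ r = 0 := by rw [hvW _ _ hWr, h2]; simp [hrp, n3.symm]
    have a2t : v i₂ t = w t := by rw [hvW _ _ hWt, h2]; simp
    have e2 : dE + dp + dt = 0 := by
      have := hvd i₂
      rw [hs5, hS, hvE i₂, a2p, a2q, a2r, a2t] at this
      linarith
    refine hfin (-3) 1 2 (by linarith) (by linarith) (by linarith) fun τ => ?_
    rw [a0p, a0q, a0r, a0t, a1p, a1q, a1r, a1t, a2p, a2q, a2r, a2t]
    rcases hpm1 hps hpw with h1 | h1 <;> rcases hpm1 hqs hqw with h2' | h2' <;>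
      rcases hpm1 hrs hrw with h3 | h3 <;> rcases hpm1 hts htw with h4 | h4 <;>
      rw [h1, h2', h3, h4] <;> push_cast <;> ring
  · have a2p : v i₂ p = 0 := by rw [hvW _ _ hWp, h2]; simp [hqp.symm, hrp.symm]
    have a2q : v i₂ q = w q := by rw [hvW _ _ hWq, h2]; simp
    have a2r : v i₂ r = w r := by rw [hvW _ _ hWr, h2]; simp
    have a2t : v i₂ t = 0 := by rw [hvW _ _ hWt, h2]; simp [n2, n3]
    have e2 : dE + dq + dr = 0 := by
      have := hvd i₂
      rw [hs5, hS, hvE i₂, a2p, a2q, a2r, a2t] at this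
      linarith
    refine hfin 1 (-3) (-2) (by linarith) (by linarith) (by linarith) fun τ => ?_
    rw [a0p, a0q, a0r, a0t, a1p, a1q, a1r, a1t, a2p, a2q, a2r, a2t]
    rcases hpm1 hps hpw with h1 | h1 <;> rcases hpm1 hqs hqw with h2' | h2' <;>
      rcases hpm1 hrs hrw with h3 | h3 <;> rcases hpm1 hts htw with h4 | h4 <;>
      rw [h1, h2', h3, h4] <;> push_cast <;> ring

end CfsgLib.Blocks
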