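import Cfsg.Agent.Lib.Blocks.CyclicFourier
import Cfsg.Agent.Lib.Involutions.DihedralFusion

/-!
# Fourier coefficients of real functions on the powers of an element
-/

set_option autoImplicit false
set_option linter.style.haveILetI false
set_option linter.unusedSectionVars false

namespace CfsgLib.Blocks

open Cfsg Chars
open scoped ComplexConjugate

universe u v

/-- The Fourier coefficient of `f`, normalised to vanish at `0`. -/
noncomputable def fCoef (N : ℕ) (ζ : ℂ) (f : ℕ → ℂ) (k : ℕ) : ℂ :=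
  (N : ℂ)⁻¹ * ∑ l ∈ Finset.range N, f l * (ζ ^ ((l : ℤ) * -(k : ℤ)) - 1)

variable {N : ℕ} [NeZero N] {ζ : ℂ} (hζ : IsPrimitiveRoot ζ N)

include hζ

theorem fCoef_zero (f : ℕ → ℂ) : fCoef N ζ f 0 = 0 := by
  simp [fCoef]

theorem fCoef_int {P : Type u} [Group P] [Finite P] [Fintype (IrrCharacter P)] {x : P}
    (hx : x ^ N = 1) (n : IrrCharacter P → ℤ) (f : ℕ → ℂ)
    (hf : ∀ l, f l = ∑ ψ, (n ψ : ℂ) * (ψ : P → ℂ) (x ^ l)) (k : ℕ) :
    ∃ m : ℤ, (m : ℂ) = fCoef N ζ f k := by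
  choose a ha using fun ψ : IrrCharacter P => exists_int_fourier ψ x hx hζ k
  choose b hb using fun ψ : IrrCharacter P => exists_int_fourier ψ x hx hζ 0
  refine ⟨∑ ψ, n ψ * (a ψ - b ψ), ?_⟩
  push_cast
  simp only [fCoef, hf, ha, hb, ← mul_sub, ← Finset.sum_sub_distrib, Finset.sum_mul, Finset.mul_sum]
  rw [Finset.sum_comm]
  refine Finset.sum_congr rfl fun l _ => Finset.sum_congr rfl fun ψ _ => ?_
  simp only [Nat.cast_zero, mul_zero, neg_zero, zpow_zero, mul_one, mul_neg]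
  ring

theorem fCoef_value (f : ℕ → ℂ) {l : ℕ} (hl : 0 < l) (hlN : l < N) :
    f l = ∑ k ∈ Finset.range N, fCoef N ζ f k * ζ ^ ((k : ℤ) * l) := by
  have h0 : ζ ≠ 0 := hζ.ne_zero (NeZero.ne N)
  have hN : (N : ℂ) ≠ 0 := Nat.cast_ne_zero.2 (NeZero.ne N)
  have key : ∀ m ∈ Finset.range N, ∑ k ∈ Finset.range N,
      f m * (ζ ^ ((m : ℤ) * -(k : ℤ)) - 1) * ζ ^ ((k : ℤ) * l) =
      if m = l then f m * N else 0 := by
    intro m hm
    have hm' := Finset.mem_range.1 hm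
    rw [Finset.sum_congr rfl (g := fun k : ℕ => f m *
      (ζ ^ ((k : ℤ) * ((l : ℤ) - m)) - ζ ^ ((k : ℤ) * l))) fun k _ => by
        rw [mul_assoc, sub_mul, one_mul, ← zpow_add₀ h0]
        congr 3
        ring, ← Finset.mul_sum, Finset.sum_sub_distrib, sum_root_pow hζ, sum_root_pow hζ,
      if_neg (fun h => Nat.not_dvd_of_pos_of_lt hl hlN (Int.natCast_dvd_natCast.1 h)), sub_zero]
    by_cases h : m = l
    · rw [if_pos h, if_pos (by rw [h, sub_self]; exact dvd_zero _)]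
    · rw [if_neg h, if_neg (fun h' => h ?_), mul_zero]
      have h2 := Int.eq_zero_of_abs_lt_dvd h' (by rw [abs_lt]; constructor <;> omega)
      omega
  simp only [fCoef, mul_assoc ((N : ℂ)⁻¹), Finset.sum_mul]
  rw [← Finset.mul_sum, Finset.sum_comm, Finset.sum_congr rfl key, Finset.sum_ite_eq',
    if_pos (Finset.mem_range.2 hlN)]
  field_simp

theorem fCoef_symm {f : ℕ → ℂ} (hreal : ∀ l, conj (f l) = f l) {k : ℕ} (hk : k ≤ N)
    (hint : ∃ m : ℤ, (m : ℂ) = fCoef N ζ f k) : fCoef N ζ f (N - k) = fCoef N ζ f k := by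
  obtain ⟨m, hm⟩ := hint
  have e : conj (fCoef N ζ f k) = fCoef N ζ f k := by rw [← hm, map_intCast]
  have h0 : ζ ≠ 0 := hζ.ne_zero (NeZero.ne N)
  have hnorm : ‖ζ‖ = 1 := Complex.norm_eq_one_of_pow_eq_one hζ.pow_eq_one (NeZero.ne N)
  rw [← e, fCoef, fCoef, map_mul, map_inv₀, map_natCast, map_sum]
  congr 1
  refine Finset.sum_congr rfl fun l _ => ?_
  rw [map_mul, hreal, map_sub, map_one, map_zpow₀, ← Complex.inv_eq_conj hnorm, inv_zpow',
    Nat.cast_sub hk]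
  congr 2
  rw [← mul_inv_eq_one₀ (zpow_ne_zero _ h0), ← zpow_neg, ← zpow_add₀ h0,
    hζ.zpow_eq_one_iff_dvd]
  exact ⟨-(l : ℤ), by ring⟩

theorem fCoef_gram {ι : Type v} (F : Finset ι) (f : ι → ℕ → ℂ)
    (hcol : ∀ l l', 0 < l → l < N → 0 < l' → l' < N →
      ∑ χ ∈ F, f χ l * f χ l' =
        (if l' = l then (N : ℂ) else 0) + if l' + l = N then (N : ℂ) else 0)
    {k k' : ℕ} (hk : 0 < k) (hkN : k < N) (hk' : 0 < k') (hk'N : k' < N) :
    ∑ χ ∈ F, fCoef N ζ (f χ) k * fCoef N ζ (f χ) k' =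
      2 + (if k' = k then 1 else 0) + if k' + k = N then 1 else 0 := by
  have h0 : ζ ≠ 0 := hζ.ne_zero (NeZero.ne N)
  have hN : (N : ℂ) ≠ 0 := Nat.cast_ne_zero.2 (NeZero.ne N)
  set c : ℕ → ℕ → ℂ := fun j l => ζ ^ ((l : ℤ) * -(j : ℤ)) - 1 with hc
  have hc0 : ∀ j, c j 0 = 0 := fun j => by simp [hc]
  have inner : ∀ l ∈ Finset.range N,
      ∑ l' ∈ Finset.range N, c k l * c k' l' *
        ∑ χ ∈ F, f χ l * f χ l' =
      (N : ℂ) * (c k l * (c k' l + (ζ ^ ((l : ℤ) * k') - 1))) := by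
    intro l hl
    have hlN := Finset.mem_range.1 hl
    rcases Nat.eq_zero_or_pos l with rfl | hl0
    · simp [hc0]
    have hstep : ∀ l' ∈ Finset.range N, c k l * c k' l' *
        ∑ χ ∈ F, f χ l * f χ l' =
        (if l' = l then c k l * c k' l' * N else 0) +
          if l' = N - l then c k l * c k' l' * N else 0 := by
      intro l' hl'
      have hl'N := Finset.mem_range.1 hl'
      rcases Nat.eq_zero_or_pos l' with rfl | hl'0
      · simp [hc0]
      rw [hcol l l' hl0 hlN hl'0 hl'N]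
      have e : (l' + l = N) ↔ l' = N - l := by omega
      by_cases h1 : l' = l <;> by_cases h2 : l' = N - l
      · rw [if_pos h1, if_pos (e.2 h2), if_pos h1, if_pos h2]; ring
      · rw [if_pos h1, if_neg (mt e.1 h2), if_pos h1, if_neg h2]; ring
      · rw [if_neg h1, if_pos (e.2 h2), if_neg h1, if_pos h2]; ring
      · rw [if_neg h1, if_neg (mt e.1 h2), if_neg h1, if_neg h2]; ring
    rw [Finset.sum_congr rfl hstep, Finset.sum_add_distrib, Finset.sum_ite_eq',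
      Finset.sum_ite_eq', if_pos hl, if_pos (Finset.mem_range.2 (by omega))]
    have e : c k' (N - l) = ζ ^ ((l : ℤ) * k') - 1 := by
      simp only [hc]
      rw [Nat.cast_sub hlN.le]
      congr 1
      rw [← mul_inv_eq_one₀ (zpow_ne_zero _ h0), ← zpow_neg, ← zpow_add₀ h0,
        hζ.zpow_eq_one_iff_dvd]
      exact ⟨-(k' : ℤ), by ring⟩
    rw [e]; ring
  have hmul : ∀ χ : ι, fCoef N ζ (f χ) k * fCoef N ζ (f χ) k' =
      (N : ℂ)⁻¹ * (N : ℂ)⁻¹ * ∑ l ∈ Finset.range N, ∑ l' ∈ Finset.range N,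
        c k l * c k' l' * (f χ l * f χ l') := fun χ => by
    rw [fCoef, fCoef, mul_mul_mul_comm, Finset.sum_mul_sum]
    congr 1
    refine Finset.sum_congr rfl fun l _ => Finset.sum_congr rfl fun l' _ => ?_
    simp only [hc]; ring
  rw [Finset.sum_congr rfl fun χ _ => hmul χ, ← Finset.mul_sum, Finset.sum_comm,
    Finset.sum_congr rfl (g := fun l : ℕ => (N : ℂ) * (c k l * (c k' l + (ζ ^ ((l : ℤ) * k') - 1))))
      fun l hl => by
        rw [Finset.sum_comm, ← inner l hl]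
        exact Finset.sum_congr rfl fun l' _ => (Finset.mul_sum _ _ _).symm,
    ← Finset.mul_sum]
  have hexp : ∀ l : ℕ, c k l * (c k' l + (ζ ^ ((l : ℤ) * k') - 1)) =
      ζ ^ ((l : ℤ) * (-(k : ℤ) + -(k' : ℤ))) + ζ ^ ((l : ℤ) * (-(k : ℤ) + k')) -
        2 * ζ ^ ((l : ℤ) * -(k : ℤ)) - ζ ^ ((l : ℤ) * -(k' : ℤ)) - ζ ^ ((l : ℤ) * k') + 2 := fun l => by
    rw [mul_add (l : ℤ), mul_add (l : ℤ), zpow_add₀ h0, zpow_add₀ h0]
    simp only [hc]; ring
  simp only [hexp, Finset.sum_add_distrib, Finset.sum_sub_distrib, ← Finset.mul_sum,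
    sum_root_pow hζ, Finset.sum_const, Finset.card_range, nsmul_eq_mul, dvd_neg]
  have n1 : ¬ (N : ℤ) ∣ (k : ℤ) := fun h =>
    Nat.not_dvd_of_pos_of_lt hk hkN (Int.natCast_dvd_natCast.1 h)
  have n2 : ¬ (N : ℤ) ∣ (k' : ℤ) := fun h =>
    Nat.not_dvd_of_pos_of_lt hk' hk'N (Int.natCast_dvd_natCast.1 h)
  have e1 : (N : ℤ) ∣ -(k : ℤ) + -(k' : ℤ) ↔ k' + k = N := by
    constructor
    · intro h
      have h3 : (N : ℤ) ∣ ((k' : ℤ) + k - N) := by
        refine dvd_sub ?_ dvd_rfl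
        have := dvd_neg.2 h
        convert this using 1
        ring
      have := Int.eq_zero_of_abs_lt_dvd h3 (by rw [abs_lt]; constructor <;> omega)
      omega
    · intro h
      exact ⟨-1, by omega⟩
  have e2 : (N : ℤ) ∣ -(k : ℤ) + k' ↔ k' = k := by
    constructor
    · intro h
      have := Int.eq_zero_of_abs_lt_dvd h (by rw [abs_lt]; constructor <;> omega)
      omega
    · rintro rfl; simp
  simp only [e1, e2, if_neg n1, if_neg n2]
  split_ifs <;> field_simp <;> ring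

end CfsgLib.Blocks
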