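import Cfsg.Agent.Lib.Blocks.StarFun
import Cfsg.Agent.Lib.BlockOrth.DefectOrder
import Cfsg.Agent.Lib.BlockOrth.RankOne
import Cfsg.Agent.Lib.BlockOrth.MajorSubsection

/-!
# Pairs of involutions above a section, projected on a block

The number of pairs of conjugates of an involution with a given product `g` is a class function,
and where `g` has a two-part `x` it is divisible by the number of conjugates of such an involution
under the powers of `x`. Its projection on a block of the centralizer of `x` is therefore highly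
divisible, which bounds a cubic sum over the characters of a block.
-/

set_option autoImplicit false
set_option linter.unusedSectionVars false
set_option linter.style.haveILetI false

namespace CfsgLib.Blocks

open Cfsg Chars BlockOrth Finset
open scoped ComplexConjugate

universe u

variable {G : Type u} [Group G] [Fintype G] {M : Ideal AlgInt} [M.IsPrime] {p : ℕ} [Fact p.Prime]

/-- The integral combination of the coefficients of a block idempotent with a class function. -/
theorem sum_blockCoeff_mul_int_div_mem {H : Type*} [Group H] [Fintype H]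
    (hpM : (p : AlgInt) ∈ M) {b : Set (IrrCharacter H)} (hb : IsPBlock M b) {g : H → ℤ}
    (hg : ∀ u v : H, g (v * u * v⁻¹) = g u) :
    (∑ w : H, blockCoeff b w * (g w : ℂ)) / ((p : ℂ) ^ blockMin p b) ∈ loc M := by
  classical
  haveI := irrFintype H
  obtain ⟨c, hc, hform⟩ := exists_blockCoeff_eq (M := M) hpM hb
  set a : H → ℂ := fun w => if p ∣ orderOf w then 0 else (g w : ℂ) with ha
  have hac : IsClassFunction H a := fun u v => by
    simp only [ha, ← (SemiconjBy.conj_mk v u).orderOf_eq, hg]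
  have haint : ∀ w, IsIntegral ℤ (a w) := fun w => by
    simp only [ha]
    split_ifs
    · exact isIntegral_zero
    · exact isIntegral_algebraMap (R := ℤ) (A := ℂ) (x := g w)
  have hareal : ∀ w, conj (a w) = a w := fun w => by
    simp only [ha]; split_ifs <;> simp
  have hsum : ∑ w : H, blockCoeff b w * (g w : ℂ) = ∑ ψ ∈ univ.filter (· ∈ b),
      c ψ * conj ((ψ : H → ℂ) 1 * omega (ψ : H → ℂ) a) := by
    have hw : ∀ w, blockCoeff b w * (g w : ℂ) = ∑ ψ ∈ univ.filter (· ∈ b),
        c ψ * conj (a w * (ψ : H → ℂ) w) := by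
      intro w
      by_cases hreg : p ∣ orderOf w
      · rw [blockCoeff_eq_zero_of_dvd (Fact.out : p.Prime) hpM hb hreg, zero_mul]
        simp [ha, hreg]
      · rw [hform w hreg, sum_mem_block, Finset.sum_mul]
        refine Finset.sum_congr rfl fun ψ _ => ?_
        simp [ha, hreg]
        ring
    rw [Finset.sum_congr rfl fun w _ => hw w, Finset.sum_comm]
    refine Finset.sum_congr rfl fun ψ _ => ?_
    rw [← Finset.mul_sum, omega, mul_div_cancel₀ _ (irr_degree_ne_zero ψ.2), map_sum]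
  rw [hsum, Finset.sum_div]
  refine sum_mem fun ψ hψ => ?_
  have hdvd : p ^ blockMin p b ∣ charDegree (ψ : H → ℂ) :=
    (pow_dvd_pow p (blockMin_le (mem_filter.1 hψ).2)).trans (Nat.ordProj_dvd _ _)
  obtain ⟨n, hn⟩ := hdvd
  rw [map_mul, irr_apply_one, map_natCast, hn]
  push_cast
  rw [show c ψ * ((p : ℂ) ^ blockMin p b * (n : ℂ) * conj (omega (ψ : H → ℂ) a)) /
      (p : ℂ) ^ blockMin p b = c ψ * ((n : ℂ) * conj (omega (ψ : H → ℂ) a)) by
    field_simp [(Fact.out : p.Prime).ne_zero]]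
  exact mul_mem (hc ψ) (mul_mem (natCast_mem_loc _) (isIntegral_mem_loc
    (map_isIntegral_int (starRingEnd ℂ) (BlockOrth.isIntegral_omega ψ hac haint))))

/-- A set stable under left multiplication by `y` has cardinality divisible by the order of `y`. -/
theorem orderOf_dvd_card_of_stable [DecidableEq G] (S : Finset G) {y : G}
    (hS : ∀ s ∈ S, y * s ∈ S) : orderOf y ∣ S.card := by
  classical
  have hpow : ∀ (n : ℕ), ∀ s ∈ S, y ^ n * s ∈ S := by
    intro n
    induction n with
    | zero => intro s hs; simpa using hs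
    | succ n ih => intro s hs; rw [pow_succ', mul_assoc]; exact hS _ (ih s hs)
  let F : G → Finset G := fun s => (Finset.range (orderOf y)).image fun n => y ^ n * s
  have hmem : ∀ s t : G, t ∈ F s ↔ ∃ n : ℕ, y ^ n * s = t := fun s t => by
    simp only [F, Finset.mem_image, Finset.mem_range]
    refine ⟨fun ⟨n, _, h⟩ => ⟨n, h⟩, fun ⟨n, h⟩ => ⟨n % orderOf y,
      Nat.mod_lt _ (orderOf_pos y), by rw [pow_mod_orderOf]; exact h⟩⟩
  rw [Finset.card_eq_sum_card_fiberwise (f := F) (t := S.image F)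
    (fun s hs => Finset.mem_image_of_mem F hs)]
  refine Finset.dvd_sum fun T hT => ?_
  obtain ⟨s, hs, rfl⟩ := Finset.mem_image.1 hT
  have hfib : S.filter (fun t => F t = F s) = F s := by
    ext t
    refine ⟨fun ht => (Finset.mem_filter.1 ht).2 ▸ (hmem t t).2 ⟨0, by simp⟩, fun ht => ?_⟩
    obtain ⟨n, rfl⟩ := (hmem s t).1 ht
    refine Finset.mem_filter.2 ⟨hpow n s hs, ?_⟩
    ext t
    rw [hmem, hmem]
    constructor
    · rintro ⟨m, rfl⟩
      exact ⟨m + n, by rw [pow_add, mul_assoc]⟩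
    · rintro ⟨m, rfl⟩
      refine ⟨m + n * (orderOf y - 1), ?_⟩
      rw [← mul_assoc, ← pow_add]
      congr 1
      obtain ⟨o, ho⟩ : ∃ o, orderOf y = o + 1 := ⟨orderOf y - 1, by have := orderOf_pos y; omega⟩
      rw [show m + n * (orderOf y - 1) + n = m + orderOf y * n by
        rw [ho, Nat.add_sub_cancel]; ring, pow_add, pow_mul, pow_orderOf_eq_one, one_pow, mul_one]
  rw [hfib, Finset.card_image_of_injOn, Finset.card_range]
  intro a ha b hb hab
  exact pow_injOn_Iio_orderOf (Finset.mem_range.1 ha) (Finset.mem_range.1 hb) (mul_right_cancel hab)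

section Count

variable [DecidableEq G]

/-- The number of pairs of conjugates of `z` with product `g`. -/
noncomputable def pairCount (z g : G) : ℕ := by
  classical
  exact ((univ.filter fun s => IsConj z s).filter fun s => IsConj z (s * g)).card

theorem pairCount_conj (z g v : G) : pairCount z (v * g * v⁻¹) = pairCount z g := by
  classical
  simp only [pairCount]
  symm
  refine Finset.card_equiv (MulAut.conj v).toEquiv fun s => ?_
  simp only [Finset.mem_filter, Finset.mem_univ, true_and, MulEquiv.toEquiv_eq_coe,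
    MulEquiv.coe_toEquiv, MulAut.conj_apply]
  have e : v * s * v⁻¹ * (v * g * v⁻¹) = v * (s * g) * v⁻¹ := by group
  rw [e]
  exact and_congr
    ⟨fun h => h.trans (isConj_iff.2 ⟨v, rfl⟩), fun h => h.trans (isConj_iff.2 ⟨v, rfl⟩).symm⟩
    ⟨fun h => h.trans (isConj_iff.2 ⟨v, rfl⟩), fun h => h.trans (isConj_iff.2 ⟨v, rfl⟩).symm⟩

/-- The number of pairs through the characters. -/
theorem pairCount_eq_sum [Fintype (IrrCharacter G)] {z : G} (hz : z * z = 1) (g : G) :
    (pairCount z g : ℂ) = ∑ χ : IrrCharacter G,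
      (Nat.card {s : G // IsConj z s} : ℂ) ^ 2 * (χ : G → ℂ) z ^ 2 /
        ((Nat.card G : ℂ) * (χ : G → ℂ) 1) * (χ : G → ℂ) g := by
  classical
  set R := univ.filter fun s : G => IsConj z s with hR
  have hRcard : Nat.card {s : G // IsConj z s} = R.card := by
    rw [Nat.card_eq_fintype_card, Fintype.card_subtype]
  have hRinv : ∀ s ∈ R, s⁻¹ = s := fun s hs => by
    obtain ⟨c, rfl⟩ := isConj_iff.1 (mem_filter.1 hs).2
    rw [inv_eq_iff_mul_eq_one, show c * z * c⁻¹ * (c * z * c⁻¹) = c * (z * z) * c⁻¹ by group, hz,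
      mul_one, mul_inv_cancel]
  have hcl : IsClassFunction G fun g => (pairCount z g : ℂ) := fun a b => by
    show (pairCount z _ : ℂ) = _
    rw [pairCount_conj]
  have hreal : ∀ χ : IrrCharacter G, conj ((χ : G → ℂ) z) = (χ : G → ℂ) z := fun χ => by
    rw [← irr_inv, inv_eq_of_mul_eq_one_right hz]
  rw [show (pairCount z g : ℂ) = (∑ χ : IrrCharacter G,
      classInner (fun g => (pairCount z g : ℂ)) (χ : G → ℂ) • (χ : G → ℂ)) g from
    congrFun (classFun_eq_sum hcl) g, Finset.sum_apply]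
  refine Finset.sum_congr rfl fun χ _ => ?_
  rw [Pi.smul_apply, smul_eq_mul]
  congr 1
  set f : G → ℂ := fun s => if s ∈ R then 1 else 0 with hf
  have hmemR : ∀ a b : G, b * a * b⁻¹ ∈ R ↔ a ∈ R := fun a b => by
    simp only [hR, mem_filter, mem_univ, true_and]
    exact ⟨fun h => h.trans (isConj_iff.2 ⟨b, rfl⟩).symm, fun h => h.trans (isConj_iff.2 ⟨b, rfl⟩)⟩
  have hfc : IsClassFunction G f := fun a b => if_congr (hmemR a b) rfl rfl
  have hval : ∀ s ∈ R, (χ : G → ℂ) s = (χ : G → ℂ) z := fun s hs => by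
    obtain ⟨c, rfl⟩ := isConj_iff.1 (mem_filter.1 hs).2
    exact isClassFunction_irr χ z c
  have hom : omega (χ : G → ℂ) f = (R.card : ℂ) * (χ : G → ℂ) z / (χ : G → ℂ) 1 := by
    rw [omega]
    congr 1
    simp only [hf, ite_mul, one_mul, zero_mul]
    rw [← Finset.sum_filter, Finset.sum_congr (s₂ := R) (by ext; simp) hval, Finset.sum_const,
      nsmul_eq_mul]
  have h1 : ∀ u : G, ∑ s ∈ R, (χ : G → ℂ) (s * u) = omega (χ : G → ℂ) f * (χ : G → ℂ) u :=
    fun u => by
      rw [← sum_mul_irr χ hfc u]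
      simp only [hf, ite_mul, one_mul, zero_mul]
      rw [← Finset.sum_filter]
      exact Finset.sum_congr (by ext; simp) fun _ _ => rfl
  have h2 : ∑ g : G, (pairCount z g : ℂ) * conj ((χ : G → ℂ) g) =
      (R.card : ℂ) ^ 2 * (χ : G → ℂ) z ^ 2 / (χ : G → ℂ) 1 := by
    have e : ∀ g : G, (pairCount z g : ℂ) * conj ((χ : G → ℂ) g) =
        ∑ s ∈ R, if s * g ∈ R then conj ((χ : G → ℂ) g) else 0 := fun g => by
      rw [← Finset.sum_filter, Finset.sum_const, nsmul_eq_mul]
      congr 3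
      simp only [pairCount, hR]
      congr 1
      ext s
      simp
    rw [Finset.sum_congr rfl fun g _ => e g, Finset.sum_comm]
    rw [Finset.sum_congr rfl (g := fun s => conj (∑ u ∈ R, (χ : G → ℂ) (s * u))) fun s hs => by
      rw [map_sum, ← Finset.sum_filter]
      refine Finset.sum_bij (fun g _ => s * g) (fun g hg => (mem_filter.1 hg).2)
        (fun a _ b _ h => mul_left_cancel h) (fun u hu => ⟨s⁻¹ * u, mem_filter.2 ⟨mem_univ _, by
          rwa [mul_inv_cancel_left]⟩, by rw [mul_inv_cancel_left]⟩) fun g _ => ?_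
      congr 2
      conv_lhs => rw [show g = s⁻¹ * (s * g) by group, hRinv s hs]]
    rw [← map_sum, Finset.sum_comm, Finset.sum_congr rfl fun u _ => h1 u, ← Finset.mul_sum,
      Finset.sum_congr rfl hval, Finset.sum_const, nsmul_eq_mul, hom]
    simp only [map_mul, map_div₀, map_natCast, hreal]
    rw [irr_apply_one, map_natCast]
    ring
  rw [inner_def, h2, hRcard, irr_apply_one]
  field_simp

/-- Above a power, the pairs come in orbits. -/
theorem orderOf_sq_dvd_pairCount {z g x : G} (hz : z * z = 1) (hx : x ∈ Subgroup.zpowers g) :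
    orderOf (x ^ 2) ∣ pairCount z g := by
  classical
  refine orderOf_dvd_card_of_stable _ fun s hs => ?_
  obtain ⟨hs1, hs2⟩ := mem_filter.1 hs
  have inv_of : ∀ {t : G}, IsConj z t → t * t = 1 := fun {t} ht => by
    obtain ⟨c, rfl⟩ := isConj_iff.1 ht
    rw [show c * z * c⁻¹ * (c * z * c⁻¹) = c * (z * z) * c⁻¹ by group, hz, mul_one, mul_inv_cancel]
  have hss := inv_of (mem_filter.1 hs1).2
  have hsg : s * g * s⁻¹ = g⁻¹ := by
    rw [inv_eq_of_mul_eq_one_right hss]
    refine eq_inv_of_mul_eq_one_left ?_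
    rw [mul_assoc]
    exact inv_of hs2
  obtain ⟨i, rfl⟩ := Subgroup.mem_zpowers_iff.1 hx
  have hsx : s * g ^ i * s⁻¹ = (g ^ i)⁻¹ := by rw [← conj_zpow, hsg, inv_zpow]
  have e : (g ^ i) ^ 2 * s = g ^ i * s * (g ^ i)⁻¹ := by
    rw [← hsx]
    rw [inv_eq_of_mul_eq_one_right hss,
      show g ^ i * s * (s * g ^ i * s) = g ^ i * (s * s) * g ^ i * s by group, hss, mul_one, sq]
  have hconj : ∀ {t : G}, IsConj z t → IsConj z (g ^ i * t * (g ^ i)⁻¹) :=
    fun h => h.trans (isConj_iff.2 ⟨_, rfl⟩)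
  refine mem_filter.2 ⟨mem_filter.2 ⟨mem_univ _, e ▸ hconj (mem_filter.1 hs1).2⟩, ?_⟩
  rw [e, mul_assoc, show (g ^ i)⁻¹ * g = g * (g ^ i)⁻¹ from
    ((Commute.zpow_self g i).inv_left).eq, ← mul_assoc, mul_assoc _ s g]
  exact hconj hs2

end Count

open scoped Classical in
/-- **The cubic sum of the exceptional configuration is impossible.** -/
theorem no_exceptional_triple [Fintype (IrrCharacter G)] (hM : (2 : AlgInt) ∈ M) [Fact (Nat.Prime 2)]
    {B : Set (IrrCharacter G)} (hB : IsPBlock M B) (hdB : blockDefect 2 B = 4) {z x : G}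
    (hz : z * z = 1) (hx : orderOf x = 8)
    {b : Set (IrrCharacter (Subgroup.centralizer (Subgroup.zpowers x : Set G)))}
    (hb : IsBrauerPairOf 2 M B (Subgroup.zpowers x) b) (hdb : blockDefect 2 b = 3)
    (a c : IrrCharacter G → ℂ) (Vz Vx : ℂ) (hVz : conj Vz = Vz) (Sz Sx : ℕ)
    (hval : ∀ χ ∈ B, (χ : G → ℂ) z = a χ * Vz)
    (hsec : ∀ χ ∈ B, secVal ⟨Subgroup.zpowers x, b⟩ (χ : G → ℂ) x = c χ * Vx)
    (hSz : 16 * (Vz * conj Vz) = (Sz : ℂ)) (hSx : 8 * (Vx * conj Vx) = (Sx : ℂ))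
    (hSzv : Sz.factorization 2 + 4 = 2 * (Nat.card (Subgroup.centralizer ({z} : Set G))).factorization 2)
    (hSxv : Sx.factorization 2 + 3 =
      2 * (Nat.card (Subgroup.centralizer (Subgroup.zpowers x : Set G))).factorization 2)
    (hSz0 : Sz ≠ 0) (hSx0 : Sx ≠ 0)
    (D : ℕ) (ρ : ℤ) (hρ : ρ = 1 ∨ ρ = -1) (hD : ∃ χ ∈ B, charDegree (χ : G → ℂ) = D)
    (hDd : ∀ χ ∈ B, D ∣ charDegree (χ : G → ℂ))
    (hsum : ∑ χ ∈ univ.filter (· ∈ B), a χ ^ 2 * c χ / (charDegree (χ : G → ℂ) : ℂ) =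
      -32 * (ρ : ℂ) / (3 * (D : ℂ))) : False := by
  have hpM : ((2 : ℕ) : AlgInt) ∈ M := by exact_mod_cast hM
  have h2 : Nat.Prime 2 := Nat.prime_two
  haveI := Fintype.ofFinite (Subgroup.centralizer (Subgroup.zpowers x : Set G))
  set a' : BrauerPairIdx G := ⟨Subgroup.zpowers x, b⟩ with ha'
  have hx2 : ∃ k : ℕ, x ^ 2 ^ k = 1 := ⟨3, by
    rw [show (2 : ℕ) ^ 3 = orderOf x by rw [hx]; rfl]; exact pow_orderOf_eq_one x⟩
  set R : ℕ := Nat.card {s : G // IsConj z s} with hR
  set K : ℕ := Nat.card (Subgroup.centralizer ({z} : Set G)) with hK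
  have hRK : (R : ℂ) * (K : ℂ) = (Nat.card G : ℂ) := by
    exact_mod_cast card_isConj_mul_card_centralizer z
  -- the projection through the characters
  set T := secVal a' (fun g => (pairCount z g : ℂ)) x with hT
  have hTchar : T = (R : ℂ) ^ 2 / (Nat.card G : ℂ) * (Vz ^ 2 * Vx) *
      (-32 * (ρ : ℂ) / (3 * (D : ℂ))) := by
    rw [hT, secVal]
    simp only [pairCount_eq_sum hz]
    rw [Finset.sum_congr rfl fun w _ => Finset.mul_sum _ _ _, Finset.sum_comm,
      ← hsum, Finset.mul_sum, Finset.sum_filter]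
    refine Finset.sum_congr rfl fun χ _ => ?_
    rw [Finset.sum_congr rfl fun w _ => mul_left_comm _ _ _, ← Finset.mul_sum]
    change _ * secVal a' (χ : G → ℂ) x = _
    split_ifs with hχ
    · rw [hsec χ hχ, hval χ hχ, irr_apply_one, ← hR]
      ring
    · have h1 : ¬ 2 ∣ orderOf (1 : G) := by simp
      have h := secVal_eq_zero (B := blockOf M (χ : G → ℂ)) hpM (isPBlock_blockOf χ)
        (mem_blockOf_self χ) (Commute.one_right x) hx2 h1 (a := a') (mem_pairsAt.2 ⟨rfl, hb.1.2⟩)
        fun h => hχ ((existsUnique_block_of_pair hpM hb.1).unique hb h ▸ mem_blockOf_self χ)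
      rw [mul_one] at h
      rw [h, mul_zero]
  -- the projection through the count
  set g' : (Subgroup.centralizer (Subgroup.zpowers x : Set G)) → ℤ := fun w =>
    if 2 ∣ orderOf w then 0 else ((pairCount z ((w : G) * x) / 4 : ℕ) : ℤ) with hg'
  have hg'c : ∀ u v : (Subgroup.centralizer (Subgroup.zpowers x : Set G)), g' (v * u * v⁻¹) = g' u := fun u v => by
    simp only [hg', ← (SemiconjBy.conj_mk v u).orderOf_eq]
    have e : ((v * u * v⁻¹ : (Subgroup.centralizer (Subgroup.zpowers x : Set G))) : G) * x = (v : G) * ((u : G) * x) * (v : G)⁻¹ := by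
      have h1 := Subgroup.mem_centralizer_iff.1 (inv_mem v.2) x (Subgroup.mem_zpowers x)
      rw [Subgroup.coe_mul, Subgroup.coe_mul, Subgroup.coe_inv]
      simp only [mul_assoc]
      rw [h1]
    rw [e, pairCount_conj]
  have key : ∀ w : (Subgroup.centralizer (Subgroup.zpowers x : Set G)), ¬ 2 ∣ orderOf w → 4 ∣ pairCount z ((w : G) * x) := fun w hreg => by
    have hcomm : Commute x (w : G) := Subgroup.mem_centralizer_iff.1 w.2 x (Subgroup.mem_zpowers x)
    have hxg : x ∈ Subgroup.zpowers ((w : G) * x) := by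
      have hcop : Nat.Coprime (orderOf (w : G)) (orderOf x) := by
        rw [hx, Subgroup.orderOf_coe, show (8 : ℕ) = 2 ^ 3 by norm_num]
        exact Nat.Coprime.pow_right 3 (h2.coprime_iff_not_dvd.2 hreg).symm
      obtain ⟨m, hm0, hm1⟩ := Nat.chineseRemainder hcop 0 1
      refine Subgroup.mem_zpowers_iff.2 ⟨(m : ℤ), ?_⟩
      rw [zpow_natCast, hcomm.symm.mul_pow, orderOf_dvd_iff_pow_eq_one.1
        (Nat.modEq_zero_iff_dvd.1 hm0), one_mul, pow_eq_pow_iff_modEq.2 hm1 |>.trans (pow_one x)]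
    have hd := orderOf_sq_dvd_pairCount hz hxg
    rwa [orderOf_pow' x two_ne_zero, hx] at hd
  have hTcount : T = 4 * ∑ w : (Subgroup.centralizer (Subgroup.zpowers x : Set G)), blockCoeff b w * (g' w : ℂ) := by
    rw [hT, secVal, Finset.mul_sum]
    symm
    refine Finset.sum_bij_ne_zero (fun (w : (Subgroup.centralizer (Subgroup.zpowers x : Set G))) _ _ => (w : G)) (fun _ _ _ => mem_univ _)
      (fun a _ _ b _ _ h => Subtype.ext h) (fun w _ hw => ?_) fun w _ hw => ?_
    · have hwC : w ∈ (Subgroup.centralizer (Subgroup.zpowers x : Set G)) := by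
        by_contra h
        exact hw (mul_eq_zero_of_left (subgroupBlockCoeff_of_notMem _ h) _)
      refine ⟨⟨w, hwC⟩, mem_univ _, ?_, rfl⟩
      intro h0
      apply hw
      rw [show pairCoeff a' w = blockCoeff b ⟨w, hwC⟩ from subgroupBlockCoeff_coe b ⟨w, hwC⟩]
      rcases mul_eq_zero.1 h0 with h | h
      · norm_num at h
      rcases mul_eq_zero.1 h with h | h
      · rw [h, zero_mul]
      simp only [hg'] at h
      split_ifs at h with hreg
      · rw [blockCoeff_eq_zero_of_dvd h2 hpM hb.1.2 hreg, zero_mul]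
      · refine mul_eq_zero_of_right _ ?_
        have hd := key ⟨w, hwC⟩ hreg
        rw [Int.cast_natCast, Nat.cast_eq_zero] at h
        rw [show (pairCount z (w * x) : ℂ) = 0 by
          rw [Nat.cast_eq_zero]
          exact Nat.eq_zero_of_dvd_of_lt hd (Nat.lt_of_div_eq_zero (by norm_num) h)]
    · rw [show pairCoeff a' (w : G) = blockCoeff b w from subgroupBlockCoeff_coe b w]
      by_cases hreg : 2 ∣ orderOf w
      · rw [blockCoeff_eq_zero_of_dvd h2 hpM hb.1.2 hreg]; simp
      · simp only [hg', if_neg hreg, Int.cast_natCast]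
        rw [mul_left_comm, ← Nat.cast_ofNat, ← Nat.cast_mul, Nat.mul_div_cancel' (key w hreg)]
  have hmem := sum_blockCoeff_mul_int_div_mem (M := M) (p := 2) hpM hb.1.2 hg'c
  set t := (∑ w : (Subgroup.centralizer (Subgroup.zpowers x : Set G)), blockCoeff b w * (g' w : ℂ)) / ((2 : ℕ) : ℂ) ^ blockMin 2 b with ht
  have htc : conj t ∈ loc M := by
    have h := sum_blockCoeff_mul_int_div_mem (M := M) (p := 2) hpM hb.1.2 (g := fun w => g' w⁻¹)
      fun u v => by rw [← hg'c u⁻¹ v]; congr 1; group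
    convert h using 1
    rw [ht, map_div₀, map_pow, map_natCast, map_sum]
    congr 1
    refine Fintype.sum_equiv (Equiv.inv (Subgroup.centralizer (Subgroup.zpowers x : Set G))) _ _ fun w => ?_
    rw [map_mul, map_intCast, Equiv.inv_apply, inv_inv]
    congr 1
    haveI := irrFintype (Subgroup.centralizer (Subgroup.zpowers x : Set G))
    rw [blockCoeff, blockCoeff, sum_mem_block, sum_mem_block, map_mul, map_inv₀, map_natCast, map_sum]
    congr 1
    refine Finset.sum_congr rfl fun θ _ => ?_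
    rw [map_mul, Complex.conj_conj, irr_inv, Complex.conj_conj, irr_apply_one, map_natCast]
  -- the valuations
  have hbx : blockMin 2 b + 3 = (Nat.card (Subgroup.centralizer (Subgroup.zpowers x : Set G))).factorization 2 := by
    rw [← hdb, blockMin_add_blockDefect (IsPBlock.nonempty hb.1.2)]
  have hbB : blockMin 2 B + 4 = (Nat.card G).factorization 2 := by
    rw [← hdB, blockMin_add_blockDefect (IsPBlock.nonempty hB)]
  have hDv : D.factorization 2 = blockMin 2 B := by
    obtain ⟨χ, hχ, hχD⟩ := hD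
    obtain ⟨χ₀, hχ₀, hmin⟩ := exists_degVal_eq_blockMin (p := 2) (IsPBlock.nonempty hB)
    refine le_antisymm ?_ (hχD ▸ blockMin_le hχ)
    rw [← hmin, degVal]
    exact (Nat.factorization_le_iff_dvd (hχD ▸ irr_charDegree_ne_zero χ)
      (irr_charDegree_ne_zero χ₀)).2 (hDd χ₀ hχ₀) 2
  have hD0 : D ≠ 0 := by
    obtain ⟨χ, -, hχD⟩ := hD
    exact hχD ▸ irr_charDegree_ne_zero χ
  set nA : ℕ := Nat.card G ^ 2 * Sz ^ 2 * 1024 * Sx with hnA
  set nB : ℕ := 9 * D ^ 2 * K ^ 4 * 16 * 256 * 8 * (2 ^ blockMin 2 b) ^ 2 with hnB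
  have hK0 : K ≠ 0 := Nat.card_pos.ne'
  have hG0 : Nat.card G ≠ 0 := Nat.card_pos.ne'
  have hnB0 : nB ≠ 0 := by simp [hnB, hD0, hK0]
  have htt : t * conj t = ((nA : ℤ) : ℂ) / (nB : ℂ) := by
    have hG' : (Nat.card G : ℂ) ≠ 0 := Nat.cast_ne_zero.2 hG0
    have hK' : (K : ℂ) ≠ 0 := Nat.cast_ne_zero.2 hK0
    have hD' : (D : ℂ) ≠ 0 := Nat.cast_ne_zero.2 hD0
    have hρ2 : (ρ : ℂ) * (ρ : ℂ) = 1 := by rcases hρ with e | e <;> rw [e] <;> norm_num
    have hR' : (R : ℂ) = (Nat.card G : ℂ) / (K : ℂ) := by rw [eq_div_iff hK', hRK]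
    have ht4 : 4 * ((2 : ℂ) ^ blockMin 2 b * t) = (Nat.card G : ℂ) / (K : ℂ) ^ 2 * (Vz ^ 2 * Vx) *
        (-32 * (ρ : ℂ) / (3 * (D : ℂ))) := by
      rw [ht, Nat.cast_ofNat, mul_div_cancel₀ _ (pow_ne_zero _ two_ne_zero), ← hTcount, hTchar, hR']
      field_simp
    have hconj4 : 4 * ((2 : ℂ) ^ blockMin 2 b * conj t) = (Nat.card G : ℂ) / (K : ℂ) ^ 2 *
        (Vz ^ 2 * conj Vx) * (-32 * (ρ : ℂ) / (3 * (D : ℂ))) := by
      have h := congrArg conj ht4
      simpa only [map_mul, map_div₀, map_pow, map_natCast, map_intCast, map_ofNat, map_neg, hVz]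
        using h
    rw [eq_div_iff (Nat.cast_ne_zero.2 hnB0)]
    have hzz : 16 * (Vz * Vz) = (Sz : ℂ) := by rw [← hSz, hVz]
    have hprod : (4 * ((2 : ℂ) ^ blockMin 2 b * t)) * (4 * ((2 : ℂ) ^ blockMin 2 b * conj t)) *
        (9 * (D : ℂ) ^ 2 * (K : ℂ) ^ 4 * (256 * 8)) =
        (Nat.card G : ℂ) ^ 2 * (16 * (Vz * Vz)) ^ 2 * 1024 * (8 * (Vx * conj Vx)) := by
      rw [ht4, hconj4]
      field_simp
      linear_combination (2359296 : ℂ) * Vz ^ 4 * Vx * conj Vx * hρ2
    rw [hzz, hSx] at hprod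
    simp only [hnA, hnB]
    clear_value t
    generalize blockMin 2 b = bm at hprod ⊢
    push_cast
    linear_combination hprod
  have hloc : ((nA : ℤ) : ℂ) / (nB : ℂ) ∈ loc M := htt ▸ mul_mem hmem htc
  have hdvd := int_div_mem_loc hpM hnB0 hloc
  have hdvd' : 2 ^ nB.factorization 2 ∣ nA := by exact_mod_cast hdvd
  have hnA0 : nA ≠ 0 := by simp [hnA, hG0, hSz0, hSx0]
  have hle := (h2.pow_dvd_iff_le_factorization hnA0).1 hdvd'
  have f2 : ∀ k : ℕ, (2 ^ k).factorization 2 = k := fun k => by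
    rw [h2.factorization_pow, Finsupp.single_eq_same]
  have c1024 : (1024 : ℕ).factorization 2 = 10 := by rw [show (1024 : ℕ) = 2 ^ 10 by norm_num, f2]
  have c16 : (16 : ℕ).factorization 2 = 4 := by rw [show (16 : ℕ) = 2 ^ 4 by norm_num, f2]
  have c256 : (256 : ℕ).factorization 2 = 8 := by rw [show (256 : ℕ) = 2 ^ 8 by norm_num, f2]
  have c8 : (8 : ℕ).factorization 2 = 3 := by rw [show (8 : ℕ) = 2 ^ 3 by norm_num, f2]
  have c9 : (9 : ℕ).factorization 2 = 0 := Nat.factorization_eq_zero_of_not_dvd (by norm_num)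
  have fm : ∀ a b : ℕ, a ≠ 0 → b ≠ 0 →
      (a * b).factorization 2 = a.factorization 2 + b.factorization 2 := fun a b ha hb => by
    rw [Nat.factorization_mul ha hb, Finsupp.add_apply]
  have fp : ∀ a k : ℕ, (a ^ k).factorization 2 = k * a.factorization 2 := fun a k => by
    rw [Nat.factorization_pow, Finsupp.smul_apply, smul_eq_mul]
  have hfA : nA.factorization 2 =
      2 * (Nat.card G).factorization 2 + 2 * Sz.factorization 2 + 10 + Sx.factorization 2 := by
    rw [hnA, fm _ _ (by simp [hG0, hSz0]) hSx0, fm _ _ (by simp [hG0, hSz0]) (by norm_num),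
      fm _ _ (pow_ne_zero _ hG0) (pow_ne_zero _ hSz0), fp, fp, c1024]
  have hfB : nB.factorization 2 =
      2 * D.factorization 2 + 4 * K.factorization 2 + 15 + 2 * blockMin 2 b := by
    have n1 : 9 * D ^ 2 ≠ 0 := mul_ne_zero (by norm_num) (pow_ne_zero _ hD0)
    have n2 := mul_ne_zero n1 (pow_ne_zero 4 hK0)
    have n3 := mul_ne_zero n2 (show (16 : ℕ) ≠ 0 by norm_num)
    have n4 := mul_ne_zero n3 (show (256 : ℕ) ≠ 0 by norm_num)
    have n5 := mul_ne_zero n4 (show (8 : ℕ) ≠ 0 by norm_num)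
    rw [hnB, fm _ _ n5 (pow_ne_zero _ (pow_ne_zero _ two_ne_zero)), fm _ _ n4 (by norm_num),
      fm _ _ n3 (by norm_num), fm _ _ n2 (by norm_num), fm _ _ n1 (pow_ne_zero _ hK0),
      fm _ _ (by norm_num) (pow_ne_zero _ hD0), fp D, fp K, fp (2 ^ _), f2, c9, c16, c256, c8]
    omega
  rw [hfA, hfB] at hle
  omega

end CfsgLib.Blocks
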