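import Cfsg.Agent.Lib.Blocks.FreeCount

/-!
# The ranks of pairwise non-conjugate subsections of a block add up to at most `k(B)`
-/

set_option autoImplicit false
set_option linter.unusedSectionVars false
set_option linter.style.haveILetI false

namespace CfsgLib.Blocks

open Cfsg Chars

universe u v

variable {G : Type u} [Group G] [Fintype G] {M : Ideal AlgInt} [M.IsPrime] {p : ℕ} [Fact p.Prime]
  {B : Set (IrrCharacter G)}

theorem blockRank_conjBlock {Q : Subgroup G} (x : G)
    (f : Set (IrrCharacter (Subgroup.centralizer (Q : Set G)))) :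
    blockRank p (conjBlock Q x f) = blockRank p f := by
  rw [conjBlock_eq, conjImage, blockRank_image_pullIrr]

/-- The pair of the trivial subgroup has the rank of the block. -/
theorem blockRank_pair_one (hpM : (p : AlgInt) ∈ M)
    {b : Set (IrrCharacter (Subgroup.centralizer (Subgroup.zpowers (1 : G) : Set G)))}
    (hb : IsBrauerPairOf p M B (Subgroup.zpowers (1 : G)) b) : blockRank p b = blockRank p B := by
  have htop : Subgroup.centralizer ((Subgroup.zpowers (1 : G) : Subgroup G) : Set G) = ⊤ :=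
    eq_top_iff.2 fun x _ => Subgroup.mem_centralizer_iff.2 fun y hy => by
      obtain ⟨i, rfl⟩ := Subgroup.mem_zpowers_iff.1 hy
      simp
  obtain ⟨B₀, hB₀, hcoef⟩ := exists_block_of_stable_top hpM hb.1 fun x =>
    centralizer_le_stabPair hb.1.2 (htop ▸ Subgroup.mem_top x)
  rw [(existsUnique_block_of_pair hpM hb.1).unique hb hB₀]
  exact blockRank_eq_of_blockCoeff_top htop hb.1.2 hB₀.2.1 hcoef

/-- A family of pairwise non-conjugate subsections. -/
theorem sum_blockRank_le (hM : IsPModular p M) (hB : IsPBlock M B) {ι : Type v} [Fintype ι]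
    (y : ι → G) (b : ∀ i, Set (IrrCharacter (Subgroup.centralizer (Subgroup.zpowers (y i) : Set G))))
    (hy : ∀ i, ∃ k, orderOf (y i) = p ^ k)
    (hb : ∀ i, IsBrauerPairOf p M B (Subgroup.zpowers (y i)) (b i))
    (hne : ∀ i j (g : G), g * y i * g⁻¹ = y j → conjPair g ⟨Subgroup.zpowers (y i), b i⟩ =
      (⟨Subgroup.zpowers (y j), b j⟩ : BrauerPairIdx G) → i = j) :
    ∑ i, blockRank p (b i) ≤ Nat.card B := by
  classical
  have hpM := hM.2.2
  let X : Finset G := (Finset.univ.filter fun g : G => ∃ k, orderOf g = p ^ k).image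
    fun g => (ConjClasses.mk g).out
  have hout : ∀ g : G, IsConj g (ConjClasses.mk g).out := fun g =>
    ConjClasses.mk_eq_mk_iff_isConj.1 (Quotient.out_eq (ConjClasses.mk g)).symm
  have hX : ∀ x ∈ X, ∃ k, orderOf x = p ^ k := by
    intro x hx
    obtain ⟨g, hg, rfl⟩ := Finset.mem_image.1 hx
    obtain ⟨c, hc⟩ := isConj_iff.1 (hout g)
    obtain ⟨k, hk⟩ := (Finset.mem_filter.1 hg).2
    exact ⟨k, by rw [← hc, ← hk]; exact (MulAut.conj c).orderOf_eq g⟩
  have hrep : ∀ g : G, (∃ k, orderOf g = p ^ k) → ∃! x, x ∈ X ∧ IsConj g x := by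
    intro g hg
    refine ⟨_, ⟨Finset.mem_image.2 ⟨g, Finset.mem_filter.2 ⟨Finset.mem_univ _, hg⟩, rfl⟩, hout g⟩,
      ?_⟩
    rintro x ⟨hx, hgx⟩
    obtain ⟨g', -, rfl⟩ := Finset.mem_image.1 hx
    rw [ConjClasses.mk_eq_mk_iff_isConj.2 (hgx.trans (hout g').symm)]
  haveI := irrFintype G
  haveI := fun H : Subgroup G => Fintype.ofFinite H
  haveI := fun H : Subgroup G => irrFintype H
  let T : ∀ x : G, Finset (Set (IrrCharacter
      (Subgroup.centralizer ((Subgroup.zpowers x : Subgroup G) : Set G)))) := fun x =>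
    Finset.univ.filter fun b => IsInducedBlock M _ b B
  let S := X.sigma T
  have hk : Nat.card B = ∑ s ∈ S, blockRank p s.2 := by
    rw [Finset.sum_sigma, BlockOrth.card_block_eq_sum_ranks hM hB hX hrep]
    refine Finset.sum_congr rfl fun x _ => ?_
    have key : ∀ H K : Subgroup G, H = K →
        (∑ᶠ b ∈ {b : Set (IrrCharacter H) | IsInducedBlock M H b B}, blockRank p b) =
          ∑ᶠ b ∈ {b : Set (IrrCharacter K) | IsInducedBlock M K b B}, blockRank p b := by
      rintro H K rfl; rfl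
    rw [key _ _ (centralizer_zpowers_eq x).symm]
    exact finsum_mem_eq_sum_of_inter_support_eq _ (by ext; simp [T])
  have hdata : ∀ i, ∃ s ∈ S, ∃ g : G, g * y i * g⁻¹ = s.1 ∧
      conjPair g ⟨Subgroup.zpowers (y i), b i⟩ =
        (⟨Subgroup.zpowers s.1, s.2⟩ : BrauerPairIdx G) ∧ blockRank p s.2 = blockRank p (b i) := by
    intro i
    obtain ⟨x, ⟨hx, hix⟩, -⟩ := hrep _ (hy i)
    obtain ⟨g, hg⟩ := isConj_iff.1 hix
    have hpair := isBrauerPairOf_conj (a := ⟨_, b i⟩) (hb i) g
    have hrk : blockRank p (conjPair g ⟨Subgroup.zpowers (y i), b i⟩).2 = blockRank p (b i) :=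
      blockRank_conjBlock g (b i)
    have hfst : (conjPair g ⟨Subgroup.zpowers (y i), b i⟩).1 = Subgroup.zpowers x := by
      show (Subgroup.zpowers (y i)).map (MulAut.conj g).toMonoidHom = _
      rw [MonoidHom.map_zpowers]
      exact congrArg Subgroup.zpowers hg
    obtain ⟨c, hc⟩ : ∃ c, conjPair g ⟨Subgroup.zpowers (y i), b i⟩ =
        (⟨Subgroup.zpowers x, c⟩ : BrauerPairIdx G) := by
      generalize conjPair g ⟨Subgroup.zpowers (y i), b i⟩ = a at hfst
      obtain ⟨Q', c⟩ := a
      obtain rfl : Q' = Subgroup.zpowers x := hfst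
      exact ⟨c, rfl⟩
    rw [hc] at hpair hrk
    exact ⟨⟨x, c⟩, Finset.mem_sigma.2 ⟨hx, Finset.mem_filter.2 ⟨Finset.mem_univ _,
      isInducedBlock_centralizer_of_pair hpM hpair⟩⟩, g, hg, hc, hrk⟩
  choose Φ hΦS g hgv hgf hrk using hdata
  have hinj : Function.Injective Φ := by
    intro i j hij
    refine hne i j ((g j)⁻¹ * g i) ?_ ?_
    · have h3 := hgv i
      rw [hij, ← hgv j] at h3
      calc (g j)⁻¹ * g i * y i * ((g j)⁻¹ * g i)⁻¹
          = (g j)⁻¹ * (g i * y i * (g i)⁻¹) * g j := by group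
        _ = _ := by rw [h3]; group
    · rw [← conjPair_mul, hgf i, hij, ← hgf j, conjPair_mul, inv_mul_cancel, conjPair_one]
  rw [hk, Finset.sum_congr rfl fun i _ => (hrk i).symm, ← Finset.sum_image (fun a _ c _ h => hinj h)
    (g := Φ) (f := fun s => blockRank p s.2)]
  exact Finset.sum_le_sum_of_subset fun s hs => by
    obtain ⟨i, -, rfl⟩ := Finset.mem_image.1 hs
    exact hΦS i

end CfsgLib.Blocks
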