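import Cfsg.Agent.Lib.Blocks.DihedralParity
import Cfsg.Agent.Lib.Blocks.DihedralFourier
import Cfsg.Agent.Lib.Blocks.DihedralConfig
import Cfsg.Agent.Lib.Blocks.DihedralTriple
import Cfsg.Agent.Lib.Blocks.SectionSum

/-!
# Blocks with dihedral defect groups
-/

set_option autoImplicit false
set_option linter.unusedSectionVars false
set_option linter.style.haveILetI false

namespace CfsgLib.Blocks

open Cfsg Chars BlockOrth Involutions
open scoped ComplexConjugate

universe u

variable {G : Type u} [Group G] [Fintype G] {M : Ideal AlgInt} [M.IsPrime] [Fact (Nat.Prime 2)]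

/-- **Brauer**: the invariants of a block with dihedral defect group. -/
theorem dihedral_defect (hM : IsPModular 2 M) {B : Set (IrrCharacter G)} (hB : IsPBlock M B)
    {D : Subgroup G} (hD : IsDefectGroup 2 M B D) {n : ℕ} (hn : 3 ≤ n)
    (hdih : Nonempty (D ≃* DihedralGroup (2 ^ (n - 1)))) :
    Nat.card B = 2 ^ (n - 2) + 3 ∧ 1 ≤ blockRank 2 B ∧ blockRank 2 B ≤ 3 ∧
      Nat.card {χ : IrrCharacter G // χ ∈ B ∧ blockHeight 2 B (χ : G → ℂ) = 0} = 4 ∧
      ∀ χ ∈ B, blockHeight 2 B (χ : G → ℂ) ≤ 1 := by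
  classical
  haveI := irrFintype G
  haveI := fun S : Subgroup G => Fintype.ofFinite S
  haveI := fun S : Subgroup G => irrFintype S
  have hpM : ((2 : ℕ) : AlgInt) ∈ M := hM.2.2
  obtain ⟨e, he⟩ := exists_pair_on_defectGroup hpM hB hD
  have hmax := isMaximal_of_defectGroup hpM hD he
  have hDp : IsPGroup 2 D := IsDefectGroup.isPGroup hD
  obtain ⟨φ⟩ := hdih
  obtain ⟨d⟩ := nonempty_dp hDp (m := 2 ^ (n - 1)) (Nat.le_self_pow (show n - 1 ≠ 0 by omega) 2) φ
  have hdn : d.n = n - 1 := by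
    have h := d.card_eq
    rw [Nat.card_congr φ.toEquiv, DihedralGroup.nat_card] at h
    exact Nat.pow_right_injective le_rfl (Nat.eq_of_mul_eq_mul_left two_pos h.symm)
  have hn2 : 2 ≤ d.n := by omega
  have hdB : blockDefect 2 B = n := by
    have h1 := BlockOrth.card_defectGroup hpM hB hD
    rw [d.card_eq, ← pow_succ', show d.n + 1 = n by omega] at h1
    exact (Nat.pow_right_injective le_rfl h1).symm
  set N := 2 ^ d.n with hN
  set H := 2 ^ (d.n - 1) with hH
  have hN2 : N = 2 * H := by rw [hN, hH, ← pow_succ', show d.n - 1 + 1 = d.n by omega]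
  have hH2 : 2 ≤ H := Nat.le_self_pow (show d.n - 1 ≠ 0 by omega) 2
  have hHe : Even H := by rw [hH]; exact Even.pow_of_ne_zero even_two (by omega)
  have hH0 : H = 2 ^ (n - 2) := by rw [hH, hdn, show n - 1 - 1 = n - 2 by omega]
  obtain ⟨h, hhH⟩ : ∃ h, H = h + 1 := ⟨H - 1, by omega⟩
  have hodd : Odd h := by
    obtain ⟨q, hq⟩ := hHe
    exact ⟨q - 1, by omega⟩
  haveI : NeZero N := ⟨by omega⟩
  have hxN : d.x ^ N = 1 := by rw [hN, ← d.orderOf_x, pow_orderOf_eq_one]
  set xD : D := ⟨d.x, d.x_mem⟩ with hxD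
  have hcoe : ∀ l : ℕ, ((xD ^ l : D) : G) = d.x ^ l := fun l => rfl
  have hz : d.z = d.x ^ H := by
    rw [DP.z, show d.half = ((H : ℕ) : ℤ) by simp [DP.half, hH], zpow_natCast]
  have hne1 : ∀ l, 0 < l → l < N → d.x ^ l ≠ 1 := fun l hl hlN h1 => by
    have := Nat.le_of_dvd hl (orderOf_dvd_of_pow_eq_one h1)
    rw [d.orderOf_x] at this
    omega
  have hzC : d.z ∈ Subgroup.centralizer (D : Set G) :=
    Subgroup.mem_centralizer_iff.2 fun a ha => (d.commute_z ha).eq.symm
  have hord : ∀ a ∈ D, ∃ k, orderOf a = 2 ^ k := fun a ha =>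
    exists_pow_orderOf_of_mem hDp ha
  -- the centralizer of the central involution
  obtain ⟨bz, hbz⟩ := exists_pairBelow_eq (M := M) (p := 2) (⟨D, e⟩ : BrauerPairIdx G) d.z
  have hbzle : Below 2 M ⟨Subgroup.zpowers d.z, bz⟩ ⟨D, e⟩ :=
    hbz ▸ pairBelow_below (c := ⟨D, e⟩) hpM hmax.1.1 d.z_mem
  have hH' := mem_centralizer_zpowers_iff d.z
  have hPK : D ≤ Subgroup.centralizer (Subgroup.zpowers d.z : Set G) := fun a ha =>
    (hH' a).2 (d.commute_z ha).eq.symm
  have hCP : Subgroup.centralizer (D : Set G) ≤ Subgroup.centralizer (Subgroup.zpowers d.z : Set G) :=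
    centralizer_antitone (Subgroup.zpowers_le.2 d.z_mem)
  have hmaxK := maximal_at_central hpM hmax d.z_mem hPK hCP hbzle
  have hnil : IsNilpotentBlock 2 M bz :=
    isNilpotentBlock_at_z hpM d hDp (by
      rintro _ ⟨a, ha, rfl⟩; exact ha) hmaxK
  obtain ⟨θ, hθ, hθ0⟩ := exists_blockHeight_eq_zero (p := 2) hnil.1
  obtain ⟨ξ, V, hξn, hcol, hnorm, horth, hVK⟩ :=
    exists_local_columns hpM hmax hPK hCP hnil hmaxK hθ hθ0
  have hKle : ∀ l, 0 < l → l < N →
      Subgroup.centralizer (Subgroup.zpowers ((xD ^ l : D) : G) : Set G) ≤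
        Subgroup.centralizer (Subgroup.zpowers d.z : Set G) := fun l hl hlN =>
    centralizer_antitone (Subgroup.zpowers_le.2 (dp_z_mem_zpowers d
      (pow_mem (Subgroup.mem_zpowers _) l) (hne1 l hl hlN)))
  have hin : ∀ l m, 0 < l → l < N → ∀ g : G,
      g * ((xD ^ l : D) : G) * g⁻¹ = ((xD ^ m : D) : G) →
      g ∈ Subgroup.centralizer (Subgroup.zpowers d.z : Set G) := by
    intro l m hl hlN g hg
    rw [hcoe, hcoe] at hg
    have hlx : d.x ^ l ∈ Subgroup.zpowers d.x := pow_mem (Subgroup.mem_zpowers _) l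
    obtain ⟨i, hi⟩ := Subgroup.mem_zpowers_iff.1 (dp_z_mem_zpowers d hlx (hne1 l hl hlN))
    have hgz : g * d.z * g⁻¹ = d.z := by
      refine dp_invol_eq_z d ?_ ?_ ?_
      · rw [← hi, ← conj_zpow, hg]
        exact zpow_mem (pow_mem (Subgroup.mem_zpowers _) m) i
      · rw [show g * d.z * g⁻¹ * (g * d.z * g⁻¹) = g * (d.z * d.z) * g⁻¹ by group,
          invol_mul_self d.orderOf_z, mul_one, mul_inv_cancel]
      · rw [Ne, conj_eq_one_iff]
        exact invol_ne_one d.orderOf_z
    exact (hH' g).2 (mul_inv_eq_iff_eq_mul.1 hgz)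
  -- the coordinates on the powers of `x`
  set f : IrrCharacter G → ℕ → ℂ := fun χ l => ξ χ (xD ^ l) with hf
  have hfreal : ∀ χ l, conj (f χ l) = f χ l := fun χ l => by
    obtain ⟨nn, hnn⟩ := hξn χ
    simp only [hf, hnn, map_sum, map_mul, map_intCast]
    exact Finset.sum_congr rfl fun ψ _ => by rw [hxD, dp_irr_real d l ψ]
  set s := Finset.univ.filter (fun χ : IrrCharacter G => χ ∈ B) with hs
  have hmems : ∀ {χ : IrrCharacter G}, χ ∈ s ↔ χ ∈ B := by simp [hs]
  have hgramC : ∀ l l', 0 < l → l < N → 0 < l' → l' < N → ∑ χ ∈ s, f χ l * f χ l' =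
      (if l' = l then (N : ℂ) else 0) + if l' + l = N then (N : ℂ) else 0 := by
    intro l l' hl hlN hl' hl'N
    have h1 := horth (xD ^ l) (xD ^ l') (hKle l hl hlN) (hKle l' hl' hl'N) (hin l l' hl hlN)
    rw [hxD, dp_irr_orth d hn2 hl hlN hl' hl'N] at h1
    rw [← h1]
    refine Finset.sum_congr rfl fun χ _ => ?_
    rw [← hxD]
    show f χ l * f χ l' = f χ l * conj (f χ l')
    rw [hfreal]
  set ζ : ℂ := Complex.exp (2 * Real.pi * Complex.I / N) with hζdef
  have hζ : IsPrimitiveRoot ζ N := Complex.isPrimitiveRoot_exp N (NeZero.ne N)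
  have hxDN : xD ^ N = 1 := Subtype.ext hxN
  have hint : ∀ (χ : IrrCharacter G) (k : ℕ), ∃ m : ℤ, (m : ℂ) = fCoef N ζ (f χ) k := fun χ k => by
    obtain ⟨nn, hnn⟩ := hξn χ
    exact fCoef_int hζ hxDN nn (f χ) (fun l => hnn (xD ^ l)) k
  choose a ha using hint
  have ha0 : ∀ χ, a χ 0 = 0 := fun χ => by
    apply Int.cast_injective (α := ℂ)
    rw [ha, fCoef_zero hζ, Int.cast_zero]
  have hsym : ∀ χ k, k ≤ N → a χ (N - k) = a χ k := fun χ k hk => by
    apply Int.cast_injective (α := ℂ)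
    rw [ha, ha, fCoef_symm hζ (hfreal χ) hk ⟨_, ha χ k⟩]
  have haval : ∀ χ l, 0 < l → l < N →
      f χ l = ∑ k ∈ Finset.range N, (a χ k : ℂ) * ζ ^ ((k : ℤ) * l) := fun χ l hl hlN => by
    simp only [ha]
    exact fCoef_value hζ (f χ) hl hlN
  have hgram : ∀ k k', 0 < k → k < N → 0 < k' → k' < N → ∑ χ ∈ s, a χ k * a χ k' =
      2 + (if k' = k then (1 : ℤ) else 0) + if k' + k = N then 1 else 0 := by
    intro k k' hk hkN hk' hk'N
    have e := fCoef_gram hζ s f hgramC hk hkN hk' hk'N
    simp only [← ha] at e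
    apply Int.cast_injective (α := ℂ)
    push_cast
    exact e
  -- the pairs below
  choose bl hbl using fun u : G => exists_pairBelow_eq (M := M) (p := 2) (⟨D, e⟩ : BrauerPairIdx G) u
  have hblle : ∀ u ∈ D, Below 2 M ⟨Subgroup.zpowers u, bl u⟩ ⟨D, e⟩ := fun u hu =>
    hbl u ▸ pairBelow_below (c := ⟨D, e⟩) hpM hmax.1.1 hu
  have hblB : ∀ u ∈ D, IsBrauerPairOf 2 M B (Subgroup.zpowers u) (bl u) := fun u hu =>
    (isBrauerPairOf_iff_of_below hpM (hblle u hu) B).2 hmax.1
  have h1reg : ¬ 2 ∣ orderOf (1 : G) := by simp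
  have hsec : ∀ (χ : IrrCharacter G) (l : ℕ), 0 < l → l < N →
      secVal ⟨Subgroup.zpowers (d.x ^ l), bl (d.x ^ l)⟩ (χ : G → ℂ) (d.x ^ l) =
        f χ l * V (xD ^ l) (d.x ^ l) := fun χ l hl hlN => by
    have h1 := hcol χ (xD ^ l) (hKle l hl hlN) 1 (Commute.one_right _) h1reg
    rw [mul_one, hcoe, hbl] at h1
    exact h1
  have hVne : ∀ l, 0 < l → l < N → V (xD ^ l) (d.x ^ l) ≠ 0 := fun l hl hlN =>
    (hnorm (xD ^ l) (hKle l hl hlN)).1
  have hdeg : ∀ l, 0 < l → l < N → ∑ χ ∈ s, f χ l * (χ : G → ℂ) 1 = 0 := by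
    intro l hl hlN
    have h1 := sum_secVal_mul_degree hpM (exists_pow_eq_one_of_mem hDp (pow_mem d.x_mem l))
      (hne1 l hl hlN) (hblB _ (pow_mem d.x_mem l))
    have h2 : (∑ χ ∈ s, f χ l * (χ : G → ℂ) 1) * V (xD ^ l) (d.x ^ l) = 0 := by
      rw [Finset.sum_mul]
      refine Eq.trans (Finset.sum_congr rfl fun χ _ => ?_) h1
      rw [hsec χ l hl hlN]
      ring
    exact (mul_eq_zero.1 h2).resolve_right (hVne l hl hlN)
  have hdega : ∀ k, ∑ χ ∈ s, a χ k * (charDegree (χ : G → ℂ) : ℤ) = 0 := by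
    intro k
    apply Int.cast_injective (α := ℂ)
    push_cast
    simp only [ha, fCoef, ← irr_apply_one, mul_assoc, Finset.sum_mul, ← Finset.mul_sum]
    rw [Finset.sum_comm, Finset.sum_eq_zero, mul_zero]
    intro l hl
    rcases Nat.eq_zero_or_pos l with rfl | hl0
    · simp
    rw [Finset.sum_congr rfl fun χ _ => show f χ l * ((ζ ^ ((l : ℤ) * -(k : ℤ)) - 1) * (χ : G → ℂ) 1) =
      (ζ ^ ((l : ℤ) * -(k : ℤ)) - 1) * (f χ l * (χ : G → ℂ) 1) by ring, ← Finset.mul_sum,
      hdeg l hl0 (Finset.mem_range.1 hl), mul_zero]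
  -- the coordinate at the central involution
  set az : IrrCharacter G → ℤ := fun χ =>
    a χ H + 2 * ∑ k ∈ Finset.range h, (-1) ^ (k + 1) * a χ (k + 1) with haz
  have hzval : ∀ χ, f χ H = (az χ : ℂ) := by
    intro χ
    have hζH : ζ ^ H = -1 := by
      have hp := hζ.pow (show 0 < N by omega) (show N = H * 2 by omega)
      exact hp.eq_neg_one_of_two_right
    set g : ℕ → ℤ := fun k => (-1) ^ k * a χ k with hg
    have e1 : f χ H = ((∑ k ∈ Finset.range N, g k : ℤ) : ℂ) := by
      rw [haval χ H (by omega) (by omega), Int.cast_sum]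
      refine Finset.sum_congr rfl fun k _ => ?_
      rw [← Nat.cast_mul, zpow_natCast, mul_comm k H, pow_mul, hζH, hg]
      push_cast
      ring
    rw [e1, Int.cast_inj, show N = H + H by omega, Finset.sum_range_add]
    have e2 : ∑ k ∈ Finset.range H, g k = ∑ k ∈ Finset.range h, g (k + 1) := by
      rw [hhH, Finset.sum_range_succ']
      simp [hg, ha0]
    have e3 : ∑ k ∈ Finset.range H, g (H + k) = g H + ∑ k ∈ Finset.range h, g (k + 1) := by
      rw [show Finset.range H = Finset.range (h + 1) by rw [hhH], Finset.sum_range_succ', add_zero,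
        add_comm, ← Finset.sum_range_reflect (fun k => g (k + 1)) h]
      congr 1
      refine Finset.sum_congr rfl fun k hk => ?_
      have hk' := Finset.mem_range.1 hk
      simp only [hg]
      rw [show H + (k + 1) = N - (h - 1 - k + 1) by omega, hsym χ _ (by omega)]
      congr 1
      rw [neg_one_pow_congr]
      obtain ⟨q, hq⟩ := hHe
      rw [Nat.even_sub (by omega), hN2]
      simp
    rw [e2, e3, haz]
    simp only [hg, hHe.neg_one_pow]
    ring
  have hcolz : ∀ (χ : IrrCharacter G) (y : Subgroup.centralizer (Subgroup.zpowers d.z : Set G)), ¬ 2 ∣ orderOf y →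
      secVal ⟨Subgroup.zpowers d.z, bz⟩ (χ : G → ℂ) (d.z * y) =
        (az χ : ℂ) * V (xD ^ H) (d.z * y) := by
    intro χ y hy
    have h1 := hcol χ (xD ^ H) (hKle H (by omega) (by omega)) y
      (by rw [hcoe, ← hz]; exact (((hH' y).1 y.2).symm : d.z * (y : G) = y * d.z))
      (by rwa [Subgroup.orderOf_coe])
    rw [hcoe, ← hz, hbz] at h1
    rw [h1, ← hzval]
  set zK : Subgroup.centralizer (Subgroup.zpowers d.z : Set G) := ⟨d.z, (hH' d.z).2 rfl⟩ with hzK
  have hVz : ∀ g : Subgroup.centralizer (Subgroup.zpowers d.z : Set G),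
      V (xD ^ H) (g : G) = (θ : Subgroup.centralizer (Subgroup.zpowers d.z : Set G) → ℂ) g := by
    intro g
    rw [hVK, secVal]
    have hsum := sum_mul_irr θ (a := blockCoeff bz) (fun u v => isClassFunction_blockCoeff bz u v) g
    rw [omega_blockCoeff, if_pos hθ, one_mul] at hsum
    rw [← hsum]
    refine Finset.sum_congr rfl fun w _ => ?_
    rw [pairCoeff_pairBelow_sub hpM hmax.1.1 hPK hCP (xD ^ H).2 (hKle H (by omega) (by omega)),
      hcoe, ← hz, hbz]
    congr 1
    exact subgroupBlockCoeff_coe bz w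
  have hcontrib : ∀ χ ψ : IrrCharacter G,
      contrib 2 bz d.z χ ψ = (az χ : ℂ) * (az ψ : ℂ) := by
    intro χ ψ
    have key : ∀ (χ : IrrCharacter G) (y : Subgroup.centralizer (Subgroup.zpowers d.z : Set G)), ¬ 2 ∣ orderOf y →
        secVal ⟨Subgroup.zpowers d.z, bz⟩ (χ : G → ℂ) (d.z * y) = (az χ : ℂ) *
          (θ : Subgroup.centralizer (Subgroup.zpowers d.z : Set G) → ℂ) (zK * y) := fun χ y hy => by
      rw [hcolz χ y hy, ← hVz (zK * y)]
      rfl
    rw [contrib_central_nilpotent hpM hnil hmaxK hθ hθ0 χ ψ _ _ (key χ) (key ψ), map_intCast]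
  have hpairz : IsBrauerPairOf 2 M B (Subgroup.zpowers d.z) bz :=
    (isBrauerPairOf_iff_of_below hpM hbzle B).2 hmax.1
  have hmaj := blockDefect_eq_of_central hpM hmax hzC hbzle
  have hheight : ∀ χ ∈ B, (blockHeight 2 B (χ : G → ℂ) = 0 ↔ Odd (az χ)) ∧
      ((az χ = 2 ∨ az χ = -2) → blockHeight 2 B (χ : G → ℂ) ≤ 1) := fun χ hχ =>
    height_zero_iff_odd hpM hH' (hord _ d.z_mem) (isInducedBlock_zpowers hpM hpairz) hmaj az
      (fun χ _ ψ _ => hcontrib χ ψ) hχ
  have hazodd : ∀ χ, Odd (az χ) ↔ Odd (a χ H) := fun χ => by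
    simp only [haz, Int.odd_iff]
    omega
  have hsupp : ∀ χ ∈ s, a χ H ≠ 0 ∨ ∃ k : Fin h, a χ ((k : ℕ) + 1) ≠ 0 := by
    intro χ hχ
    obtain ⟨y, hy, hyr, hne⟩ :=
      exists_secVal_ne_zero_of_central hpM hmax d.z_mem hzC hbzle (hmems.1 hχ)
    by_contra hno
    simp only [not_or, not_exists, not_not] at hno
    apply hne
    have hyK := (hH' y).2 hy.eq.symm
    have h0 : az χ = 0 := by
      simp only [haz, hno.1, zero_add]
      rw [Finset.sum_eq_zero fun k hk => ?_, mul_zero]
      rw [hno.2 ⟨k, Finset.mem_range.1 hk⟩, mul_zero]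
    have h1 := hcolz χ ⟨y, hyK⟩ (by rwa [← Subgroup.orderOf_coe])
    rw [h0, Int.cast_zero, zero_mul] at h1
    exact h1
  -- the configuration
  obtain ⟨hwpm, hW4, hconf⟩ := dihedral_config s (fun χ => charDegree (χ : G → ℂ))
    (fun χ _ => Nat.pos_of_ne_zero (irr_charDegree_ne_zero χ)) hodd
    (fun k χ => a χ ((k : ℕ) + 1)) (fun χ => a χ H)
    (fun k => by
      have := k.2
      simp only [sq]
      rw [hgram _ _ (by omega) (by omega) (by omega) (by omega), if_pos rfl, if_neg (by omega)]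
      rfl)
    (by
      simp only [sq]
      rw [hgram _ _ (by omega) (by omega) (by omega) (by omega), if_pos rfl, if_pos (by omega)]
      rfl)
    (fun k k' hkk => by
      have := k.2
      have := k'.2
      have hne : (k : ℕ) ≠ k' := fun h' => hkk (Fin.ext h')
      rw [hgram _ _ (by omega) (by omega) (by omega) (by omega), if_neg (by omega), if_neg (by omega)]
      rfl)
    (fun k => by
      have := k.2
      rw [hgram _ _ (by omega) (by omega) (by omega) (by omega), if_neg (by omega), if_neg (by omega)]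
      rfl)
    (fun k => hdega _) (hdega H) hsupp
  have hcardB : Nat.card B = s.card := by
    rw [hs, ← Fintype.card_subtype, ← Nat.card_eq_fintype_card]
  have hrB : 1 ≤ blockRank 2 B := one_le_blockRank (M := M) hB
  -- the sections on the powers of `x`
  set y : Option (Fin H) → G := fun i => i.elim 1 (fun l => d.x ^ ((l : ℕ) + 1)) with hy
  have hyD : ∀ i, y i ∈ D := fun i => by
    cases i with
    | none => exact one_mem _
    | some l => exact pow_mem d.x_mem _
  have hnoconj : ∀ l m : ℕ, 0 < l → l ≤ H → 0 < m → m ≤ H → ∀ g : G,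
      g * d.x ^ l * g⁻¹ = d.x ^ m → conjPair g ⟨Subgroup.zpowers (d.x ^ l), bl (d.x ^ l)⟩ =
        (⟨Subgroup.zpowers (d.x ^ m), bl (d.x ^ m)⟩ : BrauerPairIdx G) → l = m := by
    intro l m hl hlH hm hmH g hg hgp
    by_contra hlm
    have h1 := sum_secVal_mul_conj hpM (exists_pow_eq_one_of_mem hDp (pow_mem d.x_mem l))
      (exists_pow_eq_one_of_mem hDp (pow_mem d.x_mem m))
      (hblB _ (pow_mem d.x_mem l)) (hblB _ (pow_mem d.x_mem m))
    rw [Finset.sum_congr rfl (g := fun χ : IrrCharacter G => f χ l * f χ m *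
        (V (xD ^ l) (d.x ^ l) * conj (V (xD ^ m) (d.x ^ m)))) fun χ _ => by
      rw [hsec χ l hl (by omega), hsec χ m hm (by omega), map_mul, hfreal]; ring,
      ← Finset.sum_mul, ← hs] at h1
    rw [hgramC l m hl (by omega) hm (by omega), if_neg (fun h' => hlm h'.symm), if_neg (by omega),
      add_zero, zero_mul] at h1
    refine mul_ne_zero (Nat.cast_ne_zero.2 (Finset.card_ne_zero.2 ⟨g, ?_⟩)) ?_ h1.symm
    · exact Finset.mem_filter.2 ⟨Finset.mem_univ _, hg, hgp⟩
    · exact blockCoeff_apply_one_ne_zero (hblB _ (pow_mem d.x_mem l)).1.2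
  have hne : ∀ i j (g : G), g * y i * g⁻¹ = y j → conjPair g ⟨Subgroup.zpowers (y i), bl (y i)⟩ =
      (⟨Subgroup.zpowers (y j), bl (y j)⟩ : BrauerPairIdx G) → i = j := by
    intro i j g hg hgp
    rcases i with _ | l <;> rcases j with _ | m <;> simp only [hy, Option.elim_none,
      Option.elim_some] at hg hgp ⊢
    · rw [mul_one, mul_inv_cancel] at hg
      exact absurd hg.symm (hne1 _ (Nat.succ_pos _) (by omega))
    · exact absurd (conj_eq_one_iff.1 hg) (hne1 _ (Nat.succ_pos _) (by omega))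
    · exact congrArg some (Fin.ext (by
        have := hnoconj _ _ (Nat.succ_pos _) (by omega) (Nat.succ_pos _) (by omega) g hg hgp
        omega))
  have hranks : blockRank 2 B + H ≤ Nat.card B := by
    have h1 := sum_blockRank_le hM hB y (fun i => bl (y i)) (fun i => hord _ (hyD i))
      (fun i => hblB _ (hyD i)) hne
    rw [Fintype.sum_option] at h1
    refine le_trans (add_le_add (le_of_eq (blockRank_pair_one hpM (hblB _ (hyD none))).symm) ?_) h1
    calc H = ∑ _l : Fin H, 1 := by simp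
      _ ≤ _ := Finset.sum_le_sum fun l _ => one_le_blockRank (M := M) (hblB _ (hyD (some l))).1.2
  rcases hconf with ⟨ee, heinj, hee⟩ | ⟨h3, Dd, ρ, hρ, hs5, hDex, hDdvd, htriple⟩
  · set W := s.filter (fun χ => a χ H ≠ 0) with hW
    have hother : ∀ χ ∈ s, a χ H = 0 → ∃ k, χ = ee k := fun χ hχ hw0 => by
      obtain ⟨k, hk⟩ := (hsupp χ hχ).resolve_left fun h' => h' hw0
      exact ⟨k, by_contra fun hne' => hk ((hee k).2.2.2 χ hχ hw0 hne')⟩
    have hscard : s.card = 4 + h := by
      have e1 : s = W ∪ Finset.univ.image ee := by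
        ext χ
        simp only [Finset.mem_union, hW, Finset.mem_filter, Finset.mem_image, Finset.mem_univ,
          true_and]
        constructor
        · intro hχ
          by_cases hw0 : a χ H = 0
          · obtain ⟨k, rfl⟩ := hother χ hχ hw0
            exact Or.inr ⟨k, rfl⟩
          · exact Or.inl ⟨hχ, hw0⟩
        · rintro (⟨hχ, -⟩ | ⟨k, rfl⟩)
          · exact hχ
          · exact (hee k).1
      rw [e1, Finset.card_union_of_disjoint, hW4, Finset.card_image_of_injective _ heinj,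
        Finset.card_univ, Fintype.card_fin]
      rw [Finset.disjoint_left]
      intro χ hχ hχ'
      obtain ⟨k, -, rfl⟩ := Finset.mem_image.1 hχ'
      exact (Finset.mem_filter.1 hχ).2 (hee k).2.1
    have hoddw : ∀ χ ∈ s, Odd (az χ) ↔ a χ H ≠ 0 := fun χ hχ => by
      rw [hazodd]
      rcases hwpm χ hχ with e' | e' | e' <;> simp [e']
    have haze : ∀ k, az (ee k) = 2 ∨ az (ee k) = -2 := by
      intro k
      simp only [haz, (hee k).2.1, zero_add]
      rw [Finset.sum_eq_single (k : ℕ) (fun j hj hjk => ?_)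
        (fun hn' => absurd (Finset.mem_range.2 k.2) hn')]
      · rcases neg_one_pow_eq_or ℤ ((k : ℕ) + 1) with e' | e' <;>
          rcases (hee k).2.2.1 with e'' | e'' <;> rw [e', e''] <;> norm_num
      · rw [(hee ⟨j, Finset.mem_range.1 hj⟩).2.2.2 _ (hee k).1 (hee k).2.1 (fun h' => hjk
          (congrArg Fin.val (heinj h')).symm), mul_zero]
    refine ⟨by omega, hrB, by omega, ?_, fun χ hχ => ?_⟩
    · rw [← hW4, Nat.card_eq_fintype_card, Fintype.card_subtype]
      congr 1
      ext χ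
      simp only [Finset.mem_filter, Finset.mem_univ, true_and, hW, hmems]
      exact and_congr_right fun hχ => ((hheight χ hχ).1).trans (hoddw χ (hmems.2 hχ))
    · by_cases hw0 : a χ H = 0
      · obtain ⟨k, rfl⟩ := hother χ (hmems.2 hχ) hw0
        exact (hheight _ hχ).2 (haze k)
      · rw [(hheight χ hχ).1.2 ((hoddw χ (hmems.2 hχ)).2 hw0)]
        exact Nat.zero_le _
  -- the exceptional configuration does not occur
  exfalso
  have hH4 : H = 4 := by omega
  have hn4 : n = 4 := by
    have h4 : 2 ^ (n - 2) = 2 ^ 2 := by rw [← hH0, hH4]; norm_num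
    have := Nat.pow_right_injective le_rfl h4
    omega
  have hN8 : N = 8 := by omega
  have honly : ∀ b', IsBrauerPairOf 2 M B (Subgroup.zpowers d.z) b' → b' = bz := by
    intro b' hb'
    by_contra hbb
    have h1 := sum_blockRank_le hM hB (ι := Option (Option (Fin H)))
      (fun i => i.elim d.z y)
      (fun i => match i with
        | none => b'
        | some i => bl (y i))
      (fun i => by
        cases i with
        | none => exact hord _ d.z_mem
        | some i => exact hord _ (hyD i))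
      (fun i => by
        cases i with
        | none => exact hb'
        | some i => exact hblB _ (hyD i))
      (fun i j g hg hgp => by
        have hcentral : ∀ {g : G}, g * d.z * g⁻¹ = d.z →
            conjPair g (⟨Subgroup.zpowers d.z, b'⟩ : BrauerPairIdx G) =
              ⟨Subgroup.zpowers d.z, b'⟩ := fun {g} hg =>
          centralizer_le_stabPair hb'.1.2 ((hH' g).2 (mul_inv_eq_iff_eq_mul.1 hg))
        have hblz : ∀ {u : G}, u = d.z → (⟨Subgroup.zpowers u, bl u⟩ : BrauerPairIdx G) =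
            ⟨Subgroup.zpowers d.z, bz⟩ := fun {u} hu => by rw [← hbl, hu, hbz]
        have hyz : ∀ i (g : G), g * y i * g⁻¹ = d.z → y i = d.z := by
          intro i g hg
          have ho : orderOf (y i) = 2 := by
            rw [← d.orderOf_z, ← hg]
            exact ((MulAut.conj g).orderOf_eq (y i)).symm
          cases i with
          | none => simp [hy] at ho
          | some l =>
            exact dp_invol_eq_z d (pow_mem (Subgroup.mem_zpowers _) _) (invol_mul_self ho)
              (invol_ne_one ho)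
        rcases i with _ | i <;> rcases j with _ | j
        · rfl
        · simp only [Option.elim_none, Option.elim_some] at hg hgp
          exfalso
          have hj := hyz j g⁻¹ (by rw [← hg]; group)
          rw [hj] at hg
          rw [hcentral hg, hblz hj] at hgp
          exact hbb (eq_of_heq (Sigma.mk.inj_iff.1 hgp).2)
        · simp only [Option.elim_none, Option.elim_some] at hg hgp
          exfalso
          have hi := hyz i g hg
          rw [hi] at hg
          have hg' : g⁻¹ * d.z * g⁻¹⁻¹ = d.z := by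
            conv_lhs => rw [← hg]
            group
          have h2 := congrArg (conjPair g⁻¹) hgp
          rw [conjPair_mul, inv_mul_cancel, conjPair_one, hblz hi, hcentral hg'] at h2
          exact hbb (eq_of_heq (Sigma.mk.inj_iff.1 h2).2).symm
        · exact congrArg some (hne i j g hg hgp))
    rw [Fintype.sum_option, Fintype.sum_option] at h1
    have a1 := one_le_blockRank (M := M) (p := 2) hb'.1.2
    have a2 : blockRank 2 (bl (y none)) = blockRank 2 B := blockRank_pair_one hpM (hblB _ (hyD none))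
    have a3 : H ≤ ∑ l : Fin H, blockRank 2 (bl (y (some l))) :=
      calc H = ∑ _l : Fin H, 1 := by simp
        _ ≤ _ := Finset.sum_le_sum fun l _ => one_le_blockRank (M := M) (hblB _ (hyD (some l))).1.2
    have h5 := le_trans (add_le_add a1 (add_le_add a2.ge a3)) h1
    omega
  set Vz : ℂ := (θ : Subgroup.centralizer (Subgroup.zpowers d.z : Set G) → ℂ) zK with hVzdef
  have hzK2 : zK * zK = 1 := Subtype.ext (invol_mul_self d.orderOf_z)
  have hω := centralScalar_pow_eq_one θ (mem_center_of_self hH') (z := zK) (N := 2)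
    (by rw [sq, hzK2])
  have hVzeq : Vz = centralScalar (θ : Subgroup.centralizer (Subgroup.zpowers d.z : Set G) → ℂ) zK *
      (charDegree (θ : Subgroup.centralizer (Subgroup.zpowers d.z : Set G) → ℂ) : ℂ) := by
    rw [hVzdef, ← irr_apply_one, centralScalar, div_mul_cancel₀ _ (irr_degree_ne_zero θ.2)]
  have hVzr : conj Vz = Vz ∧ Vz * Vz =
      (charDegree (θ : Subgroup.centralizer (Subgroup.zpowers d.z : Set G) → ℂ) : ℂ) ^ 2 := by
    rw [hVzeq]
    rcases sq_eq_one_iff.1 hω with e' | e' <;> rw [e'] <;> simp [sq]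
  have hval : ∀ χ ∈ B, (χ : G → ℂ) d.z = (az χ : ℂ) * Vz := by
    intro χ hχ
    rw [← sum_secVal (M := M) (χ : G → ℂ) d.z d.z, Finset.sum_eq_single
      (⟨Subgroup.zpowers d.z, bz⟩ : BrauerPairIdx G)]
    · have h1 := hcolz χ 1 (by simp)
      rw [Subgroup.coe_one, mul_one] at h1
      rw [h1, hVzdef, ← hVz]
    · intro q hq hqne
      have h1 := secVal_eq_zero hpM hB hχ (Commute.one_right d.z)
        (exists_pow_eq_one_of_mem hDp d.z_mem) h1reg hq fun hB' => hqne ?_
      · rwa [mul_one] at h1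
      · obtain ⟨Q, b'⟩ := q
        obtain rfl : Q = Subgroup.zpowers d.z := (mem_pairsAt.1 hq).1
        rw [honly b' hB']
    · exact fun hn' => absurd (mem_pairsAt.2 ⟨rfl, hpairz.1.2⟩) hn'
  obtain ⟨bx, hbx⟩ := exists_pairBelow_eq (M := M) (p := 2) (⟨D, e⟩ : BrauerPairIdx G) d.x
  have hbxle : Below 2 M ⟨Subgroup.zpowers d.x, bx⟩ ⟨D, e⟩ :=
    hbx ▸ pairBelow_below (c := ⟨D, e⟩) hpM hmax.1.1 d.x_mem
  have hbxB : IsBrauerPairOf 2 M B (Subgroup.zpowers d.x) bx := (isBrauerPairOf_iff_of_below hpM hbxle B).2 hmax.1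
  have hKx : Subgroup.centralizer (Subgroup.zpowers ((xD : D) : G) : Set G) ≤
      Subgroup.centralizer (Subgroup.zpowers d.z : Set G) := by
    have h1 := hKle 1 one_pos (by omega)
    rwa [pow_one] at h1
  set Vx : ℂ := V xD d.x with hVxdef
  have hsecx : ∀ χ ∈ B,
      secVal ⟨Subgroup.zpowers d.x, bx⟩ (χ : G → ℂ) d.x = f χ 1 * Vx := fun χ _ => by
    have h1 := hcol χ xD hKx 1 (Commute.one_right _) h1reg
    rw [mul_one, show ((xD : D) : G) = d.x from rfl, hbx] at h1
    rw [h1, hVxdef, hf]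
    simp only [pow_one]
  have hxzp : Subgroup.centralizer ({xD} : Set D) = Subgroup.zpowers xD := by
    refine le_antisymm (fun g hg => ?_) (Subgroup.zpowers_le.2
      (Subgroup.mem_centralizer_singleton_iff.2 rfl))
    rcases d.cover g g.2 with ⟨j, hj⟩ | ⟨j, hj⟩
    · exact ⟨j, Subtype.ext (by rw [hj]; simp [hxD])⟩
    · exfalso
      have h1 := congrArg Subtype.val (Subgroup.mem_centralizer_singleton_iff.1 hg)
      have h2 : Commute (d.x ^ (1 : ℤ)) (d.r j) := by
        rw [zpow_one]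
        simp only [hxD, Subgroup.coe_mul, hj] at h1
        exact h1.symm
      have h5 := Int.le_of_dvd one_pos (d.commute_zpow_r h2)
      have h6 : d.half = (H : ℤ) := by simp [DP.half, hH]
      omega
  set Sx : ℕ := ∑ η ∈ Finset.univ.filter (· ∈ bx),
    charDegree (η : Subgroup.centralizer (Subgroup.zpowers d.x : Set G) → ℂ) ^ 2 with hSxdef
  have hSx : 8 * (Vx * conj Vx) = (Sx : ℂ) := by
    have h1 := (hnorm xD hKx).2
    rw [hxzp, Nat.card_zpowers, hxD, Subgroup.orderOf_mk, d.orderOf_x, ← hN, hN8, ← hxD,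
      show ((xD : D) : G) = d.x from rfl, hbx] at h1
    rw [hVxdef]
    rw [Nat.cast_ofNat] at h1
    rw [h1, show pairCoeff (⟨Subgroup.zpowers d.x, bx⟩ : BrauerPairIdx G) 1 = blockCoeff bx 1 from
      subgroupBlockCoeff_coe bx 1, blockCoeff,
      finsum_mem_eq_sum_of_inter_support_eq (t := Finset.univ.filter (· ∈ bx)) _ (by ext; simp),
      ← mul_assoc, mul_inv_cancel₀ (Chars.card_ne_zero _), one_mul, hSxdef, Nat.cast_sum]
    refine Finset.sum_congr rfl fun η _ => ?_
    rw [irr_apply_one, map_natCast, Nat.cast_pow, sq]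
  have hF := isBlockFusionSystemOn_blockFusion hpM hmax
  have hDx : D ⊓ Subgroup.centralizer (Subgroup.zpowers d.x : Set G) = Subgroup.zpowers d.x := by
    refine le_antisymm (fun g hg => ?_) (le_inf (Subgroup.zpowers_le.2 d.x_mem)
      (Subgroup.zpowers_le.2 ((mem_centralizer_zpowers_iff d.x d.x).2 rfl)))
    have hgc : (⟨g, hg.1⟩ : D) ∈ Subgroup.centralizer ({xD} : Set D) :=
      Subgroup.mem_centralizer_singleton_iff.2
        (Subtype.ext ((mem_centralizer_zpowers_iff d.x g).1 hg.2))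
    rw [hxzp] at hgc
    obtain ⟨i, hi⟩ := hgc
    exact ⟨i, by simpa [hxD] using congrArg Subtype.val hi⟩
  have hx8 : orderOf d.x = 8 := by rw [d.orderOf_x, ← hN, hN8]
  have hdx : blockDefect 2 bx = 3 := by
    have hfc : (blockFusion (b := ⟨D, e⟩) hpM hmax.1.1).IsFullyCentralized
        (Subgroup.zpowers d.x) := by
      refine ⟨Subgroup.zpowers_le.2 d.x_mem, fun Q' hQ' => ?_⟩
      obtain ⟨g, ⟨f', -, hgf⟩, rfl⟩ := (isConj_block_iff hF).1 hQ'
      have hgx : g * d.x * g⁻¹ ∈ Subgroup.zpowers d.x := by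
        refine dp_mem_zpowers_of_sq_ne_one d (below_le hgf ⟨_, Subgroup.mem_zpowers _, rfl⟩)
          fun h1 => ?_
        rw [show g * d.x * g⁻¹ * (g * d.x * g⁻¹) = g * (d.x * d.x) * g⁻¹ by group,
          conj_eq_one_iff, ← pow_two] at h1
        exact hne1 2 two_pos (by omega) h1
      have heq : (Subgroup.zpowers d.x).map (MulAut.conj g).toMonoidHom = Subgroup.zpowers d.x := by
        refine Subgroup.eq_of_le_of_card_ge ?_ (le_of_eq ?_)
        · rw [MonoidHom.map_zpowers]
          exact Subgroup.zpowers_le.2 hgx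
        · exact (Base.card_map_conj g (Subgroup.zpowers d.x)).symm
      rw [heq]
    have h1 := (isFullyCentralized_iff hpM hF hbxle).1 hfc
    rw [hDx, Nat.card_zpowers, hx8, show (8 : ℕ) = 2 ^ 3 by norm_num] at h1
    exact (Nat.pow_right_injective le_rfl h1).symm
  have hbzmin : blockMin 2 bz + 4 = (Nat.card
      (Subgroup.centralizer (Subgroup.zpowers d.z : Set G))).factorization 2 := by
    rw [← hn4, ← hdB, ← hmaj, blockMin_add_blockDefect (IsPBlock.nonempty hnil.1)]
  have hθv : (charDegree (θ : Subgroup.centralizer (Subgroup.zpowers d.z : Set G) → ℂ)).factorization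
      2 = blockMin 2 bz := (blockHeight_eq_zero_iff hθ).1 hθ0
  set dθ := charDegree (θ : Subgroup.centralizer (Subgroup.zpowers d.z : Set G) → ℂ) with hdθ
  have hdθ0 : dθ ≠ 0 := irr_charDegree_ne_zero θ
  refine no_exceptional_triple (M := M) (by exact_mod_cast hpM) hB (hdB.trans hn4)
    (invol_mul_self d.orderOf_z) hx8 hbxB hdx (fun χ => (az χ : ℂ)) (fun χ => f χ 1) Vz Vx hVzr.1
    (16 * dθ ^ 2) Sx hval hsecx ?_ hSx ?_ ?_ (by simp [hdθ0]) ?_ Dd ρ hρ ?_ ?_ ?_
  · rw [hVzr.1, hVzr.2, hdθ]; push_cast; ring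
  · rw [← centralizer_zpowers_eq, Nat.factorization_mul (by norm_num) (pow_ne_zero _ hdθ0),
      Finsupp.add_apply, Nat.factorization_pow, Finsupp.smul_apply, smul_eq_mul, hθv,
      show (16 : ℕ) = 2 ^ 4 by norm_num, Nat.Prime.factorization_pow Nat.prime_two,
      Finsupp.single_eq_same, ← hbzmin]
    omega
  · have h1 := sum_degree_sq_factorization (p := 2) hpM hbxB.1.2
    rw [finsum_mem_eq_sum_of_inter_support_eq (t := Finset.univ.filter (· ∈ bx)) _
      (by ext; simp), ← hSxdef] at h1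
    have h2 := blockMin_add_blockDefect (p := 2) (IsPBlock.nonempty hbxB.1.2)
    rw [hdx] at h2
    omega
  · intro h0
    obtain ⟨η, hη⟩ := IsPBlock.nonempty hbxB.1.2
    rw [hSxdef, Finset.sum_eq_zero_iff] at h0
    exact pow_ne_zero 2 (irr_charDegree_ne_zero η)
      (h0 η (Finset.mem_filter.2 ⟨Finset.mem_univ _, hη⟩))
  · obtain ⟨u, hu, hue⟩ := hDex
    exact ⟨u, hmems.1 hu, hue⟩
  · exact fun χ hχ => hDdvd χ (hmems.2 hχ)
  · have hζ4 : ζ ^ 4 = -1 := by
      have hp := hζ.pow (show 0 < N by omega) (show N = 4 * 2 by omega)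
      exact hp.eq_neg_one_of_two_right
    rw [← htriple (ζ + ζ ^ 7)]
    refine Finset.sum_congr rfl fun χ _ => ?_
    have e1 : az χ = a χ H - 2 * a χ 1 + 2 * a χ 2 - 2 * a χ 3 := by
      simp only [haz, h3]
      norm_num [Finset.sum_range_succ]
      ring
    have e2 : f χ 1 = -(a χ H : ℂ) + (ζ + ζ ^ 7) * ((a χ 1 : ℂ) - (a χ 3 : ℂ)) := by
      rw [haval χ 1 one_pos (by omega), hN8, hH4]
      have s5 : a χ 5 = a χ 3 := by have := hsym χ 3 (by omega); rwa [hN8] at this
      have s6 : a χ 6 = a χ 2 := by have := hsym χ 2 (by omega); rwa [hN8] at this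
      have s7 : a χ 7 = a χ 1 := by have := hsym χ 1 (by omega); rwa [hN8] at this
      simp only [Finset.sum_range_succ, Finset.sum_range_zero, zero_add, Nat.cast_one, mul_one,
        zpow_natCast, ha0, s5, s6, s7, Int.cast_zero, zero_mul]
      linear_combination ((a χ 2 : ℂ) * ζ ^ 2 + (a χ 4 : ℂ) + (a χ 3 : ℂ) * (ζ + ζ ^ 3)) * hζ4
    rw [e1, e2]

end CfsgLib.Blocks
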