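import Cfsg.Agent.Lib.Involutions.DihedralClasses
import Cfsg.Agent.Lib.OddOrder.CyclicSubgroups
import Cfsg.Agent.Lib.Transfer.Alperin
import Cfsg.Agent.Lib.Transfer.QuaternionComplement

/-!
# Centralizers of `2`-elements with dihedral Sylow `2`-subgroups
-/

set_option autoImplicit false
set_option linter.style.haveILetI false
set_option linter.unusedSectionVars false

namespace CfsgLib.Blocks

open Cfsg Subgroup Involutions

universe u

variable {G : Type u} [Group G] [Finite G]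

theorem commute_klein_of_fix {T : Subgroup G} (hT : IsKleinFour T) {y : G} (hodd : Odd (orderOf y))
    (hy : ∀ a ∈ T, y * a * y⁻¹ ∈ T) {t : G} (ht : t ∈ T) (ht1 : t ≠ 1) (hc : Commute y t) :
    ∀ a ∈ T, Commute y a := by
  intro a ha
  by_cases hav : a = t
  · rw [hav]; exact hc
  by_cases ha1 : a = 1
  · rw [ha1]; exact Commute.one_right y
  have ht2 : orderOf t = 2 := invol_iff.2 ⟨klein_sq hT ht, ht1⟩
  refine commute_of_stab (W := zpowers t)
    (IsPGroup.of_card (n := 1) (by rw [Nat.card_zpowers, ht2, pow_one])) hodd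
    (fun w ⟨k, hk⟩ => hk ▸ hc.zpow_right k) ?_
  have hfixt : y * t * y⁻¹ = t := mul_inv_eq_iff_eq_mul.2 hc
  by_cases hba : y * a * y⁻¹ = a
  · rw [hba, mul_inv_cancel]; exact one_mem _
  have hbt : y * a * y⁻¹ ≠ t := fun e => hav (conj_injective (e.trans hfixt.symm))
  have hb1 : y * a * y⁻¹ ≠ 1 := fun e => ha1 (conj_eq_one_iff.1 e)
  rw [klein_eq_mul hT ht ha (hy a ha) ht1 ha1 (Ne.symm hav) hb1 hbt hba, mul_inv_cancel_right]
  exact mem_zpowers _

variable {P : Sylow 2 G} (d : DP (P : Subgroup G))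

include d

theorem exists_generator_or_centric {D : Subgroup G} (hD : D ≤ (P : Subgroup G)) :
    IsCyclic D ∨ CentricIn D (P : Subgroup G) := by
  by_cases hC : D ≤ zpowers d.x
  · exact Or.inl (isCyclic_of_le hC)
  obtain ⟨g, hg, hgC⟩ := SetLike.not_le_iff_exists.1 hC
  obtain ⟨i, rfl⟩ : ∃ i, g = d.r i := by
    rcases d.cover g (hD hg) with ⟨j, rfl⟩ | h
    · exact absurd (zpow_mem (mem_zpowers _) j) hgC
    · exact h
  by_cases hz : d.z ∈ D
  · refine Or.inr ⟨hD, fun s hs hsc => ?_⟩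
    have hmem := d.mem_TG_of_commute hs (mem_centralizer_iff.1 hsc _ hg).symm
    rcases d.mem_TG.1 hmem with h | h | h | h <;> rw [h]
    · exact one_mem _
    · exact hz
    · exact hg
    · exact mul_mem hz hg
  left
  have hCtriv : ∀ a ∈ D, a ∈ zpowers d.x → a = 1 := by
    intro a ha haC
    by_contra ha1
    obtain ⟨k, hk⟩ := P.2 ⟨a, hD ha⟩
    have hex : ∃ k, a ^ 2 ^ k = 1 := ⟨k, congrArg Subtype.val hk⟩
    classical
    set m := Nat.find hex with hm
    have hm0 : m ≠ 0 := fun e => ha1 (by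
      have := Nat.find_spec hex
      rwa [← hm, e, pow_zero, pow_one] at this)
    set w := a ^ 2 ^ (m - 1) with hw
    have hw1 : w ≠ 1 := Nat.find_min hex (show m - 1 < m by omega)
    have hww : w * w = 1 := by
      rw [hw, ← pow_add, ← two_mul, ← pow_succ', show m - 1 + 1 = m by omega]
      exact Nat.find_spec hex
    obtain ⟨j, hj⟩ : w ∈ zpowers d.x := pow_mem haC _
    simp only at hj
    rw [← hj, ← zpow_add, ← two_mul, d.zpow_eq_one] at hww
    rcases d.zpow_of_half_dvd ((Int.mul_dvd_mul_iff_left two_ne_zero).1 hww) with h | h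
    · exact hw1 (hj ▸ h)
    · exact hz (by rw [← h, hj]; exact pow_mem ha _)
  suffices h : D ≤ zpowers (d.r i) from isCyclic_of_le h
  intro a ha
  rcases d.cover a (hD ha) with ⟨j, rfl⟩ | ⟨j, hj⟩
  · rw [hCtriv _ ha (zpow_mem (mem_zpowers _) j)]; exact one_mem _
  · have e : a = d.r j := hj
    have h1 := hCtriv _ (mul_mem ha hg) (by
      rw [e, d.r_mul_r]; exact zpow_mem (mem_zpowers _) _)
    rw [eq_inv_of_mul_eq_one_left h1]
    exact inv_mem (mem_zpowers _)

/-- With dihedral Sylow subgroups every centralizer of a nontrivial `2`-element has a normal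
`2`-complement. -/
theorem hasNormalPComplement_centralizer {t : G} (ht : ∃ k, orderOf t = 2 ^ k) (ht1 : t ≠ 1) :
    HasNormalPComplement 2 (centralizer ({t} : Set G)) := by
  haveI : Fact (Nat.Prime 2) := ⟨Nat.prime_two⟩
  set C := centralizer ({t} : Set G) with hC
  obtain ⟨T⟩ : Nonempty (Sylow 2 C) := inferInstance
  have htT : (⟨t, mem_centralizer_singleton_iff.2 rfl⟩ : C) ∈ (T : Subgroup C) := by
    obtain ⟨k, hk⟩ := ht
    haveI : (zpowers (⟨t, mem_centralizer_singleton_iff.2 rfl⟩ : C)).Normal := by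
      refine ⟨fun a ha g => ?_⟩
      obtain ⟨i, rfl⟩ := ha
      have hcg : g * ⟨t, mem_centralizer_singleton_iff.2 rfl⟩ =
          (⟨t, mem_centralizer_singleton_iff.2 rfl⟩ : C) * g :=
        Subtype.ext (mem_centralizer_singleton_iff.1 g.2)
      simp only
      rw [← conj_zpow, hcg, mul_inv_cancel_right]
      exact zpow_mem (mem_zpowers _) _
    exact (IsPGroup.of_card (p := 2) (n := k) (G := zpowers (⟨t, mem_centralizer_singleton_iff.2 rfl⟩ : C))
      (by rw [Nat.card_zpowers, Subgroup.orderOf_mk, hk])).le_sylow_of_normal T (mem_zpowers _)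
  obtain ⟨R, hR⟩ := (T.2.map C.subtype).exists_le_sylow
  obtain ⟨c, hc⟩ := MulAction.exists_smul_eq G R P
  set f := (MulAut.conj c).toMonoidHom.comp C.subtype with hf
  have hfinj : Function.Injective f := (MulAut.conj c).injective.comp C.subtype_injective
  have hfP : ∀ a ∈ (T : Subgroup C), f a ∈ (P : Subgroup G) := fun a ha => by
    rw [← hc, Sylow.coe_subgroup_smul]
    exact ⟨_, hR ⟨a, ha, rfl⟩, rfl⟩
  rw [Transfer.hasNormalPComplement_iff_forall_centralizing T]
  intro Q hQ g hg hcop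
  set t0 : C := ⟨t, mem_centralizer_singleton_iff.2 rfl⟩ with ht0
  have hgt : g * t0 * g⁻¹ = t0 := by
    rw [mul_inv_eq_iff_eq_mul]
    exact Subtype.ext (mem_centralizer_singleton_iff.1 g.2)
  set D := (Q ⊔ zpowers t0).map f with hD
  have hDP : D ≤ (P : Subgroup G) := by
    rw [hD, Subgroup.map_le_iff_le_comap]
    exact sup_le (fun a ha => hfP a (hQ ha)) (zpowers_le.2 (hfP _ htT))
  have hgD : f g ∈ normalizer (D : Set G) := by
    rw [hD]
    refine Subgroup.le_normalizer_map f ⟨g, ?_, rfl⟩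
    rw [SetLike.mem_coe, mem_normalizer_iff_map_conj_eq, Subgroup.map_sup, MonoidHom.map_zpowers]
    rw [mem_normalizer_iff_map_conj_eq] at hg
    rw [hg]
    congr 2
  have hconj : ∀ a ∈ D, f g * a * (f g)⁻¹ ∈ D := fun a ha => (mem_normalizer_iff.1 hgD a).1 ha
  have hodd : Odd (orderOf (f g)) := by
    rw [orderOf_injective f hfinj]
    exact Nat.coprime_two_right.1 hcop
  have hDp : IsPGroup 2 D := P.2.to_le hDP
  have hall : ∀ a ∈ D, Commute (f g) a := by
    rcases exists_generator_or_centric d hDP with h | h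
    · exact commute_of_cyclic hDp hodd hconj
    rcases d.centric_cases h P.2 hgD hodd with h' | ⟨i, hi⟩
    · exact h'
    rw [hi] at hconj ⊢
    refine commute_klein_of_fix (d.isKleinFour_TG i) hodd hconj (t := f t0)
      (hi ▸ ⟨t0, mem_sup_right (mem_zpowers _), rfl⟩)
      (fun e => ht1 (congrArg Subtype.val (hfinj (e.trans (map_one f).symm)) :)) ?_
    show f g * f t0 = f t0 * f g
    rw [← map_mul, ← map_mul, mul_inv_eq_iff_eq_mul.1 hgt]
  rw [mem_centralizer_iff]
  intro a ha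
  refine hfinj ?_
  rw [map_mul, map_mul]
  exact (hall _ ⟨a, mem_sup_left ha, rfl⟩).eq.symm

/-- The two-part of the order of a centralizer is the order of its Sylow subgroup. -/
theorem exists_conj_sylow_centralizer (t : G) (ht : ∃ k, orderOf t = 2 ^ k) :
    ∃ (c : G) (D : Subgroup G), D ≤ (P : Subgroup G) ∧ c * t * c⁻¹ ∈ (P : Subgroup G) ∧
      D ≤ centralizer ({c * t * c⁻¹} : Set G) ∧ c * t * c⁻¹ ∈ D ∧
      Nat.card D = 2 ^ (Nat.card (centralizer ({t} : Set G))).factorization 2 := by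
  haveI : Fact (Nat.Prime 2) := ⟨Nat.prime_two⟩
  set C := centralizer ({t} : Set G) with hC
  obtain ⟨k, hk⟩ := ht
  set t0 : C := ⟨t, mem_centralizer_singleton_iff.2 rfl⟩ with ht0
  haveI : (zpowers t0).Normal := by
    refine ⟨fun a ha g => ?_⟩
    obtain ⟨i, rfl⟩ := ha
    have hcg : g * t0 = t0 * g := Subtype.ext (mem_centralizer_singleton_iff.1 g.2)
    simp only
    rw [← conj_zpow, hcg, mul_inv_cancel_right]
    exact zpow_mem (mem_zpowers _) _
  obtain ⟨T⟩ : Nonempty (Sylow 2 C) := inferInstance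
  have htT : t0 ∈ (T : Subgroup C) := (IsPGroup.of_card (p := 2) (n := k) (G := zpowers t0)
    (by rw [Nat.card_zpowers, Subgroup.orderOf_mk, hk])).le_sylow_of_normal T (mem_zpowers _)
  obtain ⟨R, hR⟩ := (T.2.map C.subtype).exists_le_sylow
  obtain ⟨c, hc⟩ := MulAction.exists_smul_eq G R P
  set f := (MulAut.conj c).toMonoidHom.comp C.subtype with hf
  have hfinj : Function.Injective f := (MulAut.conj c).injective.comp C.subtype_injective
  have hfP : (T : Subgroup C).map f ≤ (P : Subgroup G) := by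
    rintro _ ⟨a, ha, rfl⟩
    rw [← hc, Sylow.coe_subgroup_smul]
    exact ⟨_, hR ⟨a, ha, rfl⟩, rfl⟩
  refine ⟨c, (T : Subgroup C).map f, hfP, hfP ⟨t0, htT, rfl⟩, ?_, ⟨t0, htT, rfl⟩, ?_⟩
  · rintro _ ⟨a, -, rfl⟩
    rw [mem_centralizer_singleton_iff]
    show f a * f t0 = f t0 * f a
    rw [← map_mul, ← map_mul, show a * t0 = t0 * a from
      Subtype.ext (mem_centralizer_singleton_iff.1 a.2)]
  · rw [Subgroup.card_map_of_injective hfinj, T.card_eq_multiplicity]

theorem two_le_n_of_card (h : 4 < Nat.card P) : 2 ≤ d.n := by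
  have := d.card_eq
  rcases Nat.lt_or_ge d.n 2 with h2 | h2
  · interval_cases d.n <;> simp_all
  · exact h2

theorem dvd_card_centralizer {D : Subgroup G} (hD : D ≤ (P : Subgroup G)) {t : G}
    (hDt : ∀ a ∈ D, a * t = t * a) :
    Nat.card D ∣ 2 ^ (Nat.card (centralizer ({t} : Set G))).factorization 2 := by
  haveI : Fact (Nat.Prime 2) := ⟨Nat.prime_two⟩
  obtain ⟨k, hk⟩ := IsPGroup.iff_card.1 (P.2.to_le hD)
  rw [hk]
  refine pow_dvd_pow 2 ((Nat.prime_two.pow_dvd_iff_le_factorization Nat.card_pos.ne').1 ?_)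
  rw [← hk]
  exact Subgroup.card_dvd_of_le fun a ha => mem_centralizer_singleton_iff.2 (hDt a ha)

theorem sylow_card_centralizer_z :
    2 ^ (Nat.card (centralizer ({d.z} : Set G))).factorization 2 = 2 * 2 ^ d.n := by
  haveI : Fact (Nat.Prime 2) := ⟨Nat.prime_two⟩
  refine Nat.dvd_antisymm ?_ ?_
  · obtain ⟨c, D, hD, -, -, -, hcard⟩ :=
      exists_conj_sylow_centralizer d d.z ⟨1, by rw [d.orderOf_z, pow_one]⟩
    rw [← hcard, ← d.card_eq]
    exact Subgroup.card_dvd_of_le hD
  · rw [← d.card_eq]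
    exact dvd_card_centralizer d le_rfl fun a ha => (d.commute_z ha).eq.symm

theorem sylow_card_centralizer_zpow {l : ℤ} (hl : ¬ d.half ∣ l) :
    2 ^ (Nat.card (centralizer ({d.x ^ l} : Set G))).factorization 2 = 2 ^ d.n := by
  haveI : Fact (Nat.Prime 2) := ⟨Nat.prime_two⟩
  have hxp : ∃ k, orderOf (d.x ^ l) = 2 ^ k := by
    obtain ⟨k, hk⟩ := P.2 ⟨d.x ^ l, zpow_mem d.x_mem l⟩
    obtain ⟨i, -, hi⟩ := (Nat.dvd_prime_pow Nat.prime_two).1
      (orderOf_dvd_of_pow_eq_one (congrArg Subtype.val hk : (d.x ^ l) ^ 2 ^ k = 1))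
    exact ⟨i, hi⟩
  refine Nat.dvd_antisymm ?_ ?_
  · obtain ⟨c, D, hD, hmem, hDC, -, hcard⟩ := exists_conj_sylow_centralizer d _ hxp
    rw [← hcard, ← d.orderOf_x, ← Nat.card_zpowers]
    refine Subgroup.card_dvd_of_le fun a ha => ?_
    set w := c * d.x ^ l * c⁻¹ with hw
    have hww : w * w ≠ 1 := fun h => hl (by
      rw [hw, show c * d.x ^ l * c⁻¹ * (c * d.x ^ l * c⁻¹) = c * (d.x ^ l * d.x ^ l) * c⁻¹ by group,
        conj_eq_one_iff, ← zpow_add, ← two_mul, d.zpow_eq_one] at h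
      exact (Int.mul_dvd_mul_iff_left two_ne_zero).1 h)
    obtain ⟨m, hm⟩ : ∃ m : ℤ, w = d.x ^ m := by
      rcases d.cover w hmem with h | ⟨m, hm⟩
      · exact h
      · exact absurd (by rw [hm]; exact invol_mul_self (d.orderOf_r m)) hww
    rcases d.cover a (hD ha) with ⟨j, rfl⟩ | ⟨j, hj⟩
    · exact zpow_mem (mem_zpowers _) j
    · exfalso
      have hcm : Commute (d.x ^ m) (d.r j) := by
        have := mem_centralizer_singleton_iff.1 (hDC ha)
        rw [hm, show a = d.r j from hj] at this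
        exact this.symm
      apply hww
      rw [hm, ← zpow_add, ← two_mul, d.zpow_eq_one]
      exact mul_dvd_mul_left 2 (d.commute_zpow_r hcm)
  · rw [← d.orderOf_x, ← Nat.card_zpowers]
    exact dvd_card_centralizer d (zpowers_le.2 d.x_mem) fun a ⟨i, hi⟩ => by
      rw [← hi]; exact ((Commute.refl d.x).zpow_zpow i l).eq

theorem sylow_card_centralizer_r {i : ℤ} (hnc : ¬ IsConj (d.r i) d.z) :
    2 ^ (Nat.card (centralizer ({d.r i} : Set G))).factorization 2 = 4 := by
  haveI : Fact (Nat.Prime 2) := ⟨Nat.prime_two⟩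
  refine Nat.dvd_antisymm ?_ ?_
  · obtain ⟨c, D, hD, hmem, hDC, -, hcard⟩ :=
      exists_conj_sylow_centralizer d (d.r i) ⟨1, by rw [d.orderOf_r, pow_one]⟩
    rw [← hcard]
    have hw : orderOf (c * d.r i * c⁻¹) = 2 := conj_invol c (d.orderOf_r i)
    rcases d.cover _ hmem with ⟨j, hj⟩ | ⟨j, hj⟩
    · exfalso
      apply hnc
      refine isConj_iff.2 ⟨c, ?_⟩
      have h2 := invol_mul_self hw
      rw [hj, ← zpow_add, ← two_mul, d.zpow_eq_one] at h2
      rcases d.zpow_of_half_dvd ((Int.mul_dvd_mul_iff_left two_ne_zero).1 h2) with h | h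
      · exact absurd (hj.trans h) (invol_ne_one hw)
      · exact hj.trans h
    · have e : c * d.r i * c⁻¹ = d.r j := hj
      rw [← (d.isKleinFour_TG j).card_four]
      refine Subgroup.card_dvd_of_le fun a ha => d.mem_TG_of_commute (hD ha) ?_
      have := mem_centralizer_singleton_iff.1 (hDC ha)
      rwa [e] at this
  · rw [← (d.isKleinFour_TG i).card_four]
    refine dvd_card_centralizer d (d.TG_le i) fun a ha => ?_
    exact klein_comm (d.isKleinFour_TG i) ha (d.r_mem_TG i)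

/-- Fusion inside the cyclic subgroup. -/
theorem zpow_isConj_cases (hn : 2 ≤ d.n) {l m : ℤ} (hl : ¬ d.half ∣ l)
    (h : IsConj (d.x ^ l) (d.x ^ m)) : d.x ^ m = d.x ^ l ∨ d.x ^ m = (d.x ^ l)⁻¹ := by
  haveI : Fact (Nat.Prime 2) := ⟨Nat.prime_two⟩
  obtain ⟨g, hg⟩ := isConj_iff.1 h
  set A := zpowers (d.x ^ l) with hA
  set N := normalizer (A : Set G) with hN
  set C := centralizer (A : Set G) with hC
  haveI : IsCyclic (zpowers d.x) := inferInstance
  have hAx : A ≤ zpowers d.x := zpowers_le.2 (zpow_mem (mem_zpowers _) l)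
  have hAeq : zpowers (d.x ^ m) = A := by
    have hcardEq : Nat.card (zpowers (d.x ^ m)) = Nat.card A := by
      rw [hA, Nat.card_zpowers, Nat.card_zpowers, ← hg]
      exact MulEquiv.orderOf_eq (MulAut.conj g) _
    exact OddOrder.eq_of_card_eq_of_isCyclic (C := zpowers d.x)
      (zpowers_le.2 (zpow_mem (mem_zpowers _) m)) hAx hcardEq
  have hgN : g ∈ N := by
    rw [hN, mem_normalizer_iff_map_conj_eq, hA, MonoidHom.map_zpowers]
    show zpowers (g * d.x ^ l * g⁻¹) = _
    rw [hg, hAeq]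
  have hPN : (P : Subgroup G) ≤ N := by
    intro a ha
    rw [hN, mem_normalizer_iff_map_conj_eq, hA, MonoidHom.map_zpowers]
    show zpowers (a * d.x ^ l * a⁻¹) = _
    rcases d.cover a ha with ⟨i, rfl⟩ | ⟨i, hi⟩
    · rw [((Commute.refl d.x).zpow_zpow i l).eq, mul_inv_cancel_right]
    · rw [show a = d.r i from hi, d.r_mul_zpow, d.r_inv, d.r_mul_r,
        show i - l - i = -l by ring, zpow_neg, zpowers_inv]
  have hidx : C.relIndex N = 2 := by
    obtain ⟨k, hk⟩ := P.2.to_le (zpowers_le.2 (zpow_mem d.x_mem l) : A ≤ (P : Subgroup G))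
      |> IsPGroup.iff_card.1
    have hkey : ∃ j, C.relIndex N = 2 ^ j := by
      have h1 : C.relIndex N = Nat.card (normalizerMonoidHom A).range := by
        rw [← Subgroup.index_ker, Subgroup.normalizerMonoidHom_ker]; rfl
      have h2 : Nat.card (MulAut A) ∣ 2 ^ k := by
        rw [IsCyclic.card_mulAut, hk]
        rcases k with _ | k
        · simp
        · rw [Nat.totient_prime_pow_succ Nat.prime_two]
          exact ⟨2, by rw [pow_succ]; simp⟩
      obtain ⟨j, -, hj⟩ := (Nat.dvd_prime_pow Nat.prime_two).1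
        (h1 ▸ (Subgroup.card_subgroup_dvd_card _).trans h2)
      exact ⟨j, hj⟩
    obtain ⟨j, hj⟩ := hkey
    have hv := congrArg (fun n => n.factorization 2)
      (show C.relIndex N * Nat.card C = Nat.card N by
        rw [mul_comm, ← Base.card_subgroupOf (show C ≤ N from centralizer_le_normalizer _)]
        exact Subgroup.card_mul_index _)
    rw [hj, Nat.factorization_mul (pow_ne_zero _ two_ne_zero) Nat.card_pos.ne',
      Finsupp.add_apply, Nat.prime_two.factorization_pow, Finsupp.single_eq_same] at hv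
    have hCeq : C = centralizer ({d.x ^ l} : Set G) := by
      rw [hC, hA, Subgroup.zpowers_eq_closure, centralizer_closure]
    have h3 := sylow_card_centralizer_zpow d hl
    rw [← hCeq] at h3
    have h3' := Nat.pow_right_injective le_rfl h3
    have h4 : (Nat.card N).factorization 2 = d.n + 1 := by
      have hP := P.card_eq_multiplicity
      rw [d.card_eq, ← pow_succ'] at hP
      have hP' := Nat.pow_right_injective le_rfl hP
      refine le_antisymm ?_ ?_
      · rw [hP']
        exact (Nat.factorization_le_iff_dvd Nat.card_pos.ne' Nat.card_pos.ne').2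
          (Subgroup.card_subgroup_dvd_card N) 2
      · refine (Nat.prime_two.pow_dvd_iff_le_factorization Nat.card_pos.ne').1 ?_
        rw [pow_succ', ← d.card_eq]
        exact Subgroup.card_dvd_of_le hPN
    rw [h3', h4] at hv
    rw [hj, show j = 1 by omega, pow_one]
  have hr0 : d.r 0 ∉ C := fun h0 => hl (d.commute_zpow_r
    (i := 0) (mem_centralizer_iff.1 h0 _ (mem_zpowers _)))
  have hfix : ∀ w ∈ C, w * d.x ^ l * w⁻¹ = d.x ^ l := fun w hw => by
    rw [← mem_centralizer_iff.1 hw _ (mem_zpowers _), mul_inv_cancel_right]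
  by_cases hgC : g ∈ C
  · left; rw [← hg, hfix g hgC]
  right
  have hrN : d.r 0 ∈ N := hPN (d.r_mem 0)
  have hmem : (⟨g, hgN⟩ * ⟨d.r 0, hrN⟩ : N) ∈ C.subgroupOf N :=
    (Subgroup.mul_mem_iff_of_index_two hidx).2 ⟨fun h => absurd h hgC, fun h => absurd h hr0⟩
  have h5 := hfix _ hmem
  change g * d.r 0 * d.x ^ l * (g * d.r 0)⁻¹ = d.x ^ l at h5
  have h6 : d.r 0 * d.x ^ l * (d.r 0)⁻¹ = (d.x ^ l)⁻¹ := by
    rw [d.r_inv, d.r_mul_zpow, d.r_mul_r, show (0 : ℤ) - l - 0 = -l by ring, zpow_neg]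
  rw [show g * d.r 0 * d.x ^ l * (g * d.r 0)⁻¹ = g * (d.r 0 * d.x ^ l * (d.r 0)⁻¹) * g⁻¹ by group,
    h6, ← conj_inv, hg] at h5
  rw [← h5, inv_inv]

/-- Every nontrivial `2`-element is conjugate to a power of `x` or to a reflection. -/
theorem exists_conj_cases {t : G} (ht : ∃ k, orderOf t = 2 ^ k) :
    (∃ l : ℤ, IsConj t (d.x ^ l)) ∨ ∃ i : ℤ, IsConj t (d.r i) := by
  obtain ⟨c, D, hD, hmem, -, -, -⟩ := exists_conj_sylow_centralizer d t ht
  rcases d.cover _ hmem with ⟨l, hl⟩ | ⟨i, hi⟩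
  · exact Or.inl ⟨l, isConj_iff.2 ⟨c, hl⟩⟩
  · exact Or.inr ⟨i, isConj_iff.2 ⟨c, hi⟩⟩

end CfsgLib.Blocks
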