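import Cfsg.Agent.Lib.Blocks.LocalColumns
import Cfsg.Agent.Lib.Involutions.DihedralFusion
import Cfsg.Agent.Lib.BlockOrth.MajorSubsection

/-!
# The block below a maximal pair at the central involution of a dihedral defect group
-/

set_option autoImplicit false
set_option linter.unusedSectionVars false
set_option linter.style.haveILetI false

namespace CfsgLib.Blocks

open Cfsg Chars BlockOrth Involutions
open scoped ComplexConjugate

universe u

section Dihedral

variable {G : Type u} [Group G] {P : Subgroup G} (d : DP P)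

theorem dp_invol_eq_z {w : G} (hw : w ∈ Subgroup.zpowers d.x) (h2 : w * w = 1) (h1 : w ≠ 1) :
    w = d.z := by
  obtain ⟨j, rfl⟩ := Subgroup.mem_zpowers_iff.1 hw
  rw [← zpow_add, ← two_mul, d.zpow_eq_one] at h2
  exact (d.zpow_of_half_dvd ((Int.mul_dvd_mul_iff_left two_ne_zero).1 h2)).resolve_left h1

theorem dp_mem_zpowers_of_sq_ne_one {w : G} (hw : w ∈ P) (h : w * w ≠ 1) :
    w ∈ Subgroup.zpowers d.x := by
  rcases d.cover w hw with ⟨j, rfl⟩ | ⟨j, rfl⟩
  · exact zpow_mem (Subgroup.mem_zpowers _) j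
  · exact absurd (invol_mul_self (d.orderOf_r j)) h

variable [Finite G]

theorem dp_z_mem_zpowers {w : G} (hw : w ∈ Subgroup.zpowers d.x) (h1 : w ≠ 1) :
    d.z ∈ Subgroup.zpowers w := by
  obtain ⟨i, -, hi⟩ := (Nat.dvd_prime_pow Nat.prime_two).1
    (show orderOf w ∣ 2 ^ d.n by
      rw [← d.orderOf_x, ← Nat.card_zpowers d.x]
      exact Subgroup.orderOf_dvd_natCard _ hw)
  obtain ⟨j, rfl⟩ : ∃ j, i = j + 1 := ⟨i - 1, by
    have : i ≠ 0 := fun h => h1 (orderOf_eq_one_iff.1 (by rw [hi, h, pow_zero]))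
    omega⟩
  refine ⟨(2 ^ j : ℕ), ?_⟩
  show w ^ ((2 ^ j : ℕ) : ℤ) = d.z
  rw [zpow_natCast]
  refine dp_invol_eq_z d (pow_mem hw _) ?_ fun h => ?_
  · rw [← pow_add, ← mul_two, ← pow_succ, ← hi, pow_orderOf_eq_one]
  · have h2 := Nat.le_of_dvd (by positivity) (orderOf_dvd_of_pow_eq_one h)
    rw [hi, pow_succ] at h2
    have := Nat.two_pow_pos j
    omega

/-- An element of odd order that fixes the central involution centralises what it normalises. -/
theorem dp_commute_of_fix_z (hP : IsPGroup 2 P) {S : Subgroup G} (hS : S ≤ P) {y : G}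
    (hy : Odd (orderOf y)) (hz : Commute y d.z) (hn : ∀ s ∈ S, y * s * y⁻¹ ∈ S) :
    ∀ s ∈ S, Commute y s := by
  set A := S ⊓ Subgroup.zpowers d.x with hA
  have hAn : ∀ a ∈ A, y * a * y⁻¹ ∈ A := fun a ha => by
    refine ⟨hn a ha.1, ?_⟩
    by_cases h2 : a * a = 1
    · by_cases h1 : a = 1
      · rw [h1, mul_one, mul_inv_cancel]; exact one_mem _
      · rw [dp_invol_eq_z d ha.2 h2 h1, hz.eq, mul_inv_cancel_right]
        exact zpow_mem (Subgroup.mem_zpowers _) _
    · refine dp_mem_zpowers_of_sq_ne_one d (hS (hn a ha.1)) fun h => h2 ?_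
      rw [show y * a * y⁻¹ * (y * a * y⁻¹) = y * (a * a) * y⁻¹ by group, conj_eq_one_iff] at h
      exact h
  haveI : IsCyclic A := Subgroup.isCyclic_of_le inf_le_right
  have hfix := commute_of_cyclic (hP.to_le (inf_le_left.trans hS)) hy hAn
  intro s hs
  by_cases hsx : s ∈ Subgroup.zpowers d.x
  · exact hfix s ⟨hs, hsx⟩
  refine commute_of_stab (W := A) (hP.to_le (inf_le_left.trans hS)) hy hfix ⟨?_, ?_⟩
  · exact S.mul_mem (hn s hs) (S.inv_mem hs)
  have hout : y * s * y⁻¹ ∉ Subgroup.zpowers d.x := fun h => hsx (by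
    have h2 := hfix _ ⟨hn s hs, h⟩
    have e : y * s * y⁻¹ = s := by
      have := h2.eq
      calc y * s * y⁻¹ = y⁻¹ * (y * (y * s * y⁻¹)) := by group
        _ = y⁻¹ * (y * s * y⁻¹ * y) := by rw [this]
        _ = s := by group
    exact e ▸ h)
  rcases d.cover _ (hS (hn s hs)) with ⟨i, hi⟩ | ⟨i, hi⟩
  · exact absurd (hi ▸ zpow_mem (Subgroup.mem_zpowers _) i) hout
  rcases d.cover s (hS hs) with ⟨j, hj⟩ | ⟨j, hj⟩
  · exact absurd (hj ▸ zpow_mem (Subgroup.mem_zpowers _) j) hsx
  have e : s⁻¹ = d.r j := by rw [hj]; exact d.r_inv j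
  rw [hi, e]
  show d.r i * d.r j ∈ _
  rw [d.r_mul_r]
  exact zpow_mem (Subgroup.mem_zpowers _) _

end Dihedral

variable {G : Type u} [Group G] [Fintype G] {M : Ideal AlgInt} [M.IsPrime] {p : ℕ} [Fact p.Prime]
  {B : Set (IrrCharacter G)} {P : Subgroup G}
  {c : Set (IrrCharacter (Subgroup.centralizer (P : Set G)))}

theorem exists_pairBelow_eq (b : BrauerPairIdx G) (u : G) :
    ∃ f, pairBelow p M b u = ⟨Subgroup.zpowers u, f⟩ := by
  unfold pairBelow
  split_ifs <;> exact ⟨_, rfl⟩

/-- The block at a central element of the defect group, with the maximal pair inside. -/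
theorem maximal_at_central (hpM : (p : AlgInt) ∈ M) (hmax : IsMaximalBrauerPair p M B P c) {z : G}
    (hz : z ∈ P) {f : Set (IrrCharacter (Subgroup.centralizer (Subgroup.zpowers z : Set G)))}
    [Fintype (Subgroup.centralizer (Subgroup.zpowers z : Set G))]
    (hPK : P ≤ Subgroup.centralizer (Subgroup.zpowers z : Set G))
    (hCP : Subgroup.centralizer (P : Set G) ≤ Subgroup.centralizer (Subgroup.zpowers z : Set G))
    (hle : Below p M ⟨Subgroup.zpowers z, f⟩ ⟨P, c⟩) :
    IsMaximalBrauerPair p M f (P.subgroupOf (Subgroup.centralizer (Subgroup.zpowers z : Set G)))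
      (relBlock hPK hCP c) := by
  refine isMaximal_rel_of_maximal hpM hPK hCP hmax ?_
  exact (isBrauerPairOf_rel_iff hpM hPK hCP hmax.1.1.1 hmax.1.1.2
      (below_isBrauerPair hle hmax.1.1).2).2
    (IsNormalSubpair.mul_cut hpM (isNormalSubpair_of_below (b := ⟨P, c⟩) hpM hmax.1.1 hle
      Relation.ReflTransGen.refl (Subgroup.zpowers_le.2 hz)
      (hPK.trans (centralizer_le_normalizer' _))))

/-- The block of the centralizer of the central involution is nilpotent. -/
theorem isNilpotentBlock_at_z [Fact (Nat.Prime 2)] (hpM : ((2 : ℕ) : AlgInt) ∈ M) (d : DP P)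
    (hP : IsPGroup 2 P) {f : Set (IrrCharacter (Subgroup.centralizer (Subgroup.zpowers d.z : Set G)))}
    [Fintype (Subgroup.centralizer (Subgroup.zpowers d.z : Set G))]
    {P' : Subgroup (Subgroup.centralizer (Subgroup.zpowers d.z : Set G))}
    (hP' : P'.map (Subgroup.centralizer (Subgroup.zpowers d.z : Set G)).subtype ≤ P)
    {e : Set (IrrCharacter (Subgroup.centralizer
      (P' : Set (Subgroup.centralizer (Subgroup.zpowers d.z : Set G)))))}
    (hmaxK : IsMaximalBrauerPair 2 M f P' e) : IsNilpotentBlock 2 M f := by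
  refine ⟨hmaxK.1.2.1, fun R r hR x hxN hst hreg => ?_⟩
  obtain ⟨k, hk⟩ := exists_conj_below (b := ⟨P', e⟩) (a := ⟨R, r⟩) hpM hmaxK hR
  have hxs := (conj_mem_stabPair_iff (⟨R, r⟩ : BrauerPairIdx _) k x).2
    ((mem_stabPair_iff hR.1.2).2 ⟨hxN, hst⟩)
  have hN := Subgroup.mem_normalizer_iff.1 (stabPair_le_normalizer _ hxs)
  refine (centralizer_conj_iff R k x).1 (Subgroup.mem_centralizer_iff.2 fun w hw => Subtype.ext ?_)
  refine ((dp_commute_of_fix_z d hP
    (S := ((conjPair k ⟨R, r⟩).1).map (Subgroup.centralizer (Subgroup.zpowers d.z : Set G)).subtype)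
    ((Subgroup.map_mono (below_le hk)).trans hP') ?_ ?_ ?_ _ ⟨w, hw, rfl⟩).eq).symm
  · show Odd (orderOf ((k * x * k⁻¹ : Subgroup.centralizer (Subgroup.zpowers d.z : Set G)) : G))
    rw [Subgroup.orderOf_coe, ← (SemiconjBy.conj_mk k x).orderOf_eq, Nat.odd_iff,
      ← Nat.two_dvd_ne_zero]
    exact hreg
  · exact (mem_centralizer_zpowers_iff d.z _).1 (k * x * k⁻¹).2
  · rintro _ ⟨v, hv, rfl⟩
    exact ⟨_, (hN v).1 hv, rfl⟩

/-- The contributions at a central element of the defect group, for a nilpotent local block. -/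
theorem contrib_central_nilpotent (hpM : (p : AlgInt) ∈ M) {z : G}
    {f : Set (IrrCharacter (Subgroup.centralizer (Subgroup.zpowers z : Set G)))}
    [Fintype (Subgroup.centralizer (Subgroup.zpowers z : Set G))]
    [Fintype (IrrCharacter (Subgroup.centralizer (Subgroup.zpowers z : Set G)))]
    [DecidablePred (· ∈ f)] (hnil : IsNilpotentBlock p M f)
    {P' : Subgroup (Subgroup.centralizer (Subgroup.zpowers z : Set G))}
    {e : Set (IrrCharacter (Subgroup.centralizer
      (P' : Set (Subgroup.centralizer (Subgroup.zpowers z : Set G)))))}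
    (hmaxK : IsMaximalBrauerPair p M f P' e)
    {θ : IrrCharacter (Subgroup.centralizer (Subgroup.zpowers z : Set G))} (hθ : θ ∈ f)
    (h0 : blockHeight p f (θ : Subgroup.centralizer (Subgroup.zpowers z : Set G) → ℂ) = 0)
    (χ ψ : IrrCharacter G) (a b : ℂ)
    (hχ : ∀ y : Subgroup.centralizer (Subgroup.zpowers z : Set G), ¬ p ∣ orderOf y →
      secVal ⟨Subgroup.zpowers z, f⟩ (χ : G → ℂ) (z * y) =
        a * (θ : Subgroup.centralizer (Subgroup.zpowers z : Set G) → ℂ)
          (⟨z, (mem_centralizer_zpowers_iff z z).2 rfl⟩ * y))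
    (hψ : ∀ y : Subgroup.centralizer (Subgroup.zpowers z : Set G), ¬ p ∣ orderOf y →
      secVal ⟨Subgroup.zpowers z, f⟩ (ψ : G → ℂ) (z * y) =
        b * (θ : Subgroup.centralizer (Subgroup.zpowers z : Set G) → ℂ)
          (⟨z, (mem_centralizer_zpowers_iff z z).2 rfl⟩ * y)) :
    contrib p f z χ ψ = a * conj b := by
  classical
  haveI := Fintype.ofFinite P'
  set zK : (Subgroup.centralizer (Subgroup.zpowers z : Set G)) := ⟨z, (mem_centralizer_zpowers_iff z z).2 rfl⟩ with hzK
  have hH := mem_centralizer_zpowers_iff z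
  have hcen : zK ∈ Subgroup.center (Subgroup.centralizer (Subgroup.zpowers z : Set G)) := mem_center_of_self hH
  set ω := centralScalar (θ : (Subgroup.centralizer (Subgroup.zpowers z : Set G)) → ℂ) zK with hω
  have hω1 : ω * conj ω = 1 := by
    have h := centralScalar_pow_eq_one θ hcen (pow_orderOf_eq_one zK)
    rw [Complex.mul_conj', Complex.norm_eq_one_of_pow_eq_one h (orderOf_pos zK).ne']
    norm_num
  set r : IrrCharacter (Subgroup.centralizer (Subgroup.zpowers z : Set G)) → ℂ := fun η => classInner (pRegularPart p (θ : (Subgroup.centralizer (Subgroup.zpowers z : Set G)) → ℂ)) (η : (Subgroup.centralizer (Subgroup.zpowers z : Set G)) → ℂ)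
  have hinner : ∀ (φ : IrrCharacter G) (s : ℂ),
      (∀ y : (Subgroup.centralizer (Subgroup.zpowers z : Set G)), ¬ p ∣ orderOf y →
        secVal ⟨Subgroup.zpowers z, f⟩ (φ : G → ℂ) (z * y) = s * (θ : (Subgroup.centralizer (Subgroup.zpowers z : Set G)) → ℂ) (zK * y)) →
      ∀ η ∈ f, classInner (pRegularPart p (secFun (Subgroup.centralizer (Subgroup.zpowers z : Set G)) z (φ : G → ℂ))) (η : (Subgroup.centralizer (Subgroup.zpowers z : Set G)) → ℂ) = s * ω * r η := by
    intro φ s hs η hη
    have e : pRegularPart p (blockPart f (secFun (Subgroup.centralizer (Subgroup.zpowers z : Set G)) z (φ : G → ℂ))) =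
        (s * ω) • pRegularPart p (θ : (Subgroup.centralizer (Subgroup.zpowers z : Set G)) → ℂ) := by
      funext y
      rw [Pi.smul_apply, smul_eq_mul, pRegularPart_apply, pRegularPart_apply]
      split_ifs with hy
      · rw [mul_zero]
      · rw [← secVal_eq_blockPart (isClassFunction_irr φ) y, hs y hy, irr_central_mul θ hcen,
          mul_assoc]
    have h := inner_pRegularPart_blockPart (b := f) (p := p) hpM hnil.1
      (isClassFunction_secFun_zpowers (isClassFunction_irr φ) z) η
    rw [if_pos hη, e, Chars.inner_smul_left] at h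
    exact h.symm
  have hnorm : ∑ η ∈ Finset.univ.filter (· ∈ f), r η * conj (r η) = (Nat.card P' : ℂ)⁻¹ := by
    rw [Finset.sum_filter_of_ne fun η _ hne => ?_,
      ← inner_eq_sum (isClassFunction_pRegularPart (isClassFunction_irr θ)),
      classInner_pRegularPart_right, pRegularPart_pRegularPart,
      inner_regular_self hpM hnil hmaxK hθ h0]
    by_contra hη
    apply hne
    have h := pInt_spec (p := p) θ η
    rw [pInt_eq_zero hpM hnil.1 hθ hη, pInner, Int.cast_zero] at h
    rw [show r η = 0 from (mul_eq_zero.mp h).resolve_left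
      (by simp [(Fact.out : p.Prime).ne_zero]), zero_mul]
  rw [contrib_eq_inner hpM hH hnil.1, Finset.sum_congr rfl fun η hη => by
    rw [hinner χ a hχ η (Finset.mem_filter.1 hη).2, hinner ψ b hψ η (Finset.mem_filter.1 hη).2,
      map_mul, map_mul, show a * ω * r η * (conj b * conj ω * conj (r η)) =
        a * conj b * (ω * conj ω) * (r η * conj (r η)) by ring, hω1, mul_one],
    ← Finset.mul_sum, hnorm,
    ← card_defectGroup hpM hnil.1 (isDefectGroup_of_maximal hpM hmaxK), ← mul_assoc,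
    mul_comm ((Nat.card P' : ℕ) : ℂ), mul_assoc, mul_inv_cancel₀, mul_one]
  exact Nat.cast_ne_zero.2 Nat.card_pos.ne'

/-- A column of a singular section is orthogonal to the degrees. -/
theorem sum_secVal_mul_degree (hpM : (p : AlgInt) ∈ M) {x : G} (hx : ∃ k : ℕ, x ^ p ^ k = 1)
    (hx1 : x ≠ 1) {b : Set (IrrCharacter (Subgroup.centralizer (Subgroup.zpowers x : Set G)))}
    (hb : IsBrauerPairOf p M B (Subgroup.zpowers x) b) [Fintype (IrrCharacter G)]
    [DecidablePred (· ∈ B)] :
    ∑ χ ∈ Finset.univ.filter (fun χ : IrrCharacter G => χ ∈ B), secVal ⟨Subgroup.zpowers x, b⟩ (χ : G → ℂ) x *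
      (χ : G → ℂ) 1 = 0 := by
  classical
  haveI := Fintype.ofFinite (Subgroup.centralizer (Subgroup.zpowers x : Set G))
  have h1 : ¬ p ∣ orderOf (1 : G) := by simp [(Fact.out : p.Prime).ne_one]
  rw [Finset.sum_filter_of_ne fun χ _ hne => ?_]
  swap
  · by_contra hχ
    refine hne ?_
    have h := secVal_eq_zero (B := blockOf M (χ : G → ℂ)) hpM (isPBlock_blockOf χ)
      (mem_blockOf_self χ) (Commute.one_right x) hx h1
      (mem_pairsAt.2 ⟨rfl, hb.1.2⟩ : (⟨Subgroup.zpowers x, b⟩ : BrauerPairIdx G) ∈ pairsAt M x)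
      fun h => hχ ((existsUnique_block_of_pair hpM hb.1).unique hb h ▸ mem_blockOf_self χ)
    rw [mul_one] at h
    rw [h, zero_mul]
  simp only [secVal, Finset.sum_mul]
  rw [Finset.sum_comm]
  refine Finset.sum_eq_zero fun w _ => ?_
  simp only [mul_assoc, ← Finset.mul_sum]
  by_cases hne : IsConj (1 : G) (w * x)
  · refine mul_eq_zero_of_left ?_ _
    have hw : w = x⁻¹ := eq_inv_of_mul_eq_one_left (isConj_one_right.1 hne)
    by_cases hwC : w ∈ Subgroup.centralizer (Subgroup.zpowers x : Set G)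
    · rw [pairCoeff, show subgroupBlockCoeff (Subgroup.centralizer (Subgroup.zpowers x : Set G)) b w =
        blockCoeff b ⟨w, hwC⟩ from subgroupBlockCoeff_coe _ ⟨w, hwC⟩]
      refine blockCoeff_eq_zero_of_dvd (Fact.out : p.Prime) hpM hb.1.2 ?_
      rw [Subgroup.orderOf_mk, hw, orderOf_inv]
      obtain ⟨k, hk⟩ := hx
      obtain ⟨i, -, hi⟩ := (Nat.dvd_prime_pow Fact.out).1 (orderOf_dvd_of_pow_eq_one hk)
      rw [hi]
      refine dvd_pow_self p fun h0 => hx1 (orderOf_eq_one_iff.1 ?_)
      rw [hi, h0, pow_zero]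
    · exact subgroupBlockCoeff_of_notMem _ hwC
  · refine mul_eq_zero_of_right _ ?_
    have h := second_orthogonality (w * x) (1 : G)
    rw [if_neg hne] at h
    refine Eq.trans (Finset.sum_congr rfl fun χ _ => ?_) h
    rw [irr_apply_one χ, map_natCast]

end CfsgLib.Blocks
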