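import Cfsg.Agent.Lib.Blocks.LocalRing
import Cfsg.Agent.Lib.Chars.Irr

/-!
# Central characters on class functions
-/

set_option linter.unusedSectionVars false
set_option linter.style.haveILetI false

namespace CfsgLib.Blocks

open Cfsg Chars
open scoped ComplexConjugate

variable {G : Type*} [Group G]

/-- The indicator function of the conjugacy class of `g`. -/
noncomputable def classInd (g : G) : G → ℂ := fun x => by
  classical exact if IsConj g x then 1 else 0

open scoped Classical in
theorem classInd_apply (g x : G) : classInd g x = if IsConj g x then (1 : ℂ) else 0 := by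
  simp [classInd]

variable [Fintype G]

/-- Convolution of two functions on the group. -/
noncomputable def conv (a b : G → ℂ) : G → ℂ := fun x => ∑ y, a y * b (y⁻¹ * x)

/-- The central character of `χ` at the group ring element with coefficients `a`. -/
noncomputable def omega (χ : G → ℂ) (a : G → ℂ) : ℂ := (∑ g, a g * χ g) / χ 1

/-- The coefficient function of the central idempotent of `χ`. -/
noncomputable def idemCoeff (χ : G → ℂ) : G → ℂ :=
  fun g => (Nat.card G : ℂ)⁻¹ * (χ 1 * conj (χ g))

omit [Fintype G] in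
theorem classFun_mul_comm {a : G → ℂ} (ha : IsClassFunction G a) (x y : G) :
    a (x * y) = a (y * x) := by
  have h := ha (y * x) x
  rwa [← mul_assoc, mul_inv_cancel_right] at h

omit [Fintype G] in
theorem classFun_of_isConj {a : G → ℂ} (ha : IsClassFunction G a) {x y : G} (h : IsConj x y) :
    a x = a y := by
  obtain ⟨c, rfl⟩ := isConj_iff.1 h
  rw [ha]

omit [Fintype G] in
theorem isConj_conj_right (g x h : G) : IsConj g (h * x * h⁻¹) ↔ IsConj g x :=
  ⟨fun h1 => h1.trans (isConj_iff.2 ⟨h, rfl⟩).symm, fun h1 => h1.trans (isConj_iff.2 ⟨h, rfl⟩)⟩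

omit [Fintype G] in
theorem isClassFunction_classInd (g : G) : IsClassFunction G (classInd g) := fun x h => by
  simp only [classInd_apply]
  classical exact if_congr (isConj_conj_right g x h) rfl rfl

theorem isClassFunction_conv {a b : G → ℂ} (ha : IsClassFunction G a) (hb : IsClassFunction G b) :
    IsClassFunction G (conv a b) := by
  intro g h
  unfold conv
  refine (Equiv.sum_comp (MulAut.conj h).toEquiv _).symm.trans ?_
  refine Finset.sum_congr rfl fun y _ => ?_
  show a (h * y * h⁻¹) * b ((h * y * h⁻¹)⁻¹ * (h * g * h⁻¹)) = _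
  rw [ha, ← hb (y⁻¹ * g) h]
  congr 2
  group

theorem sum_conv_mul (a b φ : G → ℂ) :
    ∑ x, conv a b x * φ x = ∑ y, ∑ z, a y * b z * φ (y * z) := by
  simp only [conv, Finset.sum_mul]
  rw [Finset.sum_comm]
  refine Finset.sum_congr rfl fun y _ => ?_
  rw [← Equiv.sum_comp (Equiv.mulLeft y)]
  simp [mul_assoc]

/-- Schur's lemma: a central element acts on an irreducible module by its central character. -/
theorem sum_smul_rep {V : Type*} [AddCommGroup V] [Module ℂ V] [FiniteDimensional ℂ V]
    (ρ : Representation ℂ G V) [ρ.IsIrreducible] {a : G → ℂ} (ha : IsClassFunction G a) :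
    ∑ g, a g • ρ g = omega ρ.character a • (LinearMap.id : V →ₗ[ℂ] V) := by
  have hf : IsClassFunction G (fun g => a g⁻¹) := fun g h => by
    simp only [mul_inv_rev, inv_inv, ← mul_assoc]
    exact ha g⁻¹ h
  obtain ⟨c, hc, hc'⟩ := avgOp_eq_scalar ρ hf
  have h1 : avgOp ρ (fun g => a g⁻¹) = ∑ g, a g • ρ g := by
    rw [avgOp, ← Equiv.sum_comp (Equiv.inv G)]
    simp
  rw [← h1, hc]
  congr 1
  have hne : (Module.finrank ℂ V : ℂ) ≠ 0 :=
    Nat.cast_ne_zero.2 (finrank_pos_of_isIrreducible ρ).ne'
  rw [omega, Representation.char_one, eq_div_iff hne, hc', inner_def, ← mul_assoc,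
    mul_inv_cancel₀ (card_ne_zero G), one_mul, ← Equiv.sum_comp (Equiv.inv G)]
  simp [character_inv]

/-- The character twisted by a central element. -/
theorem sum_mul_irr (χ : IrrCharacter G) {a : G → ℂ} (ha : IsClassFunction G a) (x : G) :
    ∑ g, a g * (χ : G → ℂ) (g * x) = omega (χ : G → ℂ) a * (χ : G → ℂ) x := by
  obtain ⟨_, n, ρ, hρ, rfl⟩ := χ
  have h1 := congrArg (fun T : (Fin n → ℂ) →ₗ[ℂ] (Fin n → ℂ) =>
    LinearMap.trace ℂ _ (T * ρ x)) (sum_smul_rep ρ ha)
  simp only [Finset.sum_mul, map_sum, smul_mul_assoc, ← map_mul, map_smul, smul_eq_mul] at h1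
  rw [← Module.End.one_eq_id, one_mul] at h1
  exact h1

theorem omega_conv (χ : IrrCharacter G) {a : G → ℂ} (ha : IsClassFunction G a) (b : G → ℂ) :
    omega (χ : G → ℂ) (conv a b) = omega (χ : G → ℂ) a * omega (χ : G → ℂ) b := by
  conv_lhs => rw [omega, sum_conv_mul, Finset.sum_comm]
  have : ∀ z, ∑ y, a y * b z * (χ : G → ℂ) (y * z) =
      b z * (omega (χ : G → ℂ) a * (χ : G → ℂ) z) := fun z => by
    rw [← sum_mul_irr χ ha, Finset.mul_sum]
    exact Finset.sum_congr rfl fun y _ => by ring
  simp only [this]
  conv_rhs => arg 2; rw [omega]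
  rw [mul_div_assoc', Finset.mul_sum]
  congr 1
  exact Finset.sum_congr rfl fun z _ => by ring

theorem omega_add (χ a b : G → ℂ) : omega χ (a + b) = omega χ a + omega χ b := by
  simp [omega, add_mul, Finset.sum_add_distrib, add_div]

theorem omega_smul (χ a : G → ℂ) (c : ℂ) : omega χ (c • a) = c * omega χ a := by
  simp [omega, Finset.mul_sum, mul_div_assoc', mul_assoc]

theorem omega_sum {ι : Type*} (s : Finset ι) (χ : G → ℂ) (a : ι → G → ℂ) :
    omega χ (∑ i ∈ s, a i) = ∑ i ∈ s, omega χ (a i) := by
  simp only [omega, Finset.sum_apply, Finset.sum_mul]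
  rw [Finset.sum_comm, Finset.sum_div]

theorem omega_classInd (χ : IrrCharacter G) (g : G) :
    omega (χ : G → ℂ) (classInd g) = centralChar (χ : G → ℂ) g := by
  classical
  rw [omega, centralChar, index_centralizer_eq]
  congr 1
  rw [Nat.card_eq_fintype_card, Fintype.card_subtype, ← nsmul_eq_mul, ← Finset.sum_const,
    Finset.sum_filter]
  refine Finset.sum_congr rfl fun x _ => ?_
  rw [classInd_apply]
  split_ifs with h
  · rw [one_mul, classFun_of_isConj (isClassFunction_irr χ) h]
  · rw [zero_mul]

theorem centralChar_of_isConj (χ : IrrCharacter G) {g h : G} (hgh : IsConj g h) :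
    centralChar (χ : G → ℂ) g = centralChar (χ : G → ℂ) h := by
  rw [← omega_classInd, ← omega_classInd]
  congr 1
  funext x
  have : IsConj g x ↔ IsConj h x := ⟨fun h1 => hgh.symm.trans h1, fun h1 => hgh.trans h1⟩
  simp only [classInd_apply]
  by_cases h1 : IsConj g x
  · rw [if_pos h1, if_pos (this.1 h1)]
  · rw [if_neg h1, if_neg (mt this.2 h1)]

theorem centralChar_one (χ : IrrCharacter G) : centralChar (χ : G → ℂ) 1 = 1 := by
  have : (Subgroup.centralizer ({(1 : G)} : Set G)).index = 1 := by
    rw [Subgroup.index_eq_one, eq_top_iff]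
    exact fun x _ => Subgroup.mem_centralizer_singleton_iff.2 (by simp)
  rw [centralChar, this, Nat.cast_one, one_mul, div_self (irr_degree_ne_zero χ.2)]

/-- A representative of a conjugacy class. -/
noncomputable def classRep (C : ConjClasses G) : G := Quotient.out C

omit [Fintype G] in
theorem mk_classRep (C : ConjClasses G) : ConjClasses.mk (classRep C) = C := Quotient.out_eq C

theorem classFun_eq_sum_classInd [Fintype (ConjClasses G)] {a : G → ℂ}
    (ha : IsClassFunction G a) : a = ∑ C : ConjClasses G, a (classRep C) • classInd (classRep C) := by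
  classical
  funext x
  rw [Finset.sum_apply, Finset.sum_eq_single (ConjClasses.mk x)]
  · have hc : IsConj (classRep (ConjClasses.mk x)) x :=
      ConjClasses.mk_eq_mk_iff_isConj.1 (mk_classRep _)
    rw [Pi.smul_apply, classInd_apply, if_pos hc, smul_eq_mul, mul_one, classFun_of_isConj ha hc]
  · intro C _ hC
    rw [Pi.smul_apply, classInd_apply, if_neg, smul_zero]
    exact fun h => hC (by rw [← mk_classRep C, ConjClasses.mk_eq_mk_iff_isConj.2 h])
  · simp

theorem omega_eq_sum_centralChar [Fintype (ConjClasses G)] (χ : IrrCharacter G) {a : G → ℂ}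
    (ha : IsClassFunction G a) :
    omega (χ : G → ℂ) a = ∑ C : ConjClasses G, a (classRep C) * centralChar (χ : G → ℂ) (classRep C) := by
  conv_lhs => rw [classFun_eq_sum_classInd ha]
  simp only [omega_sum, omega_smul, omega_classInd]

/-- The central character of an irreducible character takes algebraic integral values. -/
theorem isIntegral_centralChar (χ : IrrCharacter G) (g : G) :
    IsIntegral ℤ (centralChar (χ : G → ℂ) g) := by
  classical
  haveI := Fintype.ofFinite (ConjClasses G)
  let v : ConjClasses G → ℂ := fun C => centralChar (χ : G → ℂ) (classRep C)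
  let S : Submodule ℤ ℂ := Submodule.span ℤ (Set.range v)
  have hv : ∀ h : G, centralChar (χ : G → ℂ) h ∈ S := fun h => by
    rw [centralChar_of_isConj χ (ConjClasses.mk_eq_mk_iff_isConj.1 (mk_classRep (ConjClasses.mk h))).symm]
    exact Submodule.subset_span ⟨_, rfl⟩
  have hmul : ∀ a ∈ S, ∀ b ∈ S, a * b ∈ S := by
    intro a ha b hb
    induction ha using Submodule.span_induction with
    | mem a ha =>
      induction hb using Submodule.span_induction with
      | mem b hb =>
        obtain ⟨C, rfl⟩ := ha
        obtain ⟨D, rfl⟩ := hb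
        simp only [v]
        rw [← omega_classInd, ← omega_classInd, ← omega_conv χ (isClassFunction_classInd _),
          omega_eq_sum_centralChar χ
            (isClassFunction_conv (isClassFunction_classInd _) (isClassFunction_classInd _))]
        refine Submodule.sum_mem _ fun E _ => ?_
        obtain ⟨k, hk⟩ : ∃ k : ℕ,
            conv (classInd (classRep C)) (classInd (classRep D)) (classRep E) = (k : ℂ) := by
          refine ⟨∑ y, if IsConj (classRep C) y ∧ IsConj (classRep D) (y⁻¹ * classRep E) then 1 else 0, ?_⟩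
          rw [conv, Nat.cast_sum]
          refine Finset.sum_congr rfl fun y _ => ?_
          simp only [classInd_apply]
          split_ifs with h1 h2 h3 <;> simp_all
        rw [hk, ← nsmul_eq_mul]
        exact S.nsmul_mem (hv _) _
      | zero => simp
      | add x y _ _ hx hy => rw [mul_add]; exact S.add_mem hx hy
      | smul c x _ hx => rw [mul_smul_comm]; exact S.smul_mem _ hx
    | zero => simp
    | add x y _ _ hx hy => rw [add_mul]; exact S.add_mem hx hy
    | smul c x _ hx => rw [smul_mul_assoc]; exact S.smul_mem _ hx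
  have hone : (1 : ℂ) ∈ S := centralChar_one χ ▸ hv 1
  let A : Subalgebra ℤ ℂ := S.toSubalgebra hone (fun a b ha hb => hmul a ha b hb)
  refine IsIntegral.of_mem_of_fg A ?_ _ (show centralChar (χ : G → ℂ) g ∈ A from hv g)
  show S.FG
  exact Submodule.fg_span (Set.finite_range v)

theorem idemCoeff_omega [DecidableEq (IrrCharacter G)] (χ ψ : IrrCharacter G) :
    omega (ψ : G → ℂ) (idemCoeff (χ : G → ℂ)) = if χ = ψ then 1 else 0 := by
  have h : omega (ψ : G → ℂ) (idemCoeff (χ : G → ℂ)) =
      (χ : G → ℂ) 1 * classInner (ψ : G → ℂ) χ / (ψ : G → ℂ) 1 := by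
    rw [omega, inner_def]
    congr 1
    rw [Finset.mul_sum, Finset.mul_sum]
    refine Finset.sum_congr rfl fun g _ => ?_
    simp only [idemCoeff]
    ring
  rw [h, inner_irr]
  by_cases hc : χ = ψ
  · subst hc
    simp [div_self (irr_degree_ne_zero χ.2)]
  · rw [if_neg (fun h' => hc h'.symm), if_neg hc, mul_zero, zero_div]

omit [Fintype G] in
theorem isClassFunction_idemCoeff (χ : IrrCharacter G) :
    IsClassFunction G (idemCoeff (χ : G → ℂ)) := fun g h => by
  simp only [idemCoeff, isClassFunction_irr χ g h]

/-- Fourier inversion. -/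
theorem classFun_eq_sum_omega [Fintype (IrrCharacter G)] {a : G → ℂ} (ha : IsClassFunction G a)
    (g : G) : a g = ∑ χ : IrrCharacter G, omega (χ : G → ℂ) a * idemCoeff (χ : G → ℂ) g := by
  have hf : IsClassFunction G (fun g => a g⁻¹) := fun g h => by
    simp only [mul_inv_rev, inv_inv, ← mul_assoc]
    exact ha g⁻¹ h
  have h1 := congrFun (classFun_eq_sum hf) g⁻¹
  simp only [inv_inv, Finset.sum_apply, Pi.smul_apply, smul_eq_mul] at h1
  rw [h1]
  refine Finset.sum_congr rfl fun χ _ => ?_
  rw [inner_def, ← Equiv.sum_comp (Equiv.inv G)]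
  simp only [Equiv.inv_apply, inv_inv, irr_inv, Complex.conj_conj, omega, idemCoeff]
  field_simp [irr_degree_ne_zero χ.2]

theorem classFun_ext_omega {a b : G → ℂ} (ha : IsClassFunction G a) (hb : IsClassFunction G b)
    (h : ∀ χ : IrrCharacter G, omega (χ : G → ℂ) a = omega (χ : G → ℂ) b) : a = b := by
  haveI := irrFintype G
  funext g
  rw [classFun_eq_sum_omega ha, classFun_eq_sum_omega hb]
  simp only [h]

end CfsgLib.Blocks
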