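import Cfsg.Agent.Lib.Involutions.ZStar.Q8Fusion

/-!
# Fusion for a quaternion Sylow subgroup of order eight without normal complement
-/

set_option linter.style.haveILetI false

namespace CfsgLib.Blocks

open Cfsg Involutions.ZStar

variable {G : Type*} [Group G] [Finite G]

theorem exists_complement_sylow {p : ℕ} [Fact p.Prime] (h : HasNormalPComplement p G)
    (S : Sylow p G) : ∃ N : Subgroup G, N.Normal ∧ N.IsComplement' (S : Subgroup G) := by
  obtain ⟨N, hN, hN2, k, hk⟩ := Transfer.hasNormalPComplement_iff_exists.1 h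
  refine ⟨N, hN, Subgroup.isComplement'_of_coprime ?_ ?_⟩
  · rw [S.card_eq_multiplicity, ← N.card_mul_index, hk, Nat.factorization_mul Nat.card_pos.ne'
      (pow_ne_zero _ (Fact.out : p.Prime).ne_zero), Finsupp.add_apply,
      Nat.factorization_eq_zero_of_not_dvd hN2, zero_add, (Fact.out : p.Prime).factorization_pow,
      Finsupp.single_eq_same]
  · rw [S.card_eq_multiplicity]
    exact Nat.Coprime.pow_right _ ((Fact.out : p.Prime).coprime_iff_not_dvd.2 hN2).symm

theorem q8_orderOf_eq_four (S : Sylow 2 G) (e : (S : Subgroup G) ≃* QuaternionGroup 2)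
    {a : (S : Subgroup G)} (ha : a * a ≠ 1) : orderOf (a : G) = 4 := by
  rcases q8_cases (e a) with h | h | ⟨-, -, h⟩
  · rw [MulEquiv.map_eq_one_iff] at h; exact absurd (by rw [h, mul_one]) ha
  · refine absurd ?_ ha
    rw [← MulEquiv.map_eq_one_iff e, map_mul, h]
    decide
  · rw [← map_mul, ← map_mul, MulEquiv.map_eq_one_iff] at h
    rw [Subgroup.orderOf_coe]
    haveI : Fact (Nat.Prime 2) := ⟨Nat.prime_two⟩
    refine orderOf_eq_prime_pow (p := 2) (n := 1) (by rwa [pow_one, sq]) ?_
    rw [show (2 : ℕ) ^ (1 + 1) = 2 + 2 from rfl, pow_add, sq, h]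

theorem q8_subgroup_eq_zpowers (S : Sylow 2 G) (e : (S : Subgroup G) ≃* QuaternionGroup 2)
    {A : Subgroup G} (hA : A ≤ (S : Subgroup G)) (hA4 : Nat.card A = 4) :
    ∃ a : (S : Subgroup G), a * a ≠ 1 ∧ A = Subgroup.zpowers (a : G) := by
  classical
  haveI := Fintype.ofFinite A
  obtain ⟨a, ha⟩ : ∃ a : A, (⟨(a : G), hA a.2⟩ : (S : Subgroup G)) * ⟨(a : G), hA a.2⟩ ≠ 1 := by
    by_contra hno
    push Not at hno
    have hinj : Function.Injective fun a : A => e ⟨(a : G), hA a.2⟩ := fun a b h =>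
      Subtype.ext (congrArg Subtype.val (e.injective h) :)
    have hle := (Finset.card_le_card_of_injOn (s := Finset.univ) (fun a : A => e ⟨(a : G), hA a.2⟩)
      (t := {1, .a 2}) (fun a _ => by
        have h2 : e ⟨(a : G), hA a.2⟩ * e ⟨(a : G), hA a.2⟩ = 1 := by
          rw [← map_mul, hno a, map_one]
        rcases q8_cases (e ⟨(a : G), hA a.2⟩) with h | h | ⟨h, -, -⟩
        · simp [h]
        · simp [h]
        · exact absurd h2 h) hinj.injOn).trans Finset.card_le_two
    rw [Finset.card_univ, ← Nat.card_eq_fintype_card, hA4] at hle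
    norm_num at hle
  refine ⟨⟨(a : G), hA a.2⟩, ha, (Subgroup.eq_of_le_of_card_ge (Subgroup.zpowers_le.2 a.2) ?_).symm⟩
  rw [Nat.card_zpowers, q8_orderOf_eq_four S e ha, hA4]

theorem q8_isConj_inv (S : Sylow 2 G) (e : (S : Subgroup G) ≃* QuaternionGroup 2)
    (a : (S : Subgroup G)) : ∃ c : (S : Subgroup G), c * a * c⁻¹ = a⁻¹ := by
  have : ∀ x : QuaternionGroup 2, ∃ w : QuaternionGroup 2, w * x * w⁻¹ = x⁻¹ := by decide +kernel
  obtain ⟨w, hw⟩ := this (e a)
  exact ⟨e.symm w, e.injective (by simp [hw])⟩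

/-- An automorphism induced from the normalizer moves every element of order four to any other,
up to inversion. -/
theorem exists_q8_normalizer_aut (S : Sylow 2 G) (e : (S : Subgroup G) ≃* QuaternionGroup 2)
    (hnc : ¬ HasNormalPComplement 2 G) :
    ∃ g ∈ Subgroup.normalizer ((S : Subgroup G) : Set G), ∃ φ : MulAut (S : Subgroup G),
      (∀ (n : ℕ) x, ((φ ^ n) x : G) = g ^ n * x * (g ^ n)⁻¹) ∧
      ∀ s t : (S : Subgroup G), s * s ≠ 1 → t * t ≠ 1 → ∃ k : ℕ, (φ ^ k) s = t ∨ (φ ^ k) s = t⁻¹ := by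
  haveI : Fact (Nat.Prime 2) := ⟨Nat.prime_two⟩
  rw [Transfer.hasNormalPComplement_iff_forall_centralizing S] at hnc
  push Not at hnc
  obtain ⟨Q, hQ, g, hg, hodd, hgQ⟩ := hnc
  have hcard : Nat.card (S : Subgroup G) = 8 := by
    rw [Nat.card_congr e.toEquiv, Nat.card_eq_fintype_card, QuaternionGroup.card]
  have hQS : Q = (S : Subgroup G) := by
    by_contra hne
    apply hgQ
    refine Transfer.mem_centralizer_of_isCyclic (S.2.to_le hQ) ?_ hg hodd
    have hQ8 : Nat.card Q ∣ 8 := hcard ▸ Subgroup.card_dvd_of_le hQ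
    have hlt : Nat.card Q < 8 := by
      rcases (Nat.le_of_dvd (by norm_num) hQ8).lt_or_eq with h1 | h1
      · exact h1
      · exact absurd (Subgroup.eq_of_le_of_card_ge hQ (by rw [hcard, h1])) hne
    obtain ⟨j, hj, hj'⟩ :=
      (Nat.dvd_prime_pow Nat.prime_two).1 (show Nat.card Q ∣ 2 ^ 3 from hQ8)
    rcases Nat.lt_or_ge j 2 with hj2 | hj2
    · interval_cases j
      · haveI : Subsingleton Q := (Nat.card_eq_one_iff_unique.1 (by simpa using hj')).1
        exact isCyclic_of_subsingleton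
      · exact isCyclic_of_prime_card (p := 2) (by simpa using hj')
    · obtain rfl : j = 2 := by
        rcases (show j = 2 ∨ j = 3 by omega) with h | h
        · exact h
        · rw [h] at hj'; omega
      by_cases hex : ∃ a : Q, orderOf a = 4
      · obtain ⟨a, ha⟩ := hex
        exact isCyclic_of_orderOf_eq_card a (by rw [ha, hj']; norm_num)
      exfalso
      push Not at hex
      have hsq : ∀ a : Q, a * a = 1 := by
        intro a
        have hd : orderOf a ∣ 2 ^ 2 := by rw [← hj']; exact orderOf_dvd_natCard a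
        obtain ⟨i, hi, hi'⟩ := (Nat.dvd_prime_pow Nat.prime_two).1 hd
        rw [← sq, ← orderOf_dvd_iff_pow_eq_one, hi']
        interval_cases i
        · simp
        · simp
        · exact absurd hi' (hex a)
      have hsmall : Nat.card Q ≤ 2 := by
        classical
        haveI := Fintype.ofFinite Q
        rw [Nat.card_eq_fintype_card, ← Finset.card_univ]
        have hinj : Function.Injective fun a : Q => e ⟨(a : G), hQ a.2⟩ := fun a b h =>
          Subtype.ext (congrArg Subtype.val (e.injective h) :)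
        refine (Finset.card_le_card_of_injOn (fun a : Q => e ⟨(a : G), hQ a.2⟩)
          (t := {1, .a 2}) (fun a _ => ?_) hinj.injOn).trans Finset.card_le_two
        have h2 : e ⟨(a : G), hQ a.2⟩ * e ⟨(a : G), hQ a.2⟩ = 1 := by
          rw [← map_mul, MulEquiv.map_eq_one_iff]
          exact Subtype.ext (congrArg Subtype.val (hsq a) :)
        rcases q8_cases (e ⟨(a : G), hQ a.2⟩) with h1 | h1 | ⟨h1, -, -⟩
        · simp [h1]
        · simp [h1]
        · exact absurd h2 h1
      rw [hj'] at hsmall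
      norm_num at hsmall
  subst hQS
  obtain ⟨φ, hφ⟩ := Transfer.mem_normalizer_conj_equiv hg
  refine ⟨g, hg, φ, hφ, ?_⟩
  set σ : MulAut (QuaternionGroup 2) := (e.symm.trans φ).trans e with hσ
  have hσn : ∀ n : ℕ, ∀ w, (σ ^ n) w = e ((φ ^ n) (e.symm w)) := by
    intro n
    induction n with
    | zero => intro w; simp
    | succ n ih =>
      intro w
      rw [pow_succ, pow_succ, MulAut.mul_apply, MulAut.mul_apply, ih, hσ]
      simp
  have h3 : σ ^ 3 = 1 := by
    have h12 := Transfer.q8_aut_pow σ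
    have hgo : σ ^ orderOf g = 1 := by
      ext w
      rw [hσn]
      have : (φ ^ orderOf g) (e.symm w) = e.symm w := by
        apply Subtype.ext
        rw [hφ, pow_orderOf_eq_one]; simp
      rw [this]; simp
    have hgcd := pow_gcd_eq_one.2 ⟨h12, hgo⟩
    have hd : Nat.gcd 12 (orderOf g) ∣ 3 := by
      have h12' : Nat.gcd 12 (orderOf g) ∣ 4 * 3 := Nat.gcd_dvd_left 12 _
      exact (Nat.Coprime.coprime_dvd_left (Nat.gcd_dvd_right 12 _)
        (by rw [show (4 : ℕ) = 2 ^ 2 from rfl]; exact hodd.pow_right 2)).dvd_of_dvd_mul_left h12'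
    obtain ⟨m, hm⟩ := hd
    rw [hm, pow_mul, hgcd, one_pow]
  set a := σ (.a 1) with ha
  set b := σ (.xa 0) with hb
  have hne : a * b ≠ b * a := by
    rw [ha, hb, ← map_mul, ← map_mul]
    exact fun hh => absurd (σ.injective hh) (by decide)
  have hit : ∀ (n : ℕ) (w : QuaternionGroup 2), (σ ^ n) w = (Transfer.qMap a b)^[n] w := by
    intro n
    induction n with
    | zero => intro w; rfl
    | succ n ih =>
      intro w
      rw [pow_succ, MulAut.mul_apply, ih, Function.iterate_succ_apply,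
        Transfer.qMap_eq σ ha.symm hb.symm]
  have i1 : (Transfer.qMap a b)^[3] (.a 1) = .a 1 := by rw [← hit, h3]; rfl
  have i2 : (Transfer.qMap a b)^[3] (.xa 0) = .xa 0 := by rw [← hit, h3]; rfl
  rcases q8_order_three a b hne i1 i2 with ⟨ha1, hb1⟩ | htr
  · exfalso
    apply hgQ
    rw [Subgroup.mem_centralizer_iff]
    intro x hx
    have hfix : ∀ w, σ w = w := fun w => by
      rw [Transfer.qMap_eq σ ha.symm hb.symm, ha1, hb1]
      revert w
      decide +kernel
    have h4 : φ ⟨x, hx⟩ = ⟨x, hx⟩ := by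
      have := hfix (e ⟨x, hx⟩)
      rw [hσ] at this
      simpa using this
    have h5 := hφ 1 ⟨x, hx⟩
    rw [pow_one, pow_one, h4] at h5
    exact eq_mul_inv_iff_mul_eq.1 h5
  intro s t hs ht
  have hes : e s * e s ≠ 1 := by rwa [← map_mul, Ne, MulEquiv.map_eq_one_iff]
  have het : e t * e t ≠ 1 := by rwa [← map_mul, Ne, MulEquiv.map_eq_one_iff]
  have key : ∀ k : ℕ, e ((φ ^ k) s) = (Transfer.qMap a b)^[k] (e s) := fun k => by
    rw [← hit, hσn, MulEquiv.symm_apply_apply]
  rcases htr (e s) (e t) hes het with k | k | k | k | k | k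
  · exact ⟨0, Or.inl (e.injective (by rw [key 0, k]; rfl))⟩
  · exact ⟨0, Or.inr (e.injective (by rw [key 0, map_inv, k, inv_inv]; rfl))⟩
  · exact ⟨1, Or.inl (e.injective (by rw [key 1, k]; rfl))⟩
  · exact ⟨1, Or.inr (e.injective (by rw [key 1, map_inv, k, inv_inv]; rfl))⟩
  · exact ⟨2, Or.inl (e.injective (by rw [key 2, k]))⟩
  · exact ⟨2, Or.inr (e.injective (by rw [key 2, map_inv, k, inv_inv]))⟩

end CfsgLib.Blocks
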