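import Cfsg.Agent.Lib.Blocks.DihedralPrincipal
import Cfsg.Agent.Lib.Blocks.Q8Fusion
import Cfsg.Agent.Lib.Blocks.Omega
import Cfsg.Agent.Lib.OddOrder.CyclicSubgroups

/-!
# The order formula for dihedral Sylow two-subgroups with one class of involutions
-/

set_option autoImplicit false
set_option linter.style.haveILetI false
set_option linter.unusedSectionVars false

namespace CfsgLib.Blocks

open Cfsg Chars CharApps BlockOrth Involutions Subgroup
open scoped ComplexConjugate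

universe u

variable {G : Type u} [Group G] [Fintype G]

/-- A cyclic group contains at most one involution. -/
theorem invol_unique_zpowers {g a b : G} (ha : orderOf a = 2) (hb : orderOf b = 2)
    (ha' : a ∈ zpowers g) (hb' : b ∈ zpowers g) : a = b := by
  have h : zpowers a = zpowers b := OddOrder.eq_of_card_eq_of_isCyclic (C := zpowers g)
    (zpowers_le.2 ha') (zpowers_le.2 hb') (by rw [Nat.card_zpowers, Nat.card_zpowers, ha, hb])
  rcases (mem_zpowers_invol hb).1 (h ▸ mem_zpowers a : a ∈ zpowers b) with h1 | h1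
  · exact absurd h1 (invol_ne_one ha)
  · exact h1

/-- A function which picks up a factor under a permutation has vanishing sum. -/
theorem sum_eq_zero_of_twist {ι : Type*} {S : Finset ι} (f : ι → ℂ) (σ : ι ≃ ι)
    (hS : ∀ s, s ∈ S ↔ σ s ∈ S) {c : ℂ} (hc : c ≠ 1) (h : ∀ s ∈ S, f (σ s) = c * f s) :
    ∑ s ∈ S, f s = 0 := by
  have e : ∑ s ∈ S, f s = c * ∑ s ∈ S, f s := by
    rw [Finset.mul_sum]
    exact (Finset.sum_equiv σ hS fun s hs => (h s hs).symm).symm
  have e2 : (c - 1) * ∑ s ∈ S, f s = 0 := by linear_combination -e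
  exact (mul_eq_zero.1 e2).resolve_left (sub_ne_zero.2 hc)

/-- The class of an element under a subgroup. -/
theorem card_subClass (C : Subgroup G) {r : G} (hr : r ∈ C) [DecidablePred fun s : G =>
    ∃ c ∈ C, c * r * c⁻¹ = s] :
    (Finset.univ.filter fun s : G => ∃ c ∈ C, c * r * c⁻¹ = s).card *
      Nat.card (C ⊓ centralizer ({r} : Set G) : Subgroup G) = Nat.card C := by
  have h := Chars.card_isConj_mul_card_centralizer (G := C) ⟨r, hr⟩
  have h1 : Nat.card {x : C // IsConj (⟨r, hr⟩ : C) x} =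
      (Finset.univ.filter fun s : G => ∃ c ∈ C, c * r * c⁻¹ = s).card := by
    rw [← Fintype.card_subtype, ← Nat.card_eq_fintype_card]
    refine Nat.card_congr
      { toFun := fun x => ⟨(x.1 : G), ?_⟩
        invFun := fun s => ⟨⟨s.1, ?_⟩, ?_⟩
        left_inv := fun x => rfl
        right_inv := fun s => rfl }
    · obtain ⟨c, hc⟩ := isConj_iff.1 x.2
      exact ⟨c, c.2, congrArg Subtype.val hc⟩
    · obtain ⟨c, hc, e⟩ := s.2
      exact e ▸ mul_mem (mul_mem hc hr) (inv_mem hc)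
    · obtain ⟨c, hc, e⟩ := s.2
      exact isConj_iff.2 ⟨⟨c, hc⟩, Subtype.ext e⟩
  have h2 : Nat.card (centralizer ({(⟨r, hr⟩ : C)} : Set C)) =
      Nat.card (C ⊓ centralizer ({r} : Set G) : Subgroup G) := by
    refine Nat.card_congr
      { toFun := fun c => ⟨(c.1 : G), c.1.2, ?_⟩
        invFun := fun c => ⟨⟨c.1, c.2.1⟩, ?_⟩
        left_inv := fun c => rfl
        right_inv := fun c => rfl }
    · exact mem_centralizer_singleton_iff.2 (congrArg Subtype.val (mem_centralizer_singleton_iff.1 c.2))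
    · exact mem_centralizer_singleton_iff.2 (Subtype.ext (mem_centralizer_singleton_iff.1 c.2.2))
  rw [h1, h2] at h
  exact h

variable {M : Ideal AlgInt} [M.IsPrime] [Fact (Nat.Prime 2)]
variable {P : Sylow 2 G} (d : DP (P : Subgroup G))

include d in
/-- The projection of the centralizer of the central involution onto the Sylow subgroup. -/
theorem exists_projection :
    ∃ π : centralizer ({d.z} : Set G) →* G, (∀ c, π c ∈ (P : Subgroup G)) ∧
      (∀ c : centralizer ({d.z} : Set G), (c : G) ∈ (P : Subgroup G) → π c = c) ∧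
      ∀ c, π c = 1 → Odd (orderOf c) := by
  set C := centralizer ({d.z} : Set G) with hC
  have hle : (P : Subgroup G) ≤ C := fun g hg =>
    mem_centralizer_singleton_iff.2 (d.commute_z hg).eq.symm
  set Ps : Sylow 2 C := P.subtype hle with hPs
  have hcomp : HasNormalPComplement 2 C :=
    hasNormalPComplement_centralizer d ⟨1, by rw [d.orderOf_z, pow_one]⟩ (invol_ne_one d.orderOf_z)
  obtain ⟨N, hN, hc⟩ := exists_complement_sylow hcomp Ps
  haveI := hN
  set e := IsComplement'.QuotientMulEquiv hc.symm with he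
  have hNodd : Odd (Nat.card N) := by
    rw [← hc.index_eq_card]
    exact Nat.odd_iff.2 (Nat.two_dvd_ne_zero.1 Ps.not_dvd_index)
  refine ⟨C.subtype.comp ((Ps : Subgroup C).subtype.comp
    (e.toMonoidHom.comp (QuotientGroup.mk' N))), fun c => ?_, fun c hc' => ?_, fun c h1 => ?_⟩
  · exact (e (QuotientGroup.mk c)).2
  · have hcP : c ∈ (Ps : Subgroup C) := hc'
    have h2 : e.symm ⟨c, hcP⟩ = QuotientGroup.mk c := rfl
    show (((e (QuotientGroup.mk c)) : C) : G) = c
    rw [← h2, MulEquiv.apply_symm_apply]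
  · have h2 : e (QuotientGroup.mk c) = 1 := by
      apply Subtype.ext
      apply Subtype.ext
      exact h1
    rw [MulEquiv.map_eq_one_iff, QuotientGroup.eq_one_iff] at h2
    exact hNodd.of_dvd_nat (Subgroup.orderOf_dvd_natCard N h2)

/-- The order formula. -/
theorem dihedral_order_formula (hM : IsPModular 2 M) (hn : 2 ≤ d.n)
    (hone : ∀ s : G, orderOf s = 2 → IsConj d.z s) (χ : IrrCharacter G)
    (hχ : χ ∈ principalBlock M G) (hne : χ ≠ principal G) (δ : ℤ) (hδ : δ = 1 ∨ δ = -1)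
    (hval : ∀ l : ℕ, 0 < l → l < 2 ^ d.n → (χ : G → ℂ) (d.x ^ l) = δ) :
    (charDegree (χ : G → ℂ) : ℤ) ≠ δ ∧
    (Nat.card G : ℚ) * ((charDegree (χ : G → ℂ) : ℚ) - δ) ^ 2 =
      2 * (charDegree (χ : G → ℂ) : ℚ) * ((charDegree (χ : G → ℂ) : ℚ) + δ) *
        (Nat.card (centralizer ({d.z} : Set G)) : ℚ) ^ 3 *
        (1 / (Nat.card (centralizer ({d.z, d.r 0} : Set G)) : ℚ) +
          1 / (Nat.card (centralizer ({d.z, d.r 1} : Set G)) : ℚ)) ^ 2 := by
  classical
  haveI := irrFintype G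
  set N := 2 ^ d.n with hN
  set H := 2 ^ (d.n - 1) with hH
  have hN2 : N = 2 * H := by rw [hN, hH, ← pow_succ', show d.n - 1 + 1 = d.n by omega]
  have hH2 : 2 ≤ H := by rw [hH]; exact Nat.le_self_pow (show d.n - 1 ≠ 0 by omega) 2
  have hHe : Even H := by
    rw [hH]; exact Even.pow_of_ne_zero even_two (show d.n - 1 ≠ 0 by omega)
  have hhalf : d.half = (H : ℤ) := by rw [DP.half, hH]; push_cast; rfl
  have hord : (N : ℤ) = 2 * d.half := by rw [hhalf, hN2]; push_cast; rfl
  have hz : d.z = d.x ^ H := by rw [DP.z, hhalf, zpow_natCast]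
  haveI : NeZero N := ⟨by omega⟩
  obtain ⟨ζ, hζ⟩ : ∃ ζ : ℂ, IsPrimitiveRoot ζ N :=
    ⟨_, Complex.isPrimitiveRoot_exp N (NeZero.ne N)⟩
  have h0 : ζ ≠ 0 := hζ.ne_zero (NeZero.ne N)
  obtain ⟨-, X, Y, Z, E, δ₁, δ₂, δ₃, hd1, hd2, hd3, hEinj, hX, hY, hZ, -, -, -, hE, hblock, hvals,
    hrel⟩ := dihedral_principalBlock d hM hn hζ
  have hzH : ζ ^ H = -1 :=
    (hζ.pow (show 0 < N by omega) (show N = H * 2 by omega)).eq_neg_one_of_two_right
  -- the given character is the first one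
  obtain ⟨rfl, rfl⟩ : χ = X ∧ δ = δ₁ := by
    rw [hblock] at hχ
    rcases hχ with e | e | e | e | ⟨j, e⟩
    · exact absurd e hne
    · refine ⟨e, Int.cast_injective (α := ℂ) ?_⟩
      rw [← hval 1 one_pos (by omega), e]
      exact (hvals 1 one_pos (by omega)).1
    · exfalso
      have a1 := hval 1 one_pos (by omega)
      have a2 := hval 2 two_pos (by omega)
      rw [e, (hvals 1 one_pos (by omega)).2.1] at a1
      rw [e, (hvals 2 two_pos (by omega)).2.1] at a2
      have e3 : (δ : ℂ) = 0 := by linear_combination -(a1 + a2) / 2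
      rcases hδ with e1 | e1 <;> simp [e1] at e3
    · exfalso
      have a1 := hval 1 one_pos (by omega)
      have a2 := hval 2 two_pos (by omega)
      rw [e, (hvals 1 one_pos (by omega)).2.2.1] at a1
      rw [e, (hvals 2 two_pos (by omega)).2.2.1] at a2
      have e3 : (δ : ℂ) = 0 := by linear_combination -(a1 + a2) / 2
      rcases hδ with e1 | e1 <;> simp [e1] at e3
    · exfalso
      have a1 := hval H (by omega) (by omega)
      rw [e, (hvals H (by omega) (by omega)).2.2.2 j, mul_comm ((j : ℕ) + 1) H, pow_mul, hzH] at a1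
      rcases hδ with e1 | e1 <;> rcases hd1 with e2 | e2 <;>
        rcases neg_one_pow_eq_or ℂ ((j : ℕ) + 1) with e3 | e3 <;>
        rw [e1, e2, e3] at a1 <;> norm_num at a1
  have hj0 : 0 < 2 ^ (d.n - 1) - 1 := by omega
  set E0 := E ⟨0, hj0⟩ with hE0
  have hχB : χ ∈ principalBlock M G := hblock ▸ Or.inr (Or.inl rfl)
  have hEB : E0 ∈ principalBlock M G :=
    hblock ▸ Or.inr (Or.inr (Or.inr (Or.inr ⟨_, rfl⟩)))
  have hE0val : ∀ l : ℕ, 0 < l → l < N →
      (E0 : G → ℂ) (d.x ^ l) = (δ : ℂ) * (ζ ^ l + (ζ ^ l)⁻¹) := fun l hl hlN => by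
    have := (hvals l hl hlN).2.2.2 ⟨0, hj0⟩
    simpa using this
  have hδ2 : (δ : ℂ) * δ = 1 := by rcases hδ with e | e <;> simp [e]
  set Θ : G → ℂ := fun g => -1 - (δ : ℂ) * (χ : G → ℂ) g + (δ : ℂ) * (E0 : G → ℂ) g with hΘ
  have hΘodd : ∀ g : G, Odd (orderOf g) → Θ g = 0 := fun g hg => by
    have := (hrel g hg ⟨0, hj0⟩).2
    simp only [hΘ]
    linear_combination -this
  have hΘconj : ∀ g c : G, Θ (c * g * c⁻¹) = Θ g := fun g c => by
    simp only [hΘ, isClassFunction_irr χ g c, isClassFunction_irr E0 g c]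
  -- involutions
  set K := Finset.univ.filter (fun g : G => orderOf g = 2) with hK
  have hKmem : ∀ g, g ∈ K ↔ orderOf g = 2 := fun g => by simp [hK]
  have hKconj : ∀ g c : G, (g ∈ K ↔ c * g * c⁻¹ ∈ K) := fun g c => by
    rw [hKmem, hKmem, show c * g * c⁻¹ = MulAut.conj c g from rfl, MulEquiv.orderOf_eq]
  have hKclass : ∀ g, g ∈ K ↔ IsConj d.z g := fun g => by
    refine ⟨fun h => hone g ((hKmem g).1 h), fun h => ?_⟩
    obtain ⟨c, rfl⟩ := isConj_iff.1 h
    exact (hKconj _ c).1 ((hKmem _).2 d.orderOf_z)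
  have hKcard : K.card * Nat.card (centralizer ({d.z} : Set G)) = Nat.card G := by
    rw [← Chars.card_isConj_mul_card_centralizer d.z]
    congr 1
    rw [Nat.card_eq_fintype_card, Fintype.card_subtype]
    congr 1
    ext g
    simp [hKclass]
  -- the character side
  have hchar : ∀ η : IrrCharacter G, ∑ s ∈ K, ∑ u ∈ K, (η : G → ℂ) (s * u) =
      (K.card : ℂ) ^ 2 * (η : G → ℂ) d.z ^ 2 / (η : G → ℂ) 1 := by
    intro η
    set f : G → ℂ := fun g => if g ∈ K then 1 else 0 with hf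
    have hfc : IsClassFunction G f := fun g c => if_congr (hKconj g c).symm rfl rfl
    have hKval : ∀ g ∈ K, (η : G → ℂ) g = (η : G → ℂ) d.z := fun g hg =>
      ((isConj_iff_forall_irr _ _).1 ((hKclass g).1 hg) η).symm
    have hom : omega (η : G → ℂ) f = (K.card : ℂ) * (η : G → ℂ) d.z / (η : G → ℂ) 1 := by
      rw [omega]
      congr 1
      simp only [hf, ite_mul, one_mul, zero_mul]
      rw [← Finset.sum_filter, Finset.sum_congr (s₂ := K) (by ext; simp) hKval, Finset.sum_const,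
        nsmul_eq_mul]
    have h1 : ∀ u : G, ∑ s ∈ K, (η : G → ℂ) (s * u) = omega (η : G → ℂ) f * (η : G → ℂ) u :=
      fun u => by
        rw [← sum_mul_irr η hfc u]
        simp only [hf, ite_mul, one_mul, zero_mul]
        rw [← Finset.sum_filter]
        exact Finset.sum_congr (by ext; simp) fun _ _ => rfl
    rw [Finset.sum_comm, Finset.sum_congr rfl fun u _ => h1 u, ← Finset.mul_sum,
      Finset.sum_congr rfl hKval, Finset.sum_const, nsmul_eq_mul, hom]
    ring
  -- the count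
  set C := centralizer ({d.z} : Set G) with hC
  obtain ⟨π, hπP, hπid, hπodd⟩ : ∃ π : C →* G, (∀ c, π c ∈ (P : Subgroup G)) ∧
      (∀ c : C, (c : G) ∈ (P : Subgroup G) → π c = c) ∧ ∀ c, π c = 1 → Odd (orderOf c) :=
    exists_projection d
  have hPC : ∀ {g : G}, g ∈ (P : Subgroup G) → g ∈ C := fun hg =>
    mem_centralizer_singleton_iff.2 (d.commute_z hg).eq.symm
  have hπ1 : ∀ v : C, Odd (orderOf v) → π v = 1 := fun v hv => by
    obtain ⟨k, hk⟩ := P.2 ⟨π v, hπP v⟩
    have e1 : (π v) ^ 2 ^ k = 1 := congrArg Subtype.val hk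
    have e2 : (π v) ^ orderOf v = 1 := by rw [← map_pow, pow_orderOf_eq_one, map_one]
    rw [← orderOf_eq_one_iff]
    exact Nat.eq_one_of_dvd_coprimes ((Nat.coprime_two_left.2 hv).pow_left k)
      (orderOf_dvd_of_pow_eq_one e1) (orderOf_dvd_of_pow_eq_one e2)
  set zC : C := ⟨d.z, hPC d.z_mem⟩ with hzC
  have hπz : π zC = d.z := hπid zC d.z_mem
  have hzcomm : ∀ c : C, Commute zC c := fun c =>
    Subtype.ext (mem_centralizer_singleton_iff.1 c.2).symm
  have hzz : d.z * d.z = 1 := invol_mul_self d.orderOf_z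
  set S := K.filter (fun s => s ∈ C ∧ s ≠ d.z) with hS
  have hidx : ∀ s : C, (s : G) ∈ S → ∃ i : ℤ, π s = d.r i := by
    intro s hs
    simp only [hS, Finset.mem_filter, hKmem] at hs
    obtain ⟨hs2, -, hsz⟩ := hs
    have hss : s * s = 1 := Subtype.ext (invol_mul_self hs2)
    rcases d.cover (π s) (hπP s) with ⟨i, hi⟩ | h
    · exfalso
      have e : π s * π s = 1 := by rw [← map_mul, hss, map_one]
      rw [hi, ← zpow_add, ← two_mul, d.zpow_eq_one] at e
      have hodd1 : ∀ v : C, π v = 1 → v * v = 1 → (v : G) = 1 := fun v hv hv2 => by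
        obtain ⟨q, hq⟩ := hπodd v hv
        have h1 := pow_orderOf_eq_one v
        rw [hq, pow_succ, pow_mul, sq, hv2, one_pow, one_mul] at h1
        rw [h1]; rfl
      rcases d.zpow_of_half_dvd ((Int.mul_dvd_mul_iff_left two_ne_zero).1 e) with e1 | e1
      · exact invol_ne_one hs2 (hodd1 s (hi.trans e1) hss)
      · have h1 : ((zC * s : C) : G) = 1 := hodd1 _ (by rw [map_mul, hπz, hi, e1, hzz])
          (by
            rw [show zC * s * (zC * s) = zC * zC * (s * s) by
              rw [mul_assoc, ← mul_assoc s, ← (hzcomm s).eq, mul_assoc, ← mul_assoc zC zC],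
              hss, mul_one]
            exact Subtype.ext hzz)
        exact hsz ((eq_inv_of_mul_eq_one_right h1).trans (invol_inv d.orderOf_z))
    · exact h
  choose! idx hidx' using fun s : G => fun hs : s ∈ C ∧ s ∈ S =>
    hidx ⟨s, hs.1⟩ hs.2
  have hSC : ∀ {s}, s ∈ S → s ∈ C := fun hs => (Finset.mem_filter.1 hs).2.1
  have hroot : ∀ {i j : ℤ}, 2 * d.half ∣ i - j → ζ ^ i = ζ ^ j := fun {i j} h => by
    rw [← mul_inv_eq_one₀ (zpow_ne_zero _ h0), ← zpow_neg, ← zpow_add₀ h0,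
      hζ.zpow_eq_one_iff_dvd, hord]
    simpa [sub_eq_add_neg] using h
  -- the value at pairs
  have hpair : ∀ s ∈ S, ∀ u ∈ S, (if d.z ∈ zpowers (s * u) then Θ (s * u) else 0) =
      ζ ^ (idx s) * ζ ^ (-idx u) + ζ ^ (-idx s) * ζ ^ (idx u) - 2 := by
    intro s hs u hu
    set g : C := ⟨s, hSC hs⟩ * ⟨u, hSC hu⟩ with hg
    have hπg : π g = d.x ^ (idx s - idx u) := by
      rw [hg, map_mul, hidx' s ⟨hSC hs, hs⟩, hidx' u ⟨hSC hu, hu⟩, d.r_mul_r]
    rw [← zpow_add₀ h0, ← zpow_add₀ h0, show -idx s + idx u = -(idx s - idx u) by ring,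
      ← sub_eq_add_neg]
    set k := idx s - idx u with hk
    by_cases hdvd : 2 * d.half ∣ k
    · have e1 : π g = 1 := by rw [hπg, d.zpow_eq_one.2 hdvd]
      have ho : Odd (orderOf (s * u)) := by
        rw [show s * u = (g : G) from rfl, Subgroup.orderOf_coe]; exact hπodd g e1
      rw [if_neg, hroot (show 2 * d.half ∣ k - 0 by simpa using hdvd),
        hroot (show 2 * d.half ∣ -k - 0 by simpa using hdvd), zpow_zero]
      · norm_num
      · intro hmem
        have hd := orderOf_dvd_of_mem_zpowers hmem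
        rw [d.orderOf_z] at hd
        exact (Nat.not_even_iff_odd.2 ho) (even_iff_two_dvd.2 hd)
    obtain ⟨m, hm⟩ : ∃ m : ℕ, (m : ℤ) = k % (N : ℤ) :=
      ⟨_, Int.toNat_of_nonneg (Int.emod_nonneg _ (by exact_mod_cast NeZero.ne N))⟩
    have hmN : m < N := by
      have := Int.emod_lt_of_pos k (show (0 : ℤ) < N by exact_mod_cast NeZero.pos N)
      omega
    have hxm : d.x ^ k = d.x ^ m := by
      rw [← zpow_natCast, hm, hN, ← d.orderOf_x, zpow_mod_orderOf]
    have hm0 : 0 < m := by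
      rcases Nat.eq_zero_or_pos m with e | e
      · rw [e, pow_zero, d.zpow_eq_one] at hxm; exact absurd hxm hdvd
      · exact e
    have hxm1 : d.x ^ m ≠ 1 := fun e => hdvd (d.zpow_eq_one.1 (hxm.trans e))
    rw [hxm] at hπg
    have hkm : ζ ^ k = ζ ^ m := by
      rw [← zpow_natCast]
      refine hroot ?_
      rw [hm, ← hord, Int.emod_def, sub_sub_cancel]
      exact dvd_mul_right _ _
    -- the central involution is a power of the product
    have hmem : d.z ∈ zpowers (s * u) := by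
      obtain ⟨a, ha⟩ : ∃ a, orderOf (d.x ^ m) = 2 ^ a := by
        obtain ⟨i, -, hi⟩ := (Nat.dvd_prime_pow Nat.prime_two).1
          ((orderOf_pow_dvd m).trans (dvd_of_eq d.orderOf_x))
        exact ⟨i, hi⟩
      rcases a with _ | a
      · exact absurd (orderOf_eq_one_iff.1 (by rw [ha, pow_zero])) hxm1
      have e1 : (d.x ^ m) ^ 2 ^ a = d.z := by
        have h2 : ((d.x ^ m) ^ 2 ^ a) * ((d.x ^ m) ^ 2 ^ a) = 1 := by
          rw [← pow_add, ← two_mul, ← pow_succ', ← ha, pow_orderOf_eq_one]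
        have h3 : (d.x ^ m) ^ 2 ^ a ≠ 1 :=
          pow_ne_one_of_lt_orderOf (pow_ne_zero _ two_ne_zero)
            (by rw [ha]; exact Nat.pow_lt_pow_right one_lt_two (Nat.lt_succ_self a))
        rw [← pow_mul, ← zpow_natCast] at h2 h3 ⊢
        rw [← zpow_add, d.zpow_eq_one, ← two_mul] at h2
        exact (d.zpow_of_half_dvd ((Int.mul_dvd_mul_iff_left two_ne_zero).1 h2)).resolve_left h3
      have e2 : π (zC * g ^ 2 ^ a) = 1 := by
        rw [map_mul, map_pow, hπz, hπg, e1, hzz]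
      obtain ⟨q, hq⟩ := hπodd _ e2
      have e3 := pow_orderOf_eq_one (zC * g ^ 2 ^ a)
      rw [hq, (hzcomm (g ^ 2 ^ a)).mul_pow, pow_succ zC, pow_mul zC,
        show zC ^ 2 = 1 from (sq zC).trans (Subtype.ext hzz), one_pow, one_mul] at e3
      have e4 : (d.z : G) * ((s * u) ^ 2 ^ a) ^ (2 * q + 1) = 1 := congrArg Subtype.val e3
      rw [eq_inv_of_mul_eq_one_left e4]
      exact inv_mem (pow_mem (pow_mem (mem_zpowers _) _) _)
    rw [if_pos hmem]
    -- the two-part
    obtain ⟨v, t, htv, hcomm, htk, hv⟩ := exists_isPPrimePart (p := 2) g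
    obtain ⟨T, hT⟩ : ∃ T : Sylow 2 C, zpowers t ≤ T := by
      obtain ⟨i, hi⟩ := htk
      exact (IsPGroup.of_card (p := 2) (n := i) (G := zpowers t)
        (by rw [Nat.card_zpowers, hi])).exists_le_sylow
    obtain ⟨c, hc⟩ := MulAction.exists_smul_eq C T
      (P.subtype (fun g hg => hPC hg) : Sylow 2 C)
    have htP : c * t * c⁻¹ ∈ ((P.subtype (fun g hg => hPC hg) : Sylow 2 C) : Subgroup C) := by
      rw [← hc, Sylow.coe_subgroup_smul]
      exact ⟨_, hT (mem_zpowers t), rfl⟩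
    have hπt : π t = d.x ^ m := by
      rw [← hπg, ← htv, map_mul, hπ1 v (Nat.odd_iff.2 (Nat.two_dvd_ne_zero.1 hv)), mul_one]
    have htconj : IsConj (t : G) (d.x ^ m) := by
      have e := hπid (c * t * c⁻¹) htP
      rw [map_mul, map_mul, map_inv, hπt] at e
      refine (isConj_iff.2 ⟨(c : G), e.symm⟩ : IsConj (t : G) (π c * d.x ^ m * (π c)⁻¹)).trans ?_
      exact (isConj_iff.2 ⟨π c, rfl⟩).symm
    have htG : ∃ i, orderOf (t : G) = 2 ^ i := by
      simpa only [Subgroup.orderOf_coe] using htk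
    have ht1 : (t : G) ≠ 1 := fun e => by
      rw [e] at htconj
      exact hxm1 (isConj_one_right.1 htconj)
    have key : ∀ η ∈ principalBlock M G, (η : G → ℂ) (s * u) = (η : G → ℂ) (d.x ^ m) := by
      intro η hη
      rw [show s * u = (t : G) * (v : G) from (congrArg Subtype.val htv).symm,
        apply_section_of_complement hM htG (by rwa [Subgroup.orderOf_coe])
          (congrArg Subtype.val hcomm.eq) (hasNormalPComplement_centralizer d htG ht1) hη]
      exact (isConj_iff_forall_irr _ _).1 htconj η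
    simp only [hΘ, key χ hχB, key E0 hEB, hval m hm0 hmN, hE0val m hm0 hmN]
    rw [zpow_neg, hkm]
    linear_combination (ζ ^ m + (ζ ^ m)⁻¹ - 1) * hδ2
  -- reduce to the central involution
  set W : G → ℂ := fun w => ∑ s ∈ K, ∑ u ∈ K, if w ∈ zpowers (s * u) then Θ (s * u) else 0 with hW
  have hWtot : ∑ s ∈ K, ∑ u ∈ K, Θ (s * u) = ∑ w ∈ K, W w := by
    simp only [hW]
    rw [Finset.sum_comm (s := K) (t := K) (f := fun w s => ∑ u ∈ K,
      if w ∈ zpowers (s * u) then Θ (s * u) else 0)]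
    refine Finset.sum_congr rfl fun s _ => ?_
    rw [Finset.sum_comm]
    refine Finset.sum_congr rfl fun u _ => ?_
    by_cases ho : Odd (orderOf (s * u))
    · simp [hΘodd _ ho]
    obtain ⟨q, hq⟩ := Nat.not_odd_iff_even.1 ho
    have hpos := orderOf_pos (s * u)
    have hw : orderOf ((s * u) ^ q) = 2 := by
      rw [orderOf_pow, hq, Nat.gcd_eq_right ⟨2, by ring⟩, ← two_mul, Nat.mul_div_cancel _ (by omega)]
    rw [Finset.sum_eq_single ((s * u) ^ q), if_pos (pow_mem (mem_zpowers _) _)]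
    · intro w hw' hne'
      exact if_neg fun hmem => hne'
        (invol_unique_zpowers ((hKmem w).1 hw') hw hmem (pow_mem (mem_zpowers _) _))
    · exact fun hn' => absurd ((hKmem _).2 hw) hn'
  have hWconst : ∀ w ∈ K, W w = W d.z := by
    intro w hw
    obtain ⟨c, rfl⟩ := isConj_iff.1 ((hKclass w).1 hw)
    simp only [hW]
    refine (Finset.sum_equiv (MulAut.conj c).toEquiv (fun s => hKconj s c) fun s _ => ?_).symm
    refine Finset.sum_equiv (MulAut.conj c).toEquiv (fun u => hKconj u c) fun u _ => ?_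
    simp only [MulEquiv.toEquiv_eq_coe, MulEquiv.coe_toEquiv, MulAut.conj_apply]
    have e : c * s * c⁻¹ * (c * u * c⁻¹) = c * (s * u) * c⁻¹ := by group
    refine if_congr ?_ (by rw [e, hΘconj]) rfl
    rw [e, show c * (s * u) * c⁻¹ = (MulAut.conj c).toMonoidHom (s * u) from rfl,
      ← MonoidHom.map_zpowers, show c * d.z * c⁻¹ = (MulAut.conj c).toMonoidHom d.z from rfl,
      Subgroup.mem_map_iff_mem (MulAut.conj c).injective]
  have hWz : W d.z = ∑ s ∈ S, ∑ u ∈ S, (ζ ^ (idx s) * ζ ^ (-idx u) +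
      ζ ^ (-idx s) * ζ ^ (idx u) - 2) := by
    simp only [hW]
    have hzero : ∀ s ∈ K, ∀ u ∈ K, s ∉ S ∨ u ∉ S →
        (if d.z ∈ zpowers (s * u) then Θ (s * u) else 0) = 0 := by
      intro s hs u hu hor
      refine if_neg fun hmem => ?_
      have hs2 := (hKmem s).1 hs
      have hu2 := (hKmem u).1 hu
      obtain ⟨q, hq⟩ := hmem
      simp only at hq
      have hs' : s ∈ C := by
        refine mem_centralizer_singleton_iff.2 (mul_inv_eq_iff_eq_mul.1 ?_)
        conv_lhs => rw [← hq, ← conj_zpow, show s * (s * u) * s⁻¹ = (s * u)⁻¹ by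
          rw [← mul_assoc, invol_mul_self hs2, one_mul, mul_inv_rev, invol_inv hu2], inv_zpow, hq]
        exact invol_inv d.orderOf_z
      have hu' : u ∈ C := by
        refine mem_centralizer_singleton_iff.2 (mul_inv_eq_iff_eq_mul.1 ?_)
        conv_lhs => rw [← hq, ← conj_zpow, show u * (s * u) * u⁻¹ = (s * u)⁻¹ by
          rw [mul_assoc u, mul_assoc, mul_inv_cancel, mul_one,
            mul_inv_rev, invol_inv hs2, invol_inv hu2], inv_zpow, hq]
        exact invol_inv d.orderOf_z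
      have hor' : s = d.z ∨ u = d.z := by
        rcases hor with h | h
        · exact Or.inl (by_contra fun e => h (Finset.mem_filter.2 ⟨hs, hs', e⟩))
        · exact Or.inr (by_contra fun e => h (Finset.mem_filter.2 ⟨hu, hu', e⟩))
      have hcm : Commute s u := by
        rcases hor' with e | e
        · rw [e]; exact (mem_centralizer_singleton_iff.1 hu').symm
        · rw [e]; exact mem_centralizer_singleton_iff.1 hs'
      have hsq : (s * u) * (s * u) = 1 := by
        rw [hcm.symm.mul_mul_mul_comm, invol_mul_self hs2, invol_mul_self hu2, one_mul]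
      by_cases h1 : s * u = 1
      · rw [h1, one_zpow] at hq
        exact invol_ne_one d.orderOf_z hq.symm
      rcases (mem_zpowers_invol (invol_iff.2 ⟨hsq, h1⟩)).1 ⟨q, hq⟩ with e | e
      · exact invol_ne_one d.orderOf_z e
      · rcases hor' with e' | e'
        · rw [e', left_eq_mul] at e; exact invol_ne_one hu2 e
        · rw [e', right_eq_mul] at e; exact invol_ne_one hs2 e
    have hsub : S ⊆ K := Finset.filter_subset _ _
    rw [← Finset.sum_subset hsub fun s hs hns =>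
      Finset.sum_eq_zero fun u hu => hzero s hs u hu (Or.inl hns)]
    refine Finset.sum_congr rfl fun s hs => ?_
    rw [← Finset.sum_subset hsub fun u hu hnu => hzero s (hsub hs) u hu (Or.inr hnu)]
    exact Finset.sum_congr rfl fun u hu => hpair s hs u hu
  -- the twist
  have hxC : d.x ∈ C := hPC d.x_mem
  have hSconj : ∀ c ∈ C, ∀ s, s ∈ S ↔ c * s * c⁻¹ ∈ S := by
    intro c hc s
    have hcz : c * d.z * c⁻¹ = d.z := mul_inv_eq_iff_eq_mul.2 (mem_centralizer_singleton_iff.1 hc)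
    simp only [hS, Finset.mem_filter, ← hKconj s c]
    rw [Subgroup.mul_mem_cancel_right C (inv_mem hc), Subgroup.mul_mem_cancel_left C hc]
    refine and_congr_right fun _ => and_congr_right fun _ => not_congr ⟨fun e => by rw [e, hcz],
      fun e => conj_injective (e.trans hcz.symm)⟩
  have hidxconj : ∀ s ∈ S, ζ ^ idx (d.x * s * d.x⁻¹) = ζ ^ (idx s + 2) := by
    intro s hs
    have hs' := (hSconj _ hxC s).1 hs
    apply hroot
    rw [← d.r_inj, ← hidx' _ ⟨hSC hs', hs'⟩, show (⟨d.x * s * d.x⁻¹, hSC hs'⟩ : C) =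
      ⟨d.x, hxC⟩ * ⟨s, hSC hs⟩ * ⟨d.x, hxC⟩⁻¹ from rfl, map_mul, map_mul, map_inv,
      hπid ⟨d.x, hxC⟩ d.x_mem, hidx' s ⟨hSC hs, hs⟩]
    have := d.conj_r 1 (idx s)
    simpa using this
  have hsum1 : ∑ s ∈ S, ζ ^ idx s = 0 :=
    sum_eq_zero_of_twist _ (MulAut.conj d.x).toEquiv (fun s => hSconj _ hxC s) (c := ζ ^ (2 : ℤ))
      (fun e => by
        rw [hζ.zpow_eq_one_iff_dvd] at e
        have := Int.le_of_dvd two_pos e
        omega)
      fun s hs => by
        simp only [MulEquiv.toEquiv_eq_coe, MulEquiv.coe_toEquiv, MulAut.conj_apply]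
        rw [hidxconj s hs, zpow_add₀ h0, mul_comm]
  have hWval : W d.z = -2 * (S.card : ℂ) ^ 2 := by
    rw [hWz]
    simp only [Finset.sum_sub_distrib, Finset.sum_add_distrib, ← Finset.mul_sum, ← Finset.sum_mul,
      hsum1, Finset.sum_const, nsmul_eq_mul]
    ring
  -- the number of non-central involutions
  set T : ℤ → Finset G := fun i => Finset.univ.filter (fun s => ∃ c ∈ C, c * d.r i * c⁻¹ = s)
    with hT
  have hSeq : S = T 0 ∪ T 1 := by
    ext s
    constructor
    · intro hs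
      have hsC := hSC hs
      obtain ⟨i, hi⟩ := hidx ⟨s, hsC⟩ hs
      set o : C := ⟨d.r i, hPC (d.r_mem i)⟩ * ⟨s, hsC⟩ with ho
      have ho1 : π o = 1 := by
        rw [ho, map_mul, hπid _ (d.r_mem i), hi, d.r_mul_r, sub_self, zpow_zero]
      obtain ⟨q, hq⟩ := hπodd o ho1
      have hs2 : orderOf s = 2 := (hKmem s).1 (Finset.mem_filter.1 hs).1
      set o' : G := (o : G) with ho'
      have ho'' : o' = d.r i * s := rfl
      have hom : o' ^ (2 * q + 1) = 1 := by
        rw [← hq, ho', ← Subgroup.coe_pow, pow_orderOf_eq_one]; rfl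
      have hinv : d.r i * o' * (d.r i)⁻¹ = o'⁻¹ := by
        rw [ho'', mul_inv_rev, ← mul_assoc, invol_mul_self (d.orderOf_r i), one_mul,
          invol_inv hs2]
      set c := o' ^ (q + 1) with hc
      have hrc : d.r i * c = c⁻¹ * d.r i := by
        rw [hc, ← inv_pow, ← hinv, conj_pow, inv_mul_cancel_right]
      have hconj : c⁻¹ * d.r i * (c⁻¹)⁻¹ = s := by
        rw [inv_inv, mul_assoc, hrc, ← mul_assoc, ← mul_inv_rev, hc, ← pow_add,
          show q + 1 + (q + 1) = 2 * q + 1 + 1 by omega, pow_succ, hom, one_mul, ho'', mul_inv_rev,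
          inv_mul_cancel_right, invol_inv hs2]
      have hcC : c⁻¹ ∈ C := inv_mem (pow_mem o.2 _)
      obtain ⟨j, hj⟩ : ∃ j : ℤ, i = 0 + 2 * j ∨ i = 1 + 2 * j := ⟨i / 2, by omega⟩
      have hxj : d.x ^ j ∈ C := zpow_mem hxC j
      rcases hj with rfl | rfl
      · refine Finset.mem_union_left _ (Finset.mem_filter.2 ⟨Finset.mem_univ _,
          c⁻¹ * d.x ^ j, mul_mem hcC hxj, ?_⟩)
        rw [← hconj, ← d.conj_r]; group
      · refine Finset.mem_union_right _ (Finset.mem_filter.2 ⟨Finset.mem_univ _,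
          c⁻¹ * d.x ^ j, mul_mem hcC hxj, ?_⟩)
        rw [← hconj, ← d.conj_r]; group
    · intro hs
      obtain ⟨i, c, hc, rfl⟩ : ∃ i : ℤ, ∃ c ∈ C, c * d.r i * c⁻¹ = s := by
        rcases Finset.mem_union.1 hs with h | h
        · exact ⟨0, (Finset.mem_filter.1 h).2⟩
        · exact ⟨1, (Finset.mem_filter.1 h).2⟩
      exact (hSconj c hc _).1 (Finset.mem_filter.2 ⟨(hKmem _).2 (d.orderOf_r i), hPC (d.r_mem i),
        (d.z_ne_r i).symm⟩)
  have hTd : Disjoint (T 0) (T 1) := by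
    rw [Finset.disjoint_left]
    intro s hs0 hs1
    obtain ⟨c, hc, hc'⟩ := (Finset.mem_filter.1 hs0).2
    obtain ⟨b, hb, hb'⟩ := (Finset.mem_filter.1 hs1).2
    set e : C := ⟨b, hb⟩⁻¹ * ⟨c, hc⟩ with he
    have h1 : e * ⟨d.r 0, hPC (d.r_mem 0)⟩ * e⁻¹ = ⟨d.r 1, hPC (d.r_mem 1)⟩ := by
      apply Subtype.ext
      show b⁻¹ * c * d.r 0 * (b⁻¹ * c)⁻¹ = d.r 1
      rw [show b⁻¹ * c * d.r 0 * (b⁻¹ * c)⁻¹ = b⁻¹ * (c * d.r 0 * c⁻¹) * b by group, hc', ← hb']
      group
    have h2 := congrArg π h1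
    rw [map_mul, map_mul, map_inv, hπid ⟨d.r 0, hPC (d.r_mem 0)⟩ (d.r_mem 0),
      hπid ⟨d.r 1, hPC (d.r_mem 1)⟩ (d.r_mem 1)] at h2
    rcases d.cover (π e) (hπP e) with ⟨j, hj⟩ | ⟨j, hj⟩
    · rw [hj, d.conj_r, d.r_inj] at h2
      obtain ⟨q, hq⟩ := h2
      rw [hhalf] at hq
      obtain ⟨w, hw⟩ := hHe
      rw [hw] at hq
      push_cast at hq
      have : (1 : ℤ) = 2 * (j - q * (w + w)) := by linear_combination -hq
      omega
    · rw [show π e = d.r j from hj, d.r_inv, d.r_mul_r, d.zpow_mul_r, d.r_inj] at h2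
      obtain ⟨q, hq⟩ := h2
      have : (1 : ℤ) = 2 * (j - q * d.half) := by linear_combination -hq
      omega
  have hTcard : ∀ i, (T i).card * Nat.card (centralizer ({d.z, d.r i} : Set G)) = Nat.card C := by
    intro i
    have h := card_subClass C (hPC (d.r_mem i))
    have e : (C ⊓ centralizer ({d.r i} : Set G) : Subgroup G) =
        centralizer ({d.z, d.r i} : Set G) := by
      ext g
      simp only [hC, mem_inf, mem_centralizer_iff,
        Set.mem_insert_iff, Set.mem_singleton_iff, forall_eq_or_imp, forall_eq]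
    rwa [e] at h
  -- conclusion
  have hχdeg := deg_eq χ
  have hEdeg : (E0 : G → ℂ) 1 = (χ : G → ℂ) 1 + δ := by
    have := (hrel 1 (by rw [orderOf_one]; exact odd_one) ⟨0, hj0⟩).2
    linear_combination (-(δ : ℂ)) * this - ((E0 : G → ℂ) 1 - (χ : G → ℂ) 1) * hδ2
  have hEne : (E0 : G → ℂ) 1 ≠ 0 := deg_ne_zero E0
  have hχne : (χ : G → ℂ) 1 ≠ 0 := deg_ne_zero χ
  have hzval : (χ : G → ℂ) d.z = δ ∧ (E0 : G → ℂ) d.z = -2 * δ := by
    rw [hz]
    refine ⟨hval H (by omega) (by omega), ?_⟩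
    rw [hE0val H (by omega) (by omega), hzH]
    norm_num
    ring
  have hlhs : ∑ s ∈ K, ∑ u ∈ K, Θ (s * u) = (K.card : ℂ) ^ 2 *
      (-1 - (δ : ℂ) / (χ : G → ℂ) 1 + 4 * δ / ((χ : G → ℂ) 1 + δ)) := by
    simp only [hΘ, Finset.sum_add_distrib, Finset.sum_sub_distrib, ← Finset.mul_sum, hchar,
      hzval.1, hzval.2, Finset.sum_const, nsmul_eq_mul, hEdeg]
    have e3 : (δ : ℂ) ^ 3 = δ := by linear_combination (δ : ℂ) * hδ2
    linear_combination (K.card : ℂ) ^ 2 *
      (4 / ((χ : G → ℂ) 1 + δ) - 1 / (χ : G → ℂ) 1) * e3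
  rw [hWtot, Finset.sum_congr rfl hWconst, Finset.sum_const, nsmul_eq_mul, hWval] at hlhs
  have hKne : (K.card : ℂ) ≠ 0 :=
    Nat.cast_ne_zero.2 (Finset.card_pos.2 ⟨d.z, (hKmem _).2 d.orderOf_z⟩).ne'
  have hS2 : S.card = (T 0).card + (T 1).card := by
    rw [hSeq, Finset.card_union_of_disjoint hTd]
  have hchi : charDegree (χ : G → ℂ) ≠ 0 := (deg_pos χ).ne'
  set c := Nat.card C with hcdef
  set a := Nat.card (centralizer ({d.z, d.r 0} : Set G)) with hadef
  set b := Nat.card (centralizer ({d.z, d.r 1} : Set G)) with hbdef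
  set x := charDegree (χ : G → ℂ) with hxdef
  have hc0 : (c : ℚ) ≠ 0 := Nat.cast_ne_zero.2 Nat.card_pos.ne'
  have ha0 : (a : ℚ) ≠ 0 := Nat.cast_ne_zero.2 Nat.card_pos.ne'
  have hb0 : (b : ℚ) ≠ 0 := Nat.cast_ne_zero.2 Nat.card_pos.ne'
  have hxδ : (x : ℂ) + δ ≠ 0 := by rw [← hχdeg, ← hEdeg]; exact hEne
  have hxδ' : (x : ℚ) + δ ≠ 0 := fun e => hxδ (by exact_mod_cast congrArg (fun q : ℚ => (q : ℂ)) e)
  have hq : (K.card : ℚ) * ((x : ℚ) - δ) ^ 2 = 2 * (S.card : ℚ) ^ 2 * x * ((x : ℚ) + δ) := by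
    have hc : (K.card : ℂ) * ((x : ℂ) - δ) ^ 2 = 2 * (S.card : ℂ) ^ 2 * x * ((x : ℂ) + δ) := by
      rw [hχdeg] at hlhs
      have hx0 : (x : ℂ) ≠ 0 := Nat.cast_ne_zero.2 hchi
      have key : (K.card : ℂ) * (-1 - (δ : ℂ) / x + 4 * δ / ((x : ℂ) + δ)) =
          -2 * (S.card : ℂ) ^ 2 := mul_left_cancel₀ hKne (by linear_combination -hlhs)
      have hQ : -1 - (δ : ℂ) / x + 4 * δ / ((x : ℂ) + δ) =
          -((x : ℂ) - δ) ^ 2 / ((x : ℂ) * ((x : ℂ) + δ)) := by
        field_simp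
        ring
      rw [hQ, mul_div_assoc', div_eq_iff (mul_ne_zero hx0 hxδ)] at key
      linear_combination -key
    exact_mod_cast hc
  have hfinal : (Nat.card G : ℚ) * ((x : ℚ) - δ) ^ 2 =
      2 * (x : ℚ) * ((x : ℚ) + δ) * (c : ℚ) ^ 3 * (1 / (a : ℚ) + 1 / (b : ℚ)) ^ 2 := by
    have h0' : ((T 0).card : ℚ) = (c : ℚ) / a := by
      rw [eq_div_iff ha0]; exact_mod_cast hTcard 0
    have h1' : ((T 1).card : ℚ) = (c : ℚ) / b := by
      rw [eq_div_iff hb0]; exact_mod_cast hTcard 1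
    rw [← hKcard, hS2] at *
    push_cast [h0', h1'] at hq ⊢
    field_simp at hq ⊢
    linear_combination hq
  refine ⟨fun e => ?_, hfinal⟩
  have e' : (x : ℚ) = δ := by exact_mod_cast e
  rw [e', sub_self, zero_pow two_ne_zero, mul_zero] at hfinal
  have hx0 : (0 : ℚ) < x := by exact_mod_cast Nat.pos_of_ne_zero hchi
  rw [e'] at hx0 hxδ'
  have ha1 : (0 : ℚ) < a := lt_of_le_of_ne (Nat.cast_nonneg a) ha0.symm
  have hb1 : (0 : ℚ) < b := lt_of_le_of_ne (Nat.cast_nonneg b) hb0.symm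
  have hc1 : (0 : ℚ) < c := lt_of_le_of_ne (Nat.cast_nonneg c) hc0.symm
  have : (0 : ℚ) < 2 * (δ : ℚ) * ((δ : ℚ) + δ) * (c : ℚ) ^ 3 * (1 / (a : ℚ) + 1 / (b : ℚ)) ^ 2 := by
    positivity
  linarith

end CfsgLib.Blocks
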