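import Mathlib.Algebra.BigOperators.Group.Finset.Basic
import Mathlib.Algebra.Order.BigOperators.Group.Finset
import Mathlib.Algebra.BigOperators.Fin
import Mathlib.Tactic.Linarith
import Mathlib.Tactic.Positivity
import Mathlib.Tactic.NormNum
import Mathlib.Tactic.Ring

/-!
# The sign configuration for a dihedral Sylow subgroup
-/

namespace CfsgLib.Blocks

theorem dihedral_pairs {ι : Type*} [DecidableEq ι] (s : Finset ι) (one : ι) (hone : one ∈ s)
    (d : ι → ℕ) (hd : ∀ u ∈ s, 0 < d u) (hd1 : d one = 1) {h : ℕ} (hh : Odd h)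
    (v : Fin h → ι → ℤ) (w : ι → ℤ) (hv1 : ∀ k, v k one = -1) (hw1 : w one = -1)
    (hvn : ∀ k, ∑ u ∈ s, v k u ^ 2 = 3) (hwn : ∑ u ∈ s, w u ^ 2 = 4)
    (hvv : ∀ k k', k ≠ k' → ∑ u ∈ s, v k u * v k' u = 2)
    (hvw : ∀ k, ∑ u ∈ s, v k u * w u = 2)
    (hvd : ∀ k, ∑ u ∈ s, v k u * (d u : ℤ) = 0) (hwd : ∑ u ∈ s, w u * (d u : ℤ) = 0) :
    ∃ (x y z : ι) (δ s₂ s₃ : ℤ) (e : Fin h → ι),
      x ∈ s ∧ y ∈ s ∧ z ∈ s ∧ x ≠ one ∧ y ≠ one ∧ z ≠ one ∧ x ≠ y ∧ x ≠ z ∧ y ≠ z ∧
      (∀ k, e k ∈ s ∧ e k ≠ one ∧ e k ≠ x ∧ e k ≠ y ∧ e k ≠ z) ∧ Function.Injective e ∧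
      (δ = 1 ∨ δ = -1) ∧ (s₂ = 1 ∨ s₂ = -1) ∧ (s₃ = 1 ∨ s₃ = -1) ∧
      (∀ k, ∀ u ∈ s, v k u = if u = one then -1 else if u = x then δ else
        if u = e k then -δ else 0) ∧
      (∀ u ∈ s, w u = if u = one then -1 else if u = x then δ else if u = y then s₂ else
        if u = z then s₃ else 0) := by
  classical
  set T := s.erase one with hT
  have split : ∀ F : ι → ℤ, ∑ u ∈ s, F u = F one + ∑ u ∈ T, F u :=
    fun F => (Finset.add_sum_erase _ _ hone).symm
  have hTd : ∀ u ∈ T, (1 : ℤ) ≤ d u := fun u hu => by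
    have := hd u (Finset.mem_of_mem_erase hu)
    omega
  have hvn' : ∀ k, ∑ u ∈ T, v k u ^ 2 = 2 := fun k => by
    have := hvn k; rw [split, hv1] at this; linarith
  have hvd' : ∀ k, ∑ u ∈ T, v k u * (d u : ℤ) = 1 := fun k => by
    have := hvd k; rw [split, hv1, hd1, Nat.cast_one] at this; linarith
  have hwn' : ∑ u ∈ T, w u ^ 2 = 3 := by rw [split, hw1] at hwn; linarith
  have hwd' : ∑ u ∈ T, w u * (d u : ℤ) = 1 := by rw [split, hw1, hd1, Nat.cast_one] at hwd; linarith
  have hpm : ∀ k, ∀ u ∈ T, v k u = 1 ∨ v k u = 0 ∨ v k u = -1 := fun k u hu => by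
    have h2 : v k u ^ 2 ≤ 2 :=
      hvn' k ▸ Finset.single_le_sum (f := fun u => v k u ^ 2) (fun _ _ => sq_nonneg _) hu
    have a : -1 ≤ v k u := by nlinarith
    have b : v k u ≤ 1 := by nlinarith
    omega
  have hwpm : ∀ u ∈ T, w u = 1 ∨ w u = 0 ∨ w u = -1 := fun u hu => by
    have h2 : w u ^ 2 ≤ 3 :=
      hwn' ▸ Finset.single_le_sum (f := fun u => w u ^ 2) (fun _ _ => sq_nonneg _) hu
    have a : -1 ≤ w u := by nlinarith
    have b : w u ≤ 1 := by nlinarith
    omega
  have hPM : ∀ k, ∃ P M : ι, P ∈ T ∧ M ∈ T ∧ P ≠ M ∧ v k P = 1 ∧ v k M = -1 ∧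
      ∀ u ∈ T, u ≠ P → u ≠ M → v k u = 0 := by
    intro k
    obtain ⟨P, hP, hPv⟩ : ∃ P ∈ T, v k P = 1 := by
      by_contra hno
      push Not at hno
      have hle : ∑ u ∈ T, v k u * (d u : ℤ) ≤ 0 := Finset.sum_nonpos fun u hu => by
        rcases hpm k u hu with h1 | h1 | h1
        · exact absurd h1 (hno u hu)
        all_goals rw [h1]; have := hTd u hu; nlinarith
      rw [hvd'] at hle
      norm_num at hle
    have hA := hvn' k
    rw [← Finset.add_sum_erase _ _ hP, hPv] at hA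
    obtain ⟨Q, hQ, hQv⟩ : ∃ Q ∈ T.erase P, v k Q ≠ 0 := by
      by_contra hno
      push Not at hno
      rw [Finset.sum_eq_zero fun u hu => by rw [hno u hu]; norm_num] at hA
      norm_num at hA
    have hQ2 : 1 ≤ v k Q ^ 2 := by
      have := sq_pos_iff.2 hQv
      omega
    rw [← Finset.add_sum_erase _ _ hQ] at hA
    have hrest : ∀ u ∈ (T.erase P).erase Q, v k u = 0 := fun u hu => by
      by_contra hu0
      have hu2 := sq_pos_iff.2 hu0
      have hle := Finset.single_le_sum (f := fun u => v k u ^ 2) (fun _ _ => sq_nonneg _) hu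
      linarith
    have hD := hvd' k
    rw [← Finset.add_sum_erase _ _ hP, ← Finset.add_sum_erase _ _ hQ, hPv,
      Finset.sum_eq_zero (fun u hu => by rw [hrest u hu, zero_mul])] at hD
    have hQm : v k Q = -1 := by
      rcases hpm k Q (Finset.mem_of_mem_erase hQ) with h1 | h1 | h1
      · exfalso
        rw [h1] at hD
        have := hTd P hP
        have := hTd Q (Finset.mem_of_mem_erase hQ)
        linarith
      · exact absurd h1 hQv
      · exact h1
    exact ⟨P, Q, hP, Finset.mem_of_mem_erase hQ, (Finset.ne_of_mem_erase hQ).symm, hPv, hQm,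
      fun u hu h1 h2 => hrest u (Finset.mem_erase.2 ⟨h2, Finset.mem_erase.2 ⟨h1, hu⟩⟩)⟩
  choose P M hP hM hne hvP hvM hvrest using hPM
  have hsum : ∀ k (F : ι → ℤ), ∑ u ∈ T, v k u * F u = F (P k) - F (M k) := by
    intro k F
    rw [← Finset.sum_subset (show ({P k, M k} : Finset ι) ⊆ T by
        simp [Finset.insert_subset_iff, hP k, hM k]) fun u hu hnot => by
      simp only [Finset.mem_insert, Finset.mem_singleton, not_or] at hnot
      rw [hvrest k u hu hnot.1 hnot.2, zero_mul], Finset.sum_pair (hne k), hvP, hvM]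
    ring
  have hwv : ∀ k, w (P k) - w (M k) = 1 := fun k => by
    have := hvw k
    rw [split, hv1, hw1, hsum] at this
    linarith
  have hshare : ∀ k k', k ≠ k' → (P k = P k' ∧ M k ≠ M k') ∨ (P k ≠ P k' ∧ M k = M k') := by
    intro k k' hk
    have h0 := hvv k k' hk
    rw [split, hv1, hv1, hsum] at h0
    by_cases hPP : P k = P k'
    · left
      refine ⟨hPP, fun hMM => ?_⟩
      rw [hPP, hMM, hvP, hvM] at h0
      norm_num at h0
    · right
      refine ⟨hPP, ?_⟩
      by_contra hMM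
      have a : v k' (P k) ≤ 0 := by
        by_cases e : P k = M k'
        · rw [e, hvM]; norm_num
        · rw [hvrest k' _ (hP k) hPP e]
      have b : 0 ≤ v k' (M k) := by
        by_cases e : M k = P k'
        · rw [e, hvP]; norm_num
        · rw [hvrest k' _ (hM k) e hMM]
      linarith
  obtain ⟨k₀⟩ : Nonempty (Fin h) := ⟨⟨0, hh.pos⟩⟩
  set W := T.filter (fun u => w u ≠ 0) with hW
  have hWval : ∀ u ∈ W, w u = 1 ∨ w u = -1 := fun u hu => by
    obtain ⟨h1, h2⟩ := Finset.mem_filter.1 hu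
    rcases hwpm u h1 with h3 | h3 | h3
    · exact Or.inl h3
    · exact absurd h3 h2
    · exact Or.inr h3
  have hW3 : W.card = 3 := by
    have e : ∑ u ∈ W, w u ^ 2 = 3 := by
      rw [hW, Finset.sum_filter_of_ne (p := fun u => w u ≠ 0) fun u _ hu h0 => hu (by rw [h0]; norm_num)]
      exact hwn'
    rw [Finset.sum_congr rfl (g := fun _ => (1 : ℤ)) fun u hu => by
      rcases hWval u hu with h1 | h1 <;> rw [h1] <;> norm_num] at e
    simp at e
    exact_mod_cast e
  have hWd : ∑ u ∈ W, w u * (d u : ℤ) = 1 := by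
    rw [hW, Finset.sum_filter_of_ne (p := fun u => w u ≠ 0) fun u _ hu h0 => hu (by rw [h0, zero_mul])]
    exact hwd'
  -- an injective family of sign `c` in `W` has fewer than three members
  have hbig : ∀ (f : Fin h → ι), Function.Injective f → ∀ c : ℤ, (c = 1 ∨ c = -1) →
      (∀ k, f k ∈ T ∧ w (f k) = c) → h < 3 := by
    intro f hf c hc hfc
    by_contra hlt
    have himg : Finset.univ.image f ⊆ W := fun u hu => by
      obtain ⟨k, -, rfl⟩ := Finset.mem_image.1 hu
      refine Finset.mem_filter.2 ⟨(hfc k).1, ?_⟩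
      rw [(hfc k).2]
      rcases hc with h1 | h1 <;> rw [h1] <;> norm_num
    have heq : Finset.univ.image f = W := Finset.eq_of_subset_of_card_le himg (by
      rw [hW3, Finset.card_image_of_injective _ hf, Finset.card_univ, Fintype.card_fin]; omega)
    have hcard : (Finset.univ : Finset (Fin h)).card = 3 := by
      rw [← Finset.card_image_of_injective _ hf, heq, hW3]
    rw [← heq, Finset.sum_image fun a _ b _ e => hf e] at hWd
    rw [Finset.sum_congr rfl (g := fun k => c * (d (f k) : ℤ)) fun k _ => by rw [(hfc k).2],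
      ← Finset.mul_sum] at hWd
    have hge : (3 : ℤ) ≤ ∑ k : Fin h, (d (f k) : ℤ) := by
      refine le_trans ?_ (Finset.card_nsmul_le_sum Finset.univ _ 1 fun k _ => hTd _ (hfc k).1)
      rw [hcard]; norm_num
    rcases hc with h1 | h1 <;> rw [h1] at hWd <;> linarith
  have h13 : h = 1 ∨ 3 ≤ h := by
    obtain ⟨j, hj⟩ := hh
    omega
  -- choose the common member and the rest
  obtain ⟨x, e, δ, hδ, hx, he, hxe, hwx, hwe, hinj, hval⟩ : ∃ (x : ι) (e : Fin h → ι) (δ : ℤ),
      (δ = 1 ∨ δ = -1) ∧ x ∈ T ∧ (∀ k, e k ∈ T) ∧ (∀ k, x ≠ e k) ∧ w x = δ ∧ (∀ k, w (e k) = 0) ∧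
      Function.Injective e ∧ ∀ k, ∀ u ∈ T, v k u = if u = x then δ else if u = e k then -δ else 0 := by
    have hall : (∀ k, P k = P k₀) ∨ ∀ k, M k = M k₀ := by
      by_contra hno
      rw [not_or, not_forall, not_forall] at hno
      obtain ⟨⟨k, hk⟩, l, hl⟩ := hno
      have hMk := ((hshare k k₀ fun e => hk (e ▸ rfl)).resolve_left fun h1 => hk h1.1).2
      have hPl := ((hshare l k₀ fun e => hl (e ▸ rfl)).resolve_right fun h1 => hl h1.2).1
      rcases hshare k l fun e => hl (e ▸ hMk) with h1 | h1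
      · exact hk (h1.1.trans hPl)
      · exact hl (h1.2.symm.trans hMk)
    have mkP : (∀ k, P k = P k₀) → w (P k₀) = 1 → ∃ (x : ι) (e : Fin h → ι) (δ : ℤ),
        (δ = 1 ∨ δ = -1) ∧ x ∈ T ∧ (∀ k, e k ∈ T) ∧ (∀ k, x ≠ e k) ∧ w x = δ ∧
        (∀ k, w (e k) = 0) ∧ Function.Injective e ∧
        ∀ k, ∀ u ∈ T, v k u = if u = x then δ else if u = e k then -δ else 0 := by
      intro hA hwP
      refine ⟨P k₀, M, 1, Or.inl rfl, hP k₀, hM, fun k => hA k ▸ hne k, hwP, fun k => ?_, ?_, ?_⟩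
      · have := hwv k; rw [hA k, hwP] at this; linarith
      · intro a b hab
        by_contra hne'
        exact ((hshare a b hne').resolve_right fun h1 => h1.1 ((hA a).trans (hA b).symm)).2 hab
      · intro k u hu
        split_ifs with h1 h2
        · rw [h1, ← hA k, hvP]
        · rw [h2, hvM]
        · exact hvrest k u hu (hA k ▸ h1) h2
    have mkM : (∀ k, M k = M k₀) → w (M k₀) = -1 → ∃ (x : ι) (e : Fin h → ι) (δ : ℤ),
        (δ = 1 ∨ δ = -1) ∧ x ∈ T ∧ (∀ k, e k ∈ T) ∧ (∀ k, x ≠ e k) ∧ w x = δ ∧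
        (∀ k, w (e k) = 0) ∧ Function.Injective e ∧
        ∀ k, ∀ u ∈ T, v k u = if u = x then δ else if u = e k then -δ else 0 := by
      intro hA hwM
      refine ⟨M k₀, P, -1, Or.inr rfl, hM k₀, hP, fun k => hA k ▸ (hne k).symm, hwM,
        fun k => ?_, ?_, ?_⟩
      · have := hwv k; rw [hA k, hwM] at this; linarith
      · intro a b hab
        by_contra hne'
        exact ((hshare a b hne').resolve_left fun h1 => h1.2 ((hA a).trans (hA b).symm)).1 hab
      · intro k u hu
        split_ifs with h1 h2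
        · rw [h1, ← hA k, hvM]
        · rw [h2, hvP, neg_neg]
        · exact hvrest k u hu h2 (hA k ▸ h1)
    have h0 := hwv k₀
    rcases h13 with h1 | h3
    · subst h1
      have hk : ∀ k : Fin 1, k = k₀ := fun k => Subsingleton.elim _ _
      by_cases hwP : w (P k₀) = 1
      · exact mkP (fun k => by rw [hk k]) hwP
      · refine mkM (fun k => by rw [hk k]) ?_
        rcases hwpm _ (hP k₀) with e1 | e1 | e1
        · exact absurd e1 hwP
        all_goals rcases hwpm _ (hM k₀) with e2 | e2 | e2 <;> omega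
    · rcases hall with hA | hA
      · refine mkP hA ?_
        by_contra hwP
        refine absurd (hbig M (fun a b hab => ?_) (-1) (Or.inr rfl) fun k => ⟨hM k, ?_⟩) (by omega)
        · by_contra hne'
          exact ((hshare a b hne').resolve_right fun h1 => h1.1 ((hA a).trans (hA b).symm)).2 hab
        · have := hwv k
          rw [hA k] at this
          rcases hwpm _ (hM k) with e2 | e2 | e2 <;> rcases hwpm _ (hP k₀) with e1 | e1 | e1 <;>
            omega
      · refine mkM hA ?_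
        by_contra hwM
        refine absurd (hbig P (fun a b hab => ?_) 1 (Or.inl rfl) fun k => ⟨hP k, ?_⟩) (by omega)
        · by_contra hne'
          exact ((hshare a b hne').resolve_left fun h1 => h1.2 ((hA a).trans (hA b).symm)).1 hab
        · have := hwv k
          rw [hA k] at this
          rcases hwpm _ (hP k) with e2 | e2 | e2 <;> rcases hwpm _ (hM k₀) with e1 | e1 | e1 <;>
            omega
  have hxW : x ∈ W := Finset.mem_filter.2 ⟨hx, by
    rw [hwx]; rcases hδ with h1 | h1 <;> rw [h1] <;> norm_num⟩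
  obtain ⟨y, z, hyz, hWx⟩ := Finset.card_eq_two.1 (show (W.erase x).card = 2 by
    rw [Finset.card_erase_of_mem hxW, hW3])
  have hy : y ∈ W.erase x := by simp [hWx]
  have hz : z ∈ W.erase x := by simp [hWx]
  have hyT := (Finset.mem_filter.1 (Finset.mem_of_mem_erase hy)).1
  have hzT := (Finset.mem_filter.1 (Finset.mem_of_mem_erase hz)).1
  refine ⟨x, y, z, δ, w y, w z, e, Finset.mem_of_mem_erase hx, Finset.mem_of_mem_erase hyT,
    Finset.mem_of_mem_erase hzT, Finset.ne_of_mem_erase hx, Finset.ne_of_mem_erase hyT,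
    Finset.ne_of_mem_erase hzT, (Finset.ne_of_mem_erase hy).symm,
    (Finset.ne_of_mem_erase hz).symm, hyz, fun k => ⟨Finset.mem_of_mem_erase (he k),
      Finset.ne_of_mem_erase (he k), (hxe k).symm, ?_, ?_⟩, hinj, hδ,
    hWval y (Finset.mem_of_mem_erase hy), hWval z (Finset.mem_of_mem_erase hz), ?_, ?_⟩
  · exact fun e1 => (Finset.mem_filter.1 (Finset.mem_of_mem_erase hy)).2 (e1 ▸ hwe k)
  · exact fun e1 => (Finset.mem_filter.1 (Finset.mem_of_mem_erase hz)).2 (e1 ▸ hwe k)
  · intro k u hu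
    by_cases hu1 : u = one
    · rw [if_pos hu1, hu1, hv1]
    · rw [if_neg hu1]; exact hval k u (Finset.mem_erase.2 ⟨hu1, hu⟩)
  · intro u hu
    split_ifs with h1 h2 h3 h4
    · rw [h1, hw1]
    · rw [h2, hwx]
    · rw [h3]
    · rw [h4]
    · by_contra h0
      have : u ∈ W.erase x := Finset.mem_erase.2
        ⟨h2, Finset.mem_filter.2 ⟨Finset.mem_erase.2 ⟨h1, hu⟩, h0⟩⟩
      rw [hWx] at this
      simp [h3, h4] at this

end CfsgLib.Blocks
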