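import Cfsg.Agent.Lib.Blocks.DihedralLocalBlock
import Cfsg.Agent.Lib.Involutions.DihedralClasses

/-!
# Heights from the parity of a column, and the columns of a dihedral group
-/

set_option autoImplicit false
set_option linter.unusedSectionVars false
set_option linter.style.haveILetI false

namespace CfsgLib.Blocks

open Cfsg Chars BlockOrth Involutions
open scoped ComplexConjugate

universe u

variable {G : Type u} [Group G] [Fintype G]

section Parity

variable {M : Ideal AlgInt} [M.IsPrime] [Fact (Nat.Prime 2)] {H : Subgroup G} [Fintype H]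
  [Fintype (IrrCharacter H)] {x : G} {B : Set (IrrCharacter G)} {b : Set (IrrCharacter H)}
  [DecidablePred (· ∈ b)]

theorem memLocalIdeal_intCast_iff (hpM : ((2 : ℕ) : AlgInt) ∈ M) (n : ℤ) :
    MemLocalIdeal M (n : ℂ) ↔ ¬ Odd n := by
  have key := memLocalIdeal_natCast_iff Nat.prime_two hpM n.natAbs
  rw [← Int.natAbs_odd, Nat.not_odd_iff_even, even_iff_two_dvd, ← key]
  rcases Int.natAbs_eq n with e | e <;> conv_lhs => rw [e]
  · rw [Int.cast_natCast]
  · rw [Int.cast_neg, Int.cast_natCast, show -((n.natAbs : ℕ) : ℂ) = (n.natAbs : ℂ) * (-1 : ℂ) by ring]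
    refine ⟨fun h => ?_, fun h => MemLocalIdeal.mul_right' h (neg_mem (one_mem _))⟩
    have := MemLocalIdeal.mul_right' h (neg_mem (one_mem (loc M)))
    simpa using this

/-- Height zero means an odd coordinate. -/
theorem height_zero_iff_odd (hpM : ((2 : ℕ) : AlgInt) ∈ M) (hH : ∀ c : G, c ∈ H ↔ c * x = x * c)
    (hx : ∃ k, orderOf x = 2 ^ k) (hind : IsInducedBlock M H b B)
    (hmaj : blockDefect 2 b = blockDefect 2 B) (a : IrrCharacter G → ℤ)
    (hc : ∀ χ ∈ B, ∀ ψ ∈ B, contrib 2 b x χ ψ = (a χ : ℂ) * (a ψ : ℂ)) {χ : IrrCharacter G}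
    (hχ : χ ∈ B) :
    (blockHeight 2 B (χ : G → ℂ) = 0 ↔ Odd (a χ)) ∧
      ((a χ = 2 ∨ a χ = -2) → blockHeight 2 B (χ : G → ℂ) ≤ 1) := by
  set h := blockHeight 2 B (χ : G → ℂ) with hh
  have hint : ∀ ψ ∈ B, (a χ : ℂ) * (a ψ : ℂ) / (2 : ℂ) ^ h ∈ loc M := fun ψ hψ => by
    have h1 := isIntegral_mem_loc (M := M) (isIntegral_contrib_div hpM hH hind.1 hmaj hχ ψ)
    rw [hc χ hχ ψ hψ, ← hh] at h1
    exact_mod_cast h1
  have h2 : MemLocalIdeal M (2 : ℂ) := by exact_mod_cast memLocalIdeal_prime hpM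
  have hpow : ∀ j, 0 < j → MemLocalIdeal M ((2 : ℂ) ^ j) := fun j hj => by
    obtain ⟨i, rfl⟩ : ∃ i, j = i + 1 := ⟨j - 1, by omega⟩
    rw [pow_succ']
    exact MemLocalIdeal.mul_right' h2 (pow_mem (by exact_mod_cast natCast_mem_loc 2) i)
  have hzero : h = 0 → Odd (a χ) := fun h0 => by
    have h1 := not_memLocalIdeal_contrib_div hpM hH hx hind hmaj hχ hχ h0
    rw [← hh, h0, pow_zero, div_one, hc χ hχ χ hχ, ← Int.cast_mul,
      memLocalIdeal_intCast_iff hpM, not_not, Int.odd_mul] at h1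
    exact h1.1
  refine ⟨⟨hzero, fun hodd => ?_⟩, fun ha => ?_⟩
  · by_contra h0
    have h1 := MemLocalIdeal.mul_right' (hpow h (Nat.pos_of_ne_zero h0)) (hint χ hχ)
    rw [mul_div_cancel₀ _ (pow_ne_zero _ two_ne_zero), ← Int.cast_mul,
      memLocalIdeal_intCast_iff hpM, Int.odd_mul] at h1
    exact h1 ⟨hodd, hodd⟩
  · by_contra hgt
    obtain ⟨j, hj⟩ : ∃ j, h = j + 2 := ⟨h - 2, by omega⟩
    obtain ⟨ψ, hψ, h0⟩ := exists_blockHeight_eq_zero (p := 2) hind.2.1
    have hodd : Odd (a ψ) := by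
      have h1 := not_memLocalIdeal_contrib_div hpM hH hx hind hmaj hψ hψ h0
      rw [h0, pow_zero, div_one, hc ψ hψ ψ hψ, ← Int.cast_mul,
        memLocalIdeal_intCast_iff hpM, not_not, Int.odd_mul] at h1
      exact h1.1
    have h1 := MemLocalIdeal.mul_right' (hpow (j + 1) (by omega)) (hint ψ hψ)
    rw [hj, show (2 : ℂ) ^ (j + 1) * ((a χ : ℂ) * (a ψ : ℂ) / 2 ^ (j + 2)) =
      (a χ : ℂ) / 2 * (a ψ : ℂ) by field_simp; ring] at h1
    rcases ha with e | e <;> rw [e] at h1
    · rw [show ((2 : ℤ) : ℂ) / 2 * (a ψ : ℂ) = ((a ψ : ℤ) : ℂ) by norm_num,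
        memLocalIdeal_intCast_iff hpM] at h1
      exact h1 hodd
    · rw [show ((-2 : ℤ) : ℂ) / 2 * (a ψ : ℂ) = ((-a ψ : ℤ) : ℂ) by push_cast; ring,
        memLocalIdeal_intCast_iff hpM, odd_neg] at h1
      exact h1 hodd

end Parity

section Columns

variable {P : Subgroup G} (d : DP P)

/-- The powers of the generator are real. -/
theorem dp_irr_real (l : ℕ) (ψ : IrrCharacter P) :
    conj ((ψ : P → ℂ) (⟨d.x, d.x_mem⟩ ^ l)) = (ψ : P → ℂ) (⟨d.x, d.x_mem⟩ ^ l) := by
  rw [← irr_inv]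
  refine ((isConj_iff_forall_irr _ _).1 (isConj_iff.2 ⟨⟨d.y, d.y_mem⟩, Subtype.ext ?_⟩) ψ).symm
  push_cast
  rw [← conj_pow, d.conj_y, inv_pow]

open scoped _root_.Classical in
/-- The columns of a dihedral group at the powers of the generator. -/
theorem dp_irr_orth (hn : 2 ≤ d.n) [Fintype (IrrCharacter P)] {l m : ℕ} (hl : 0 < l)
    (hlN : l < 2 ^ d.n) (hm : 0 < m) (hmN : m < 2 ^ d.n) :
    ∑ ψ : IrrCharacter P, (ψ : P → ℂ) (⟨d.x, d.x_mem⟩ ^ l) *
        conj ((ψ : P → ℂ) (⟨d.x, d.x_mem⟩ ^ m)) =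
      (if m = l then ((2 ^ d.n : ℕ) : ℂ) else 0) +
        if m + l = 2 ^ d.n then ((2 ^ d.n : ℕ) : ℂ) else 0 := by
  set N := 2 ^ d.n with hN
  set H := 2 ^ (d.n - 1) with hH
  have hN2 : N = 2 * H := by rw [hN, hH, ← pow_succ', show d.n - 1 + 1 = d.n by omega]
  have hord : orderOf (⟨d.x, d.x_mem⟩ : P) = N := by rw [Subgroup.orderOf_mk, d.orderOf_x, hN]
  set a : P := ⟨d.x, d.x_mem⟩ with ha
  have haN : a ^ N = 1 := by rw [← hord, pow_orderOf_eq_one]
  have hinj : ∀ i j, i < N → j < N → a ^ i = a ^ j → i = j := fun i j hi hj e =>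
    pow_injOn_Iio_orderOf (hord.symm ▸ hi : i < orderOf a) (hord.symm ▸ hj : j < orderOf a) e
  have hinv : ∀ i, i ≤ N → (a ^ i)⁻¹ = a ^ (N - i) := fun i hi =>
    inv_eq_of_mul_eq_one_right (by rw [← pow_add, show i + (N - i) = N by omega, haN])
  have hact : ∀ (g : P) (i : ℕ), (g * a ^ i * g⁻¹ = a ^ i ∧ g ∈ Subgroup.zpowers a) ∨
      g * a ^ i * g⁻¹ = (a ^ i)⁻¹ := by
    intro g i
    rcases d.cover g g.2 with ⟨j, hj⟩ | ⟨j, hj⟩
    · left
      have hg : g = a ^ j := Subtype.ext (by rw [hj]; simp [ha])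
      refine ⟨?_, hg ▸ zpow_mem (Subgroup.mem_zpowers _) j⟩
      rw [hg, mul_inv_eq_iff_eq_mul]
      exact (((Commute.refl a).zpow_left j).pow_right i).eq
    · right
      refine Subtype.ext ?_
      push_cast [ha]
      rw [hj, mul_inv_rev, show d.x ^ j * d.y * d.x ^ i * (d.y⁻¹ * (d.x ^ j)⁻¹) =
        d.x ^ j * (d.y * d.x ^ i * d.y⁻¹) * (d.x ^ j)⁻¹ by group, ← conj_pow, d.conj_y, inv_pow,
        mul_inv_eq_iff_eq_mul]
      exact ((((Commute.refl d.x).zpow_left j).pow_right i).inv_right).eq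
  have hconj : IsConj (a ^ m) (a ^ l) ↔ m = l ∨ m + l = N := by
    constructor
    · intro h
      obtain ⟨g, hg⟩ := isConj_iff.1 h
      rcases hact g m with ⟨e, -⟩ | e <;> rw [hg] at e
      · exact Or.inl (hinj m l hmN hlN e.symm)
      · rw [hinv m hmN.le] at e
        have := hinj l (N - m) hlN (by omega) e
        omega
    · rintro (rfl | h)
      · exact IsConj.refl _
      · refine isConj_iff.2 ⟨⟨d.y, d.y_mem⟩, ?_⟩
        rw [show l = N - m by omega, ← hinv m hmN.le]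
        refine Subtype.ext ?_
        push_cast [ha]
        rw [← conj_pow, d.conj_y, inv_pow]
  rw [second_orthogonality]
  by_cases hlH : l = H
  · have hz : a ^ l * a ^ l = 1 := by rw [← pow_add, show l + l = N by omega, haN]
    have htop : Subgroup.centralizer ({a ^ l} : Set P) = ⊤ := eq_top_iff.2 fun g _ => by
      rw [Subgroup.mem_centralizer_singleton_iff, ← mul_inv_eq_iff_eq_mul]
      rcases hact g l with ⟨e, -⟩ | e
      · exact e
      · rw [e]; exact inv_eq_of_mul_eq_one_right hz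
    rw [htop, Subgroup.card_top, d.card_eq, ← hN]
    by_cases hml : m = l
    · rw [if_pos (hconj.2 (Or.inl hml)), if_pos hml, if_pos (by omega)]
      push_cast
      ring
    · rw [if_neg fun h => hml (by rcases hconj.1 h with e | e <;> omega), if_neg hml,
        if_neg (by omega), add_zero]
  · have hcent : Subgroup.centralizer ({a ^ l} : Set P) = Subgroup.zpowers a := by
      refine le_antisymm (fun g hg => ?_) (Subgroup.zpowers_le.2 ?_)
      · rcases hact g l with ⟨-, h⟩ | e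
        · exact h
        · exfalso
          rw [Subgroup.mem_centralizer_singleton_iff.1 hg, mul_inv_cancel_right, hinv l hlN.le] at e
          exact hlH (by have := hinj l (N - l) hlN (by omega) e; omega)
      · rw [Subgroup.mem_centralizer_singleton_iff]
        exact (Commute.self_pow a l).eq
    rw [hcent, Nat.card_zpowers, hord]
    by_cases hml : m = l
    · rw [if_pos (hconj.2 (Or.inl hml)), if_pos hml, if_neg (by omega), add_zero]
    · by_cases hmN' : m + l = N
      · rw [if_pos (hconj.2 (Or.inr hmN')), if_neg hml, if_pos hmN', zero_add]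
      · rw [if_neg fun h => by rcases hconj.1 h with e | e <;> omega, if_neg hml, if_neg hmN',
          add_zero]

end Columns

end CfsgLib.Blocks
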