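import Cfsg.Agent.Lib.CharApps.PrincipalColumns
import Cfsg.Agent.Lib.CharApps.PrincipalRational
import Cfsg.Agent.Lib.Transfer.NormalPComplement
import Cfsg.Agent.Lib.Base.Cores

/-!
# Principal block columns at elements whose centralizer has a normal `p`-complement
-/

set_option autoImplicit false
set_option linter.style.haveILetI false
set_option linter.unusedSectionVars false

namespace CfsgLib.Blocks

open Cfsg Chars CharApps BlockOrth
open scoped ComplexConjugate

universe u

variable {G : Type u} [Group G] [Fintype G] {M : Ideal AlgInt} [M.IsPrime] {p : ℕ} [Fact p.Prime]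

theorem column_norm_of_complement (hM : IsPModular p M) {t : G} (ht : ∃ k, orderOf t = p ^ k)
    (hC : HasNormalPComplement p (Subgroup.centralizer ({t} : Set G))) :
    ∑ᶠ χ ∈ principalBlock M G, (χ : G → ℂ) t * conj ((χ : G → ℂ) t) =
      ((p ^ (Nat.card (Subgroup.centralizer ({t} : Set G))).factorization p : ℕ) : ℂ) := by
  classical
  set C := Subgroup.centralizer ({t} : Set G) with hCdef
  haveI := Fintype.ofFinite C
  haveI := irrFintype C
  obtain ⟨N, hN, hN2, k, hk⟩ := Transfer.hasNormalPComplement_iff_exists.1 hC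
  haveI := hN
  have h1o : ¬ p ∣ orderOf (1 : C) := by rw [orderOf_one]; exact (Fact.out : p.Prime).not_dvd_one
  have e := principalBlock_normSum_centralizer hM (z := t) ht (1 : C) h1o
  rw [Subgroup.coe_one, mul_one] at e
  rw [e]
  have hb := blockCoeff_principalBlock_one hM.2.2 hN2 hk
  rw [blockCoeff, inv_mul_eq_iff_eq_mul₀ (card_ne_zero C)] at hb
  rw [hb]
  have hfac : (Nat.card C).factorization p = k := by
    rw [← N.card_mul_index, hk, Nat.factorization_mul Nat.card_pos.ne'
      (pow_ne_zero _ (Fact.out : p.Prime).ne_zero), Finsupp.add_apply,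
      Nat.factorization_eq_zero_of_not_dvd hN2, zero_add, (Fact.out : p.Prime).factorization_pow,
      Finsupp.single_eq_same]
  have hN0 : (Nat.card N : ℂ) ≠ 0 := Nat.cast_ne_zero.2 Nat.card_pos.ne'
  rw [hfac, ← hk, ← N.card_mul_index]
  push_cast
  field_simp

/-- The block characters only depend on the `p`-part on such sections. -/
theorem apply_section_of_complement (hM : IsPModular p M) {t v : G}
    (ht : ∃ k, orderOf t = p ^ k) (hv : ¬ p ∣ orderOf v) (hcomm : Commute t v)
    (hC : HasNormalPComplement p (Subgroup.centralizer ({t} : Set G)))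
    {χ : IrrCharacter G} (hχ : χ ∈ principalBlock M G) :
    (χ : G → ℂ) (t * v) = (χ : G → ℂ) t := by
  have hvC : v ∈ Subgroup.centralizer ({t} : Set G) :=
    Subgroup.mem_centralizer_singleton_iff.2 hcomm.eq.symm
  haveI := Fintype.ofFinite (Subgroup.centralizer ({t} : Set G))
  obtain ⟨N, hN, hN2, k, hk⟩ := Transfer.hasNormalPComplement_iff_exists.1 hC
  haveI := hN
  exact principalBlock_apply_mul_core hM ht (v := ⟨v, hvC⟩)
    (Base.le_pPrimeCore_of_not_dvd hN2 (index_eq_pow_mem_of_regular hk (by rwa [Subgroup.orderOf_mk])))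
    hχ

/-- No nonprincipal character of the principal block vanishes on all `p`-singular elements. -/
theorem exists_singular_ne_zero (hM : IsPModular p M) {χ : IrrCharacter G}
    (hχ : χ ∈ principalBlock M G) (hne : χ ≠ principal G) :
    ∃ g : G, p ∣ orderOf g ∧ (χ : G → ℂ) g ≠ 0 := by
  classical
  by_contra hall
  push Not at hall
  apply (mem_principalBlock_iff_regularSum hM.2.2 χ).1 hχ
  have hi := inner_irr_ne hne
  rw [inner_def, inv_mul_eq_iff_eq_mul₀ (card_ne_zero G), mul_zero,
    ← Finset.sum_filter_add_sum_filter_not Finset.univ (fun g : G => ¬ p ∣ orderOf g)] at hi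
  rw [Finset.sum_eq_zero (s := Finset.univ.filter fun g : G => ¬¬ p ∣ orderOf g) fun g hg => by
    rw [hall g (not_not.1 (Finset.mem_filter.1 hg).2), zero_mul], add_zero] at hi
  simp only [principal_apply, map_one, mul_one] at hi
  exact hi

end CfsgLib.Blocks
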