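import Cfsg.Agent.Lib.Blocks.DihedralLocal
import Cfsg.Agent.Lib.Blocks.NilpotentSections
import Cfsg.Agent.Lib.Blocks.CyclicFourier
import Cfsg.Agent.Lib.Blocks.DihedralPairs

/-!
# The principal block for a dihedral Sylow two-subgroup
-/

set_option autoImplicit false
set_option linter.style.haveILetI false
set_option linter.unusedSectionVars false

namespace CfsgLib.Blocks

open Cfsg Chars CharApps BlockOrth Involutions
open scoped ComplexConjugate

universe u

variable {G : Type u} [Group G] [Fintype G]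

/-- The Fourier coefficient of `χ` on the powers of `x`, normalised to vanish at `0`. -/
noncomputable def coef (x : G) (N : ℕ) (ζ : ℂ) (χ : IrrCharacter G) (k : ℕ) : ℂ :=
  (N : ℂ)⁻¹ * ∑ l ∈ Finset.range N, (χ : G → ℂ) (x ^ l) * (ζ ^ ((l : ℤ) * -(k : ℤ)) - 1)

section Coef

variable {x : G} {N : ℕ} [NeZero N] {ζ : ℂ} (hζ : IsPrimitiveRoot ζ N)

include hζ

theorem coef_int (hx : x ^ N = 1) (χ : IrrCharacter G) (k : ℕ) :
    ∃ m : ℤ, (m : ℂ) = coef x N ζ χ k := by
  obtain ⟨a, ha⟩ := exists_int_fourier χ x hx hζ k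
  obtain ⟨b, hb⟩ := exists_int_fourier χ x hx hζ 0
  refine ⟨a - b, ?_⟩
  rw [Int.cast_sub, ha, hb, coef, ← mul_sub, ← Finset.sum_sub_distrib]
  congr 1
  refine Finset.sum_congr rfl fun l _ => ?_
  simp only [Nat.cast_zero, mul_zero, neg_zero, zpow_zero, mul_one, mul_sub, mul_neg]

theorem coef_zero (χ : IrrCharacter G) : coef x N ζ χ 0 = 0 := by
  simp [coef]

theorem coef_value (χ : IrrCharacter G) {l : ℕ} (hl : 0 < l) (hlN : l < N) :
    (χ : G → ℂ) (x ^ l) = ∑ k ∈ Finset.range N, coef x N ζ χ k * ζ ^ ((k : ℤ) * l) := by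
  have h0 : ζ ≠ 0 := hζ.ne_zero (NeZero.ne N)
  have hN : (N : ℂ) ≠ 0 := Nat.cast_ne_zero.2 (NeZero.ne N)
  have key : ∀ m ∈ Finset.range N, ∑ k ∈ Finset.range N,
      (χ : G → ℂ) (x ^ m) * (ζ ^ ((m : ℤ) * -(k : ℤ)) - 1) * ζ ^ ((k : ℤ) * l) =
      if m = l then (χ : G → ℂ) (x ^ m) * N else 0 := by
    intro m hm
    have hm' := Finset.mem_range.1 hm
    rw [Finset.sum_congr rfl (g := fun k : ℕ => (χ : G → ℂ) (x ^ m) *
      (ζ ^ ((k : ℤ) * ((l : ℤ) - m)) - ζ ^ ((k : ℤ) * l))) fun k _ => by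
        rw [mul_assoc, sub_mul, one_mul, ← zpow_add₀ h0]
        congr 3
        ring, ← Finset.mul_sum, Finset.sum_sub_distrib, sum_root_pow hζ, sum_root_pow hζ,
      if_neg (fun h => Nat.not_dvd_of_pos_of_lt hl hlN (Int.natCast_dvd_natCast.1 h)), sub_zero]
    by_cases h : m = l
    · rw [if_pos h, if_pos (by rw [h, sub_self]; exact dvd_zero _)]
    · rw [if_neg h, if_neg (fun h' => h ?_), mul_zero]
      have h2 := Int.eq_zero_of_abs_lt_dvd h' (by rw [abs_lt]; constructor <;> omega)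
      omega
  simp only [coef, mul_assoc ((N : ℂ)⁻¹), Finset.sum_mul]
  rw [← Finset.mul_sum, Finset.sum_comm, Finset.sum_congr rfl key, Finset.sum_ite_eq',
    if_pos (Finset.mem_range.2 hlN)]
  field_simp

theorem coef_principal {k : ℕ} (hk : 0 < k) (hkN : k < N) :
    coef x N ζ (principal G) k = -1 := by
  have hN : (N : ℂ) ≠ 0 := Nat.cast_ne_zero.2 (NeZero.ne N)
  simp only [coef, principal_apply, one_mul, Finset.sum_sub_distrib]
  rw [sum_root_pow hζ, if_neg (fun h => Nat.not_dvd_of_pos_of_lt hk hkN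
    (Int.natCast_dvd_natCast.1 (dvd_neg.1 h)))]
  simp [hN]

theorem coef_symm (hx : x ^ N = 1) {χ : IrrCharacter G}
    (hreal : ∀ l, conj ((χ : G → ℂ) (x ^ l)) = (χ : G → ℂ) (x ^ l)) {k : ℕ} (hk : k ≤ N) :
    coef x N ζ χ (N - k) = coef x N ζ χ k := by
  obtain ⟨m, hm⟩ := coef_int hζ hx χ k
  have e : conj (coef x N ζ χ k) = coef x N ζ χ k := by rw [← hm, map_intCast]
  have h0 : ζ ≠ 0 := hζ.ne_zero (NeZero.ne N)
  have hnorm : ‖ζ‖ = 1 := Complex.norm_eq_one_of_pow_eq_one hζ.pow_eq_one (NeZero.ne N)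
  rw [← e, coef, coef, map_mul, map_inv₀, map_natCast, map_sum]
  congr 1
  refine Finset.sum_congr rfl fun l _ => ?_
  rw [map_mul, hreal, map_sub, map_one, map_zpow₀, ← Complex.inv_eq_conj hnorm, inv_zpow',
    Nat.cast_sub hk]
  congr 2
  rw [← mul_inv_eq_one₀ (zpow_ne_zero _ h0), ← zpow_neg, ← zpow_add₀ h0,
    hζ.zpow_eq_one_iff_dvd]
  exact ⟨-(l : ℤ), by ring⟩

theorem coef_gram (F : Finset (IrrCharacter G))
    (hcol : ∀ l l', 0 < l → l < N → 0 < l' → l' < N →
      ∑ χ ∈ F, (χ : G → ℂ) (x ^ l) * (χ : G → ℂ) (x ^ l') =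
        (if l' = l then (N : ℂ) else 0) + if l' + l = N then (N : ℂ) else 0)
    {k k' : ℕ} (hk : 0 < k) (hkN : k < N) (hk' : 0 < k') (hk'N : k' < N) :
    ∑ χ ∈ F, coef x N ζ χ k * coef x N ζ χ k' =
      2 + (if k' = k then 1 else 0) + if k' + k = N then 1 else 0 := by
  have h0 : ζ ≠ 0 := hζ.ne_zero (NeZero.ne N)
  have hN : (N : ℂ) ≠ 0 := Nat.cast_ne_zero.2 (NeZero.ne N)
  set c : ℕ → ℕ → ℂ := fun j l => ζ ^ ((l : ℤ) * -(j : ℤ)) - 1 with hc
  have hc0 : ∀ j, c j 0 = 0 := fun j => by simp [hc]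
  have inner : ∀ l ∈ Finset.range N,
      ∑ l' ∈ Finset.range N, c k l * c k' l' *
        ∑ χ ∈ F, (χ : G → ℂ) (x ^ l) * (χ : G → ℂ) (x ^ l') =
      (N : ℂ) * (c k l * (c k' l + (ζ ^ ((l : ℤ) * k') - 1))) := by
    intro l hl
    have hlN := Finset.mem_range.1 hl
    rcases Nat.eq_zero_or_pos l with rfl | hl0
    · simp [hc0]
    have hstep : ∀ l' ∈ Finset.range N, c k l * c k' l' *
        ∑ χ ∈ F, (χ : G → ℂ) (x ^ l) * (χ : G → ℂ) (x ^ l') =
        (if l' = l then c k l * c k' l' * N else 0) +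
          if l' = N - l then c k l * c k' l' * N else 0 := by
      intro l' hl'
      have hl'N := Finset.mem_range.1 hl'
      rcases Nat.eq_zero_or_pos l' with rfl | hl'0
      · simp [hc0]
      rw [hcol l l' hl0 hlN hl'0 hl'N]
      have e : (l' + l = N) ↔ l' = N - l := by omega
      by_cases h1 : l' = l <;> by_cases h2 : l' = N - l
      · rw [if_pos h1, if_pos (e.2 h2), if_pos h1, if_pos h2]; ring
      · rw [if_pos h1, if_neg (mt e.1 h2), if_pos h1, if_neg h2]; ring
      · rw [if_neg h1, if_pos (e.2 h2), if_neg h1, if_pos h2]; ring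
      · rw [if_neg h1, if_neg (mt e.1 h2), if_neg h1, if_neg h2]; ring
    rw [Finset.sum_congr rfl hstep, Finset.sum_add_distrib, Finset.sum_ite_eq',
      Finset.sum_ite_eq', if_pos hl, if_pos (Finset.mem_range.2 (by omega))]
    have e : c k' (N - l) = ζ ^ ((l : ℤ) * k') - 1 := by
      simp only [hc]
      rw [Nat.cast_sub hlN.le]
      congr 1
      rw [← mul_inv_eq_one₀ (zpow_ne_zero _ h0), ← zpow_neg, ← zpow_add₀ h0,
        hζ.zpow_eq_one_iff_dvd]
      exact ⟨-(k' : ℤ), by ring⟩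
    rw [e]; ring
  have hmul : ∀ χ : IrrCharacter G, coef x N ζ χ k * coef x N ζ χ k' =
      (N : ℂ)⁻¹ * (N : ℂ)⁻¹ * ∑ l ∈ Finset.range N, ∑ l' ∈ Finset.range N,
        c k l * c k' l' * ((χ : G → ℂ) (x ^ l) * (χ : G → ℂ) (x ^ l')) := fun χ => by
    rw [coef, coef, mul_mul_mul_comm, Finset.sum_mul_sum]
    congr 1
    refine Finset.sum_congr rfl fun l _ => Finset.sum_congr rfl fun l' _ => ?_
    simp only [hc]; ring
  rw [Finset.sum_congr rfl fun χ _ => hmul χ, ← Finset.mul_sum, Finset.sum_comm,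
    Finset.sum_congr rfl (g := fun l : ℕ => (N : ℂ) * (c k l * (c k' l + (ζ ^ ((l : ℤ) * k') - 1))))
      fun l hl => by
        rw [Finset.sum_comm, ← inner l hl]
        exact Finset.sum_congr rfl fun l' _ => (Finset.mul_sum _ _ _).symm,
    ← Finset.mul_sum]
  have hexp : ∀ l : ℕ, c k l * (c k' l + (ζ ^ ((l : ℤ) * k') - 1)) =
      ζ ^ ((l : ℤ) * (-(k : ℤ) + -(k' : ℤ))) + ζ ^ ((l : ℤ) * (-(k : ℤ) + k')) -
        2 * ζ ^ ((l : ℤ) * -(k : ℤ)) - ζ ^ ((l : ℤ) * -(k' : ℤ)) - ζ ^ ((l : ℤ) * k') + 2 := fun l => by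
    rw [mul_add (l : ℤ), mul_add (l : ℤ), zpow_add₀ h0, zpow_add₀ h0]
    simp only [hc]; ring
  simp only [hexp, Finset.sum_add_distrib, Finset.sum_sub_distrib, ← Finset.mul_sum,
    sum_root_pow hζ, Finset.sum_const, Finset.card_range, nsmul_eq_mul, dvd_neg]
  have n1 : ¬ (N : ℤ) ∣ (k : ℤ) := fun h =>
    Nat.not_dvd_of_pos_of_lt hk hkN (Int.natCast_dvd_natCast.1 h)
  have n2 : ¬ (N : ℤ) ∣ (k' : ℤ) := fun h =>
    Nat.not_dvd_of_pos_of_lt hk' hk'N (Int.natCast_dvd_natCast.1 h)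
  have e1 : (N : ℤ) ∣ -(k : ℤ) + -(k' : ℤ) ↔ k' + k = N := by
    constructor
    · intro h
      have h3 : (N : ℤ) ∣ ((k' : ℤ) + k - N) := by
        refine dvd_sub ?_ dvd_rfl
        have := dvd_neg.2 h
        convert this using 1
        ring
      have := Int.eq_zero_of_abs_lt_dvd h3 (by rw [abs_lt]; constructor <;> omega)
      omega
    · intro h
      exact ⟨-1, by omega⟩
  have e2 : (N : ℤ) ∣ -(k : ℤ) + k' ↔ k' = k := by
    constructor
    · intro h
      have := Int.eq_zero_of_abs_lt_dvd h (by rw [abs_lt]; constructor <;> omega)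
      omega
    · rintro rfl; simp
  simp only [e1, e2, if_neg n1, if_neg n2]
  split_ifs <;> field_simp <;> ring

end Coef

variable {M : Ideal AlgInt} [M.IsPrime] [Fact (Nat.Prime 2)]
variable {P : Sylow 2 G} (d : DP (P : Subgroup G))

/-- The principal block of a group with a dihedral Sylow subgroup. -/
theorem dihedral_principalBlock (hM : IsPModular 2 M) (hn : 2 ≤ d.n) {ζ : ℂ}
    (hζ : IsPrimitiveRoot ζ (2 ^ d.n)) :
    Nat.card (principalBlock M G) = 3 + 2 ^ (d.n - 1) ∧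
    ∃ (X Y Z : IrrCharacter G) (E : Fin (2 ^ (d.n - 1) - 1) → IrrCharacter G) (δ₁ δ₂ δ₃ : ℤ),
      (δ₁ = 1 ∨ δ₁ = -1) ∧ (δ₂ = 1 ∨ δ₂ = -1) ∧ (δ₃ = 1 ∨ δ₃ = -1) ∧ Function.Injective E ∧
      X ≠ principal G ∧ Y ≠ principal G ∧ Z ≠ principal G ∧ X ≠ Y ∧ X ≠ Z ∧ Y ≠ Z ∧
      (∀ j, E j ≠ X ∧ E j ≠ Y ∧ E j ≠ Z ∧ E j ≠ principal G) ∧
      principalBlock M G = {χ | χ = principal G ∨ χ = X ∨ χ = Y ∨ χ = Z ∨ ∃ j, χ = E j} ∧
      (∀ l : ℕ, 0 < l → l < 2 ^ d.n → (X : G → ℂ) (d.x ^ l) = δ₁ ∧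
        (Y : G → ℂ) (d.x ^ l) = δ₂ * (-1) ^ (l + 1) ∧
        (Z : G → ℂ) (d.x ^ l) = δ₃ * (-1) ^ (l + 1) ∧
        ∀ j : Fin (2 ^ (d.n - 1) - 1), (E j : G → ℂ) (d.x ^ l) =
          δ₁ * (ζ ^ (((j : ℕ) + 1) * l) + (ζ ^ (((j : ℕ) + 1) * l))⁻¹)) ∧
      ∀ ρ : G, Odd (orderOf ρ) → ∀ j : Fin (2 ^ (d.n - 1) - 1),
        1 + δ₁ * (X : G → ℂ) ρ = -δ₂ * (Y : G → ℂ) ρ - δ₃ * (Z : G → ℂ) ρ ∧
        1 + δ₁ * (X : G → ℂ) ρ = δ₁ * (E j : G → ℂ) ρ := by
  classical
  haveI := irrFintype G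
  set N := 2 ^ d.n with hN
  set H := 2 ^ (d.n - 1) with hH
  set h := H - 1 with hh
  have hN2 : N = 2 * H := by
    rw [hN, hH, ← pow_succ', show d.n - 1 + 1 = d.n by omega]
  have hH2 : 2 ≤ H := by
    rw [hH]; exact Nat.le_self_pow (show d.n - 1 ≠ 0 by omega) 2
  have hHe : Even H := by
    rw [hH]; exact Even.pow_of_ne_zero even_two (show d.n - 1 ≠ 0 by omega)
  have hodd : Odd h := by
    obtain ⟨q, hq⟩ := hHe
    exact ⟨q - 1, by omega⟩
  have hhalf : d.half = (H : ℤ) := by rw [DP.half, hH]; push_cast; rfl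
  haveI : NeZero N := ⟨by omega⟩
  have hxN : d.x ^ N = 1 := by rw [hN, ← d.orderOf_x, pow_orderOf_eq_one]
  have hz : d.z = d.x ^ H := by rw [DP.z, hhalf, zpow_natCast]
  have hpow : ∀ l l', l < N → l' < N → d.x ^ l = d.x ^ l' → l = l' := fun l l' hl hl' e => by
    rw [pow_eq_pow_iff_modEq, d.orderOf_x, ← hN] at e
    rwa [Nat.ModEq, Nat.mod_eq_of_lt hl, Nat.mod_eq_of_lt hl'] at e
  have hinvpow : ∀ l, l ≤ N → (d.x ^ l)⁻¹ = d.x ^ (N - l) := fun l hl =>
    inv_eq_of_mul_eq_one_right (by rw [← pow_add, show l + (N - l) = N by omega, hxN])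
  have hconjinv : ∀ l : ℕ, IsConj (d.x ^ l) (d.x ^ l)⁻¹ := fun l =>
    isConj_iff.2 ⟨d.y, by rw [← conj_pow, d.conj_y, inv_pow]⟩
  have hval_conj : ∀ (χ : IrrCharacter G) {a b : G}, IsConj a b →
      (χ : G → ℂ) a = (χ : G → ℂ) b := fun χ a b hab => (isConj_iff_forall_irr a b).1 hab χ
  have hreal : ∀ (χ : IrrCharacter G) (l : ℕ),
      conj ((χ : G → ℂ) (d.x ^ l)) = (χ : G → ℂ) (d.x ^ l) := fun χ l => by
    rw [← irr_inv]; exact (hval_conj χ (hconjinv l)).symm
  have htwo : ∀ g ∈ (P : Subgroup G), ∃ k, orderOf g = 2 ^ k := fun g hg => by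
    obtain ⟨k, hk⟩ := P.2 ⟨g, hg⟩
    obtain ⟨i, -, hi⟩ := (Nat.dvd_prime_pow Nat.prime_two).1
      (orderOf_dvd_of_pow_eq_one (congrArg Subtype.val hk : g ^ 2 ^ k = 1))
    exact ⟨i, hi⟩
  have hx1 : ∀ l, 0 < l → l < N → d.x ^ l ≠ 1 := fun l hl hlN e =>
    hl.ne' (hpow l 0 hlN (by omega) (by rw [e, pow_zero]))
  set F := Finset.univ.filter (fun χ : IrrCharacter G => χ ∈ principalBlock M G) with hF
  have hsumF : ∀ f : IrrCharacter G → ℂ, ∑ᶠ χ ∈ principalBlock M G, f χ = ∑ χ ∈ F, f χ := fun f =>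
    finsum_mem_eq_sum_of_inter_support_eq (t := F) _ (by ext; simp [hF])
  -- the columns at powers of x
  have hconjcase : ∀ l l', 0 < l → l < N → 0 < l' → l' < N →
      IsConj (d.x ^ l) (d.x ^ l') → l' = l ∨ l' + l = N := by
    intro l l' hl hlN hl' hl'N hc
    by_cases hlH : l = H
    · left
      subst hlH
      obtain ⟨g, hg⟩ := isConj_iff.1 hc
      have h2 : orderOf (d.x ^ l') = 2 := by
        rw [← hg, show g * d.x ^ H * g⁻¹ = MulAut.conj g (d.x ^ H) from rfl, MulEquiv.orderOf_eq,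
          ← hz, d.orderOf_z]
      have h3 : d.x ^ (2 * l') = 1 := by
        rw [mul_comm, pow_mul]
        have := pow_orderOf_eq_one (d.x ^ l')
        rwa [h2] at this
      rw [← orderOf_dvd_iff_pow_eq_one, d.orderOf_x, ← hN, hN2] at h3
      obtain ⟨q, hq⟩ := Nat.dvd_of_mul_dvd_mul_left two_pos h3
      rcases q with _ | _ | q <;> nlinarith
    · have hndvd : ¬ d.half ∣ (l : ℤ) := by
        rw [hhalf, Int.natCast_dvd_natCast]
        rintro ⟨q, rfl⟩
        rcases q with _ | _ | q <;> simp at * <;> nlinarith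
      rw [← zpow_natCast, ← zpow_natCast d.x l'] at hc
      rcases zpow_isConj_cases d hn hndvd hc with e | e <;> simp only [zpow_natCast] at e
      · exact Or.inl (hpow _ _ hl'N hlN e)
      · rw [hinvpow l hlN.le] at e
        have := hpow _ _ hl'N (by omega) e
        omega
  have hnorm : ∀ l, 0 < l → l < N → ∑ χ ∈ F, (χ : G → ℂ) (d.x ^ l) * (χ : G → ℂ) (d.x ^ l) =
      (N : ℂ) + if l + l = N then (N : ℂ) else 0 := by
    intro l hl hlN
    have e := column_norm_of_complement hM (htwo _ (pow_mem d.x_mem l))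
      (hasNormalPComplement_centralizer d (htwo _ (pow_mem d.x_mem l)) (hx1 l hl hlN))
    rw [hsumF] at e
    simp only [hreal] at e
    rw [e]
    by_cases hlH : l = H
    · subst hlH
      rw [← hz, sylow_card_centralizer_z d, if_pos (by omega), ← hN]
      push_cast; ring
    · rw [← zpow_natCast, sylow_card_centralizer_zpow d (fun hd => hlH ?_), if_neg (by omega),
        ← hN, add_zero]
      rw [hhalf, Int.natCast_dvd_natCast] at hd
      obtain ⟨q, rfl⟩ := hd
      rcases q with _ | _ | q <;> simp at * <;> nlinarith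
  have hcol : ∀ l l', 0 < l → l < N → 0 < l' → l' < N →
      ∑ χ ∈ F, (χ : G → ℂ) (d.x ^ l) * (χ : G → ℂ) (d.x ^ l') =
        (if l' = l then (N : ℂ) else 0) + if l' + l = N then (N : ℂ) else 0 := by
    intro l l' hl hlN hl' hl'N
    by_cases hc : IsConj (d.x ^ l) (d.x ^ l')
    · rw [Finset.sum_congr rfl fun χ _ => by rw [← hval_conj χ hc], hnorm l hl hlN]
      rcases hconjcase l l' hl hlN hl' hl'N hc with e | e
      · rw [if_pos e, e]
      · rw [if_pos e]
        by_cases e' : l' = l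
        · rw [if_pos e', if_pos (by omega)]
        · rw [if_neg e', if_neg (by omega), zero_add, add_zero]
    · have e := principal_column_orth_of_not_isConj hM (htwo _ (pow_mem d.x_mem l))
        (htwo _ (pow_mem d.x_mem l')) hc
      rw [hsumF] at e
      simp only [hreal] at e
      rw [e, if_neg (fun e' => hc (by rw [e'])), if_neg (fun e' => hc ?_), add_zero]
      rw [show l' = N - l by omega, ← hinvpow l hlN.le]
      exact hconjinv l
  choose a ha using fun (χ : IrrCharacter G) (k : ℕ) => coef_int hζ hxN χ k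
  have hgram : ∀ k k', 0 < k → k < N → 0 < k' → k' < N → ∑ χ ∈ F, a χ k * a χ k' =
      2 + (if k' = k then (1 : ℤ) else 0) + if k' + k = N then 1 else 0 := by
    intro k k' hk hkN hk' hk'N
    have e := coef_gram hζ F hcol hk hkN hk' hk'N
    simp only [← ha] at e
    apply Int.cast_injective (α := ℂ)
    push_cast
    exact e
  have horth : ∀ k (ρ : G), Odd (orderOf ρ) → ∑ χ ∈ F, (a χ k : ℂ) * (χ : G → ℂ) ρ = 0 := by
    intro k ρ hρ
    simp only [ha, coef, mul_assoc ((N : ℂ)⁻¹), Finset.sum_mul]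
    rw [← Finset.mul_sum, Finset.sum_comm, Finset.sum_eq_zero, mul_zero]
    intro l hl
    rcases Nat.eq_zero_or_pos l with rfl | hl0
    · simp
    have hlN := Finset.mem_range.1 hl
    have hy : ∀ c : Subgroup.centralizer ({d.x ^ l} : Set G), ¬ 2 ∣ orderOf c →
        ¬ IsConj ρ (d.x ^ l * c) := by
      intro c hc hcc
      obtain ⟨g, hg⟩ := isConj_iff.1 hcc
      have ho : orderOf (d.x ^ l * (c : G)) = orderOf ρ := by
        rw [← hg]; exact MulEquiv.orderOf_eq (MulAut.conj g) ρ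
      have hcomm : Commute (d.x ^ l) (c : G) :=
        (Subgroup.mem_centralizer_singleton_iff.1 c.2 : _ = _).symm
      obtain ⟨i, hi⟩ := htwo _ (pow_mem d.x_mem l)
      have hcop : (orderOf (d.x ^ l)).Coprime (orderOf (c : G)) := by
        rw [hi, Subgroup.orderOf_coe]
        exact Nat.Coprime.pow_left _ (Nat.prime_two.coprime_iff_not_dvd.2 hc)
      rw [hcomm.orderOf_mul_eq_mul_orderOf_of_coprime hcop, hi] at ho
      rcases i with _ | i
      · exact hx1 l hl0 hlN (orderOf_eq_one_iff.1 (by rw [hi, pow_zero]))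
      · have : 2 ∣ orderOf ρ := ho ▸ ⟨2 ^ i * orderOf (c : G), by ring⟩
        exact (Nat.not_even_iff_odd.2 hρ) (even_iff_two_dvd.2 this)
    have e := principal_column_orth hM (htwo _ (pow_mem d.x_mem l)) hy
    rw [hsumF] at e
    have e2 := congrArg conj e
    simp only [map_sum, map_mul, map_zero, Complex.conj_conj, hreal] at e2
    rw [Finset.sum_congr rfl (g := fun χ : IrrCharacter G => (ζ ^ ((l : ℤ) * -(k : ℤ)) - 1) *
      ((χ : G → ℂ) (d.x ^ l) * (χ : G → ℂ) ρ)) fun χ _ => by ring, ← Finset.mul_sum, e2, mul_zero]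
  have hone : principal G ∈ F :=
    Finset.mem_filter.2 ⟨Finset.mem_univ _, principal_mem_principalBlock M⟩
  have haP : ∀ k, 0 < k → k < N → a (principal G) k = -1 := fun k hk hkN => by
    apply Int.cast_injective (α := ℂ)
    rw [ha, coef_principal hζ hk hkN]; push_cast; rfl
  have hdeg : ∀ k, ∑ χ ∈ F, a χ k * (charDegree (χ : G → ℂ) : ℤ) = 0 := fun k => by
    apply Int.cast_injective (α := ℂ)
    push_cast
    simp only [← deg_eq]
    exact horth k 1 (by rw [orderOf_one]; exact odd_one)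
  obtain ⟨X, Y, Z, δ, s₂, s₃, E, hX, hY, hZ, hX1, hY1, hZ1, hXY, hXZ, hYZ, hE, hEinj, hδ, hs₂, hs₃,
      hv, hw⟩ :=
    dihedral_pairs F (principal G) hone (fun χ => charDegree (χ : G → ℂ)) (fun χ _ => deg_pos χ)
      (by simp [charDegree, principal_apply]) hodd (fun k χ => a χ (k + 1)) (fun χ => a χ H)
      (fun k => haP _ (Nat.succ_pos _) (by omega)) (haP _ (by omega) (by omega))
      (fun k => by
        simp only [pow_two]
        rw [hgram _ _ (Nat.succ_pos _) (by omega) (Nat.succ_pos _) (by omega), if_pos rfl,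
          if_neg (by omega)]
        norm_num)
      (by
        simp only [pow_two]
        rw [hgram _ _ (by omega) (by omega) (by omega) (by omega), if_pos rfl, if_pos (by omega)]
        norm_num)
      (fun k k' hkk => by
        rw [hgram _ _ (Nat.succ_pos _) (by omega) (Nat.succ_pos _) (by omega),
          if_neg (fun e => hkk (Fin.ext (by omega))), if_neg (by omega)]
        norm_num)
      (fun k => by
        rw [hgram _ _ (Nat.succ_pos _) (by omega) (by omega) (by omega), if_neg (by omega),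
          if_neg (by omega)]
        norm_num)
      (fun k => hdeg _) (hdeg _)
  -- all coefficients
  have hall : ∀ χ ∈ F, ∀ k, k < N → (a χ k : ℂ) = if k = 0 then 0 else if χ = principal G then -1
      else if χ = X then (δ : ℂ) else
      (if k = H ∧ χ = Y then (s₂ : ℂ) else 0) + (if k = H ∧ χ = Z then (s₃ : ℂ) else 0) +
      ∑ j : Fin h, ((if (k = (j : ℕ) + 1 ∧ χ = E j) then -(δ : ℂ) else 0) +
        if (k + ((j : ℕ) + 1) = N ∧ χ = E j) then -(δ : ℂ) else 0) := by
    intro χ hχ k hkN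
    rcases Nat.eq_zero_or_pos k with rfl | hk
    · rw [if_pos rfl, ha, coef_zero hζ]
    rw [if_neg hk.ne']
    by_cases h1 : χ = principal G
    · rw [if_pos h1, h1, haP k hk hkN]; push_cast; rfl
    rw [if_neg h1]
    by_cases hkH : k = H
    · have e := hw χ hχ
      simp only [if_neg h1] at e
      rw [hkH, e]
      by_cases h2 : χ = X
      · simp [h2]
      rw [if_neg h2, if_neg h2, Finset.sum_eq_zero (fun j _ => by
        rw [if_neg (fun e' => by omega), if_neg (fun e' => by omega), add_zero]), add_zero]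
      by_cases h3 : χ = Y
      · simp [h3, hYZ]
      by_cases h4 : χ = Z <;> simp [h3, h4, Ne.symm hYZ]
    · obtain ⟨j₀, hj₀, hk'⟩ : ∃ j₀ : Fin h,
          (k = (j₀ : ℕ) + 1 ∨ k + ((j₀ : ℕ) + 1) = N) ∧ a χ k = a χ ((j₀ : ℕ) + 1) := by
        by_cases hlt : k < H
        · exact ⟨⟨k - 1, by omega⟩, Or.inl (by simp only; omega), by
            simp only [show k - 1 + 1 = k by omega]⟩
        · refine ⟨⟨N - k - 1, by omega⟩, Or.inr (by simp only; omega), ?_⟩
          apply Int.cast_injective (α := ℂ)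
          rw [ha, ha, show N - k - 1 + 1 = N - k by omega,
            coef_symm hζ hxN (hreal χ) hkN.le]
      have e := hv j₀ χ hχ
      simp only [if_neg h1] at e
      rw [hk', e]
      by_cases h2 : χ = X
      · simp [h2]
      rw [if_neg h2, if_neg h2, if_neg (show ¬ (k = H ∧ χ = Y) from fun e' => hkH e'.1),
        if_neg (show ¬ (k = H ∧ χ = Z) from fun e' => hkH e'.1),
        zero_add, zero_add, Finset.sum_eq_single j₀]
      · by_cases h5 : χ = E j₀
        · rw [if_pos h5]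
          rcases hj₀ with e' | e'
          · rw [if_pos ⟨e', h5⟩, if_neg (fun e'' => by omega)]; push_cast; ring
          · rw [if_neg (fun e'' => by omega), if_pos ⟨e', h5⟩]; push_cast; ring
        · rw [if_neg h5, if_neg (fun e' => h5 e'.2), if_neg (fun e' => h5 e'.2)]; simp
      · intro j _ hj
        have hj' : (j : ℕ) ≠ (j₀ : ℕ) := fun e' => hj (Fin.ext e')
        rw [if_neg (fun e' => by omega), if_neg (fun e' => by omega), add_zero]
      · exact fun hn' => absurd (Finset.mem_univ _) hn'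
  have hzH : ∀ l : ℕ, ζ ^ ((H : ℤ) * l) = (-1 : ℂ) ^ l := fun l => by
    rw [zpow_mul, zpow_natCast, zpow_natCast]
    congr 1
    have hp := hζ.pow (show 0 < N by omega) (show N = H * 2 by omega)
    exact hp.eq_neg_one_of_two_right
  have hsum0 : ∀ l : ℕ, 0 < l → l < N → ∑ k ∈ Finset.range N, ζ ^ ((k : ℤ) * l) = 0 :=
    fun l hl hlN => by
      rw [sum_root_pow hζ, if_neg (fun h' =>
        Nat.not_dvd_of_pos_of_lt hl hlN (Int.natCast_dvd_natCast.1 h'))]
  have hvalue : ∀ χ ∈ F, χ ≠ principal G → χ ≠ X → ∀ l : ℕ, 0 < l → l < N →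
      (χ : G → ℂ) (d.x ^ l) =
        (if χ = Y then (s₂ : ℂ) * (-1) ^ l else 0) + (if χ = Z then (s₃ : ℂ) * (-1) ^ l else 0) +
        ∑ j : Fin h, if χ = E j then
          -(δ : ℂ) * (ζ ^ (((j : ℕ) + 1) * l) + (ζ ^ (((j : ℕ) + 1) * l))⁻¹) else 0 := by
    intro χ hχ h1 h2 l hl hlN
    rw [coef_value hζ χ hl hlN]
    have e : ∀ k ∈ Finset.range N, coef d.x N ζ χ k * ζ ^ ((k : ℤ) * l) =
        ((if k = H ∧ χ = Y then (s₂ : ℂ) else 0) + (if k = H ∧ χ = Z then (s₃ : ℂ) else 0) +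
        ∑ j : Fin h, ((if (k = (j : ℕ) + 1 ∧ χ = E j) then -(δ : ℂ) else 0) +
          if (k + ((j : ℕ) + 1) = N ∧ χ = E j) then -(δ : ℂ) else 0)) * ζ ^ ((k : ℤ) * l) := by
      intro k hk
      rw [← ha, hall χ hχ k (Finset.mem_range.1 hk)]
      by_cases hk0 : k = 0
      · subst hk0
        rw [if_pos rfl, zero_mul, if_neg (fun e' => by omega), if_neg (fun e' => by omega),
          Finset.sum_eq_zero (fun j _ => by
            rw [if_neg (fun e' => by omega), if_neg (fun e' => by omega), add_zero]), add_zero,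
          add_zero, zero_mul]
      · rw [if_neg hk0, if_neg h1, if_neg h2]
    rw [Finset.sum_congr rfl e]
    conv_lhs => simp only [add_mul, Finset.sum_mul, ite_mul, zero_mul, Finset.sum_add_distrib]
    rw [Finset.sum_comm (t := (Finset.univ : Finset (Fin h))),
      Finset.sum_comm (t := (Finset.univ : Finset (Fin h)))]
    congr 1
    · congr 1 <;>
      · simp only [ite_and]
        rw [Finset.sum_ite_eq', if_pos (Finset.mem_range.2 (by omega)), hzH]
    · rw [← Finset.sum_add_distrib]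
      refine Finset.sum_congr rfl fun j _ => ?_
      have hjN : N - ((j : ℕ) + 1) ∈ Finset.range N := Finset.mem_range.2 (by omega)
      have hjN' : (j : ℕ) + 1 ∈ Finset.range N := Finset.mem_range.2 (by omega)
      have e2 : ∀ k ∈ Finset.range N,
          (if k + ((j : ℕ) + 1) = N ∧ χ = E j then -(δ : ℂ) * ζ ^ ((k : ℤ) * l) else 0) =
          if k = N - ((j : ℕ) + 1) ∧ χ = E j then -(δ : ℂ) * ζ ^ ((k : ℤ) * l) else 0 :=
        fun k hk => by
          have := Finset.mem_range.1 hk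
          exact if_congr (and_congr_left' (by omega)) rfl rfl
      rw [Finset.sum_congr rfl e2]
      simp only [ite_and]
      rw [Finset.sum_ite_eq', if_pos hjN', Finset.sum_ite_eq', if_pos hjN]
      by_cases h5 : χ = E j
      · rw [if_pos h5, if_pos h5, if_pos h5, ← mul_add]
        congr 2
        simp only [← Nat.cast_mul, zpow_natCast]
        refine eq_inv_of_mul_eq_one_left ?_
        rw [← pow_add, ← add_mul, show N - ((j : ℕ) + 1) + ((j : ℕ) + 1) = N by omega, pow_mul,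
          hζ.pow_eq_one, one_pow]
      · rw [if_neg h5, if_neg h5, if_neg h5, add_zero]
  have hXval : ∀ l : ℕ, 0 < l → l < N → (X : G → ℂ) (d.x ^ l) = -(δ : ℂ) := by
    intro l hl hlN
    rw [coef_value hζ X hl hlN, Finset.sum_congr rfl (g := fun k : ℕ =>
      (δ : ℂ) * ζ ^ ((k : ℤ) * l) - if k = 0 then (δ : ℂ) else 0) fun k hk => by
        rw [← ha, hall X hX k (Finset.mem_range.1 hk)]
        by_cases hk0 : k = 0
        · subst hk0; simp
        · rw [if_neg hk0, if_neg hX1, if_pos rfl, if_neg hk0, sub_zero],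
      Finset.sum_sub_distrib, ← Finset.mul_sum, hsum0 l hl hlN, Finset.sum_ite_eq',
      if_pos (Finset.mem_range.2 (by omega))]
    ring
  have hYval : ∀ l : ℕ, 0 < l → l < N → (Y : G → ℂ) (d.x ^ l) = (s₂ : ℂ) * (-1) ^ l := by
    intro l hl hlN
    rw [hvalue Y hY hY1 hXY.symm l hl hlN, if_pos rfl, if_neg hYZ,
      Finset.sum_eq_zero fun j _ => if_neg (fun e => (hE j).2.2.2.1 e.symm), add_zero, add_zero]
  have hZval : ∀ l : ℕ, 0 < l → l < N → (Z : G → ℂ) (d.x ^ l) = (s₃ : ℂ) * (-1) ^ l := by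
    intro l hl hlN
    rw [hvalue Z hZ hZ1 hXZ.symm l hl hlN, if_neg hYZ.symm, if_pos rfl,
      Finset.sum_eq_zero fun j _ => if_neg (fun e => (hE j).2.2.2.2 e.symm), add_zero, zero_add]
  -- involutions
  have hrest : ∀ χ ∈ F, χ ≠ principal G → χ ≠ X → χ ≠ Y → χ ≠ Z → (∀ j, χ ≠ E j) →
      ∀ g : G, 2 ∣ orderOf g → (χ : G → ℂ) g = 0 := by
    intro χ hχ h1 h2 h3 h4 h5
    have hx0 : ∀ l : ℕ, 0 < l → l < N → (χ : G → ℂ) (d.x ^ l) = 0 := fun l hl hlN => by
      rw [hvalue χ hχ h1 h2 l hl hlN, if_neg h3, if_neg h4,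
        Finset.sum_eq_zero fun j _ => if_neg (h5 j), add_zero, add_zero]
    have hr0 : ∀ i : ℤ, (χ : G → ℂ) (d.r i) = 0 := by
      intro i
      by_cases hc : IsConj (d.r i) d.z
      · rw [hval_conj χ hc, hz, hx0 H (by omega) (by omega)]
      have hrr : d.r i * d.r i = 1 := invol_mul_self (d.orderOf_r i)
      have hzz : d.x ^ H * d.x ^ H = 1 := by rw [← hz]; exact invol_mul_self d.orderOf_z
      choose m hm hpar using fun ψ : IrrCharacter G => exists_int_invol_parity ψ hrr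
      have e := column_norm_of_complement hM (htwo _ (d.r_mem i))
        (hasNormalPComplement_centralizer d (htwo _ (d.r_mem i)) (invol_ne_one (d.orderOf_r i)))
      rw [hsumF, sylow_card_centralizer_r d hc, Finset.sum_congr rfl
        (g := fun ψ : IrrCharacter G => ((m ψ ^ 2 : ℤ) : ℂ)) fun ψ _ => by
          rw [← hm, map_intCast]; push_cast; ring, ← Int.cast_sum] at e
      have h4' : ∑ ψ ∈ F, m ψ ^ 2 = 4 := by exact_mod_cast e
      have hodd' : ∀ ψ : IrrCharacter G,
          ((ψ : G → ℂ) (d.x ^ H) = 1 ∨ (ψ : G → ℂ) (d.x ^ H) = -1) → 1 ≤ m ψ ^ 2 := by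
        intro ψ hψ
        obtain ⟨m', hm', hpar'⟩ := exists_int_invol_parity ψ hzz
        have hm1 : m' = 1 ∨ m' = -1 := by
          rcases hψ with e' | e'
          · exact Or.inl (Int.cast_injective (α := ℂ) (by rw [hm', e']; norm_num))
          · exact Or.inr (Int.cast_injective (α := ℂ) (by rw [hm', e']; norm_num))
        have hne : m ψ ≠ 0 := fun e' => by
          have := hpar ψ
          rw [e'] at this
          obtain ⟨q, hq⟩ := this
          obtain ⟨q', hq'⟩ := hpar'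
          omega
        have := sq_pos_iff.2 hne
        omega
      set S : Finset (IrrCharacter G) := {principal G, X, Y, Z} with hS
      have hSF : S ⊆ F := by
        simp [hS, Finset.insert_subset_iff, hone, hX, hY, hZ]
      have hScard : S.card = 4 := by
        rw [hS, Finset.card_insert_of_notMem (by simp [hX1.symm, hY1.symm, hZ1.symm]),
          Finset.card_insert_of_notMem (by simp [hXY, hXZ]),
          Finset.card_insert_of_notMem (by simp [hYZ]), Finset.card_singleton]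
      have hSge : (4 : ℤ) ≤ ∑ ψ ∈ S, m ψ ^ 2 := by
        refine le_trans ?_ (Finset.card_nsmul_le_sum S _ 1 fun ψ hψ => hodd' ψ ?_)
        · rw [hScard]; norm_num
        simp only [hS, Finset.mem_insert, Finset.mem_singleton] at hψ
        rcases hψ with rfl | rfl | rfl | rfl
        · exact Or.inl (principal_apply _)
        · rw [hXval H (by omega) (by omega)]
          rcases hδ with e' | e' <;> simp [e']
        · rw [hYval H (by omega) (by omega), hHe.neg_one_pow, mul_one]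
          rcases hs₂ with e' | e' <;> simp [e']
        · rw [hZval H (by omega) (by omega), hHe.neg_one_pow, mul_one]
          rcases hs₃ with e' | e' <;> simp [e']
      rw [← Finset.sum_sdiff hSF] at h4'
      have hnn : ∑ ψ ∈ F \ S, m ψ ^ 2 = 0 :=
        le_antisymm (by linarith) (Finset.sum_nonneg fun _ _ => sq_nonneg _)
      have := (Finset.sum_eq_zero_iff_of_nonneg fun ψ _ => sq_nonneg (m ψ)).1 hnn χ
        (Finset.mem_sdiff.2 ⟨hχ, by simp [hS, h1, h2, h3, h4]⟩)
      rw [← hm, sq_eq_zero_iff.1 this, Int.cast_zero]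
    intro g hg
    obtain ⟨v, y, hyv, hc, hyk, hv'⟩ := exists_isPPrimePart (p := 2) g
    have hy1 : y ≠ 1 := fun e => by
      rw [← hyv, e, one_mul] at hg
      exact hv' hg
    rw [← hyv, apply_section_of_complement hM hyk hv' hc
      (hasNormalPComplement_centralizer d hyk hy1) (Finset.mem_filter.1 hχ).2]
    rcases exists_conj_cases d hyk with ⟨l, hl⟩ | ⟨i, hi⟩
    · have hNz : (0 : ℤ) < N := by exact_mod_cast NeZero.pos N
      obtain ⟨q, hq⟩ : ∃ q : ℕ, (q : ℤ) = l % (N : ℤ) :=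
        ⟨_, Int.toNat_of_nonneg (Int.emod_nonneg _ hNz.ne')⟩
      have hxq : d.x ^ l = d.x ^ q := by
        rw [← zpow_natCast, hq, hN, ← d.orderOf_x, zpow_mod_orderOf]
      have hqN : q < N := by
        have := Int.emod_lt_of_pos l hNz
        omega
      rw [hxq] at hl
      have hq0 : 0 < q := by
        rcases Nat.eq_zero_or_pos q with rfl | h0
        · rw [pow_zero] at hl; exact absurd (isConj_one_left.1 hl) hy1
        · exact h0
      rw [hval_conj χ hl, hx0 q hq0 hqN]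
    · rw [hval_conj χ hi, hr0 i]
  have hblock : principalBlock M G =
      {χ | χ = principal G ∨ χ = X ∨ χ = Y ∨ χ = Z ∨ ∃ j, χ = E j} := by
    ext χ
    constructor
    · intro hχ
      by_contra hno
      simp only [Set.mem_ofPred_eq, not_or, not_exists] at hno
      obtain ⟨h1, h2, h3, h4, h5⟩ := hno
      obtain ⟨g, hg, hne⟩ := exists_singular_ne_zero hM hχ h1
      exact hne (hrest χ (Finset.mem_filter.2 ⟨Finset.mem_univ _, hχ⟩) h1 h2 h3 h4 h5 g hg)
    · rintro (rfl | rfl | rfl | rfl | ⟨j, rfl⟩)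
      · exact (Finset.mem_filter.1 hone).2
      · exact (Finset.mem_filter.1 hX).2
      · exact (Finset.mem_filter.1 hY).2
      · exact (Finset.mem_filter.1 hZ).2
      · exact (Finset.mem_filter.1 (hE j).1).2
  refine ⟨?_, X, Y, Z, E, -δ, -s₂, -s₃, by omega, by omega, by omega, hEinj, hX1, hY1, hZ1,
    hXY, hXZ, hYZ, fun j => ⟨(hE j).2.2.1, (hE j).2.2.2.1, (hE j).2.2.2.2, (hE j).2.1⟩, hblock,
    ?_, ?_⟩
  · have hFeq : F = {principal G, X, Y, Z} ∪ Finset.univ.image E := by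
      ext χ
      simp [hF, hblock, eq_comm]
    rw [Nat.card_eq_fintype_card, Fintype.card_subtype, ← hF, hFeq, Finset.card_union_of_disjoint,
      Finset.card_image_of_injective _ hEinj, Finset.card_univ, Fintype.card_fin,
      Finset.card_insert_of_notMem (by simp [hX1.symm, hY1.symm, hZ1.symm]),
      Finset.card_insert_of_notMem (by simp [hXY, hXZ]),
      Finset.card_insert_of_notMem (by simp [hYZ]), Finset.card_singleton]
    · omega
    · rw [Finset.disjoint_left]
      intro χ hχ hχ'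
      obtain ⟨j, -, rfl⟩ := Finset.mem_image.1 hχ'
      obtain ⟨-, a1, a2, a3, a4⟩ := hE j
      simp [a1, a2, a3, a4] at hχ
  · intro l hl hlN
    refine ⟨by rw [hXval l hl hlN]; push_cast; rfl, ?_, ?_, fun j => ?_⟩
    · rw [hYval l hl hlN, pow_succ]; push_cast; ring
    · rw [hZval l hl hlN, pow_succ]; push_cast; ring
    · obtain ⟨hEm, a1, a2, a3, a4⟩ := hE j
      rw [hvalue (E j) hEm a1 a2 l hl hlN, if_neg a3, if_neg a4, Finset.sum_eq_single j
        (fun b _ hb => if_neg (fun e => hb (hEinj e).symm))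
        (fun hn' => absurd (Finset.mem_univ _) hn'), if_pos rfl]
      push_cast
      ring
  · intro ρ hρ j
    have ew : ∑ χ ∈ F, (a χ H : ℂ) * (χ : G → ℂ) ρ =
        -1 + (δ : ℂ) * (X : G → ℂ) ρ + (s₂ : ℂ) * (Y : G → ℂ) ρ + (s₃ : ℂ) * (Z : G → ℂ) ρ := by
      have hsub : ({principal G, X, Y, Z} : Finset (IrrCharacter G)) ⊆ F := by
        simp [Finset.insert_subset_iff, hone, hX, hY, hZ]
      rw [← Finset.sum_subset hsub fun χ hχ hnot => by
          simp only [Finset.mem_insert, Finset.mem_singleton, not_or] at hnot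
          rw [hw χ hχ, if_neg hnot.1, if_neg hnot.2.1, if_neg hnot.2.2.1, if_neg hnot.2.2.2,
            Int.cast_zero, zero_mul],
        Finset.sum_insert (by simp [hX1.symm, hY1.symm, hZ1.symm]),
        Finset.sum_insert (by simp [hXY, hXZ]), Finset.sum_pair hYZ, hw _ hone, hw _ hX, hw _ hY,
        hw _ hZ, if_pos rfl, if_neg hX1, if_pos rfl, if_neg hY1, if_neg hXY.symm, if_pos rfl,
        if_neg hZ1, if_neg hXZ.symm, if_neg hYZ.symm, if_pos rfl, principal_apply]
      push_cast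
      ring
    have ev : ∑ χ ∈ F, (a χ ((j : ℕ) + 1) : ℂ) * (χ : G → ℂ) ρ =
        -1 + (δ : ℂ) * (X : G → ℂ) ρ - (δ : ℂ) * (E j : G → ℂ) ρ := by
      obtain ⟨hEm, a1, a2, a3, a4⟩ := hE j
      have hsub : ({principal G, X, E j} : Finset (IrrCharacter G)) ⊆ F := by
        simp [Finset.insert_subset_iff, hone, hX, hEm]
      rw [← Finset.sum_subset hsub fun χ hχ hnot => by
          simp only [Finset.mem_insert, Finset.mem_singleton, not_or] at hnot
          rw [hv j χ hχ, if_neg hnot.1, if_neg hnot.2.1, if_neg hnot.2.2,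
            Int.cast_zero, zero_mul],
        Finset.sum_insert (by simp [hX1.symm, a1.symm]), Finset.sum_pair a2.symm, hv j _ hone,
        hv j _ hX, hv j _ hEm, if_pos rfl, if_neg hX1, if_pos rfl, if_neg a1, if_neg a2,
        if_pos rfl, principal_apply]
      push_cast
      ring
    rw [horth _ ρ hρ] at ew ev
    push_cast
    constructor
    · linear_combination ew
    · linear_combination ev

end CfsgLib.Blocks

namespace CfsgLib.Blocks

open Involutions

universe v

/-- An element of maximal order may be taken as the generator. -/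
theorem exists_dp_of_generator {G : Type v} [Group G] [Finite G] {P : Sylow 2 G} {n : ℕ}
    (hn : 3 ≤ n) (hP : Nonempty ((P : Subgroup G) ≃* DihedralGroup (2 ^ (n - 1)))) {σ : G}
    (hσ : σ ∈ (P : Subgroup G)) (hσo : orderOf σ = 2 ^ (n - 1)) :
    ∃ d : DP (P : Subgroup G), d.n = n - 1 ∧ d.x = σ := by
  haveI : Fact (Nat.Prime 2) := ⟨Nat.prime_two⟩
  obtain ⟨e⟩ := hP
  obtain ⟨d⟩ := nonempty_dp P.2 (m := 2 ^ (n - 1))
    (Nat.le_self_pow (show n - 1 ≠ 0 by omega) 2) e
  have hdn : d.n = n - 1 := by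
    have h := d.card_eq
    rw [Nat.card_congr e.toEquiv, DihedralGroup.nat_card] at h
    exact Nat.pow_right_injective le_rfl (Nat.eq_of_mul_eq_mul_left two_pos h.symm)
  obtain ⟨i, hi⟩ : ∃ i : ℤ, σ = d.x ^ i := by
    rcases d.cover σ hσ with h | ⟨i, hi⟩
    · exact h
    · exfalso
      have h2 : orderOf σ = 2 := by rw [hi]; exact d.orderOf_r i
      rw [hσo] at h2
      have h4 : 2 ^ 2 ≤ 2 ^ (n - 1) := Nat.pow_le_pow_right two_pos (by omega)
      omega
  have hz : Subgroup.zpowers σ = Subgroup.zpowers d.x :=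
    Subgroup.eq_of_le_of_card_ge (Subgroup.zpowers_le.2 ⟨i, hi.symm⟩)
      (by rw [Nat.card_zpowers, Nat.card_zpowers, d.orderOf_x, hσo, hdn])
  refine ⟨⟨d.n, σ, d.y, d.one_le, hσ, d.y_mem, by rw [hσo, hdn], d.orderOf_y, ?_, ?_, ?_⟩,
    hdn, rfl⟩
  · rw [hi, ← conj_zpow, d.conj_y, inv_zpow]
  · rw [hz]; exact d.y_not
  · intro g hg
    rcases d.cover g hg with ⟨j, rfl⟩ | ⟨j, rfl⟩
    · obtain ⟨k, hk⟩ : d.x ^ j ∈ Subgroup.zpowers σ := hz ▸ zpow_mem (Subgroup.mem_zpowers _) j
      exact Or.inl ⟨k, hk.symm⟩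
    · obtain ⟨k, hk⟩ : d.x ^ j ∈ Subgroup.zpowers σ := hz ▸ zpow_mem (Subgroup.mem_zpowers _) j
      exact Or.inr ⟨k, congrArg (· * d.y) hk.symm⟩

end CfsgLib.Blocks
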