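import Cfsg.Agent.Lib.Blocks.ExtendedFirstMain
import Cfsg.Agent.Lib.Blocks.MaximalPairs
import Cfsg.Agent.Lib.Blocks.CoveredDefectGroup

/-!
# Brauer pairs induce their blocks
-/

set_option linter.unusedSectionVars false
set_option linter.style.haveILetI false

namespace CfsgLib.Blocks

open Cfsg Chars

variable {G : Type*} [Group G] [Fintype G] {M : Ideal AlgInt} [M.IsPrime] {p : ℕ} [Fact p.Prime]
  {R : Subgroup G}

/-- A pair on any `p`-subgroup induces its block from the centralizer. -/
theorem isInducedBlock_centralizer_of_pair (hpM : (p : AlgInt) ∈ M)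
    {f : Set (IrrCharacter (Subgroup.centralizer (R : Set G)))} {B : Set (IrrCharacter G)}
    (h : IsBrauerPairOf p M B R f) :
    IsInducedBlock M (Subgroup.centralizer (R : Set G)) f B := by
  classical
  obtain ⟨L, hL⟩ : ∃ L, L = R ⊔ Subgroup.centralizer (R : Set G) := ⟨_, rfl⟩
  have hRL : R ≤ L := hL ▸ le_sup_left
  have hCL : Subgroup.centralizer (R : Set G) ≤ L := hL ▸ le_sup_right
  have hLN : L ≤ Subgroup.normalizer (R : Set G) :=
    hL ▸ sup_le Subgroup.le_normalizer (Subgroup.centralizer_le_normalizer _)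
  haveI := Fintype.ofFinite L
  haveI := Fintype.ofFinite (Subgroup.centralizer (R : Set G))
  haveI := Fintype.ofFinite ((Subgroup.centralizer (R : Set G)).subgroupOf L)
  haveI : (R.subgroupOf L).Normal := (Subgroup.normal_subgroupOf_iff_le_normalizer hRL).2 hLN
  haveI : ((Subgroup.centralizer (R : Set G)).subgroupOf L).Normal :=
    (Subgroup.normal_subgroupOf_iff_le_normalizer hCL).2
      (hLN.trans fun x hx => mem_normalizer_centralizer hx)
  obtain ⟨b, hb, hmul⟩ := exists_local_block hpM h.1.1 hRL hCL hLN h.1.2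
  have hbB := isInducedBlock_of_pair hpM h.1.1 hRL hCL hLN h hb hmul
  set e := Subgroup.subgroupOfEquivOfLe hCL with he
  have hf' := isPBlock_image_pullIrr e h.1.2
  have key : pairIdem h.1.2 = incl M L (pairIdem hf') := by
    apply MonoidAlgebra.ext
    ext g
    by_cases hg : g ∈ L
    · obtain ⟨u, rfl⟩ : ∃ u : L, (u : G) = g := ⟨⟨g, hg⟩, rfl⟩
      rw [coeff_incl, pairIdem, pairIdem, coeff_redFun, coeff_redFun]
      refine congrArg red (Subtype.ext ?_)
      by_cases hu : (u : G) ∈ Subgroup.centralizer (R : Set G)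
      · show subgroupBlockCoeff _ f (u : G) = subgroupBlockCoeff _ (pullIrr e '' f) u
        rw [show u = (((⟨u, hu⟩ : (Subgroup.centralizer (R : Set G)).subgroupOf L)) : L) from rfl,
          subgroupBlockCoeff_coe, blockCoeff_image_pullIrr, ← subgroupBlockCoeff_coe]
        simp [he]
      · show subgroupBlockCoeff _ f (u : G) = subgroupBlockCoeff _ (pullIrr e '' f) u
        rw [subgroupBlockCoeff_of_notMem _ hu,
          subgroupBlockCoeff_of_notMem _ (fun h' => hu (Subgroup.mem_subgroupOf.1 h'))]
    · rw [coeff_incl_of_notMem _ hg, coeff_pairIdem_eq_zero_iff,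
        subgroupBlockCoeff_of_notMem _ fun h' => hg (hCL h')]
      exact MemLocalIdeal.zero'
  have hne : blockIdem hb * pairIdem hf' ≠ 0 := by
    rw [(commute_blockIdem hb _).eq]
    intro h0
    apply pairIdem_ne_zero h.1.2
    rw [← hmul, key, pairIdem_eq_incl hb, ← map_mul, h0, map_zero]
  have hcov := covers_of_mul_ne_zero hf' hb hne
  have hind : IsInducedBlock M ((Subgroup.centralizer (R : Set G)).subgroupOf L)
      (pullIrr e '' f) b := by
    refine isInducedBlock_of_covering hpM
      (h.1.1.of_equiv (Subgroup.subgroupOfEquivOfLe hRL).symm) ?_ hf' hb hcov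
    intro x hx
    rw [Subgroup.mem_subgroupOf, Subgroup.mem_centralizer_iff]
    intro u hu
    exact congrArg Subtype.val
      (Subgroup.mem_centralizer_iff.1 hx ⟨u, hRL hu⟩ (Subgroup.mem_subgroupOf.2 hu))
  exact IsInducedBlock.trans' hCL hind hbB h.1.2

/-- Inducing from a centralizer is being a pair. -/
theorem isInducedBlock_centralizer_iff (hpM : (p : AlgInt) ∈ M) (hR : IsPGroup p R)
    {f : Set (IrrCharacter (Subgroup.centralizer (R : Set G)))} {B : Set (IrrCharacter G)} :
    IsInducedBlock M (Subgroup.centralizer (R : Set G)) f B ↔ IsBrauerPairOf p M B R f := by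
  refine ⟨fun h => ?_, isInducedBlock_centralizer_of_pair hpM⟩
  obtain ⟨B', hB', -⟩ := existsUnique_block_of_pair hpM (⟨hR, h.1⟩ : IsBrauerPair p M R f)
  rwa [IsInducedBlock.unique h (isInducedBlock_centralizer_of_pair hpM hB')]

end CfsgLib.Blocks
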