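import Cfsg.Agent.Lib.Blocks.CentricNilpotent
import Cfsg.Agent.Lib.Blocks.CoveringUnique
import Cfsg.Agent.Lib.Blocks.PairInduced
import Cfsg.Agent.Lib.Coprime.Action

/-!
# When is a Brauer pair maximal?
-/

set_option linter.unusedSectionVars false
set_option linter.style.haveILetI false

namespace CfsgLib.Blocks

open Cfsg Chars

variable {G : Type*} [Group G] [Fintype G] {M : Ideal AlgInt} [M.IsPrime] {p : ℕ} [Fact p.Prime]
  {P : Subgroup G} {e : Set (IrrCharacter (Subgroup.centralizer (P : Set G)))}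

theorem sup_centralizer_le_stabPair (hpM : (p : AlgInt) ∈ M) (hPe : IsBrauerPair p M P e) :
    P ⊔ Subgroup.centralizer (P : Set G) ≤ stabPair ⟨P, e⟩ :=
  sup_le (subgroup_le_stabPair hpM hPe) (centralizer_le_stabPair hPe.2)

theorem card_sup_centralizer (P : Subgroup G) :
    (Subgroup.centralizer (P : Set G)).relIndex (P ⊔ Subgroup.centralizer (P : Set G)) *
      Nat.card (P ⊓ Subgroup.centralizer (P : Set G) : Subgroup G) = Nat.card P := by
  have h1 := CfsgLib.Coprime.card_sup_mul_card_inf (H := P)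
    (N := Subgroup.centralizer (P : Set G))
    (fun x hx => mem_normalizer_centralizer (Subgroup.le_normalizer hx))
  have h2 := Subgroup.relIndex_mul_relIndex ⊥ (Subgroup.centralizer (P : Set G))
    (P ⊔ Subgroup.centralizer (P : Set G)) bot_le le_sup_right
  simp only [Subgroup.relIndex_bot_left] at h2
  rw [← h2] at h1
  refine Nat.eq_of_mul_eq_mul_left (Nat.card_pos (α := Subgroup.centralizer (P : Set G))) ?_
  linarith

/-- The block of a maximal pair has defect group the centre, and the stabilizer of the pair has a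
`p'`-index over `P C(P)`. -/
theorem maximal_pair_facts (hpM : (p : AlgInt) ∈ M) {B : Set (IrrCharacter G)}
    (hmax : IsMaximalBrauerPair p M B P e) :
    blockDefect p e = (Nat.card (P ⊓ Subgroup.centralizer (P : Set G) : Subgroup G)).factorization p ∧
      ¬ p ∣ (P ⊔ Subgroup.centralizer (P : Set G)).relIndex (stabPair ⟨P, e⟩) := by
  classical
  have hp : p.Prime := Fact.out
  have hPe : IsBrauerPair p M P e := hmax.1.1
  obtain ⟨T, hT⟩ : ∃ T, T = stabPair (⟨P, e⟩ : BrauerPairIdx G) := ⟨_, rfl⟩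
  rw [← hT]
  haveI := Fintype.ofFinite T
  haveI := Fintype.ofFinite (Subgroup.centralizer (P : Set G))
  have hCT : (Subgroup.centralizer (P : Set G)) ≤ T := hT ▸ centralizer_le_stabPair hPe.2
  have hPT : P ≤ T := hT ▸ subgroup_le_stabPair hpM hPe
  haveI : ((Subgroup.centralizer (P : Set G)).subgroupOf T).Normal :=
    (Subgroup.normal_subgroupOf_iff_le_normalizer hCT).2 fun u hu =>
      mem_normalizer_centralizer (stabPair_le_normalizer _ (hT ▸ hu))
  haveI := Fintype.ofFinite ((Subgroup.centralizer (P : Set G)).subgroupOf T)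
  set φ := Subgroup.subgroupOfEquivOfLe hCT with hφ
  have hb : IsPBlock M (pullIrr φ '' e) := isPBlock_image_pullIrr φ hPe.2
  have hinv : ∀ (x : T) θ, θ ∈ pullIrr φ '' e →
      conjIrr ((Subgroup.centralizer (P : Set G)).subgroupOf T) x θ ∈ pullIrr φ '' e := by
    rintro x _ ⟨ξ, hξ, rfl⟩
    have hst := ((mem_stabPair_iff hPe.2).1 (hT.le (inv_mem x.2))).2
    obtain ⟨ξ', hξ', hc⟩ := hst.2 ξ hξ
    refine ⟨ξ', hξ', Subtype.ext (funext fun n => ?_)⟩
    rw [coe_conjIrr, pullIrr_apply]
    refine hc (φ (CharsMore.conjBy _ x n)) (φ n) ?_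
    simp [hφ, mul_assoc]
  obtain ⟨g, hcoef, -, -, hval⟩ := exists_fong_class _ hpM hb hinv
  rw [blockCoeff_image_pullIrr] at hcoef
  have hgC : ((g : T) : G) ∈ (Subgroup.centralizer (P : Set G)) := (φ g).2
  have hne : ¬ MemLocalIdeal M
      (subgroupBlockCoeff (Subgroup.centralizer (P : Set G)) e ((g : T) : G)) := by
    rw [show ((g : T) : G) = ((φ g : (Subgroup.centralizer (P : Set G))) : G) from rfl,
      subgroupBlockCoeff_coe]
    exact hcoef
  have hPZ : P.subgroupOf T ≤ Subgroup.centralizer ({(g : T)} : Set T) := by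
    intro u hu
    rw [Subgroup.mem_centralizer_singleton_iff]
    exact Subtype.ext (Subgroup.mem_centralizer_iff.1 hgC _ (Subgroup.mem_subgroupOf.1 hu))
  obtain ⟨S, hS⟩ := ((isPGroup_subgroupOf hPe.1 hPT).of_equiv
    (Subgroup.subgroupOfEquivOfLe hPZ).symm).exists_le_sylow
  set R := ((S : Subgroup (Subgroup.centralizer ({(g : T)} : Set T))).map
    (Subgroup.centralizer ({(g : T)} : Set T)).subtype).map T.subtype with hR
  have hRp : IsPGroup p R := isPGroup_map_subtype (isPGroup_map_subtype S.2)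
  have hPR : P ≤ R := fun u hu => by
    refine ⟨⟨u, hPT hu⟩, ⟨⟨⟨u, hPT hu⟩, hPZ (Subgroup.mem_subgroupOf.2 hu)⟩, ?_, rfl⟩, rfl⟩
    exact hS (Subgroup.mem_subgroupOf.2 (Subgroup.mem_subgroupOf.2 hu))
  have hRT : R ≤ T := Subgroup.map_subtype_le _
  have hgR : ((g : T) : G) ∈ Subgroup.centralizer (R : Set G) := by
    rw [Subgroup.mem_centralizer_iff]
    rintro _ ⟨_, ⟨u, -, rfl⟩, rfl⟩
    exact congrArg Subtype.val (Subgroup.mem_centralizer_singleton_iff.1 u.2)
  have hst : ∀ u ∈ R, StabilizesBlock (Subgroup.centralizer (P : Set G)) e u := fun u hu =>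
    ((mem_stabPair_iff hPe.2).1 (hT ▸ hRT hu)).2
  obtain ⟨h, hh, hmul⟩ := exists_pair_of_coeff hpM hRp (subgroupBlockCoeff_mem_loc hPe.2)
    (fun u hu y => ((stabilizesBlock_iff hPe.2).1 (hst u hu)).2 y)
    (fun u hu y => subgroupBlockCoeff_conj_of_mem e (centralizer_antitone hPR hu) y)
    (pairIdem_mul_self hPe.2) hgR hne
  have hn : IsNormalSubpair p M P e R h := isNormalSubpair_of_ne_zero hpM ⟨hRp, hh⟩ hPR
    (hRT.trans (hT ▸ stabPair_le_normalizer _)) hPe.2 hst
    (fun h0 => pairIdem_ne_zero hh (hmul.symm.trans h0))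
  have hRP : R = P := hmax.2 R h ((isBrauerPairOf_of_normal hpM hn B).1 hmax.1)
    (Relation.ReflTransGen.single hn)
  have hcardR : Nat.card R =
      p ^ (Nat.card (Subgroup.centralizer ({(g : T)} : Set T))).factorization p := by
    rw [hR, Subgroup.card_map_of_injective T.subtype_injective,
      Subgroup.card_map_of_injective (Subgroup.centralizer ({(g : T)} : Set T)).subtype_injective,
      S.card_eq_multiplicity]
  -- the centre lies in a defect group of `e`
  obtain ⟨D, hD, hle₁⟩ := exists_defect_ge (b := ⟨P, e⟩) hpM hPe Relation.ReflTransGen.refl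
    le_rfl (centralizer_le_stabPair hPe.2) hPe.2 rfl
    (S := P ⊓ Subgroup.centralizer (P : Set G)) inf_le_left inf_le_right
  have h1 := Subgroup.card_le_of_le hle₁
  rw [Base.card_subgroupOf inf_le_right, BlockOrth.card_defectGroup hpM hPe.2 hD] at h1
  obtain ⟨z, hz⟩ := IsPGroup.iff_card.1
    (hPe.1.to_le (inf_le_left : P ⊓ Subgroup.centralizer (P : Set G) ≤ P))
  rw [hz] at h1 ⊢
  have hzd := (Nat.pow_le_pow_iff_right hp.one_lt).1 h1
  rw [hp.factorization_pow, Finsupp.single_eq_same]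
  have hbd : blockDefect p (pullIrr φ '' e) = blockDefect p e := by
    rw [blockDefect, blockDefect, Set.image_image, Nat.card_congr φ.toEquiv]
    simp only [charDegree, pullIrr_apply, map_one]
  -- the indices
  have hLT : P ⊔ Subgroup.centralizer (P : Set G) ≤ T := sup_le hPT hCT
  have h2 := Subgroup.relIndex_mul_relIndex (Subgroup.centralizer (P : Set G))
    (P ⊔ Subgroup.centralizer (P : Set G)) T le_sup_right hLT
  have h3 := card_sup_centralizer P
  rw [hz] at h3
  have hr1 : (Subgroup.centralizer (P : Set G)).relIndex (P ⊔ Subgroup.centralizer (P : Set G)) ≠ 0 :=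
    Subgroup.index_ne_zero_of_finite
  have hr2 : (P ⊔ Subgroup.centralizer (P : Set G)).relIndex T ≠ 0 := Subgroup.index_ne_zero_of_finite
  have h4 := congrArg (fun n : ℕ => n.factorization p) h2
  have h5 := congrArg (fun n : ℕ => n.factorization p) h3
  simp only [Nat.factorization_mul hr1 hr2, Nat.factorization_mul hr1 (pow_ne_zero _ hp.ne_zero),
    hp.factorization_pow, Finsupp.add_apply, Finsupp.single_eq_same] at h4 h5
  have h6 : (Nat.card P).factorization p = blockDefect p e +
      ((Subgroup.centralizer (P : Set G)).relIndex T).factorization p := by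
    rw [show Nat.card P = Nat.card R by rw [hRP], hcardR, hp.factorization_pow, Finsupp.single_eq_same, hval, hbd]
    rfl
  refine ⟨by omega, fun hd => ?_⟩
  have h7 := hp.factorization_pos_of_dvd hr2 hd
  omega

/-- A block of `P C(P)` with the idempotent of `e`. -/
theorem exists_block_sup (hpM : (p : AlgInt) ∈ M) (hPe : IsBrauerPair p M P e) :
    ∃ b : Set (IrrCharacter (P ⊔ Subgroup.centralizer (P : Set G) : Subgroup G)),
      IsPBlock M b ∧ subgroupBlockCoeff (P ⊔ Subgroup.centralizer (P : Set G)) b =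
        subgroupBlockCoeff (Subgroup.centralizer (P : Set G)) e :=
  exists_block_eq_of_stable hpM hPe.1 le_sup_left le_sup_right
    ((sup_centralizer_le_stabPair hpM hPe).trans (stabPair_le_normalizer _)) hPe.2
    fun x hx => ((mem_stabPair_iff hPe.2).1 (sup_centralizer_le_stabPair hpM hPe hx)).2

/-- The criterion for maximality. -/
theorem isMaximal_of_criterion (hpM : (p : AlgInt) ∈ M) (hPe : IsBrauerPair p M P e)
    (hd : blockDefect p e =
      (Nat.card (P ⊓ Subgroup.centralizer (P : Set G) : Subgroup G)).factorization p)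
    (hT : ∀ g ∈ stabPair (⟨P, e⟩ : BrauerPairIdx G), (∃ k : ℕ, orderOf g = p ^ k) →
      g ∈ P ⊔ Subgroup.centralizer (P : Set G))
    {B : Set (IrrCharacter G)} (hB : IsBrauerPairOf p M B P e) :
    IsMaximalBrauerPair p M B P e := by
  classical
  refine ⟨hB, fun R g hg hle => ?_⟩
  by_contra hne
  have hlt : P < R := lt_of_le_of_ne (below_le hle) (fun h => hne h.symm)
  obtain ⟨b, hb, hbe⟩ := exists_block_sup hpM hPe
  obtain ⟨z, hz⟩ := IsPGroup.iff_card.1
    (hPe.1.to_le (inf_le_left : P ⊓ Subgroup.centralizer (P : Set G) ≤ P))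
  have hdef := isDefectGroup_self_centralizer (b := ⟨P, e⟩) hpM hPe Relation.ReflTransGen.refl
    (by rw [hd, hz, (Fact.out : p.Prime).factorization_pow, Finsupp.single_eq_same]) hb hbe
  have hR := exists_lt_le_normalizer hg.1.1 hlt
  set R₁ := R ⊓ Subgroup.normalizer (P : Set G) with hR₁
  obtain ⟨g₁, hg₁⟩ := exists_below (b := ⟨R, g⟩) hpM hg.1 R₁ inf_le_left
  have hn := isNormalSubpair_of_below (b := ⟨R, g⟩) hpM hg.1 hle hg₁ hR.le inf_le_right
  obtain ⟨L, hL⟩ : ∃ L, L = P ⊔ Subgroup.centralizer (P : Set G) := ⟨_, rfl⟩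
  have hR₁p : IsPGroup p R₁ := hg.1.1.to_le inf_le_left
  have hR₁L : R₁ ≤ L := fun x hx => by
    rw [hL]
    refine hT x ((mem_stabPair_iff hPe.2).2 ⟨hn.2.2.2.1 hx, hn.2.2.2.2.1 x hx⟩) ?_
    obtain ⟨k, hk⟩ := IsPGroup.iff_orderOf.1 hR₁p ⟨x, hx⟩
    exact ⟨k, by rw [← hk, ← Subgroup.orderOf_coe]⟩
  subst hL
  haveI := Fintype.ofFinite (P ⊔ Subgroup.centralizer (P : Set G) : Subgroup G)
  have hCR : Subgroup.centralizer (R₁ : Set G) ≤ P ⊔ Subgroup.centralizer (P : Set G) :=
    (centralizer_antitone hR.le).trans le_sup_right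
  have hid : pairIdem hb = pairIdem hPe.2 := by
    apply MonoidAlgebra.ext
    ext y
    rw [coeff_pairIdem, coeff_pairIdem]
    exact congrArg red (Subtype.ext (congrFun hbe y))
  obtain ⟨r, hr, -⟩ := exists_pair_of_restrict hpM hb hR₁p hR₁L hCR hn.2.1.2 (by
    rw [hid, IsNormalSubpair.mul_cut hpM hn]
    exact pairIdem_ne_zero hn.2.1.2)
  have hne' : cut (Subgroup.centralizer (R₁.subgroupOf (P ⊔ Subgroup.centralizer (P : Set G)) :
      Set (P ⊔ Subgroup.centralizer (P : Set G) : Subgroup G)) : Set _) (blockIdem hb) ≠ 0 := by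
    intro h0
    have h1 := (isBrauerPairOf_iff hpM hr.1 hb).1.1 hr
    rw [h0, mul_zero] at h1
    exact pairIdem_ne_zero hr.1.2 h1.symm
  obtain ⟨y, hy⟩ := exists_conj_le_of_cut_ne_zero hpM hb hdef hr.1.1 hne'
  have h2 := card_le_of_map_conj_le hy
  rw [Base.card_subgroupOf hR₁L, Base.card_subgroupOf le_sup_left] at h2
  exact absurd (Set.Finite.card_lt_card (Set.toFinite _) hR) (not_lt.2 h2)

end CfsgLib.Blocks
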