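import Cfsg.Agent.Lib.Blocks.SecTau
import Cfsg.Agent.Lib.Blocks.MaximalPairs
import Cfsg.Agent.Lib.Blocks.RelTrace

/-!
# Weighting the subsections of a block by a stable function on its defect group
-/

set_option linter.unusedSectionVars false
set_option linter.style.haveILetI false

namespace CfsgLib.Blocks

open Cfsg Chars

variable {G : Type*} [Group G] [Fintype G] {M : Ideal AlgInt} [M.IsPrime] {p : ℕ} [Fact p.Prime]

/-- A function is stable for the fusion of the pair `c` : it takes equal values at corresponding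
elements of two pairs below `c` conjugate in `G`. -/
def IsPairStable (p : ℕ) (M : Ideal AlgInt) (c : BrauerPairIdx G) (η : G → ℂ) : Prop :=
  ∀ (a : BrauerPairIdx G) (g : G), Relation.ReflTransGen (NormalSubpairRel p M) a c →
    Relation.ReflTransGen (NormalSubpairRel p M) (conjPair g a) c →
      ∀ u ∈ a.1, η (g * u * g⁻¹) = η u

open scoped Classical in
/-- The value of `η` transported to an element of a pair conjugate to one below `c`. -/
noncomputable def pairWeight (p : ℕ) (M : Ideal AlgInt) (c : BrauerPairIdx G) (η : G → ℂ)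
    (a : BrauerPairIdx G) (s : G) : ℂ :=
  if h : ∃ x : G, Relation.ReflTransGen (NormalSubpairRel p M) (conjPair x a) c
  then η (h.choose * s * h.choose⁻¹) else 0

variable {c : BrauerPairIdx G} {η : G → ℂ}

theorem pairWeight_eq (hη : IsPairStable p M c η) {a : BrauerPairIdx G} {s x : G} (hs : s ∈ a.1)
    (hx : Relation.ReflTransGen (NormalSubpairRel p M) (conjPair x a) c) :
    pairWeight p M c η a s = η (x * s * x⁻¹) := by
  have h : ∃ x : G, Relation.ReflTransGen (NormalSubpairRel p M) (conjPair x a) c := ⟨x, hx⟩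
  rw [pairWeight, dif_pos h]
  have hy := h.choose_spec
  have h1 := hη (conjPair x a) (h.choose * x⁻¹) hx
    (by rw [conjPair_mul, inv_mul_cancel_right]; exact hy) (x * s * x⁻¹) ⟨s, hs, by simp⟩
  rw [← h1]
  congr 1
  group

theorem pairWeight_of_not {a' : BrauerPairIdx G} (h : ¬ ∃ x : G, Relation.ReflTransGen (NormalSubpairRel p M) (conjPair x a') c)
    (s : G) : pairWeight p M c η a' s = 0 := by
  rw [pairWeight, dif_neg h]

theorem pairWeight_conj (hη : IsPairStable p M c η) {a : BrauerPairIdx G} {s : G} (hs : s ∈ a.1)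
    (g : G) : pairWeight p M c η (conjPair g a) (g * s * g⁻¹) = pairWeight p M c η a s := by
  by_cases h : ∃ x : G, Relation.ReflTransGen (NormalSubpairRel p M) (conjPair x a) c
  · obtain ⟨x, hx⟩ := h
    rw [pairWeight_eq hη hs hx, pairWeight_eq hη (a := conjPair g a) (s := g * s * g⁻¹) (x := x * g⁻¹)
      (show g * s * g⁻¹ ∈ a.1.map (MulAut.conj g).toMonoidHom from ⟨s, hs, by simp⟩)
      (by rw [conjPair_mul, inv_mul_cancel_right]; exact hx)]
    congr 1
    group
  · rw [pairWeight_of_not h, pairWeight_of_not]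
    rintro ⟨x, hx⟩
    exact h ⟨x * g, by rw [← conjPair_mul]; exact hx⟩

open scoped Classical in
/-- The idempotent of a pair in the group ring modulo `M`. -/
noncomputable def pairE (M : Ideal AlgInt) [M.IsPrime] (a : BrauerPairIdx G) :
    MonoidAlgebra (ResField M) G :=
  if h : IsPBlock M a.2 then pairIdem h else 0

theorem pairE_eq {a : BrauerPairIdx G} (h : IsPBlock M a.2) : pairE M a = pairIdem h := by
  rw [pairE, dif_pos h]

theorem pairE_conjPair {a : BrauerPairIdx G} (h : IsPBlock M a.2) (x : G) :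
    conjAlg x (pairE M a) = pairE M (conjPair x a) := by
  rw [pairE_eq h, pairE_eq (isPBlock_conjBlock h x)]
  exact conjAlg_pairIdem h _ x fun g => pairCoeff_conjPair x a g

open scoped Classical in
/-- The pairs on the cyclic group generated by an element. -/
noncomputable def pairsAt (M : Ideal AlgInt) (s : G) : Finset (BrauerPairIdx G) :=
  haveI := Fintype.ofFinite (BrauerPairIdx G)
  Finset.univ.filter fun a => a.1 = Subgroup.zpowers s ∧ IsPBlock M a.2

theorem mem_pairsAt {s : G} {a : BrauerPairIdx G} :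
    a ∈ pairsAt M s ↔ a.1 = Subgroup.zpowers s ∧ IsPBlock M a.2 := by
  simp [pairsAt]

theorem sum_pairE (s : G) : ∑ a ∈ pairsAt M s, pairE M a = 1 := by
  classical
  rw [← sum_pairIdem (M := M) (H := Subgroup.centralizer (Subgroup.zpowers s : Set G))
    (blockFinset M _) rfl (fun b => pairE M ⟨Subgroup.zpowers s, b⟩) (fun b hb => pairE_eq hb)]
  refine (Finset.sum_bij (fun b _ => (⟨Subgroup.zpowers s, b⟩ : BrauerPairIdx G)) (fun b hb => ?_)
    (fun b _ b' _ h => eq_of_heq (Sigma.mk.inj_iff.1 h).2) (fun a ha => ?_) fun _ _ => rfl).symm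
  · exact mem_pairsAt.2 ⟨rfl, mem_blockFinset.1 hb⟩
  · obtain ⟨Q, b⟩ := a
    obtain ⟨rfl, hb⟩ := mem_pairsAt.1 ha
    exact ⟨b, mem_blockFinset.2 hb, rfl⟩

/-- The weighted twisted trace of the Brauer image at `s`. -/
noncomputable def starTau (p : ℕ) (c : BrauerPairIdx G) (η θ : G → ℂ) (s : G)
    (z : MonoidAlgebra (ResField M) G) : ℂ :=
  ∑ a ∈ pairsAt M s, pairWeight p M c η a s *
    secTau θ s (pairE M a * cut (Subgroup.centralizer (Subgroup.zpowers s : Set G) : Set G) z)

variable {θ : G → ℂ} {s : G}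

theorem pairE_props (hpM : (p : AlgInt) ∈ M) {a : BrauerPairIdx G} (ha : a ∈ pairsAt M s)
    {z : MonoidAlgebra (ResField M) G} (hz : IsFixedBy (Subgroup.zpowers s) z) :
    IsFixedBy (Subgroup.zpowers s)
      (pairE M a * cut (Subgroup.centralizer (Subgroup.zpowers s : Set G) : Set G) z) ∧
    Commute (pairE M a) (cut (Subgroup.centralizer (Subgroup.zpowers s : Set G) : Set G) z) ∧
    pairE M a * pairE M a = pairE M a ∧ IsFixedBy (Subgroup.zpowers s) (pairE M a) ∧
    cut (Subgroup.centralizer (Subgroup.zpowers s : Set G) : Set G) (pairE M a) = pairE M a := by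
  obtain ⟨Q, b⟩ := a
  obtain ⟨rfl, hb⟩ := mem_pairsAt.1 ha
  rw [pairE_eq (a := ⟨Subgroup.zpowers s, b⟩) hb]
  have hfix : IsFixedBy (Subgroup.zpowers s) (pairIdem hb) := fun u hu g => by
    by_cases hg : g ∈ Subgroup.centralizer (Subgroup.zpowers s : Set G)
    · rw [Subgroup.mem_centralizer_iff.1 hg u hu, mul_inv_cancel_right]
    · have hg' := mt (conj_mem_centralizer_iff (Subgroup.le_normalizer hu) g).1 hg
      rw [cut_eq_self_iff.1 (cut_pairIdem hb) _ hg, cut_eq_self_iff.1 (cut_pairIdem hb) _ hg']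
  exact ⟨hfix.mul (isFixedBy_cut hz Subgroup.le_normalizer),
    (commute_pairIdem_of_cut hb (cut_cut_self _ z)).symm, pairIdem_mul_self hb, hfix,
    cut_pairIdem hb⟩

theorem starTau_congr {z z' : MonoidAlgebra (ResField M) G}
    (h : cut (Subgroup.centralizer (Subgroup.zpowers s : Set G) : Set G) z =
      cut (Subgroup.centralizer (Subgroup.zpowers s : Set G) : Set G) z') :
    starTau p c η θ s z = starTau p c η θ s z' := by
  simp only [starTau, h]

theorem starTau_zero (hpM : (p : AlgInt) ∈ M) (hθ : IsLocClassFun M θ)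
    (hs : ∃ k : ℕ, s ^ p ^ k = 1) {z : MonoidAlgebra (ResField M) G}
    (hz : cut (Subgroup.centralizer (Subgroup.zpowers s : Set G) : Set G) z = 0) :
    starTau p c η θ s z = 0 :=
  Finset.sum_eq_zero fun a _ => by
    rw [hz, mul_zero, secTau_zero hpM hθ hs (cut_zero _), mul_zero]

theorem starTau_add (hpM : (p : AlgInt) ∈ M) (hθ : IsLocClassFun M θ)
    (hs : ∃ k : ℕ, s ^ p ^ k = 1) {z z' : MonoidAlgebra (ResField M) G}
    (hz : IsFixedBy (Subgroup.zpowers s) z) (hz' : IsFixedBy (Subgroup.zpowers s) z')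
    (h1 : z * z = z) (h2 : z' * z' = z') (h12 : z * z' = 0) (h21 : z' * z = 0) :
    starTau p c η θ s (z + z') = starTau p c η θ s z + starTau p c η θ s z' := by
  haveI := charP_resField (M := M) (Fact.out (p := p.Prime)) hpM
  have hP := isPGroup_zpowers hs
  rw [starTau, starTau, starTau, ← Finset.sum_add_distrib]
  refine Finset.sum_congr rfl fun a ha => ?_
  obtain ⟨hf, hcomm, hee, hef, hce⟩ := pairE_props hpM ha hz
  obtain ⟨hf', hcomm', -, -, -⟩ := pairE_props hpM ha hz'
  have key : ∀ w w' : MonoidAlgebra (ResField M) G, IsFixedBy (Subgroup.zpowers s) w →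
      IsFixedBy (Subgroup.zpowers s) w' → Commute (pairE M a)
        (cut (Subgroup.centralizer (Subgroup.zpowers s : Set G) : Set G) w) →
      cut (Subgroup.centralizer (Subgroup.zpowers s : Set G) : Set G)
          (pairE M a * cut (Subgroup.centralizer (Subgroup.zpowers s : Set G) : Set G) w) *
        cut (Subgroup.centralizer (Subgroup.zpowers s : Set G) : Set G)
          (pairE M a * cut (Subgroup.centralizer (Subgroup.zpowers s : Set G) : Set G) w') =
      pairE M a * cut (Subgroup.centralizer (Subgroup.zpowers s : Set G) : Set G) (w * w') := by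
    intro w w' hw hw' hc
    rw [cut_mul p hP hef (isFixedBy_cut hw Subgroup.le_normalizer),
      cut_mul p hP hef (isFixedBy_cut hw' Subgroup.le_normalizer), hce, cut_cut_self, cut_cut_self,
      cut_mul p hP hw hw', mul_assoc, ← mul_assoc (cut _ w) (pairE M a), ← hc.eq, mul_assoc,
      ← mul_assoc, hee]
  have hcp : ∀ w : MonoidAlgebra (ResField M) G, IsFixedBy (Subgroup.zpowers s) w →
      cut (Subgroup.centralizer (Subgroup.zpowers s : Set G) : Set G)
          (pairE M a * cut (Subgroup.centralizer (Subgroup.zpowers s : Set G) : Set G) w) =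
      pairE M a * cut (Subgroup.centralizer (Subgroup.zpowers s : Set G) : Set G) w := by
    intro w hw
    rw [cut_mul p hP hef (isFixedBy_cut hw Subgroup.le_normalizer), hce, cut_cut_self]
  rw [← mul_add, cut_add, mul_add, secTau_add hpM hθ hs hf hf'
    (by rw [key z z hz hz hcomm, h1, hcp z hz]) (by rw [key z' z' hz' hz' hcomm', h2, hcp z' hz'])
    (by rw [key z z' hz hz' hcomm, h12, cut_zero, mul_zero])
    (by rw [key z' z hz' hz hcomm', h21, cut_zero, mul_zero])]

theorem starTau_eq_of_equiv (hpM : (p : AlgInt) ∈ M) (hθ : IsLocClassFun M θ)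
    (hs : ∃ k : ℕ, s ^ p ^ k = 1) {a b u v : MonoidAlgebra (ResField M) G}
    (ha : IsFixedBy (Subgroup.zpowers s) a) (hb : IsFixedBy (Subgroup.zpowers s) b)
    (hu : IsFixedBy (Subgroup.zpowers s) u) (hv : IsFixedBy (Subgroup.zpowers s) v)
    (haa : a * a = a) (hbb : b * b = b) (huv : u * v = a) (hvu : v * u = b) :
    starTau p c η θ s a = starTau p c η θ s b := by
  haveI := charP_resField (M := M) (Fact.out (p := p.Prime)) hpM
  have hP := isPGroup_zpowers hs
  refine Finset.sum_congr rfl fun d hd => ?_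
  congr 1
  obtain ⟨hfa, hca, hee, hef, hce⟩ := pairE_props hpM hd ha
  obtain ⟨hfb, hcb, -, -, -⟩ := pairE_props hpM hd hb
  obtain ⟨hfu, hcu, -, -, -⟩ := pairE_props hpM hd hu
  obtain ⟨hfv, hcv, -, -, -⟩ := pairE_props hpM hd hv
  have hcp : ∀ w : MonoidAlgebra (ResField M) G, IsFixedBy (Subgroup.zpowers s) w →
      cut (Subgroup.centralizer (Subgroup.zpowers s : Set G) : Set G)
          (pairE M d * cut (Subgroup.centralizer (Subgroup.zpowers s : Set G) : Set G) w) =
      pairE M d * cut (Subgroup.centralizer (Subgroup.zpowers s : Set G) : Set G) w := by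
    intro w hw
    rw [cut_mul p hP hef (isFixedBy_cut hw Subgroup.le_normalizer), hce, cut_cut_self]
  have key : ∀ w w' : MonoidAlgebra (ResField M) G, IsFixedBy (Subgroup.zpowers s) w →
      IsFixedBy (Subgroup.zpowers s) w' → Commute (pairE M d)
        (cut (Subgroup.centralizer (Subgroup.zpowers s : Set G) : Set G) w) →
      cut (Subgroup.centralizer (Subgroup.zpowers s : Set G) : Set G)
          (pairE M d * cut (Subgroup.centralizer (Subgroup.zpowers s : Set G) : Set G) w) *
        cut (Subgroup.centralizer (Subgroup.zpowers s : Set G) : Set G)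
          (pairE M d * cut (Subgroup.centralizer (Subgroup.zpowers s : Set G) : Set G) w') =
      pairE M d * cut (Subgroup.centralizer (Subgroup.zpowers s : Set G) : Set G) (w * w') := by
    intro w w' hw hw' hc
    rw [hcp w hw, hcp w' hw', cut_mul p hP hw hw', mul_assoc, ← mul_assoc (cut _ w) (pairE M d),
      ← hc.eq, mul_assoc, ← mul_assoc, hee]
  exact secTau_eq_of_equiv hpM hθ hs hfa hfb hfu hfv (by rw [key a a ha ha hca, haa, hcp a ha])
    (by rw [key b b hb hb hcb, hbb, hcp b hb]) (by rw [key u v hu hv hcu, huv, hcp a ha])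
    (by rw [key v u hv hu hcv, hvu, hcp b hb])

/-! ## Conjugation -/

/-- Conjugation on the group ring over the local ring. -/
noncomputable def conjLoc (x : G) : MonoidAlgebra (loc M) G →+* MonoidAlgebra (loc M) G :=
  MonoidAlgebra.mapDomainRingHom (loc M) (MulAut.conj x).toMonoidHom

theorem coeff_conjLoc (x : G) (F : MonoidAlgebra (loc M) G) (g : G) :
    (conjLoc x F).coeff g = F.coeff (x⁻¹ * g * x) := by
  have h : (conjLoc x F).coeff = Finsupp.mapDomain (MulAut.conj x).toMonoidHom F.coeff := by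
    simp [conjLoc]
  rw [h]
  conv_lhs => rw [show g = (MulAut.conj x).toMonoidHom (x⁻¹ * g * x) by simp [mul_assoc]]
  exact Finsupp.mapDomain_apply (MulAut.conj x).injective _ _

theorem mem_centralizer_zpowers_conj (x s g : G) :
    g ∈ Subgroup.centralizer (Subgroup.zpowers (x * s * x⁻¹) : Set G) ↔
      x⁻¹ * g * x ∈ Subgroup.centralizer (Subgroup.zpowers s : Set G) := by
  have h : (Subgroup.zpowers s).map (MulAut.conj x).toMonoidHom = Subgroup.zpowers (x * s * x⁻¹) := by
    rw [MonoidHom.map_zpowers]; rfl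
  rw [← h, ← centralizer_conj_iff (Subgroup.zpowers s) x (x⁻¹ * g * x)]
  simp [mul_assoc]

theorem cut_conjAlg (x s : G) (z : MonoidAlgebra (ResField M) G) :
    cut (Subgroup.centralizer (Subgroup.zpowers (x * s * x⁻¹) : Set G) : Set G) (conjAlg x z) =
      conjAlg x (cut (Subgroup.centralizer (Subgroup.zpowers s : Set G) : Set G) z) := by
  apply MonoidAlgebra.ext
  ext g
  by_cases hg : g ∈ Subgroup.centralizer (Subgroup.zpowers (x * s * x⁻¹) : Set G)
  · rw [coeff_cut_of_mem _ hg, coeff_conjAlg, coeff_conjAlg,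
      coeff_cut_of_mem _ ((mem_centralizer_zpowers_conj x s g).1 hg)]
  · rw [coeff_cut_of_notMem _ hg, coeff_conjAlg,
      coeff_cut_of_notMem _ (mt (mem_centralizer_zpowers_conj x s g).2 hg)]

theorem isFixedBy_conj_zpowers {k : Type*} [CommRing k] (x s : G) {z w : MonoidAlgebra k G}
    (hz : IsFixedBy (Subgroup.zpowers s) z) (hw : ∀ g, w.coeff g = z.coeff (x⁻¹ * g * x)) :
    IsFixedBy (Subgroup.zpowers (x * s * x⁻¹)) w := by
  intro u hu g
  obtain ⟨n, rfl⟩ := Subgroup.mem_zpowers_iff.1 hu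
  rw [hw, hw]
  have h1 := hz (s ^ n) (Subgroup.zpow_mem_zpowers s n) (x⁻¹ * g * x)
  rw [← h1]
  congr 1
  rw [show (x * s * x⁻¹) ^ n = x * s ^ n * x⁻¹ from conj_zpow]
  group

theorem secTau_conj (hpM : (p : AlgInt) ∈ M) (hθ : IsLocClassFun M θ)
    (hs : ∃ k : ℕ, s ^ p ^ k = 1) (x : G) {z : MonoidAlgebra (ResField M) G}
    (hz : IsFixedBy (Subgroup.zpowers s) z)
    (hidem : cut (Subgroup.centralizer (Subgroup.zpowers s : Set G) : Set G) z *
      cut (Subgroup.centralizer (Subgroup.zpowers s : Set G) : Set G) z =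
        cut (Subgroup.centralizer (Subgroup.zpowers s : Set G) : Set G) z) :
    secTau θ (x * s * x⁻¹) (conjAlg x z) = secTau θ s z := by
  obtain ⟨e, he, hef, hcut⟩ := exists_idem_lift hpM (isPGroup_zpowers hs) hz hidem
  have hs' : ∃ k : ℕ, (x * s * x⁻¹) ^ p ^ k = 1 := by
    obtain ⟨k, hk⟩ := hs
    exact ⟨k, by rw [conj_pow, hk, mul_one, mul_inv_cancel]⟩
  have hred : redAlg (conjLoc x e) = conjAlg x (redAlg e) := by
    apply MonoidAlgebra.ext
    ext g
    rw [coeff_redAlg, coeff_conjLoc, coeff_conjAlg, coeff_redAlg]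
  rw [secTau_eq hpM hθ hs he hef hcut, secTau_eq hpM hθ hs' (e := conjLoc x e)
    (by rw [← map_mul, he]) (isFixedBy_conj_zpowers x s hef (coeff_conjLoc x e))
    (by rw [hred, cut_conjAlg, hcut, ← cut_conjAlg])]
  rw [secTrace, secTrace]
  refine (Equiv.sum_comp (MulAut.conj x).toEquiv _).symm.trans (Finset.sum_congr rfl fun g _ => ?_)
  show ((conjLoc x e).coeff (x * g * x⁻¹) : ℂ) * θ (x * g * x⁻¹ * (x * s * x⁻¹)) = _
  rw [coeff_conjLoc, show x⁻¹ * (x * g * x⁻¹) * x = g by group,
    show x * g * x⁻¹ * (x * s * x⁻¹) = x * (g * s) * x⁻¹ by group, hθ.1]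

theorem starTau_conj (hpM : (p : AlgInt) ∈ M) (hθ : IsLocClassFun M θ) (hη : IsPairStable p M c η)
    (hs : ∃ k : ℕ, s ^ p ^ k = 1) (x : G) {z : MonoidAlgebra (ResField M) G}
    (hz : IsFixedBy (Subgroup.zpowers s) z) (hzz : z * z = z) :
    starTau p c η θ (x * s * x⁻¹) (conjAlg x z) = starTau p c η θ s z := by
  haveI := charP_resField (M := M) (Fact.out (p := p.Prime)) hpM
  have hP := isPGroup_zpowers hs
  have hmap : ∀ g t : G, (Subgroup.zpowers t).map (MulAut.conj g).toMonoidHom =
      Subgroup.zpowers (g * t * g⁻¹) := fun g t => by rw [MonoidHom.map_zpowers]; rfl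
  rw [starTau, starTau]
  refine Finset.sum_bij' (fun a _ => conjPair x⁻¹ a) (fun a _ => conjPair x a) (fun a ha => ?_)
    (fun a ha => ?_) (fun a _ => by rw [conjPair_mul, mul_inv_cancel, conjPair_one])
    (fun a _ => by rw [conjPair_mul, inv_mul_cancel, conjPair_one]) fun a ha => ?_
  · obtain ⟨h1, h2⟩ := mem_pairsAt.1 ha
    refine mem_pairsAt.2 ⟨?_, isPBlock_conjBlock h2 _⟩
    show a.1.map _ = _
    rw [h1, hmap]
    congr 1
    group
  · obtain ⟨h1, h2⟩ := mem_pairsAt.1 ha
    refine mem_pairsAt.2 ⟨?_, isPBlock_conjBlock h2 _⟩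
    show a.1.map _ = _
    rw [h1, hmap]
  obtain ⟨h1, h2⟩ := mem_pairsAt.1 ha
  obtain ⟨b, hb⟩ : ∃ b, b = conjPair x⁻¹ a := ⟨_, rfl⟩
  have hbmem : b ∈ pairsAt M s := by
    rw [hb]
    refine mem_pairsAt.2 ⟨?_, isPBlock_conjBlock h2 _⟩
    show a.1.map _ = _
    rw [h1, hmap]
    congr 1
    group
  have hab : a = conjPair x b := by rw [hb, conjPair_mul, mul_inv_cancel, conjPair_one]
  rw [← hb, hab, pairWeight_conj hη (by rw [(mem_pairsAt.1 hbmem).1]; exact Subgroup.mem_zpowers s),
    cut_conjAlg, ← pairE_conjPair (mem_pairsAt.1 hbmem).2, ← map_mul]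
  congr 1
  obtain ⟨hf, hcomm, hee, hef, hce⟩ := pairE_props hpM hbmem hz
  refine secTau_conj hpM hθ hs x hf ?_
  rw [cut_mul p hP hef (isFixedBy_cut hz Subgroup.le_normalizer), hce, cut_cut_self, mul_assoc,
    ← mul_assoc _ (pairE M b), ← hcomm.eq, mul_assoc, ← cut_mul p hP hz hz, hzz, ← mul_assoc, hee]

end CfsgLib.Blocks
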