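import Cfsg.Agent.Lib.Blocks.NilpotentStar
import Cfsg.Agent.Lib.Blocks.CentricNilpotent
import Cfsg.Agent.Lib.Blocks.InertialQuotient
import Cfsg.Agent.Lib.CharsMore.ItoDegree
import Cfsg.Agent.Lib.CharsMore.Clifford
import Cfsg.Agent.S0934

/-!
# Blocks with a normal defect group: heights and commutativity
-/

set_option linter.unusedSectionVars false
set_option linter.style.haveILetI false

namespace CfsgLib.Blocks

open Cfsg Chars BlockOrth

variable {G : Type*} [Group G] [Fintype G] {M : Ideal AlgInt} [M.IsPrime] {p : ℕ} [Fact p.Prime]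
variable {B : Set (IrrCharacter G)} {P : Subgroup G}
  {e : Set (IrrCharacter (Subgroup.centralizer (P : Set G)))}

theorem comm_of_all_linear {A : Type*} [Group A] [Finite A]
    (h : ∀ θ : IrrCharacter A, charDegree (θ : A → ℂ) = 1) (a b : A) : a * b = b * a := by
  haveI := Fintype.ofFinite A
  haveI := irrFintype A
  have hsum := CharApps.sum_degree_sq_nat (G := A)
  simp only [h, one_pow, Finset.sum_const, smul_eq_mul, mul_one, Finset.card_univ] at hsum
  rw [← Nat.card_eq_fintype_card, card_irr_eq_card_classes] at hsum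
  haveI := Fintype.ofFinite (ConjClasses A)
  have hinj : Function.Injective (ConjClasses.mk : A → ConjClasses A) :=
    ((Fintype.bijective_iff_surjective_and_card _).2 ⟨ConjClasses.mk_surjective,
      by rw [← Nat.card_eq_fintype_card, ← Nat.card_eq_fintype_card, hsum]⟩).1
  have h1 : a * b * a⁻¹ = b :=
    hinj (ConjClasses.mk_eq_mk_iff_isConj.2 (IsConj.symm (isConj_iff.2 ⟨a, rfl⟩)))
  exact mul_inv_eq_iff_eq_mul.1 h1

/-- The stabilizer of a maximal pair contains `P C(P)` with index prime to `p`. -/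
theorem not_dvd_index_local_stab (hpM : (p : AlgInt) ∈ M) (hmax : IsMaximalBrauerPair p M B P e)
    {L : Subgroup G} (hPL : P ≤ L) (hLT : L ≤ stabPair ⟨P, e⟩)
    [(L.subgroupOf (stabPair ⟨P, e⟩)).Normal] {b : Set (IrrCharacter L)}
    (hb : IsPBlock M b)
    (hcoef : subgroupBlockCoeff L b = subgroupBlockCoeff (Subgroup.centralizer (P : Set G)) e)
    (hd : IsDefectGroup p M b (P.subgroupOf L)) :
    ¬ p ∣ (L.subgroupOf (stabPair ⟨P, e⟩)).index := by
  classical
  have hPe : IsBrauerPair p M P e := hmax.1.1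
  haveI := Fintype.ofFinite L
  haveI := Fintype.ofFinite (stabPair (⟨P, e⟩ : BrauerPairIdx G))
  set N := L.subgroupOf (stabPair ⟨P, e⟩) with hN
  haveI := Fintype.ofFinite N
  set φ := Subgroup.subgroupOfEquivOfLe hLT with hφ
  set b' := pullIrr φ '' b with hb'
  have hbb : IsPBlock M b' := isPBlock_image_pullIrr φ hb
  have hst : ∀ u ∈ stabPair (⟨P, e⟩ : BrauerPairIdx G),
      StabilizesBlock (Subgroup.centralizer (P : Set G)) e u := fun u hu =>
    ((mem_stabPair_iff hPe.2).1 hu).2
  have hsuppb : ∀ n : N, blockCoeff b' n =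
      subgroupBlockCoeff (Subgroup.centralizer (P : Set G)) e ((n : stabPair ⟨P, e⟩) : G) := by
    intro n
    rw [hb', blockCoeff_image_pullIrr, ← hcoef,
      show ((n : stabPair ⟨P, e⟩) : G) = ((φ n : L) : G) from rfl, subgroupBlockCoeff_coe]
  have hinv : ∀ (x : stabPair (⟨P, e⟩ : BrauerPairIdx G)) θ, θ ∈ b' → conjIrr N x θ ∈ b' := by
    intro x θ hθ
    have h1 : conjIrr N x θ ∈ blockOf M (conjIrr N x θ : N → ℂ) := mem_blockOf_self _
    have hB' := isPBlock_blockOf (M := M) (conjIrr N x θ)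
    suffices blockOf M (conjIrr N x θ : N → ℂ) = b' by rwa [this] at h1
    by_contra hne
    have h2 : omega (conjIrr N x θ : N → ℂ) (blockCoeff b') = 1 := by
      rw [omega_conjIrr, show (fun n : N => blockCoeff b' (CharsMore.conjBy N x⁻¹ n)) = blockCoeff b' from
        funext fun n => ?_, omega_blockCoeff, if_pos hθ]
      rw [hsuppb, hsuppb]
      have := ((stabilizesBlock_iff hPe.2).1 (hst _ (inv_mem x.2))).2 ((n : stabPair ⟨P, e⟩) : G)
      simpa using this
    rw [omega_blockCoeff, if_neg fun h => hne (IsPBlock.eq_of_mem hB' hbb h1 h)] at h2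
    exact zero_ne_one h2
  obtain ⟨g, hcoefg, -, -, hval⟩ := exists_fong_class N hpM hbb hinv
  rw [hsuppb] at hcoefg
  have hgC : ((g : stabPair ⟨P, e⟩) : G) ∈ Subgroup.centralizer (P : Set G) := by
    by_contra h
    exact hcoefg (by rw [subgroupBlockCoeff_of_notMem e h]; exact MemLocalIdeal.zero')
  set Z := Subgroup.centralizer ({(g : stabPair ⟨P, e⟩)} : Set (stabPair ⟨P, e⟩)) with hZ
  have hPT : P ≤ stabPair ⟨P, e⟩ := subgroup_le_stabPair hpM hPe
  have hPZ : P.subgroupOf (stabPair ⟨P, e⟩) ≤ Z := by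
    intro u hu
    rw [hZ, Subgroup.mem_centralizer_singleton_iff]
    exact Subtype.ext (Subgroup.mem_centralizer_iff.1 hgC _ (Subgroup.mem_subgroupOf.1 hu))
  obtain ⟨S, hS⟩ := ((isPGroup_subgroupOf hPe.1 hPT).of_equiv
    (Subgroup.subgroupOfEquivOfLe hPZ).symm).exists_le_sylow
  set R := ((S : Subgroup Z).map Z.subtype).map (stabPair ⟨P, e⟩).subtype with hR
  have hRp : IsPGroup p R := isPGroup_map_subtype (isPGroup_map_subtype S.2)
  have hPR : P ≤ R := fun u hu => by
    refine ⟨⟨u, hPT hu⟩, ⟨⟨⟨u, hPT hu⟩, hPZ (Subgroup.mem_subgroupOf.2 hu)⟩, ?_, rfl⟩, rfl⟩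
    exact hS (Subgroup.mem_subgroupOf.2 (Subgroup.mem_subgroupOf.2 hu))
  have hRT : R ≤ stabPair ⟨P, e⟩ := Subgroup.map_subtype_le _
  have hgR : ((g : stabPair ⟨P, e⟩) : G) ∈ Subgroup.centralizer (R : Set G) := by
    rw [Subgroup.mem_centralizer_iff]
    rintro _ ⟨_, ⟨u, -, rfl⟩, rfl⟩
    exact congrArg Subtype.val (Subgroup.mem_centralizer_singleton_iff.1 u.2)
  obtain ⟨h, hh, hmul⟩ := exists_pair_of_coeff hpM hRp (subgroupBlockCoeff_mem_loc hPe.2)
    (fun u hu y => ((stabilizesBlock_iff hPe.2).1 (hst u (hRT hu))).2 y)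
    (fun u hu y => subgroupBlockCoeff_conj_of_mem e (centralizer_antitone hPR hu) y)
    (pairIdem_mul_self hPe.2) hgR hcoefg
  have hn : IsNormalSubpair p M P e R h := isNormalSubpair_of_ne_zero hpM ⟨hRp, hh⟩ hPR
    (hRT.trans (stabPair_le_normalizer _)) hPe.2 (fun u hu => hst u (hRT hu))
    (fun h0 => pairIdem_ne_zero hh (hmul.symm.trans h0))
  have hRP : R = P := hmax.2 R h ((isBrauerPairOf_of_normal hpM hn B).1 hmax.1)
    (Relation.ReflTransGen.single hn)
  have hcardR : Nat.card R = p ^ (Nat.card Z).factorization p := by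
    rw [hR, Subgroup.card_map_of_injective (stabPair ⟨P, e⟩).subtype_injective,
      Subgroup.card_map_of_injective Z.subtype_injective, S.card_eq_multiplicity]
  have hcardP : Nat.card P = p ^ blockDefect p b' := by
    have h1 := BlockOrth.card_defectGroup hpM hb hd
    rw [Base.card_subgroupOf hPL] at h1
    rw [h1, hb', blockDefect, blockDefect, Set.image_image, Nat.card_congr φ.toEquiv]
    simp only [charDegree, pullIrr_apply, map_one]
  have hcard' : Nat.card R = Nat.card P := by rw [hRP]
  rw [hcardR, hcardP, hval] at hcard'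
  have h3 : _ = blockDefect p b' := Nat.pow_right_injective (Fact.out : p.Prime).two_le hcard'
  intro hdvd
  have h4 := (Fact.out : p.Prime).factorization_pos_of_dvd Subgroup.index_ne_zero_of_finite hdvd
  omega

/-- A normal defect group is commutative iff all characters of the block have height zero. -/
theorem normal_defect_abelian_iff (hM : IsPModular p M) (hB : IsPBlock M B) [P.Normal]
    (hP : IsDefectGroup p M B P) :
    (∀ a ∈ P, ∀ c ∈ P, a * c = c * a) ↔ ∀ χ ∈ B, blockHeight p B (χ : G → ℂ) = 0 := by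
  classical
  have hpM := hM.2.2
  have hp : p.Prime := Fact.out
  have hcard := card_defectGroup hpM hB hP
  have hmin : blockMin p B = P.index.factorization p := by
    have h1 := blockMin_add_blockDefect (p := p) (IsPBlock.nonempty hB)
    rw [← P.card_mul_index, Nat.factorization_mul Nat.card_pos.ne'
      Subgroup.index_ne_zero_of_finite, Finsupp.add_apply, hcard, hp.factorization_pow,
      Finsupp.single_eq_same] at h1
    omega
  constructor
  · intro hab χ hχ
    haveI := Fintype.ofFinite P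
    obtain ⟨k, hk, hdvd⟩ := CharsMore.ito_degree_dvd (N := P) hab χ.2
    have hk' : charDegree (χ : G → ℂ) = k := by
      rw [irr_apply_one] at hk; exact_mod_cast hk
    rw [blockHeight_eq, degVal, hk', hmin]
    have hk0 : k ≠ 0 := fun h => irr_charDegree_ne_zero χ (hk'.trans h)
    have := (Nat.factorization_le_iff_dvd hk0 Subgroup.index_ne_zero_of_finite).2 hdvd p
    omega
  intro hht
  obtain ⟨e, he⟩ := exists_pair_on_defectGroup hpM hB hP
  have hmax := isMaximal_of_defectGroup hpM hP he
  obtain ⟨L, hLdef⟩ : ∃ L, L = P ⊔ Subgroup.centralizer (P : Set G) := ⟨_, rfl⟩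
  haveI hCn : (Subgroup.centralizer (P : Set G)).Normal := ⟨fun c hc g =>
    (conj_mem_centralizer_iff (by rw [Subgroup.normalizer_eq_top]; exact Subgroup.mem_top g) c).2 hc⟩
  haveI hLn : L.Normal := hLdef ▸ Subgroup.sup_normal _ _
  haveI := Fintype.ofFinite L
  have hPL : P ≤ L := hLdef ▸ le_sup_left
  have hCL : Subgroup.centralizer (P : Set G) ≤ L := hLdef ▸ le_sup_right
  have hPT : P ≤ stabPair ⟨P, e⟩ := subgroup_le_stabPair hpM he.1
  have hLT : L ≤ stabPair ⟨P, e⟩ := hLdef ▸ sup_le hPT (centralizer_le_stabPair he.1.2)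
  obtain ⟨b, hb, hcoef⟩ := exists_block_eq_of_stable hpM he.1.1 hPL hCL
    (hLT.trans (stabPair_le_normalizer _)) he.1.2
    (fun x hx => ((mem_stabPair_iff he.1.2).1 (hLT hx)).2)
  have hF := isBlockFusionSystemOn_blockFusion hpM hmax
  have hfc : (blockFusion (b := ⟨P, e⟩) hpM hmax.1.1).IsFullyCentralized P := by
    refine ⟨le_rfl, fun Q' hQ' => ?_⟩
    obtain ⟨g, hg, rfl⟩ := (isConj_block_iff hF).1 hQ'
    rw [Subgroup.eq_of_le_of_card_ge hg.map_le (Base.card_map_conj g P).symm.le]
  have hZ := (isFullyCentralized_iff hpM hF (Relation.ReflTransGen.refl :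
    Below p M (⟨P, e⟩ : BrauerPairIdx G) ⟨P, e⟩)).1 hfc
  have hbd : IsDefectGroup p M b (P.subgroupOf L) := by
    subst hLdef
    exact isDefectGroup_self_centralizer (b := ⟨P, e⟩) hpM hmax.1.1 Relation.ReflTransGen.refl hZ hb hcoef
  have hbn : IsNilpotentBlock p M b := by
    subst hLdef
    exact isNilpotentBlock_self_centralizer hpM he.1.1 hb hbd
  have hind : IsInducedBlock M L b B := isInducedBlock_of_pair hpM he.1.1 hPL hCL
    (hLT.trans (stabPair_le_normalizer _)) he hb (by
      rw [show pairIdem hb = pairIdem he.1.2 from ?_, pairIdem_mul_self]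
      apply MonoidAlgebra.ext
      ext g
      rw [coeff_pairIdem, coeff_pairIdem]
      exact congrArg red (Subtype.ext (congrFun hcoef g)))
  haveI : (L.subgroupOf (stabPair ⟨P, e⟩)).Normal := Subgroup.normal_subgroupOf
  have hTL := not_dvd_index_local_stab hpM hmax hPL hLT hb hcoef hbd
  have hmin' : blockMin p b + L.index.factorization p = P.index.factorization p := by
    have h1 := blockMin_add_blockDefect (p := p) (IsPBlock.nonempty hb)
    have h2 := BlockOrth.card_defectGroup hpM hb hbd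
    rw [Base.card_subgroupOf hPL, hcard] at h2
    have h3 := Nat.pow_right_injective hp.two_le h2
    have h4 := congrArg (fun n : ℕ => n.factorization p) L.card_mul_index
    have h5 := congrArg (fun n : ℕ => n.factorization p) P.card_mul_index
    rw [Nat.factorization_mul Nat.card_pos.ne' Subgroup.index_ne_zero_of_finite,
      Finsupp.add_apply] at h4 h5
    rw [hcard, hp.factorization_pow, Finsupp.single_eq_same] at h5
    omega
  have hb0 : ∀ φ ∈ b, blockHeight p b (φ : L → ℂ) = 0 := by
    intro φ hφ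
    obtain ⟨χ, hχ, hne⟩ := Cfsg.Agent.S0934.result p M hM L b B hind φ hφ
    have hI : CharsMore.inertia L (φ : L → ℂ) ≤ stabPair ⟨P, e⟩ := by
      intro x hx
      rw [mem_stabPair_iff he.1.2]
      refine ⟨by rw [Subgroup.normalizer_eq_top]; exact Subgroup.mem_top x, ?_⟩
      have hxb : StabilizesBlock L b x := by
        refine ⟨by rw [Subgroup.normalizer_eq_top]; exact Subgroup.mem_top x, fun ξ hξ => ?_⟩
        refine ⟨conjIrr L x⁻¹ ξ, ?_, fun k k' hk => ?_⟩
        · refine IsPBlock.mem_of_sameBlock hb hφ ?_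
          have h1 : conjIrr L x⁻¹ φ = φ := Subtype.ext (inv_mem hx :)
          have h2 := sameBlock_conjIrr L x⁻¹ (IsPBlock.sameBlock hb hφ hξ)
          rwa [h1] at h2
        · rw [coe_conjIrr]
          refine congrArg (ξ : L → ℂ) (Subtype.ext ?_)
          rw [CharsMore.coe_conjBy, hk]
          group
      refine (stabilizesBlock_iff he.1.2).2 ⟨by rw [Subgroup.normalizer_eq_top]; exact Subgroup.mem_top x,
        fun g => ?_⟩
      rw [← hcoef]
      exact ((stabilizesBlock_iff hb).1 hxb).2 g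
    obtain ⟨m, hm⟩ := inner_irr_right_nat (isCharacter_restrict L (isCharacter_of_irr χ.2)) φ
    have hdeg := CharsMore.clifford_degree L χ.2 φ.2 hne
    rw [hm, irr_apply_one, irr_apply_one] at hdeg
    have hdeg' : charDegree (χ : G → ℂ) = m * (CharsMore.inertia L (φ : L → ℂ)).index *
        charDegree (φ : L → ℂ) := by exact_mod_cast hdeg
    have hm0 : m ≠ 0 := fun h0 => hne (by rw [hm, h0, Nat.cast_zero])
    have hχ0 := (blockHeight_eq_zero_iff hχ).1 (hht χ hχ)
    rw [degVal, hdeg', Nat.factorization_mul (mul_ne_zero hm0 Subgroup.index_ne_zero_of_finite)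
      (irr_charDegree_ne_zero φ), Nat.factorization_mul hm0 Subgroup.index_ne_zero_of_finite,
      Finsupp.add_apply, Finsupp.add_apply, hmin, ← hmin'] at hχ0
    have h6 := (Nat.factorization_le_iff_dvd Subgroup.index_ne_zero_of_finite
      Subgroup.index_ne_zero_of_finite).2 (Subgroup.index_dvd_of_le hI) p
    have h7 : L.index.factorization p = (stabPair (⟨P, e⟩ : BrauerPairIdx G)).index.factorization p := by
      rw [← Subgroup.relIndex_mul_index hLT,
        show L.relIndex (stabPair ⟨P, e⟩) = (L.subgroupOf (stabPair ⟨P, e⟩)).index from rfl,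
        Nat.factorization_mul Subgroup.index_ne_zero_of_finite
        Subgroup.index_ne_zero_of_finite, Finsupp.add_apply,
        Nat.factorization_eq_zero_of_not_dvd hTL, zero_add]
    rw [blockHeight_eq, degVal]
    omega
  -- the nilpotent block
  obtain ⟨e', he'⟩ := exists_pair_on_defectGroup hpM hb hbd
  obtain ⟨Φ, hΦ⟩ := nilpotent_height hpM hbn (isMaximal_of_defectGroup hpM hbd he')
  have hlin : ∀ θ : IrrCharacter (P.subgroupOf L), charDegree (θ : P.subgroupOf L → ℂ) = 1 := by
    intro θ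
    obtain ⟨φ, rfl⟩ := Φ.surjective θ
    have h0 := (hΦ φ).symm.trans (hb0 φ φ.2)
    obtain ⟨n, -, hn, hdvd⟩ := irr_degree_dvd_card (Φ φ).2
    rw [irr_apply_one] at hn
    have hn' : charDegree ((Φ φ : IrrCharacter (P.subgroupOf L)) : P.subgroupOf L → ℂ) = n := by
      exact_mod_cast hn
    rw [Base.card_subgroupOf hPL, hcard] at hdvd
    obtain ⟨j, -, rfl⟩ := (Nat.dvd_prime_pow hp).1 hdvd
    rw [hn', hp.factorization_pow, Finsupp.single_eq_same] at h0
    rw [hn', h0, pow_zero]
  intro a ha c hc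
  exact congrArg (fun u : P.subgroupOf L => ((u : L) : G))
    (comm_of_all_linear hlin ⟨⟨a, hPL ha⟩, ha⟩ ⟨⟨c, hPL hc⟩, hc⟩)

end CfsgLib.Blocks
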