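import Cfsg.Agent.Lib.Blocks.QuotientP
import Cfsg.Agent.Lib.Blocks.NormalBlocks
import Cfsg.Agent.Lib.Coprime.Action2
import Cfsg.Agent.Lib.PGroups.Basic

/-!
# Blocks of the quotient by the derived subgroup of a normal `p`-subgroup
-/

set_option linter.unusedSectionVars false
set_option linter.style.haveILetI false

namespace CfsgLib.Blocks

open Cfsg Chars
open scoped commutatorElement

variable {G : Type*} [Group G] [Fintype G] {M : Ideal AlgInt} [M.IsPrime] {p : ℕ} [Fact p.Prime]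

/-- A `p'`-element centralizing `D` modulo its derived subgroup centralizes `D`. -/
theorem mem_centralizer_of_mod_derived {D : Subgroup G} [D.Normal] (hD : IsPGroup p D) {y : G}
    (hy : ¬ p ∣ orderOf y) (h : ∀ d ∈ D, y * d * y⁻¹ * d⁻¹ ∈ ⁅D, D⁆) :
    y ∈ Subgroup.centralizer (D : Set G) := by
  have hsub : ⁅D, D⁆ ≤ (frattini D).map D.subtype := by
    rw [← Subgroup.map_subtype_commutator]
    exact Subgroup.map_mono (CfsgLib.PGroups.commutator_le_frattini hD)
  obtain ⟨k, hk⟩ := IsPGroup.iff_card.1 hD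
  have hd := Subgroup.card_subgroup_dvd_card (frattini D)
  rw [hk] at hd
  refine CfsgLib.Coprime.le_centralizer_of_trivial_mod_frattini (A := Subgroup.zpowers y)
    (fun z _ => Subgroup.le_normalizer_of_normal (Subgroup.mem_top z)) ?_ ?_
    (Subgroup.mem_zpowers y)
  · rw [Nat.card_zpowers]
    exact Nat.Coprime.coprime_dvd_right hd
      (Nat.Coprime.pow_right k ((Fact.out : p.Prime).coprime_iff_not_dvd.2 hy).symm)
  · intro a ha d hd'
    obtain ⟨i, rfl⟩ := (Submonoid.mem_powers_iff _ _).1 (mem_powers_iff_mem_zpowers.2 ha)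
    refine hsub ?_
    clear ha
    induction i with
    | zero => simp
    | succ i ih =>
      have h1 := h _ (Subgroup.Normal.conj_mem inferInstance d hd' (y ^ i))
      have e : y ^ (i + 1) * d * (y ^ (i + 1))⁻¹ * d⁻¹ =
          (y * (y ^ i * d * (y ^ i)⁻¹) * y⁻¹ * (y ^ i * d * (y ^ i)⁻¹)⁻¹) *
            (y ^ i * d * (y ^ i)⁻¹ * d⁻¹) := by rw [pow_succ']; group
      rw [e]
      exact mul_mem h1 ih

/-- Inflation from the quotient by the derived subgroup preserves and reflects blocks. -/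
theorem sameBlock_inflate_derived_iff (hpM : (p : AlgInt) ∈ M) {D : Subgroup G} [D.Normal]
    (hD : IsPGroup p D) [Fintype (G ⧸ ⁅D, D⁆)] (χ ψ : IrrCharacter (G ⧸ ⁅D, D⁆)) :
    SameBlock M (χ : G ⧸ ⁅D, D⁆ → ℂ) (ψ : G ⧸ ⁅D, D⁆ → ℂ) ↔
      SameBlock M ((χ : G ⧸ ⁅D, D⁆ → ℂ) ∘ QuotientGroup.mk)
        ((ψ : G ⧸ ⁅D, D⁆ → ℂ) ∘ QuotientGroup.mk) := by
  have hD' : IsPGroup p (⁅D, D⁆ : Subgroup G) := hD.to_le (Subgroup.commutator_le_self D)
  haveI hn : (D.map (QuotientGroup.mk' ⁅D, D⁆)).Normal :=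
    Subgroup.Normal.map inferInstance _ (QuotientGroup.mk'_surjective _)
  have hCn : (Subgroup.centralizer (D : Set G)).Normal := ⟨fun c hc g =>
    (conj_mem_centralizer_iff (by rw [Subgroup.normalizer_eq_top]; exact Subgroup.mem_top g) c).2
      hc⟩
  -- the two cases
  have hin : ∀ (f : G ⧸ ⁅D, D⁆ → ℂ) (y : G), ¬ p ∣ orderOf y →
      y ∈ Subgroup.centralizer (D : Set G) →
      centralChar (f ∘ QuotientGroup.mk) y = centralChar f (QuotientGroup.mk y) := fun f y hy hyC =>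
    centralChar_inflate hD' f hy
      (Subgroup.centralizer_le (SetLike.coe_subset_coe.2 (Subgroup.commutator_le_self D)) hyC)
  have hout : ∀ (χ : IrrCharacter (G ⧸ ⁅D, D⁆)) (y : G), ¬ p ∣ orderOf y →
      y ∉ Subgroup.centralizer (D : Set G) →
      MemLocalIdeal M (centralChar ((χ : G ⧸ ⁅D, D⁆ → ℂ) ∘ QuotientGroup.mk) y) ∧
        MemLocalIdeal M (centralChar (χ : G ⧸ ⁅D, D⁆ → ℂ) (QuotientGroup.mk y)) := by
    intro χ y hy hyC
    refine ⟨?_, ?_⟩
    · exact centralChar_mem_of_not_meet hpM hD (fun x hx hxC => hyC (by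
        obtain ⟨c, hc⟩ := isConj_iff.1 hx.symm
        rw [← hc]
        exact hCn.conj_mem x hxC c)) ⟨_, isIrrCharacter_inflate ⁅D, D⁆ χ.2⟩
    · refine centralChar_mem_of_not_meet hpM (hD.map (QuotientGroup.mk' ⁅D, D⁆))
        (fun x hx hxC => hyC ?_) χ
      obtain ⟨c, hc⟩ := isConj_iff.1 hx
      obtain ⟨c, rfl⟩ := QuotientGroup.mk_surjective c
      rw [← hc] at hxC
      have h1 : (c * y * c⁻¹) ∈ Subgroup.centralizer (D : Set G) := by
        refine mem_centralizer_of_mod_derived hD ?_ fun d hd => ?_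
        · exact fun hd => hy (hd.trans (dvd_of_eq
            (orderOf_injective (MulAut.conj c).toMonoidHom (MulAut.conj c).injective y)))
        · rw [← QuotientGroup.eq_one_iff]
          have h2 := Subgroup.mem_centralizer_iff.1 hxC _ ⟨d, hd, rfl⟩
          simp only [QuotientGroup.mk'_apply] at h2
          simp only [QuotientGroup.mk_mul, QuotientGroup.mk_inv] at h2 ⊢
          rw [← h2]
          group
      have h3 := hCn.conj_mem _ h1 c⁻¹
      simpa [mul_assoc] using h3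
  constructor
  · intro h
    refine sameBlock_of_regular (χ := ⟨_, isIrrCharacter_inflate ⁅D, D⁆ χ.2⟩)
      (ψ := ⟨_, isIrrCharacter_inflate ⁅D, D⁆ ψ.2⟩) hpM fun y hy => ?_
    show MemLocalIdeal M (centralChar ((χ : G ⧸ ⁅D, D⁆ → ℂ) ∘ QuotientGroup.mk) y -
      centralChar ((ψ : G ⧸ ⁅D, D⁆ → ℂ) ∘ QuotientGroup.mk) y)
    by_cases hyC : y ∈ Subgroup.centralizer (D : Set G)
    · rw [hin _ y hy hyC, hin _ y hy hyC]
      exact h _
    · exact MemLocalIdeal.sub' (hout χ y hy hyC).1 (hout ψ y hy hyC).1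
  · intro h
    refine sameBlock_of_regular hpM fun q hq => ?_
    obtain ⟨y, hy, rfl⟩ := exists_regular_lift q hq
    by_cases hyC : y ∈ Subgroup.centralizer (D : Set G)
    · rw [← hin _ y hy hyC, ← hin _ y hy hyC]
      exact h y
    · exact MemLocalIdeal.sub' (hout χ y hy hyC).2 (hout ψ y hy hyC).2

end CfsgLib.Blocks
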