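import Cfsg.Agent.Lib.Blocks.Correspondence
import Cfsg.Agent.Lib.BlockOrth.DefectOrder

/-!
# Height zero characters near a defect class
-/

set_option linter.unusedSectionVars false
set_option linter.style.haveILetI false

namespace CfsgLib.Blocks

open Cfsg Chars BlockOrth

variable {G : Type*} [Group G] [Fintype G] {M : Ideal AlgInt} [M.IsPrime] {p : ℕ} [Fact p.Prime]
  {B : Set (IrrCharacter G)}

/-- A quotient of natural numbers with equal `p`-parts is a unit in the local ring. -/
theorem natDiv_unit (hpM : (p : AlgInt) ∈ M) {i d : ℕ} (hi : i ≠ 0) (hd : d ≠ 0)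
    (h : i.factorization p = d.factorization p) :
    (i : ℂ) / d ∈ loc M ∧ ¬ MemLocalIdeal M ((i : ℂ) / d) := by
  have hp : p.Prime := Fact.out
  have e : ∀ n : ℕ, n ≠ 0 → (n : ℂ) = (p : ℂ) ^ n.factorization p * ((n / p ^ n.factorization p : ℕ) : ℂ) := by
    intro n _
    conv_lhs => rw [← Nat.ordProj_mul_ordCompl_eq_self n p]
    push_cast
    ring
  have hi' : ¬ p ∣ i / p ^ i.factorization p := Nat.not_dvd_ordCompl hp hi
  have hd' : ¬ p ∣ d / p ^ d.factorization p := Nat.not_dvd_ordCompl hp hd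
  rw [e i hi, e d hd, h, mul_div_mul_left _ _ (pow_ne_zero _ (Nat.cast_ne_zero.2 hp.ne_zero)),
    div_eq_mul_inv]
  rw [h] at hi'
  refine ⟨mul_mem (natCast_mem_loc _) (inv_natCast_mem_loc hp hpM hd'), fun hm => ?_⟩
  rcases MemLocalIdeal.mem_or_mem (natCast_mem_loc _) (inv_natCast_mem_loc hp hpM hd') hm with h1 | h1
  · exact hi' ((memLocalIdeal_natCast_iff hp hpM _).1 h1)
  · refine not_memLocalIdeal_one (M := M) ?_
    have hne : ((d / p ^ d.factorization p : ℕ) : ℂ) ≠ 0 :=
      Nat.cast_ne_zero.2 fun h0 => hd' (h0 ▸ dvd_zero p)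
    rw [← mul_inv_cancel₀ hne]
    exact MemLocalIdeal.mul_left' (natCast_mem_loc _) h1

/-- Height zero characters are units on the `p`-section of a defect class. -/
theorem not_mem_apply_of_defectClass (hpM : (p : AlgInt) ∈ M) (hB : IsPBlock M B) {y : G}
    (hy : IsDefectClass M B y) {x : G} (hxy : Commute x y) (hx : ∃ k, orderOf x = p ^ k)
    {χ : IrrCharacter G} (hχ : χ ∈ B) (h0 : blockHeight p B (χ : G → ℂ) = 0) :
    ¬ MemLocalIdeal M ((χ : G → ℂ) (x * y)) := by
  intro hm
  have hreg := IsDefectClass.regular (p := p) hpM hB hy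
  have h1 := memLocalIdeal_char_sub hpM (isCharacter_of_irr χ.2) (x * y)
  rw [pPrimePart_mul hxy hx hreg] at h1
  have h2 : MemLocalIdeal M ((χ : G → ℂ) y) := by
    have := MemLocalIdeal.sub' hm h1
    rwa [sub_sub_cancel] at this
  have hi : (Subgroup.centralizer ({y} : Set G)).index ≠ 0 := Subgroup.index_ne_zero_of_finite
  have hd : charDegree (χ : G → ℂ) ≠ 0 := irr_charDegree_ne_zero χ
  have hv : (Subgroup.centralizer ({y} : Set G)).index.factorization p =
      (charDegree (χ : G → ℂ)).factorization p := by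
    rw [factorization_index_defectClass hpM hB hy]
    exact ((blockHeight_eq_zero_iff hχ).1 h0).symm
  apply hy.2.2 χ hχ
  rw [centralChar, irr_apply_one, mul_div_right_comm]
  exact MemLocalIdeal.mul_left' (natDiv_unit hpM hi hd hv).1 h2

/-- For `x` central in the Sylow subgroup of the centralizer of a defect class, the central
characters at `x * y` are units. -/
theorem not_mem_centralChar_of_defectClass (hpM : (p : AlgInt) ∈ M) (hB : IsPBlock M B) {y : G}
    (hy : IsDefectClass M B y) (P : Sylow p (Subgroup.centralizer ({y} : Set G)))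
    {x : Subgroup.centralizer ({y} : Set G)} (hx : x ∈ P) (hxc : ∀ w ∈ P, x * w = w * x)
    {χ : IrrCharacter G} (hχ : χ ∈ B) :
    ¬ MemLocalIdeal M (centralChar (χ : G → ℂ) ((x : G) * y)) := by
  obtain ⟨χ₀, hχ₀, hmin⟩ := exists_degVal_eq_blockMin (p := p) (IsPBlock.nonempty hB)
  rw [IsPBlock.memLocalIdeal_centralChar_iff hB hχ hχ₀]
  intro hm
  have hxp : ∃ k, orderOf (x : G) = p ^ k := by
    obtain ⟨k, hk⟩ := P.isPGroup' ⟨x, hx⟩
    obtain ⟨i, -, hi⟩ := (Nat.dvd_prime_pow (Fact.out : p.Prime)).1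
      (orderOf_dvd_of_pow_eq_one (congrArg Subtype.val hk))
    exact ⟨i, by rw [Subgroup.orderOf_coe]; exact hi⟩
  have hcomm : Commute (x : G) y := Subgroup.mem_centralizer_singleton_iff.1 x.2
  have hu := not_mem_apply_of_defectClass hpM hB hy hcomm hxp hχ₀
    ((blockHeight_eq_zero_iff hχ₀).2 hmin)
  set C := Subgroup.centralizer ({(x : G) * y} : Set G) with hC
  have hi : C.index ≠ 0 := Subgroup.index_ne_zero_of_finite
  have hd : charDegree (χ₀ : G → ℂ) ≠ 0 := irr_charDegree_ne_zero χ₀
  set Q := (P : Subgroup (Subgroup.centralizer ({y} : Set G))).map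
    (Subgroup.centralizer ({y} : Set G)).subtype
  have hQC : Q ≤ C := by
    rintro _ ⟨w, hw, rfl⟩
    rw [hC, Subgroup.mem_centralizer_singleton_iff]
    have h1 : Commute (w : G) (x : G) := (congrArg Subtype.val (hxc w hw)).symm
    have h2 : Commute (w : G) y := Subgroup.mem_centralizer_singleton_iff.1 w.2
    exact (h1.mul_right h2).eq
  have hcard : Nat.card Q = p ^ blockDefect p B := card_defectGroup hpM hB ⟨y, hy, P, rfl⟩
  -- the class is not larger than the least degree allows
  have hle : C.index.factorization p ≤ (charDegree (χ₀ : G → ℂ)).factorization p := by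
    have h1 : p ^ blockDefect p B ∣ Nat.card C := hcard ▸ Subgroup.card_dvd_of_le hQC
    rw [(Fact.out : p.Prime).pow_dvd_iff_le_factorization Nat.card_pos.ne'] at h1
    have h2 := congrArg (fun n : ℕ => n.factorization p) C.card_mul_index
    simp only [Nat.factorization_mul Nat.card_pos.ne' hi, Finsupp.coe_add, Pi.add_apply,
      ← blockMin_add_blockDefect (p := p) (IsPBlock.nonempty hB)] at h2
    rw [show (charDegree (χ₀ : G → ℂ)).factorization p = blockMin p B from hmin]
    omega
  rw [centralChar, irr_apply_one, mul_div_right_comm] at hm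
  rcases hle.lt_or_eq with hlt | heq
  · -- then the central character is not integral
    apply hu
    have hw := centralChar_mem_loc (M := M) χ₀ ((x : G) * y)
    rw [centralChar, irr_apply_one, mul_div_right_comm, ← hC] at hw
    have h3 : MemLocalIdeal M ((charDegree (χ₀ : G → ℂ) : ℂ) / C.index) :=
      memLocalIdeal_natDiv hpM hi hlt
    have h4 := MemLocalIdeal.mul_right' h3 hw
    have hi' : (C.index : ℂ) ≠ 0 := Nat.cast_ne_zero.2 hi
    have hd' : ((charDegree (χ₀ : G → ℂ) : ℕ) : ℂ) ≠ 0 := Nat.cast_ne_zero.2 hd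
    rwa [← mul_assoc, div_mul_div_cancel₀ hi', div_self hd', one_mul] at h4
  · obtain ⟨hl, hn⟩ := natDiv_unit hpM hi hd heq
    exact hu ((MemLocalIdeal.mem_or_mem hl (irr_mem_loc χ₀ _) hm).resolve_left hn)

end CfsgLib.Blocks
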