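import Cfsg.Agent.Lib.Blocks.RankLifts
import Cfsg.Agent.Lib.Blocks.IdemLift
import Cfsg.Agent.Lib.Modular.SimpleTraces

/-!
# The algebra of a block with one Brauer character and at most four irreducible characters

Such a block algebra has an idempotent `f` whose corner `f A f` has dimension at most the number
of irreducible characters of the block: the corner is a local symmetric algebra whose symmetric
linear forms extend to the block, and such an algebra is commutative if it has at most four of
them (Külshammer).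
-/

set_option autoImplicit false
set_option linter.unusedSectionVars false
set_option linter.style.haveILetI false

namespace CfsgLib.Blocks

open Cfsg Chars Modular Module Polynomial

section rep

variable {k G V W : Type*} [Field k] [Group G] [AddCommGroup V] [Module k V] [AddCommGroup W]
  [Module k W]

/-- The action on a quotient by a stable subspace. -/
noncomputable def quoRep (σ : Representation k G V) (U : Submodule k V) (hU : IsInvar σ U) :
    Representation k G (V ⧸ U) where
  toFun g := U.mapQ U (σ g) (hU g)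
  map_one' := Submodule.linearMap_qext _ (by ext v; simp)
  map_mul' g h := Submodule.linearMap_qext _ (by ext v; simp)

theorem asAlgebraHom_quoRep {σ : Representation k G V} {U : Submodule k V} (hU : IsInvar σ U)
    (a : MonoidAlgebra k G) (v : V) :
    (quoRep σ U hU).asAlgebraHom a (Submodule.Quotient.mk v) =
      Submodule.Quotient.mk (σ.asAlgebraHom a v) := by
  induction a using MonoidAlgebra.induction_on with
  | of g =>
    rw [MonoidAlgebra.of_apply, Representation.asAlgebraHom_single_one,
      Representation.asAlgebraHom_single_one]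
    rfl
  | add x y hx hy => simp [hx, hy]
  | smul r x hx => simp [hx]

theorem asAlgebraHom_subRep {σ : Representation k G V} {U : Submodule k V} (hU : IsInvar σ U)
    (a : MonoidAlgebra k G) (v : U) :
    (((subRep σ U hU).asAlgebraHom a v : U) : V) = σ.asAlgebraHom a (v : V) := by
  induction a using MonoidAlgebra.induction_on with
  | of g =>
    rw [MonoidAlgebra.of_apply, Representation.asAlgebraHom_single_one,
      Representation.asAlgebraHom_single_one]
    rfl
  | add x y hx hy => simp [hx, hy]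
  | smul r x hx => simp [hx]

theorem asAlgebraHom_intertwine {σ : Representation k G V} {τ : Representation k G W}
    {f : V →ₗ[k] W} (hf : ∀ g v, f (σ g v) = τ g (f v)) (a : MonoidAlgebra k G) (v : V) :
    f (σ.asAlgebraHom a v) = τ.asAlgebraHom a (f v) := by
  induction a using MonoidAlgebra.induction_on with
  | of g =>
    rw [MonoidAlgebra.of_apply, Representation.asAlgebraHom_single_one,
      Representation.asAlgebraHom_single_one]
    exact hf g v
  | add x y hx hy => simp [hx, hy]
  | smul r x hx => simp [hx]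

/-- Left multiplication. -/
noncomputable def leftRep (k G : Type*) [Field k] [Group G] :
    Representation k G (MonoidAlgebra k G) :=
  (Algebra.lmul k (MonoidAlgebra k G)).toMonoidHom.comp (MonoidAlgebra.of k G)

theorem leftRep_apply (g : G) (x : MonoidAlgebra k G) :
    leftRep k G g x = MonoidAlgebra.single g 1 * x := rfl

theorem asAlgebraHom_leftRep (a x : MonoidAlgebra k G) :
    (leftRep k G).asAlgebraHom a x = a * x := by
  induction a using MonoidAlgebra.induction_on with
  | of g => rw [MonoidAlgebra.of_apply, Representation.asAlgebraHom_single_one, leftRep_apply]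
  | add y z hy hz => simp [hy, hz, add_mul]
  | smul r y hy => simp [hy]

end rep

section corner

variable {k A : Type*} [Field k] [Ring A] [Algebra k A]

/-- A symmetric form of the corner at a full idempotent extends to a symmetric form. -/
theorem exists_symm_ext {e f : A} {ι : Type*} (s : Finset ι) {u v : ι → A}
    (hc : ∀ x, e * x = x * e) (hfe : f * e = f) (hff : f * f = f)
    (hdec : e = ∑ i ∈ s, u i * f * v i) (μ : A →ₗ[k] k)
    (hμ : ∀ x y, μ (f * x * f * (f * y * f)) = μ (f * y * f * (f * x * f))) :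
    ∃ Ψ : A →ₗ[k] k, (∀ x y, Ψ (x * y) = Ψ (y * x)) ∧ (∀ x, Ψ (e * x) = Ψ x) ∧
      ∀ x, Ψ (f * x * f) = μ (f * x * f) := by
  set Ψ : A →ₗ[k] k := ∑ i ∈ s,
    μ ∘ₗ LinearMap.mulRight k (u i * f) ∘ₗ LinearMap.mulLeft k (f * v i) with hΨ
  have hap : ∀ x, Ψ x = ∑ i ∈ s, μ (f * v i * x * (u i * f)) := fun x => by
    simp [hΨ, LinearMap.sum_apply, mul_assoc]
  have hfv : ∀ i x, f * v i * (e * x) = f * v i * x := fun i x => by
    rw [← mul_assoc, mul_assoc f (v i) e, ← hc (v i), ← mul_assoc f e, hfe]
  have hexp : ∀ i x y, f * v i * (x * y) * (u i * f) =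
      ∑ j ∈ s, (f * (v i * x * u j) * f) * (f * (v j * y * u i) * f) := fun i x y => by
    have h1 : x * y * e = x * e * y := by rw [mul_assoc, mul_assoc, hc y]
    calc f * v i * (x * y) * (u i * f) = f * v i * (e * (x * y)) * (u i * f) := by rw [hfv]
      _ = f * v i * (x * e * y) * (u i * f) := by rw [hc, h1]
      _ = _ := by
        rw [hdec]
        simp only [Finset.mul_sum, Finset.sum_mul]
        refine Finset.sum_congr rfl fun j _ => ?_
        simp only [mul_assoc]
        rw [← mul_assoc f f, hff]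
  refine ⟨Ψ, fun x y => ?_, fun x => ?_, fun x => ?_⟩
  · simp only [hap, hexp, map_sum]
    rw [Finset.sum_comm]
    exact Finset.sum_congr rfl fun i _ => Finset.sum_congr rfl fun j _ => hμ _ _
  · simp only [hap]
    exact Finset.sum_congr rfl fun i _ => by rw [hfv]
  · simp only [hap]
    have hf2 : ∀ z, f * (f * z) = f * z := fun z => by rw [← mul_assoc, hff]
    have h1 : ∀ i, μ (f * v i * (f * x * f) * (u i * f)) =
        μ (f * x * f * (f * (u i * f * v i) * f)) := fun i => by
      have := hμ (v i) (x * f * u i)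
      calc μ (f * v i * (f * x * f) * (u i * f))
          = μ (f * v i * f * (f * (x * f * u i) * f)) := by
            congr 1; simp only [mul_assoc, hf2]
        _ = μ (f * (x * f * u i) * f * (f * v i * f)) := this
        _ = _ := by congr 1; simp only [mul_assoc, hf2]
    rw [Finset.sum_congr rfl fun i _ => h1 i, ← map_sum, ← Finset.mul_sum, ← Finset.sum_mul,
      ← Finset.mul_sum, ← hdec, hfe, hff, mul_assoc, hff]

end corner

variable {G : Type*} [Group G] [Fintype G] {M : Ideal AlgInt} [M.IsPrime] {p : ℕ} [Fact p.Prime]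
  {B : Set (IrrCharacter G)}

theorem blockOp_eq_asAlgebraHom {V : Type*} [AddCommGroup V] [Module (ResField M) V]
    (σ : Representation (ResField M) G V) (hB : IsPBlock M B) :
    blockOp σ hB = σ.asAlgebraHom (blockIdem hB) := by
  rw [blockOp, opOf, sum_single_coeff (blockIdem hB), map_sum]
  refine Finset.sum_congr rfl fun g _ => ?_
  rw [Representation.asAlgebraHom_single, blockIdem, coeff_redFun]
  rfl

universe v

/-- Two types as a family over `Bool`. -/
def PairFam (V W : Type v) : Bool → Type v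
  | false => V
  | true => W

noncomputable instance instPairFamGroup (V W : Type v) [AddCommGroup V] [AddCommGroup W] :
    ∀ i, AddCommGroup (PairFam V W i)
  | false => inferInstanceAs (AddCommGroup V)
  | true => inferInstanceAs (AddCommGroup W)

noncomputable instance instPairFamModule {k : Type*} [Field k] (V W : Type v) [AddCommGroup V]
    [AddCommGroup W] [Module k V] [Module k W] : ∀ i, Module k (PairFam V W i)
  | false => inferInstanceAs (Module k V)
  | true => inferInstanceAs (Module k W)

instance instPairFamFinite {k : Type*} [Field k] (V W : Type v) [AddCommGroup V]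
    [AddCommGroup W] [Module k V] [Module k W] [FiniteDimensional k V] [FiniteDimensional k W] :
    ∀ i, FiniteDimensional k (PairFam V W i)
  | false => inferInstanceAs (FiniteDimensional k V)
  | true => inferInstanceAs (FiniteDimensional k W)

/-- In a block of rank one there is one simple module. -/
theorem exists_hom_of_rank_one (hpM : (p : AlgInt) ∈ M) (hB : IsPBlock M B)
    (hl : blockRank p B = 1) {V W : Type v} [AddCommGroup V] [Module (ResField M) V]
    [AddCommGroup W] [Module (ResField M) W] [FiniteDimensional (ResField M) V]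
    [FiniteDimensional (ResField M) W] {ρ : Representation (ResField M) G V}
    {σ : Representation (ResField M) G W} (hρ : IsSimpleRep ρ) (hσ : IsSimpleRep σ)
    (hρB : blockOp ρ hB = 1) (hσB : blockOp σ hB = 1) :
    ∃ f : V →ₗ[ResField M] W, Function.Injective f ∧ ∀ g v, f (ρ g v) = σ g (f v) := by
  classical
  by_contra hno
  have hzero : ∀ f : V →ₗ[ResField M] W, (∀ g v, f (ρ g v) = σ g (f v)) → f = 0 := fun f hf =>
    (hρ.injective_or_eq_zero hf).resolve_left fun hi => hno ⟨f, hi, hf⟩
  let R : ∀ i, Representation (ResField M) G (PairFam V W i) := fun i =>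
    match i with | false => ρ | true => σ
  have h := card_simple_le_blockRank hpM hB (ι := Bool) R
    (fun i => match i with | false => hρ | true => hσ) (fun i j hij => ?_)
    (fun i => match i with | false => hρB | true => hσB)
  · rw [hl, Fintype.card_bool] at h
    omega
  match i, j, hij with
  | false, false, h => exact absurd rfl h
  | true, true, h => exact absurd rfl h
  | false, true, _ => exact fun f hf => hzero f hf
  | true, false, _ =>
    intro f hf
    change W →ₗ[ResField M] V at f
    change ∀ g w, f (σ g w) = ρ g (f w) at hf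
    by_contra hf0
    have hinj := (hσ.injective_or_eq_zero hf).resolve_right hf0
    have hsur := (hρ.surjective_or_eq_zero hf).resolve_right hf0
    let e : W ≃ₗ[ResField M] V := LinearEquiv.ofBijective f ⟨hinj, hsur⟩
    have he : ∀ w, e w = f w := fun w => rfl
    have h0 := hzero (e.symm : V →ₗ[ResField M] W) fun g v => by
      apply e.injective
      show e (e.symm (ρ g v)) = e (σ g (e.symm v))
      rw [e.apply_symm_apply, he, hf g (e.symm v), ← he, e.apply_symm_apply]
    haveI := hρ.nontrivial
    obtain ⟨v, hv⟩ := exists_ne (0 : V)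
    have := LinearMap.congr_fun h0 v
    exact hv (e.symm.injective (this.trans (map_zero e.symm).symm))

/-- The block part of the quotient by a proper left ideal contains the simple module. -/
theorem exists_socle_elt (hpM : (p : AlgInt) ∈ M) (hB : IsPBlock M B) (hl : blockRank p B = 1)
    {V : Submodule (ResField M) (MonoidAlgebra (ResField M) G)}
    (hV : IsInvar (leftRep (ResField M) G) V)
    (hρ : IsSimpleRep (subRep _ V hV)) (hρB : blockOp (subRep _ V hV) hB = 1)
    {U : Submodule (ResField M) (MonoidAlgebra (ResField M) G)}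
    (hU : IsInvar (leftRep (ResField M) G) U) (he : blockIdem hB ∉ U) :
    ∃ v, v ∉ U ∧ (∀ x, (subRep _ V hV).asAlgebraHom x = 0 → x * v ∈ U) ∧
      ∀ x, (∀ a, x * (blockIdem hB * a) ∈ U) → (subRep _ V hV).asAlgebraHom x = 0 := by
  haveI : FiniteDimensional (ResField M) (MonoidAlgebra (ResField M) G) := inferInstance
  set ρ := subRep _ V hV
  set q := quoRep _ U hU with hq
  set E := q.asAlgebraHom (blockIdem hB) with hE
  have hEE : ∀ w, E (E w) = E w := fun w => by
    rw [hE, ← Module.End.mul_apply, ← map_mul, blockIdem_mul_self]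
  have hEg : ∀ g w, E (q g w) = q g (E w) := fun g w => by
    rw [hE, ← Representation.asAlgebraHom_single_one q g, ← Module.End.mul_apply,
      ← Module.End.mul_apply, ← map_mul, ← map_mul, (commute_blockIdem hB _).eq]
  have hW : IsInvar q (LinearMap.range E) := by
    rintro g _ ⟨w, rfl⟩
    exact ⟨q g w, hEg g w⟩
  have hW0 : LinearMap.range E ≠ ⊥ := fun h => he (by
    have : E (Submodule.Quotient.mk (blockIdem hB)) = 0 :=
      (Submodule.mem_bot _).1 (h ▸ LinearMap.mem_range_self E _)
    rw [hE, asAlgebraHom_quoRep, asAlgebraHom_leftRep, blockIdem_mul_self] at this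
    exact (Submodule.Quotient.mk_eq_zero U).1 this)
  obtain ⟨T, hT, hTW, hTs⟩ := exists_simple_le hW hW0
  have hTE : ∀ t : T, E (t : _ ⧸ U) = t := fun t => by
    obtain ⟨w, hw⟩ := hTW t.2
    rw [← hw, hEE]
  have hTB : blockOp (subRep q T hT) hB = 1 := by
    rw [blockOp_eq_asAlgebraHom]
    refine LinearMap.ext fun t => Subtype.ext ?_
    rw [asAlgebraHom_subRep]
    exact hTE t
  obtain ⟨f, hfi, hf⟩ := exists_hom_of_rank_one hpM hB hl hρ hTs hρB hTB
  have hcomm : ∀ x s, ((f (ρ.asAlgebraHom x s) : T) : _ ⧸ U) =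
      q.asAlgebraHom x ((f s : T) : _ ⧸ U) := fun x s => by
    rw [asAlgebraHom_intertwine hf, asAlgebraHom_subRep]
  haveI := hρ.nontrivial
  obtain ⟨s0, hs0⟩ := exists_ne (0 : V)
  obtain ⟨v, hv⟩ := Submodule.Quotient.mk_surjective U ((f s0 : T) : _ ⧸ U)
  refine ⟨v, fun hvU => hs0 (hfi ?_), fun x hx => ?_, fun x hx => ?_⟩
  · rw [map_zero]
    refine Subtype.ext ?_
    rw [← hv, (Submodule.Quotient.mk_eq_zero U).2 hvU]
    rfl
  · rw [← Submodule.Quotient.mk_eq_zero U, ← asAlgebraHom_leftRep, ← asAlgebraHom_quoRep hU,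
      hv, ← hcomm, hx]
    simp
  · refine LinearMap.ext fun s => hfi ?_
    rw [LinearMap.zero_apply, map_zero]
    refine Subtype.ext ?_
    obtain ⟨a, ha⟩ := Submodule.Quotient.mk_surjective U ((f s : T) : _ ⧸ U)
    rw [hcomm, ← hTE (f s), ← ha, hE, asAlgebraHom_quoRep, asAlgebraHom_quoRep,
      asAlgebraHom_leftRep, asAlgebraHom_leftRep]
    exact (Submodule.Quotient.mk_eq_zero U).2 (hx a)

/-- An idempotent of the block algebra with a rank one image in the simple module. -/
theorem exists_idem_rank_one (hB : IsPBlock M B) {W : Type*} [AddCommGroup W]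
    [Module (ResField M) W] [FiniteDimensional (ResField M) W]
    {ρ : Representation (ResField M) G W} (hρ : IsSimpleRep ρ) (hρB : blockOp ρ hB = 1) :
    ∃ (f : MonoidAlgebra (ResField M) G) (w : W) (L : W →ₗ[ResField M] ResField M),
      f * f = f ∧ blockIdem hB * f = f ∧ L w = 1 ∧ ρ.asAlgebraHom f = L.smulRight w := by
  haveI := hρ.nontrivial
  obtain ⟨w, hw⟩ := exists_ne (0 : W)
  obtain ⟨L0, hL0⟩ : ∃ L0 : W →ₗ[ResField M] ResField M, L0 w ≠ 0 := by
    by_contra hno
    simp only [not_exists, not_not] at hno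
    exact hw ((Module.forall_dual_apply_eq_zero_iff _ w).1 hno)
  set L := (L0 w)⁻¹ • L0 with hL
  have hLw : L w = 1 := by simp [hL, hL0]
  set E : Module.End (ResField M) W := L.smulRight w with hE
  have hEE : E * E = E := by
    ext v
    simp [hE, hLw]
  have hE0 : E ≠ 0 := fun h => hw (by simpa [hE, hLw] using LinearMap.congr_fun h w)
  obtain ⟨x, hx⟩ := hρ.asAlgebraHom_surjective E
  have hint : IsIntegral (ResField M) x :=
    (Algebra.IsIntegral.of_finite (ResField M) (MonoidAlgebra (ResField M) G)).isIntegral x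
  set qq := (X : (ResField M)[X]) * minpoly (ResField M) x with hqq
  have hqq0 : qq ≠ 0 := mul_ne_zero X_ne_zero (minpoly.ne_zero hint)
  have hqqx : aeval x qq = 0 := by rw [hqq, map_mul, minpoly.aeval, mul_zero]
  obtain ⟨g, hg, hgX⟩ := exists_eq_pow_rootMultiplicity_mul_and_not_dvd qq hqq0 0
  rw [C_0, sub_zero] at hg hgX
  set m := rootMultiplicity 0 qq
  have hm : m ≠ 0 := by
    have : (0 : ℕ) < m := (rootMultiplicity_pos hqq0).2 (by simp [hqq, IsRoot])
    omega
  obtain ⟨a, b, hab⟩ : IsCoprime (X ^ m) g :=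
    (irreducible_X.coprime_iff_not_dvd.2 hgX).pow_left
  have hq1 : qq.eval 1 = 0 := by
    have h := congrArg ρ.asAlgebraHom hqqx
    rw [← aeval_algHom_apply, hx, aeval_idem hEE, map_zero] at h
    have h0 : qq.eval 0 = 0 := by simp [hqq]
    rw [h0, zero_smul, zero_add] at h
    exact (smul_eq_zero.1 h).resolve_right hE0
  have ha1 : a.eval 1 = 1 := by
    rw [hg, eval_mul, eval_pow, eval_X, one_pow, one_mul] at hq1
    have := congrArg (eval 1) hab
    simpa [hq1] using this
  set h := aeval x (a * X ^ m) with hh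
  have hidem : h * h = h := by
    have e1 : a * X ^ m * (a * X ^ m) + a * b * qq = a * X ^ m := by
      rw [hg]; linear_combination (a * X ^ m) * hab
    rw [hh, ← map_mul]
    conv_rhs => rw [← e1, map_add, map_mul _ (a * b), hqqx, mul_zero, add_zero]
  have hρh : ρ.asAlgebraHom h = E := by
    rw [hh, ← aeval_algHom_apply, hx, aeval_idem hEE]
    simp [ha1, zero_pow hm]
  refine ⟨blockIdem hB * h, w, L, ?_, ?_, hLw, ?_⟩
  · rw [(commute_blockIdem hB h).symm.mul_mul_mul_comm, blockIdem_mul_self, hidem]
  · rw [← mul_assoc, blockIdem_mul_self]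
  · rw [map_mul, ← blockOp_eq_asAlgebraHom, hρB, one_mul, hρh]

/-- The radical of a corner of the block algebra is generated by one element. -/
def CornerCyclic (hB : IsPBlock M B) : Prop :=
  ∀ (f : MonoidAlgebra (ResField M) G)
    (J : Submodule (ResField M) (MonoidAlgebra (ResField M) G)),
    f * f = f → blockIdem hB * f = f → f ∉ J → J * J ≤ J →
    (∀ a ∈ J, f * a = a ∧ a * f = a) →
    (∀ a, ∃ c : ResField M, f * a * f - c • f ∈ J) →
    ∀ x ∈ J, x ∉ J * J → J * J ⊔ Submodule.span (ResField M) {x} = J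

/-- In a block with one Brauer character some idempotent has a corner of dimension at most the
number of irreducible characters, provided these are at most four or the radicals of the corners
are generated by one element. -/
theorem exists_idem_corner_le_card (hpM : (p : AlgInt) ∈ M) (hB : IsPBlock M B)
    (hl : blockRank p B = 1) (hk : Nat.card B ≤ 4 ∨ CornerCyclic hB) :
    ∃ f : MonoidAlgebra (ResField M) G, f * f = f ∧ f ≠ 0 ∧ blockIdem hB * f = f ∧
      finrank (ResField M) (LinearMap.range
        ((LinearMap.mulRight (ResField M) f).comp (LinearMap.mulLeft (ResField M) f))) ≤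
          Nat.card B := by
  classical
  haveI : FiniteDimensional (ResField M) (MonoidAlgebra (ResField M) G) := inferInstance
  set K := ResField M
  set e := blockIdem hB with he
  have hec : ∀ x, e * x = x * e := fun x => (commute_blockIdem hB x).eq
  -- the simple module
  set lr := leftRep (ResField M) G
  have hW : IsInvar lr (LinearMap.range (LinearMap.mulLeft (ResField M) e)) := by
    rintro g _ ⟨w, rfl⟩
    refine ⟨MonoidAlgebra.single g 1 * w, ?_⟩
    show e * (MonoidAlgebra.single g 1 * w) = MonoidAlgebra.single g 1 * (e * w)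
    rw [← mul_assoc, hec, mul_assoc]
  obtain ⟨V, hV, hVW, hρ⟩ := exists_simple_le hW fun h => blockIdem_ne_zero hB (by
    have h1 : e * 1 ∈ (⊥ : Submodule (ResField M) (MonoidAlgebra (ResField M) G)) :=
      h ▸ ⟨1, rfl⟩
    simpa using h1)
  set ρ := subRep lr V hV with hρdef
  have hρB : blockOp ρ hB = 1 := by
    rw [blockOp_eq_asAlgebraHom]
    refine LinearMap.ext fun s => Subtype.ext ?_
    rw [asAlgebraHom_subRep, asAlgebraHom_leftRep]
    obtain ⟨w, hw⟩ := hVW s.2
    show e * (s : MonoidAlgebra (ResField M) G) = s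
    rw [← hw, LinearMap.mulLeft_apply, ← mul_assoc, blockIdem_mul_self]
  obtain ⟨f, w, L, hff, hef, hLw, hρf⟩ := exists_idem_rank_one hB hρ hρB
  have hfe : f * e = f := by rw [← hec, hef]
  have hρf0 : ρ.asAlgebraHom f ≠ 0 := fun h => by
    have h1 := LinearMap.congr_fun (hρf.symm.trans h) w
    rw [LinearMap.smulRight_apply, hLw, one_smul, LinearMap.zero_apply] at h1
    rw [h1, map_zero] at hLw
    exact zero_ne_one hLw
  have hf0 : f ≠ 0 := fun h => hρf0 (by rw [h, map_zero])
  refine ⟨f, hff, hf0, hef, ?_⟩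
  set π := (LinearMap.mulRight (ResField M) f).comp (LinearMap.mulLeft (ResField M) f) with hπdef
  have hπ : ∀ x, π x = f * x * f := fun x => rfl
  set P := LinearMap.range π with hP
  -- `e` lies in the two-sided ideal of `f`
  set gen : G × G → MonoidAlgebra (ResField M) G := fun q =>
    MonoidAlgebra.single q.1 1 * f * MonoidAlgebra.single q.2 1 with hgen
  set I := Submodule.span (ResField M) (Set.range gen) with hI
  have hIinv : IsInvar lr I := fun g z hz => by
    refine Submodule.span_induction ?_ ?_ ?_ ?_ hz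
    · rintro _ ⟨q, rfl⟩
      refine Submodule.subset_span ⟨(g * q.1, q.2), ?_⟩
      simp only [hgen, lr, leftRep_apply, ← mul_assoc, MonoidAlgebra.single_mul_single, one_mul]
    · rw [map_zero]; exact zero_mem _
    · intro a b _ _ ha hb; rw [map_add]; exact add_mem ha hb
    · intro c a _ ha; rw [map_smul]; exact Submodule.smul_mem _ c ha
  have heI : e ∈ I := by
    by_contra hni
    obtain ⟨v, -, -, h3⟩ := exists_socle_elt hpM hB hl hV hρ hρB hIinv hni
    refine hρf0 (h3 f fun a => ?_)
    rw [← mul_assoc, hfe, sum_single_coeff a, Finset.mul_sum]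
    refine Submodule.sum_mem _ fun g _ => ?_
    rw [show MonoidAlgebra.single g (a.coeff g) =
        a.coeff g • MonoidAlgebra.single g (1 : ResField M) by
      rw [MonoidAlgebra.smul_single', mul_one], mul_smul_comm]
    refine Submodule.smul_mem _ _ (Submodule.subset_span ⟨(1, g), ?_⟩)
    simp only [hgen, ← MonoidAlgebra.one_def, one_mul]
  obtain ⟨c, hc⟩ := (Submodule.mem_span_range_iff_exists_fun _).1 heI
  have hdec : e = ∑ q ∈ Finset.univ,
      (c q • MonoidAlgebra.single q.1 (1 : ResField M)) * f * MonoidAlgebra.single q.2 1 := by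
    rw [← hc]
    exact Finset.sum_congr rfl fun q _ => by simp only [hgen, smul_mul_assoc]
  -- the bound on symmetric forms of the corner
  have hbound : ∀ {n : ℕ} (μ : Fin n → MonoidAlgebra (ResField M) G →ₗ[ResField M] ResField M),
      (∀ i, ∀ a ∈ P, ∀ b ∈ P, μ i (a * b) = μ i (b * a)) →
      (∀ d : Fin n → ResField M, (∀ a ∈ P, ∑ i, d i * μ i a = 0) → d = 0) → n ≤ Nat.card B := by
    intro n μ hμ hind
    choose Ψ hΨs hΨe hΨf using fun i => exists_symm_ext Finset.univ hec hfe hff hdec (μ i)
      fun x y => hμ i _ ⟨x, rfl⟩ _ ⟨y, rfl⟩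
    have h := card_symm_le hB Ψ hΨs hΨe (Fintype.linearIndependent_iff.2 fun d hd =>
      congrFun (hind d ?_))
    · simpa using h
    rintro _ ⟨x, rfl⟩
    have h1 := LinearMap.congr_fun hd (f * x * f)
    simp only [LinearMap.coe_sum, Finset.sum_apply, LinearMap.smul_apply, smul_eq_mul,
      LinearMap.zero_apply, hΨf] at h1
    exact h1
  -- the corner
  have hfix : ∀ a ∈ P, f * a = a ∧ a * f = a := by
    rintro _ ⟨x, rfl⟩
    simp only [hπ, ← mul_assoc, hff]
    exact ⟨trivial, by rw [mul_assoc, hff]⟩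
  have hfP : f ∈ P := ⟨f, by rw [hπ, hff, hff]⟩
  have hmulP : ∀ a ∈ P, ∀ b ∈ P, a * b ∈ P := fun a ha b hb =>
    ⟨a * b, by rw [hπ, ← mul_assoc, (hfix a ha).1, mul_assoc, (hfix b hb).2]⟩
  set ε : MonoidAlgebra (ResField M) G →ₗ[ResField M] ResField M :=
    L ∘ₗ LinearMap.applyₗ w ∘ₗ ρ.asAlgebraHom.toLinearMap with hε
  have hεap : ∀ x, ε x = L (ρ.asAlgebraHom x w) := fun x => rfl
  have hρP : ∀ a ∈ P, ρ.asAlgebraHom a = ε a • ρ.asAlgebraHom f := fun a ha => by
    conv_lhs => rw [← (hfix a ha).2, ← (hfix a ha).1, map_mul, map_mul, hρf]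
    refine LinearMap.ext fun v => ?_
    simp only [Module.End.mul_apply, LinearMap.smulRight_apply, map_smul, LinearMap.smul_apply,
      hρf, hεap, smul_eq_mul, smul_smul]
    rw [mul_comm]
  have hεmul : ∀ a ∈ P, ∀ b ∈ P, ε (a * b) = ε a * ε b := fun a ha b hb => by
    rw [hεap, map_mul, Module.End.mul_apply, hρP b hb, LinearMap.smul_apply, map_smul, map_smul,
      smul_eq_mul, hρf, LinearMap.smulRight_apply, hLw, one_smul, ← hεap, mul_comm]
  have hεf : ε f = 1 := by rw [hεap, hρf, LinearMap.smulRight_apply, hLw, one_smul, hLw]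
  set J := P ⊓ LinearMap.ker ρ.asAlgebraHom.toLinearMap with hJ
  have hJmem : ∀ a ∈ P, ρ.asAlgebraHom a = 0 → a ∈ J := fun a ha h0 => ⟨ha, h0⟩
  have hJker : ∀ a ∈ J, ρ.asAlgebraHom a = 0 := fun a ha => ha.2
  have hJP : J ≤ P := inf_le_left
  have hfJ : f ∉ J := fun h => hρf0 (hJker f h)
  have hJPr : ∀ a ∈ J, ∀ b ∈ P, a * b ∈ J := fun a ha b hb => hJmem _ (hmulP a (hJP ha) b hb) (by
    rw [map_mul, hJker a ha, zero_mul])
  have hJJ : J * J ≤ J := Submodule.mul_le.2 fun a ha b hb => hJPr a ha b (hJP hb)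
  have hJdiff : ∀ a ∈ P, a - ε a • f ∈ J := fun a ha =>
    hJmem _ (sub_mem ha (Submodule.smul_mem _ _ hfP)) (by
      rw [map_sub, map_smul, ← hρP a ha, sub_self])
  have hcomm : ∀ a ∈ P, ∀ b ∈ P, a * b - b * a =
      (a - ε a • f) * (b - ε b • f) - (b - ε b • f) * (a - ε a • f) := fun a ha b hb => by
    simp only [sub_mul, mul_sub, smul_mul_assoc, mul_smul_comm, (hfix a ha).1, (hfix a ha).2,
      (hfix b hb).1, (hfix b hb).2, hff]
    simp only [smul_sub, smul_smul, mul_comm (ε b) (ε a)]
    abel
  set C := Submodule.span (ResField M) {z | ∃ a ∈ P, ∃ b ∈ P, z = a * b - b * a} with hC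
  have hCQ : C ≤ J * J := Submodule.span_le.2 (by
    rintro _ ⟨a, ha, b, hb, rfl⟩
    rw [hcomm a ha b hb]
    exact sub_mem (Submodule.mul_mem_mul (hJdiff a ha) (hJdiff b hb))
      (Submodule.mul_mem_mul (hJdiff b hb) (hJdiff a ha)))
  -- forms vanishing on commutators are symmetric
  have hdim : finrank (ResField M) P ≤ Nat.card B + finrank (ResField M) C := by
    set C' := C.comap P.subtype with hC'
    have e1 : finrank (ResField M) C' = finrank (ResField M) C :=
      (Submodule.comapSubtypeEquivOfLe ((hCQ.trans hJJ).trans hJP)).finrank_eq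
    have e2 := C'.finrank_quotient_add_finrank
    set bb := Module.finBasis (ResField M) (P ⧸ C')
    choose μ hμ using fun i => ((bb.coord i).comp C'.mkQ).exists_extend
    have hμ' : ∀ i (a : P), μ i (a : MonoidAlgebra (ResField M) G) = bb.coord i (C'.mkQ a) :=
      fun i a => LinearMap.congr_fun (hμ i) a
    have h := hbound μ (fun i a ha b hb => by
      rw [← sub_eq_zero, ← map_sub]
      have hz : a * b - b * a ∈ C := Submodule.subset_span ⟨a, ha, b, hb, rfl⟩
      rw [hμ' i ⟨a * b - b * a, sub_mem (hmulP a ha b hb) (hmulP b hb a ha)⟩,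
        Submodule.mkQ_apply, (Submodule.Quotient.mk_eq_zero C').2 hz, map_zero]) fun d hd => ?_
    · omega
    funext i
    obtain ⟨a, ha⟩ := C'.mkQ_surjective (bb i)
    have h1 := hd _ a.2
    simp only [hμ', ha] at h1
    rw [Finset.sum_eq_single i (fun j _ hj => by simp [Ne.symm hj])
      (fun h => absurd (Finset.mem_univ i) h)] at h1
    simpa using h1
  suffices hC0 : C = ⊥ by
    rw [hC0, finrank_bot] at hdim
    exact hdim
  -- the radical of the corner is nilpotent
  have hstrict : ∀ X ≤ J, X ≤ X * J → X = ⊥ := by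
    intro X hXJ hX
    by_contra hX0
    obtain ⟨z, hz, hz0⟩ := (Submodule.ne_bot_iff _).1 hX0
    let U : Submodule (ResField M) (MonoidAlgebra (ResField M) G) :=
      ⨅ a : MonoidAlgebra (ResField M) G, ⨅ y : X,
        LinearMap.ker (LinearMap.mulLeft (ResField M) ((y : MonoidAlgebra (ResField M) G) * a))
    have hmemU : ∀ u, u ∈ U ↔ ∀ a, ∀ y ∈ X, y * a * u = 0 := fun u => by
      simp only [U, Submodule.mem_iInf, LinearMap.mem_ker, LinearMap.mulLeft_apply,
        Subtype.forall]
    have hUinv : IsInvar lr U := fun g u hu => by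
      rw [hmemU] at hu ⊢
      intro a y hy
      show y * a * (MonoidAlgebra.single g 1 * u) = 0
      rw [← mul_assoc, mul_assoc y a]
      exact hu _ y hy
    have hze : z * e = z := by
      rw [← (hfix z (hJP (hXJ hz))).2, mul_assoc, hfe]
    obtain ⟨v, hv, hkill, -⟩ := exists_socle_elt hpM hB hl hV hρ hρB hUinv
      (fun h => hz0 (by simpa [← he, hze] using (hmemU _).1 h 1 z hz))
    refine hv ((hmemU v).2 fun a y hy => ?_)
    have hker : y ∈ LinearMap.ker (LinearMap.mulRight (ResField M) (a * v)) := by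
      refine (Submodule.mul_le.2 fun y₁ hy₁ y₂ hy₂ => ?_ : X * J ≤ _) (hX hy)
      show y₁ * y₂ * (a * v) = 0
      have h1 := (hmemU _).1 (hkill (y₂ * a) (by
        rw [map_mul, hJker y₂ hy₂, zero_mul])) 1 y₁ hy₁
      rw [mul_one] at h1
      simpa only [mul_assoc] using h1
    rw [LinearMap.mem_ker, LinearMap.mulRight_apply, ← mul_assoc] at hker
    exact hker
  -- the symmetric form and its nondegeneracy
  let τ : MonoidAlgebra (ResField M) G →ₗ[ResField M] ResField M :=
    { toFun := fun x => x.coeff 1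
      map_add' := fun a b => by simp
      map_smul' := fun r a => by simp }
  have hτ : ∀ a b, τ (a * b) = τ (b * a) := fun a b => by
    show (a * b).coeff 1 = (b * a).coeff 1
    conv_lhs => rw [sum_single_coeff a, Finset.sum_mul]
    conv_rhs => rw [sum_single_coeff a, Finset.mul_sum]
    simp only [MonoidAlgebra.coeff_sum, Finsupp.finsetSum_apply,
      MonoidAlgebra.coeff_single_mul_apply, MonoidAlgebra.coeff_mul_single_apply, mul_one,
      one_mul]
    exact Finset.sum_congr rfl fun g _ => mul_comm _ _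
  have hnd : ∀ z ∈ P, z ≠ 0 → ∃ b ∈ P, τ (z * b) ≠ 0 := fun z hz hz0 => by
    obtain ⟨g, hg⟩ : ∃ g, z.coeff g ≠ 0 := by
      by_contra hno
      simp only [not_exists, not_not] at hno
      exact hz0 (MonoidAlgebra.ext (Finsupp.ext fun g => by simpa using hno g))
    refine ⟨f * MonoidAlgebra.single g⁻¹ (1 : ResField M) * f, ⟨_, rfl⟩, ?_⟩
    rw [← mul_assoc, ← mul_assoc, (hfix z hz).2, hτ, ← mul_assoc, (hfix z hz).1]
    show (z * MonoidAlgebra.single g⁻¹ (1 : ResField M)).coeff 1 ≠ 0
    rw [MonoidAlgebra.coeff_mul_single_apply]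
    simpa using hg
  have hτC : ∀ z ∈ C, τ z = 0 := fun z hz => by
    refine (Submodule.span_le.2 ?_ : C ≤ LinearMap.ker τ) hz
    rintro _ ⟨a, -, b, -, rfl⟩
    rw [SetLike.mem_coe, LinearMap.mem_ker, map_sub, hτ, sub_self]
  have hQP : J * J ≤ P := hJJ.trans hJP
  have hRJ : J * J * J ≤ J := (mul_le_mul' hJJ le_rfl).trans hJJ
  by_cases hR0 : J * J * J = ⊥
  · refine (Submodule.eq_bot_iff _).2 fun z hz => ?_
    by_contra hz0
    obtain ⟨b, hb, hτb⟩ := hnd z (hQP (hCQ hz)) hz0
    refine hτb ?_
    have h0 : z * (b - ε b • f) = 0 :=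
      (Submodule.mem_bot _).1 (hR0 ▸ Submodule.mul_mem_mul (hCQ hz) (hJdiff b hb))
    rw [mul_sub, mul_smul_comm, (hfix z (hQP (hCQ hz))).2, sub_eq_zero] at h0
    rw [h0, map_smul, hτC z hz, smul_zero]
  -- the cube is not zero
  have hQJ : J * J < J := lt_of_le_of_ne hJJ fun h => hR0 (by
    rw [hstrict J le_rfl h.ge]
    exact Submodule.mul_bot _)
  have hRCC : C < C ⊔ J * J * J := by
    refine lt_of_le_of_ne le_sup_left fun h => ?_
    obtain ⟨z, hz, hz0⟩ := (Submodule.ne_bot_iff _).1 hR0
    obtain ⟨b, hb, hτb⟩ := hnd z (hJP (hRJ hz)) hz0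
    refine hτb (hτC _ (h.symm ▸ Submodule.mem_sup_right ?_))
    have h0 : z * (b - ε b • f) ∈ J * J * J :=
      (mul_le_mul' (mul_le_mul' hJJ le_rfl) le_rfl : J * J * J * J ≤ J * J * J)
        (Submodule.mul_mem_mul hz (hJdiff b hb))
    rw [mul_sub, mul_smul_comm, (hfix z (hJP (hRJ hz))).2] at h0
    simpa using add_mem h0 (Submodule.smul_mem _ (ε b) hz)
  have hRQ : J * J * J ≤ J * J := mul_le_mul' hJJ le_rfl
  have hJlt : J < P := lt_of_le_of_ne hJP fun h => hfJ (h.symm ▸ hfP)
  have l1 := Submodule.finrank_lt_finrank_of_lt hRCC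
  have l2 : finrank (ResField M) ↥(C ⊔ J * J * J) ≤ finrank (ResField M) ↥(J * J) :=
    Submodule.finrank_mono (sup_le hCQ hRQ)
  have l3 := Submodule.finrank_lt_finrank_of_lt hQJ
  have l4 := Submodule.finrank_lt_finrank_of_lt hJlt
  -- expanding a commutator
  have hJC : ∀ a ∈ J, ∀ b ∈ J, a * b - b * a ∈ C := fun a ha b hb =>
    Submodule.subset_span ⟨a, hJP ha, b, hJP hb, rfl⟩
  obtain ⟨x, hxJ, hxQ⟩ := SetLike.exists_of_lt hQJ
  have hx1 : finrank (ResField M) ↥(J * J) <
      finrank (ResField M) ↥(J * J ⊔ Submodule.span (ResField M) {x}) :=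
    Submodule.finrank_lt_finrank_of_lt (lt_of_le_of_ne le_sup_left fun h =>
      hxQ (h.symm ▸ Submodule.mem_sup_right (Submodule.mem_span_singleton_self x)))
  have hxle : J * J ⊔ Submodule.span (ResField M) {x} ≤ J :=
    sup_le hJJ ((Submodule.span_singleton_le_iff_mem _ _).2 hxJ)
  by_cases hone : J * J ⊔ Submodule.span (ResField M) {x} = J
  · -- generated by one element
    have hcomn : ∀ n : ℕ, ∀ a ∈ J, ∀ b ∈ J, a * b - b * a ∈ J ^ (n + 1) := by
      intro n
      induction n with
      | zero =>
        intro a ha b hb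
        rw [pow_one]
        exact sub_mem (hJJ (Submodule.mul_mem_mul ha hb)) (hJJ (Submodule.mul_mem_mul hb ha))
      | succ n ih =>
        have hQcom : ∀ q ∈ J * J, ∀ b ∈ J, q * b - b * q ∈ J ^ (n + 1 + 1) := by
          intro q hq b hb
          refine Submodule.mul_induction_on hq (fun u hu v hv => ?_) fun u v hu hv => ?_
          · rw [show u * v * b - b * (u * v) = u * (v * b - b * v) + (u * b - b * u) * v by
              noncomm_ring]
            refine add_mem ?_ ?_
            · rw [pow_succ']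
              exact Submodule.mul_mem_mul hu (ih v hv b hb)
            · rw [pow_succ]
              exact Submodule.mul_mem_mul (ih u hu b hb) hv
          · rw [show (u + v) * b - b * (u + v) = (u * b - b * u) + (v * b - b * v) by
              noncomm_ring]
            exact add_mem hu hv
        intro a ha b hb
        rw [← hone] at ha hb
        obtain ⟨q, hq, _, hs, rfl⟩ := Submodule.mem_sup.1 ha
        obtain ⟨α, rfl⟩ := Submodule.mem_span_singleton.1 hs
        obtain ⟨q', hq', _, hs', rfl⟩ := Submodule.mem_sup.1 hb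
        obtain ⟨β, rfl⟩ := Submodule.mem_span_singleton.1 hs'
        rw [show (q + α • x) * (q' + β • x) - (q' + β • x) * (q + α • x) =
            (q * (q' + β • x) - (q' + β • x) * q) - α • (q' * x - x * q') by
          simp only [mul_add, add_mul, smul_mul_assoc, mul_smul_comm, smul_sub, smul_add,
            smul_smul, mul_comm β α]
          abel]
        exact sub_mem (hQcom q hq _ (hone ▸ hb)) (Submodule.smul_mem _ α (hQcom q' hq' x hxJ))
    obtain ⟨n, hn⟩ : ∃ n, J ^ (n + 1) = ⊥ := by
      by_contra hne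
      simp only [not_exists] at hne
      have hdec : ∀ n, finrank (ResField M) ↥(J ^ (n + 1)) + n ≤ finrank (ResField M) J ∧
          J ^ (n + 1) ≤ J := by
        intro n
        induction n with
        | zero => rw [pow_one]; exact ⟨le_rfl, le_rfl⟩
        | succ n ih =>
          have hle : J ^ (n + 1 + 1) ≤ J ^ (n + 1) := by
            rw [pow_succ J (n + 1)]
            refine Submodule.mul_le.2 fun a ha b hb => ?_
            have : J ^ (n + 1) * J ≤ J ^ (n + 1) := by
              rw [pow_succ J n, mul_assoc]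
              exact mul_le_mul' le_rfl hJJ
            exact this (Submodule.mul_mem_mul ha hb)
          have hlt : J ^ (n + 1 + 1) < J ^ (n + 1) := lt_of_le_of_ne hle fun h => hne n
            (hstrict _ ih.2 (by rw [← pow_succ, h]))
          have := Submodule.finrank_lt_finrank_of_lt hlt
          exact ⟨by omega, hle.trans ih.2⟩
      have h1 := (hdec (finrank (ResField M) J + 1)).1
      omega
    refine Submodule.eq_bot_iff _ |>.2 fun z hz => ?_
    refine (Submodule.mem_bot _).1 ((Submodule.span_le.2 ?_ :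
      C ≤ (⊥ : Submodule (ResField M) (MonoidAlgebra (ResField M) G))) hz)
    rintro _ ⟨a, ha, b, hb, rfl⟩
    rw [hcomm a ha b hb]
    exact hn ▸ hcomn n _ (hJdiff a ha) _ (hJdiff b hb)
  -- generated by two elements: impossible
  exfalso
  have hk : Nat.card B ≤ 4 := hk.resolve_right fun hcyc => hone <|
    hcyc f J hff hef hfJ hJJ (fun a ha => hfix a (hJP ha))
      (fun a => ⟨ε (f * a * f), hJdiff _ ⟨a, rfl⟩⟩) x hxJ hxQ
  have hlt2 := lt_of_le_of_ne hxle hone
  obtain ⟨y, hyJ, hyQ⟩ := SetLike.exists_of_lt hlt2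
  have hy1 : finrank (ResField M) ↥(J * J ⊔ Submodule.span (ResField M) {x}) <
      finrank (ResField M)
        ↥(J * J ⊔ Submodule.span (ResField M) {x} ⊔ Submodule.span (ResField M) {y}) :=
    Submodule.finrank_lt_finrank_of_lt (lt_of_le_of_ne le_sup_left fun h =>
      hyQ (h.symm ▸ Submodule.mem_sup_right (Submodule.mem_span_singleton_self y)))
  have hyle : J * J ⊔ Submodule.span (ResField M) {x} ⊔ Submodule.span (ResField M) {y} ≤ J :=
    sup_le hxle ((Submodule.span_singleton_le_iff_mem _ _).2 hyJ)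
  have hJeq : J * J ⊔ Submodule.span (ResField M) {x} ⊔ Submodule.span (ResField M) {y} = J :=
    Submodule.eq_of_le_of_finrank_le hyle (by omega)
  have hQeq : C ⊔ J * J * J = J * J :=
    Submodule.eq_of_le_of_finrank_le (sup_le hCQ hRQ) (by
      have := Submodule.finrank_mono hyle
      omega)
  obtain ⟨c, hc⟩ : ∃ c, c = x * y - y * x := ⟨_, rfl⟩
  have hQJR : ∀ q ∈ J * J, ∀ b ∈ J, q * b ∈ J * J * J ∧ b * q ∈ J * J * J := fun q hq b hb =>
    ⟨Submodule.mul_mem_mul hq hb, by rw [mul_assoc J J J]; exact Submodule.mul_mem_mul hb hq⟩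
  have hCc : C ≤ Submodule.span (ResField M) {c} ⊔ J * J * J := Submodule.span_le.2 (by
    rintro _ ⟨a, ha, b, hb, rfl⟩
    rw [hcomm a ha b hb]
    have ha' := hJdiff a ha
    have hb' := hJdiff b hb
    generalize a - ε a • f = a' at ha' ⊢
    generalize b - ε b • f = b' at hb' ⊢
    rw [← hJeq] at ha' hb'
    obtain ⟨_, h1, _, h2, rfl⟩ := Submodule.mem_sup.1 ha'
    obtain ⟨q, hq, _, h3, rfl⟩ := Submodule.mem_sup.1 h1
    obtain ⟨β, rfl⟩ := Submodule.mem_span_singleton.1 h2
    obtain ⟨α, rfl⟩ := Submodule.mem_span_singleton.1 h3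
    obtain ⟨_, h4, _, h5, rfl⟩ := Submodule.mem_sup.1 hb'
    obtain ⟨q', hq', _, h6, rfl⟩ := Submodule.mem_sup.1 h4
    obtain ⟨β', rfl⟩ := Submodule.mem_span_singleton.1 h5
    obtain ⟨α', rfl⟩ := Submodule.mem_span_singleton.1 h6
    have hxy : α • x + β • y ∈ J :=
      add_mem (Submodule.smul_mem _ α hxJ) (Submodule.smul_mem _ β hyJ)
    have hxy' : α' • x + β' • y ∈ J :=
      add_mem (Submodule.smul_mem _ α' hxJ) (Submodule.smul_mem _ β' hyJ)
    have hq'J : q' ∈ J := hJJ hq'
    rw [show (q + α • x + β • y) * (q' + α' • x + β' • y) -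
          (q' + α' • x + β' • y) * (q + α • x + β • y) =
        (α * β') • c - (β * α') • c + (q * (q' + (α' • x + β' • y)) -
          (q' + (α' • x + β' • y)) * q) + ((α • x + β • y) * q' - q' * (α • x + β • y)) by
      simp only [hc, mul_add, add_mul, smul_mul_assoc, mul_smul_comm, smul_sub, smul_add, smul_smul,
        mul_comm α' α, mul_comm β' β, mul_comm α' β, mul_comm β' α]
      abel]
    refine add_mem (add_mem (sub_mem ?_ ?_) ?_) ?_
    · exact Submodule.mem_sup_left (Submodule.smul_mem _ _ (Submodule.mem_span_singleton_self c))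
    · exact Submodule.mem_sup_left (Submodule.smul_mem _ _ (Submodule.mem_span_singleton_self c))
    · exact Submodule.mem_sup_right (sub_mem (hQJR q hq _ (add_mem hq'J hxy')).1
        (hQJR q hq _ (add_mem hq'J hxy')).2)
    · exact Submodule.mem_sup_right (sub_mem (hQJR q' hq' _ hxy).2 (hQJR q' hq' _ hxy).1))
  have hQc : J * J ≤ Submodule.span (ResField M) {c} ⊔ J * J * J := by
    conv_lhs => rw [← hQeq]
    exact sup_le hCc le_sup_right
  have hcR : c ∉ J * J * J := fun hcm => hR0 (by
    have h1 : J * J ≤ J * J * J :=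
      hQc.trans (sup_le ((Submodule.span_singleton_le_iff_mem _ _).2 hcm) le_rfl)
    rw [hstrict (J * J) hJJ h1, Submodule.bot_mul])
  -- a form on the cube vanishing on the fourth power
  have hT : J * J * J * J < J * J * J := lt_of_le_of_ne (mul_le_mul' hRQ le_rfl) fun h =>
    hR0 (hstrict _ hRJ h.ge)
  obtain ⟨r₀, hr₀, hr₀T⟩ := SetLike.exists_of_lt hT
  obtain ⟨φ, hφr, hφT⟩ := Submodule.exists_dual_map_eq_bot_of_notMem hr₀T inferInstance
  have hφT' : ∀ z ∈ J * J * J * J, φ z = 0 := fun z hz =>
    (Submodule.mem_bot _).1 (hφT ▸ Submodule.mem_map_of_mem hz)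
  have hcoef : ∀ u v : J, ∃ t : ResField M,
      (u : MonoidAlgebra (ResField M) G) * v - t • c ∈ J * J * J := fun u v => by
    obtain ⟨s, hs, r, hr, hsr⟩ := Submodule.mem_sup.1 (hQc (Submodule.mul_mem_mul u.2 v.2))
    obtain ⟨t, rfl⟩ := Submodule.mem_span_singleton.1 hs
    exact ⟨t, by rw [← hsr, add_sub_cancel_left]; exact hr⟩
  choose bf hbf using hcoef
  have hA : ∀ u v w : J, bf u v * φ (c * w) = φ ((u : MonoidAlgebra (ResField M) G) * c) * bf v w := by
    intro u v w
    have e1 : φ (((u : MonoidAlgebra (ResField M) G) * v - bf u v • c) * w) = 0 :=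
      hφT' _ (Submodule.mul_mem_mul (hbf u v) w.2)
    have e2 : φ ((u : MonoidAlgebra (ResField M) G) * ((v : MonoidAlgebra (ResField M) G) * w -
        bf v w • c)) = 0 := hφT' _ (by
      have := Submodule.mul_mem_mul u.2 (hbf v w)
      rwa [← mul_assoc, ← mul_assoc] at this)
    rw [sub_mul, map_sub, smul_mul_assoc, map_smul, sub_eq_zero, smul_eq_mul] at e1
    rw [mul_sub, map_sub, mul_smul_comm, map_smul, sub_eq_zero, smul_eq_mul, ← mul_assoc] at e2
    rw [← e1, e2, mul_comm]
  obtain ⟨w₀, hw₀⟩ : ∃ w : J, φ (c * w) ≠ 0 := by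
    by_contra hno
    simp only [not_exists, not_not] at hno
    refine hφr ?_
    refine Submodule.mul_induction_on hr₀ (fun q hq w hw => ?_) fun a b ha hb => by
      rw [map_add, ha, hb, add_zero]
    obtain ⟨s, hs, r, hr, rfl⟩ := Submodule.mem_sup.1 (hQc hq)
    obtain ⟨t, rfl⟩ := Submodule.mem_span_singleton.1 hs
    rw [add_mul, map_add, smul_mul_assoc, map_smul, hno ⟨w, hw⟩, smul_zero, zero_add,
      hφT' _ (Submodule.mul_mem_mul hr hw)]
  obtain ⟨u₀, hu₀⟩ : ∃ u : J, φ ((u : MonoidAlgebra (ResField M) G) * c) ≠ 0 := by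
    by_contra hno
    simp only [not_exists, not_not] at hno
    refine hφr ?_
    have hr₀' : r₀ ∈ J * (J * J) := by rwa [← mul_assoc]
    refine Submodule.mul_induction_on hr₀' (fun u hu q hq => ?_) fun a b ha hb => by
      rw [map_add, ha, hb, add_zero]
    obtain ⟨s, hs, r, hr, rfl⟩ := Submodule.mem_sup.1 (hQc hq)
    obtain ⟨t, rfl⟩ := Submodule.mem_span_singleton.1 hs
    rw [mul_add, map_add, mul_smul_comm, map_smul, hno ⟨u, hu⟩, smul_zero, zero_add,
      hφT' _ (by
        have := Submodule.mul_mem_mul hu hr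
        rwa [← mul_assoc, ← mul_assoc] at this)]
  set g : J → ResField M := fun v => bf v w₀ / φ (c * w₀) with hg
  have hb1 : ∀ u v, bf u v = φ ((u : MonoidAlgebra (ResField M) G) * c) * g v := fun u v => by
    rw [hg, mul_div_assoc', eq_div_iff hw₀, hA]
  have hg1 : ∀ v w : J, g v * φ (c * w) = φ ((v : MonoidAlgebra (ResField M) G) * c) * g w :=
    fun v w => by
    have := hA u₀ v w
    rw [hb1, hb1 v w, mul_assoc] at this
    exact mul_left_cancel₀ hu₀ this
  have hg2 : ∀ v : J, g v = φ ((v : MonoidAlgebra (ResField M) G) * c) *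
      (g w₀ / φ (c * w₀)) := fun v => by
    rw [mul_div_assoc', eq_div_iff hw₀, hg1]
  have hsym : bf ⟨x, hxJ⟩ ⟨y, hyJ⟩ = bf ⟨y, hyJ⟩ ⟨x, hxJ⟩ := by
    rw [hb1, hb1, hg2 ⟨y, hyJ⟩, hg2 ⟨x, hxJ⟩]
    ring
  refine hcR ?_
  have h := sub_mem (hbf ⟨x, hxJ⟩ ⟨y, hyJ⟩) (hbf ⟨y, hyJ⟩ ⟨x, hxJ⟩)
  rwa [hsym, sub_sub_sub_cancel_right, ← hc] at h

end CfsgLib.Blocks
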