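import Cfsg.Agent.Lib.Blocks.ThirdMain
import Cfsg.Agent.Lib.Transfer.Alperin

/-!
# Nilpotency of the principal block
-/

set_option linter.unusedSectionVars false
set_option linter.style.haveILetI false

namespace CfsgLib.Blocks

open Cfsg

variable {G : Type*} [Group G] [Fintype G] {M : Ideal AlgInt} [M.IsPrime] {p : ℕ} [Fact p.Prime]

theorem hasNormalPComplement_iff_pow_index :
    HasNormalPComplement p G ↔
      ∃ N : Subgroup G, N.Normal ∧ ¬ p ∣ Nat.card N ∧ ∃ k, N.index = p ^ k := by
  constructor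
  · rintro ⟨P, N, hN, hc⟩
    obtain ⟨k, hk⟩ := P.2.exists_card_eq
    refine ⟨N, hN, ?_, k, by rw [hc.symm.index_eq_card, hk]⟩
    rw [← hc.index_eq_card]
    exact P.not_dvd_index
  · rintro ⟨N, hN, hd, k, hk⟩
    obtain ⟨P⟩ : Nonempty (Sylow p G) := inferInstance
    have hp : p.Prime := Fact.out
    refine ⟨P, N, hN, Subgroup.isComplement'_of_coprime ?_ ?_⟩
    · rw [P.card_eq_multiplicity, ← Subgroup.card_mul_index N,
        Nat.factorization_mul Nat.card_pos.ne' Subgroup.index_ne_zero_of_finite, Finsupp.add_apply,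
        Nat.factorization_eq_zero_of_not_dvd hd, hk, hp.factorization_pow, Finsupp.single_eq_same,
        zero_add]
    · obtain ⟨j, hj⟩ := P.2.exists_card_eq
      rw [hj]
      exact (Nat.Coprime.pow_left j ((hp.coprime_iff_not_dvd).2 hd)).symm

theorem isNilpotentBlock_principal_iff_complement (hpM : (p : AlgInt) ∈ M) :
    IsNilpotentBlock p M (principalBlock M G) ↔ HasNormalPComplement p G := by
  obtain ⟨P⟩ : Nonempty (Sylow p G) := inferInstance
  rw [isNilpotentBlock_principal_iff hpM,
    CfsgLib.Transfer.hasNormalPComplement_iff_forall_centralizing P]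
  constructor
  · intro h Q hQ g hg hcop
    refine h Q (P.2.to_le hQ) g hg fun hd => ?_
    exact (Fact.out : p.Prime).ne_one (Nat.dvd_one.1 (hcop ▸ Nat.dvd_gcd hd dvd_rfl))
  · intro h Q hQ x hx hreg
    obtain ⟨T, hT⟩ := hQ.exists_le_sylow
    obtain ⟨y, hy⟩ := MulAction.exists_smul_eq G T P
    -- conjugate `Q` into `P`
    have hQP : Q.map (MulAut.conj y).toMonoidHom ≤ (P : Subgroup G) := by
      rw [← hy, Sylow.coe_subgroup_smul]
      exact Subgroup.map_mono hT
    have hx' : y * x * y⁻¹ ∈
        Subgroup.normalizer ((Q.map (MulAut.conj y).toMonoidHom : Subgroup G) : Set G) := by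
      have := Subgroup.le_normalizer_map (MulAut.conj y).toMonoidHom ⟨x, hx, rfl⟩
      simpa using this
    have h1 := h _ hQP _ hx' (by
      rw [(SemiconjBy.conj_mk y x).orderOf_eq.symm]
      exact (((Fact.out : p.Prime).coprime_iff_not_dvd).2 hreg).symm)
    exact (centralizer_conj_iff Q y x).1 h1

theorem isNilpotentBlock_principal_iff_rank (hpM : (p : AlgInt) ∈ M) :
    IsNilpotentBlock p M (principalBlock M G) ↔ blockRank p (principalBlock M G) = 1 := by
  rw [isNilpotentBlock_principal_iff_complement hpM, hasNormalPComplement_iff_pow_index]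
  refine ⟨?_, exists_normal_complement_of_rank_one hpM⟩
  rintro ⟨N, hN, hd, k, hk⟩
  exact blockRank_eq_one_of_pow_index hpM hd hk

end CfsgLib.Blocks
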