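import Cfsg.Agent.Lib.Blocks.PrincipalHeights
import Cfsg.Agent.Lib.Blocks.NilpotentPrincipal
import Cfsg.Agent.Lib.Blocks.PrincipalExtension
import Cfsg.Agent.Lib.CharsMore.Extend
import Cfsg.Agent.Lib.Transfer.NormalPComplement

/-!
# Equal degrees of the height zero characters of the principal block
-/

set_option linter.unusedSectionVars false
set_option linter.style.haveILetI false

namespace CfsgLib.Blocks

open Cfsg Chars BlockOrth
open scoped ComplexConjugate

namespace EqualDeg

variable {p : ℕ} [Fact p.Prime] {M : Ideal AlgInt} [M.IsPrime]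
  {G : Type*} [Group G] [Fintype G]

/-- A normal `p`-complement makes the height-zero characters linear. -/
theorem degree_one_of_complement (hpM : (p : AlgInt) ∈ M) (h : HasNormalPComplement p G)
    {χ : IrrCharacter G} (hχ : χ ∈ principalBlock M G)
    (h0 : blockHeight p (principalBlock M G) (χ : G → ℂ) = 0) :
    charDegree (χ : G → ℂ) = 1 := by
  classical
  obtain ⟨N, hN, hd, k, hk⟩ := hasNormalPComplement_iff_pow_index.1 h
  haveI := Fintype.ofFinite (G ⧸ N)
  obtain ⟨f, hf, hfe⟩ := exists_deflate_irr N χ.2 fun n hn =>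
    principalBlock_apply_normal hpM hd hχ hn
  obtain ⟨j, -, hj, hdvd⟩ := irr_degree_dvd_card hf
  rw [← Subgroup.index_eq_card, hk] at hdvd
  obtain ⟨i, -, rfl⟩ := (Nat.dvd_prime_pow (Fact.out : p.Prime)).1 hdvd
  have e : charDegree (χ : G → ℂ) = p ^ i := by
    have h1 := irr_apply_one χ
    rw [hfe] at h1
    simp only [QuotientGroup.mk_one] at h1
    rw [hj] at h1
    rw [hfe]
    exact_mod_cast h1.symm
  have hnd := PrincHeights.height_zero_iff.1 h0
  rw [e] at hnd ⊢
  cases i with
  | zero => rfl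
  | succ i => exact absurd (dvd_pow_self p i.succ_ne_zero) hnd

/-- The sum of the squared degrees in a block. -/
theorem dvd_sum_degree_sq (hpM : (p : AlgInt) ∈ M) (hd : p ∣ Nat.card G)
    {B : Set (IrrCharacter G)} (hB : IsPBlock M B) :
    p ∣ ∑ χ ∈ B.toFinite.toFinset, charDegree (χ : G → ℂ) ^ 2 := by
  rw [← memLocalIdeal_natCast_iff (M := M) Fact.out hpM]
  have h1 := blockCoeff_mem_loc (M := M) hB (1 : G)
  obtain ⟨c, hc⟩ := hd
  have e : ((∑ χ ∈ B.toFinite.toFinset, charDegree (χ : G → ℂ) ^ 2 : ℕ) : ℂ) =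
      (Nat.card G : ℂ) * blockCoeff B (1 : G) := by
    rw [blockCoeff, finsum_mem_eq_finite_toFinset_sum _ B.toFinite, ← mul_assoc,
      mul_inv_cancel₀ (Nat.cast_ne_zero.2 Nat.card_pos.ne'), one_mul, Nat.cast_sum]
    refine Finset.sum_congr rfl fun χ _ => ?_
    rw [irr_apply_one, Complex.conj_natCast, Nat.cast_pow, sq]
  rw [e, hc, Nat.cast_mul, mul_comm (p : ℂ), mul_assoc]
  exact MemLocalIdeal.mul_left' (natCast_mem _ c) (MemLocalIdeal.mul_right'
    (memLocalIdeal_prime hpM) h1)

/-- An extension to a group over a normal subgroup of `p`-power index lies in the principal block. -/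
theorem mem_principal_of_ext (hpM : (p : AlgInt) ∈ M) {K : Subgroup G} [K.Normal] [Fintype K]
    {k : ℕ} (hk : K.index = p ^ k) {θ : IrrCharacter K} (hθ : θ ∈ principalBlock M K)
    {χ : IrrCharacter G} (hext : ∀ n : K, (χ : G → ℂ) n = (θ : K → ℂ) n) :
    χ ∈ principalBlock M G := by
  rw [principalBlock_eq, mem_blockOf] at hθ ⊢
  refine sameBlock_of_regular (χ := principal G) hpM fun y hy => ?_
  have hyK : y ∈ K := index_eq_pow_mem_of_regular hk hy
  have hd : (Subgroup.centralizer ({(⟨y, hyK⟩ : K)} : Set K)).index ∣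
      (Subgroup.centralizer ({y} : Set G)).index := by
    have e : (Subgroup.centralizer ({(⟨y, hyK⟩ : K)} : Set K)).index =
        (Subgroup.centralizer ({y} : Set G)).relIndex K := by
      show _ = ((Subgroup.centralizer ({y} : Set G)).subgroupOf K).index
      congr 1
      ext x
      rw [Subgroup.mem_subgroupOf, Subgroup.mem_centralizer_singleton_iff,
        Subgroup.mem_centralizer_singleton_iff]
      exact Subtype.ext_iff
    rw [e]
    set H := Subgroup.centralizer ({y} : Set G)
    refine Dvd.dvd.trans (dvd_of_eq ?_) (Dvd.intro _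
      (Subgroup.relIndex_mul_index (le_sup_left : H ≤ H ⊔ K)))
    refine (Nat.eq_of_mul_eq_mul_left (Nat.pos_of_ne_zero (Subgroup.index_ne_zero_of_finite
      (H := (H ⊓ K).subgroupOf H))) ?_)
    show (H ⊓ K).relIndex H * H.relIndex K = (H ⊓ K).relIndex H * H.relIndex (H ⊔ K)
    rw [Subgroup.relIndex_mul_relIndex _ _ _ inf_le_left le_sup_left,
      ← Subgroup.relIndex_mul_relIndex (H ⊓ K) K (H ⊔ K) inf_le_right le_sup_right,
      Subgroup.relIndex_sup_right, Subgroup.inf_relIndex_right, mul_comm]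
    congr 1
    rw [inf_comm, Subgroup.inf_relIndex_right]
  obtain ⟨c, hc⟩ := hd
  have e1 : centralChar ((principal G : IrrCharacter G) : G → ℂ) y =
      (c : ℂ) * centralChar ((principal K : IrrCharacter K) : K → ℂ) ⟨y, hyK⟩ := by
    simp only [centralChar, principal_apply, mul_one, div_one, hc, Nat.cast_mul]
    ring
  have e2 : centralChar (χ : G → ℂ) y = (c : ℂ) * centralChar (θ : K → ℂ) ⟨y, hyK⟩ := by
    simp only [centralChar, hc, Nat.cast_mul, ← hext, OneMemClass.coe_one]
    ring
  rw [e1, e2, ← mul_sub]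
  exact MemLocalIdeal.mul_left' (natCast_mem _ c) (hθ _)

/-- A linear character times a member of the principal block. -/
theorem linear_mul_mem (hpM : (p : AlgInt) ∈ M) {l : G →* ℂˣ} {θ η χ : IrrCharacter G}
    (hl : ∀ g, (θ : G → ℂ) g = (l g : ℂ)) (hθ : θ ∈ principalBlock M G)
    (hη : η ∈ principalBlock M G) (hχ : ∀ g, (χ : G → ℂ) g = (l g : ℂ) * (η : G → ℂ) g) :
    χ ∈ principalBlock M G := by
  rw [principalBlock_eq, mem_blockOf] at hθ hη ⊢
  intro y
  have hy : (l y : ℂ) ∈ loc M := isIntegral_mem_loc (IsIntegral.of_pow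
    (Nat.card_pos (α := G)) (by
      rw [← Units.val_pow_eq_pow_val, ← map_pow, pow_card_eq_one', map_one, Units.val_one]
      exact isIntegral_one))
  have h1 := hθ y
  have h2 := MemLocalIdeal.mul_left' hy (hη y)
  have e : centralChar (χ : G → ℂ) y = (l y : ℂ) * centralChar (η : G → ℂ) y := by
    simp only [centralChar, hχ, map_one, Units.val_one, one_mul]
    ring
  have e' : centralChar (θ : G → ℂ) y =
      (l y : ℂ) * centralChar ((principal G : IrrCharacter G) : G → ℂ) y := by
    simp only [centralChar, hl, principal_apply, map_one, Units.val_one, div_one, mul_one]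
    ring
  rw [e] at *
  rw [e'] at h1
  have h3 := MemLocalIdeal.add' h1 h2
  convert h3 using 1
  ring

/-- Equal degrees give a normal `p`-complement. -/
theorem complement_of_degree (hpM : (p : AlgInt) ∈ M)
    (h : ∀ χ ∈ principalBlock M G, ¬ p ∣ charDegree (χ : G → ℂ) → charDegree (χ : G → ℂ) = 1) :
    HasNormalPComplement p G := by
  classical
  have hp : p.Prime := Fact.out
  rw [CfsgLib.Transfer.hasNormalPComplement_iff_pResidual]
  haveI hKn : (pResidual p G).Normal := CfsgLib.Transfer.pResidual_normal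
  set K := pResidual p G with hK
  obtain ⟨k, hk⟩ := CfsgLib.Transfer.exists_index_pResidual (G := G) (p := p)
  haveI := Fintype.ofFinite K
  intro hdvd
  -- linear characters of `K` have order prime to `p`
  set n := Nat.card G / p ^ (Nat.card G).factorization p with hn
  have hnp : ¬ p ∣ n := Nat.not_dvd_ordCompl hp Nat.card_pos.ne'
  have hNn : p ^ (Nat.card G).factorization p * n = Nat.card G :=
    Nat.ordProj_mul_ordCompl_eq_self _ p
  have hlin : ∀ l : K →* ℂˣ, l ^ n = 1 := by
    intro l
    refine MonoidHom.ext fun x => ?_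
    obtain ⟨x, hx⟩ := x
    have hx' : x ∈ Subgroup.closure {g : G | Nat.Coprime (orderOf g) p} := hx
    suffices ∀ hx : x ∈ K, l ⟨x, hx⟩ ^ n = 1 by simpa using this hx
    clear hx
    induction hx' using Subgroup.closure_induction with
    | mem g hg =>
      intro hgK
      rw [← map_pow]
      have : g ^ n = 1 := by
        rw [← orderOf_dvd_iff_pow_eq_one]
        refine ((Nat.Coprime.pow_right ((Nat.card G).factorization p) hg).dvd_of_dvd_mul_left ?_)
        rw [hNn]
        exact orderOf_dvd_natCard g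
      rw [show (⟨g, hgK⟩ : K) ^ n = 1 from Subtype.ext (by simpa using this), map_one]
    | one => intro h1; rw [show (⟨1, h1⟩ : K) = 1 from rfl, map_one, one_pow]
    | mul a b ha hb iha ihb =>
      intro hab
      have ha' : a ∈ K := ha
      have hb' : b ∈ K := hb
      rw [show (⟨a * b, hab⟩ : K) = ⟨a, ha'⟩ * ⟨b, hb'⟩ from rfl, map_mul, mul_pow, iha ha',
        ihb hb', one_mul]
    | inv a ha iha =>
      intro hinv
      have ha' : a ∈ K := ha
      rw [show (⟨a⁻¹, hinv⟩ : K) = (⟨a, ha'⟩ : K)⁻¹ from rfl, map_inv, inv_pow, iha ha', inv_one]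
  -- invariant members of degree prime to `p` are linear
  have hdeg1 : ∀ θ ∈ principalBlock M K, (∀ g, conjIrr K g θ = θ) →
      ¬ p ∣ charDegree (θ : K → ℂ) → charDegree (θ : K → ℂ) = 1 := by
    intro θ hθ hinv hd
    obtain ⟨d, ρ, hρ, hρθ, hI, hdinv⟩ := CharsMore.exists_invariant_rep K θ.2 (fun g v => by
      have := congrFun (congrArg Subtype.val (hinv g)) v
      exact this)
    have hd' : d = charDegree (θ : K → ℂ) := by
      have h1 := irr_apply_one θ
      rw [← hρθ] at h1
      have h2 : ((d : ℕ) : ℂ) = (charDegree ρ.character : ℂ) := by rw [← h1]; simp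
      rw [← hρθ]
      exact_mod_cast h2
    have hcop : Nat.Coprime d K.index := by
      rw [hk, hd']
      exact (Nat.Coprime.pow_right k (hp.coprime_iff_not_dvd.2 hd).symm)
    have hord : Nat.Coprime K.index (orderOf (CharsMore.detHom ρ)) := by
      rw [hk]
      exact Nat.Coprime.pow_left k (hp.coprime_iff_not_dvd.2 fun hh =>
        hnp (hh.trans (orderOf_dvd_of_pow_eq_one (hlin _))))
    obtain ⟨μ, ⟨hμ, -⟩, -⟩ := CharsMore.exists_coprime_ext K (CharsMore.detHom ρ) hdinv hord
    obtain ⟨R, hR⟩ := CharsMore.repExtends_of_det K ρ hI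
      (by rw [Module.finrank_fin_fun]; exact hcop) μ (fun v => congrArg Units.val (hμ v))
    obtain ⟨-, hχirr, hχres⟩ := CharsMore.isIrrExt_of_rep K R hR
    set χ : IrrCharacter G := ⟨_, hχirr⟩ with hχ
    have hres : ∀ v : K, (χ : G → ℂ) v = (θ : K → ℂ) v := fun v =>
      (hχres v).trans (congrFun hρθ v)
    have e : charDegree (χ : G → ℂ) = charDegree (θ : K → ℂ) := by
      have h1 := hres 1
      rw [OneMemClass.coe_one, irr_apply_one, irr_apply_one] at h1
      exact_mod_cast h1
    rw [← e]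
    exact h χ (mem_principal_of_ext hpM hk hθ hres) (e ▸ hd)
  -- the subgroup of linear invariant members
  let S : Subgroup (K →* ℂˣ) :=
    { carrier := {l | (∀ g v, l (CharsMore.conjBy K g v) = l v) ∧
        ∃ θ ∈ principalBlock M K, ∀ v, (θ : K → ℂ) v = (l v : ℂ)}
      one_mem' := ⟨fun _ _ => rfl, principal K, principal_mem_principalBlock M, fun v => by
        simp [principal_apply]⟩
      mul_mem' := by
        rintro l l' ⟨hl, θ, hθ, hθe⟩ ⟨hl', θ', hθ', hθe'⟩
        refine ⟨fun g v => by rw [MonoidHom.mul_apply, MonoidHom.mul_apply, hl, hl'],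
          ⟨_, isIrrCharacter_linear (l * l')⟩, ?_, fun v => rfl⟩
        exact linear_mul_mem hpM hθe hθ hθ' fun v => by
          show ((l v * l' v : ℂˣ) : ℂ) = _
          rw [hθe', Units.val_mul]
      inv_mem' := by
        rintro l ⟨hl, θ, hθ, hθe⟩
        refine ⟨fun g v => by rw [MonoidHom.inv_apply, MonoidHom.inv_apply, hl],
          ⟨_, isIrrCharacter_linear l⁻¹⟩, ?_, fun v => rfl⟩
        rw [principalBlock_eq, mem_blockOf] at hθ ⊢
        intro y
        have hy : ((l⁻¹ y : ℂˣ) : ℂ) ∈ loc M := isIntegral_mem_loc (IsIntegral.of_pow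
          (Nat.card_pos (α := K)) (by
            rw [← Units.val_pow_eq_pow_val, ← map_pow, pow_card_eq_one', map_one, Units.val_one]
            exact isIntegral_one))
        have h2 := MemLocalIdeal.neg' (MemLocalIdeal.mul_left' hy (hθ y))
        convert h2 using 1
        simp only [centralChar, hθe, principal_apply, map_one, Units.val_one, div_one, mul_one,
          MonoidHom.inv_apply, Units.val_inv_eq_inv_val, inv_one]
        field_simp [(l y).ne_zero]
        ring }
  haveI : Finite S := by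
    have hinj : Function.Injective fun l : S => (⟨_, isIrrCharacter_linear (l : K →* ℂˣ)⟩ :
        IrrCharacter K) := fun l l' hll => Subtype.ext (MonoidHom.ext fun v =>
      Units.ext (congrFun (congrArg Subtype.val hll) v))
    exact Finite.of_injective _ hinj
  have hS : ¬ p ∣ Nat.card S := by
    intro hd
    obtain ⟨l, hl⟩ := exists_prime_orderOf_dvd_card' p hd
    apply hnp
    rw [← hl, ← Subgroup.orderOf_coe]
    exact orderOf_dvd_of_pow_eq_one (hlin _)
  -- counting
  obtain ⟨P⟩ : Nonempty (Sylow p G) := inferInstance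
  set B := principalBlock M K with hB
  have hBinv : ∀ (g : G) θ, θ ∈ B → conjIrr K g θ ∈ B := fun g θ hθ => by
    rw [hB, principalBlock_eq] at hθ ⊢
    have h1 := sameBlock_conjIrr K g (mem_blockOf.1 hθ)
    rw [PrincExt.conjIrr_principal_mem] at h1
    exact mem_blockOf.2 h1
  have hdegc : ∀ (g : G) (θ : IrrCharacter K),
      charDegree (conjIrr K g θ : K → ℂ) = charDegree (θ : K → ℂ) := by
    intro g θ
    have : (conjIrr K g θ : K → ℂ) 1 = (θ : K → ℂ) 1 := by
      rw [coe_conjIrr]
      exact congrArg _ (map_one (CharsMore.conjBy K g))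
    rw [irr_apply_one, irr_apply_one] at this
    exact_mod_cast this
  let X := Σ θ : B, Fin (charDegree ((θ : IrrCharacter K) : K → ℂ) ^ 2)
  let sm : P → X → X := fun u x => ⟨⟨conjIrr K (u : G)⁻¹ x.1, hBinv _ _ x.1.2⟩,
    Fin.cast (by rw [hdegc]) x.2⟩
  have hext : ∀ x y : X, x.1 = y.1 → (x.2 : ℕ) = y.2 → x = y := by
    rintro ⟨a, i⟩ ⟨b, j⟩ (rfl : a = b) hij
    exact congrArg _ (Fin.ext hij)
  letI act : MulAction P X :=
    { smul := sm
      one_smul := fun x => hext _ _ (Subtype.ext (by
        show conjIrr K ((1 : P) : G)⁻¹ (x.1 : IrrCharacter K) = x.1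
        rw [OneMemClass.coe_one, inv_one, conjIrr_one])) rfl
      mul_smul := fun u w x => hext _ _ (Subtype.ext (by
        show conjIrr K ((u * w : P) : G)⁻¹ (x.1 : IrrCharacter K) =
          conjIrr K (u : G)⁻¹ (conjIrr K (w : G)⁻¹ x.1)
        rw [Subgroup.coe_mul, mul_inv_rev, conjIrr_mul])) rfl }
  haveI := Fintype.ofFinite B
  have hmod := P.2.card_modEq_card_fixedPoints X
  have hX : Nat.card X = ∑ θ ∈ B.toFinite.toFinset, charDegree (θ : K → ℂ) ^ 2 := by
    rw [Nat.card_sigma]
    simp only [Nat.card_eq_fintype_card, Fintype.card_fin]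
    rw [Finset.sum_subtype B.toFinite.toFinset (p := fun x => x ∈ B) (fun x => Set.Finite.mem_toFinset _)]
  have h0 : Nat.card X ≡ 0 [MOD p] :=
    Nat.modEq_zero_iff_dvd.2 (hX ▸ dvd_sum_degree_sq hpM hdvd (isPBlock_principalBlock M))
  -- fixed points
  have hfixiff : ∀ x : X, x ∈ MulAction.fixedPoints P X ↔ ∀ g, conjIrr K g (x.1 : IrrCharacter K) =
      (x.1 : IrrCharacter K) := by
    intro x
    constructor
    · intro hx g
      have hle : (⊤ : Subgroup G) ≤ CharsMore.inertia K ((x.1 : IrrCharacter K) : K → ℂ) := by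
        have hKP : K ⊔ (P : Subgroup G) = ⊤ := by
          rw [← Subgroup.index_eq_one]
          obtain ⟨i, -, hi⟩ := (Nat.dvd_prime_pow hp).1
            (hk ▸ Subgroup.index_dvd_of_le (le_sup_left : K ≤ K ⊔ (P : Subgroup G)))
          cases i with
          | zero => simpa using hi
          | succ i => exact absurd (((dvd_pow_self p i.succ_ne_zero).trans (dvd_of_eq hi.symm)).trans
              (Subgroup.index_dvd_of_le le_sup_right)) P.not_dvd_index
        rw [← hKP]
        refine sup_le (CharsMore.le_inertia K (isClassFunction_irr _)) fun u hu => ?_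
        have h1 := congrArg (fun y : X => ((y.1 : IrrCharacter K) : K → ℂ)) (hx (⟨u, hu⟩⁻¹ : P))
        show CharsMore.conjFn K u _ = _
        calc CharsMore.conjFn K u ((x.1 : IrrCharacter K) : K → ℂ)
            = CharsMore.conjFn K ((⟨u, hu⟩⁻¹ : P) : G)⁻¹ ((x.1 : IrrCharacter K) : K → ℂ) := by
              simp
          _ = _ := h1
      exact Subtype.ext (hle (Subgroup.mem_top g))
    · intro hx u
      exact hext _ _ (Subtype.ext (hx _)) rfl
  let Y := {x : X // x ∈ MulAction.fixedPoints P X ∧ ¬ p ∣ charDegree ((x.1 : IrrCharacter K) : K → ℂ)}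
  have hYS : Nat.card Y = Nat.card S := by
    have hl : ∀ y : Y, ∃ l : S, ∀ v, ((y.1.1 : IrrCharacter K) : K → ℂ) v = ((l : K →* ℂˣ) v : ℂ) := by
      intro y
      have hinv := (hfixiff y.1).1 y.2.1
      have h1 := hdeg1 _ y.1.1.2 hinv y.2.2
      have h2 : ((y.1.1 : IrrCharacter K) : K → ℂ) 1 = 1 := by rw [irr_apply_one, h1, Nat.cast_one]
      obtain ⟨l, hl⟩ := exists_hom_of_degree_one (isCharacter_of_irr (y.1.1 : IrrCharacter K).2) h2
      refine ⟨⟨l, ⟨fun g v => Units.ext ?_, _, y.1.1.2, fun v => congrFun hl v⟩⟩, fun v => congrFun hl v⟩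
      rw [← congrFun hl, ← congrFun hl]
      exact congrFun (congrArg Subtype.val (hinv g)) v
    choose F hF using hl
    refine Nat.card_eq_of_bijective F ⟨fun y y' hyy => ?_, fun l => ?_⟩
    · have e : y.1.1 = y'.1.1 := Subtype.ext (Subtype.ext (funext fun v => by
        rw [hF y v, hF y' v, hyy]))
      refine Subtype.ext (hext _ _ e ?_)
      have hone : ∀ z : Y, (z.1.2 : ℕ) = 0 := fun z => by
        have := z.1.2.isLt
        simp only [hdeg1 _ z.1.1.2 ((hfixiff z.1).1 z.2.1) z.2.2, one_pow] at this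
        omega
      rw [hone y, hone y']
    · obtain ⟨hl, θ, hθ, hθe⟩ := l.2
      have hθ1 : charDegree (θ : K → ℂ) = 1 := by
        have h1 := hθe 1
        rw [map_one, Units.val_one, irr_apply_one] at h1
        exact_mod_cast h1
      let x : X := ⟨⟨θ, hθ⟩, ⟨0, by simp [hθ1]⟩⟩
      have hxfix : x ∈ MulAction.fixedPoints P X := (hfixiff x).2 fun g => Subtype.ext (funext fun v => by
        rw [coe_conjIrr]
        show (θ : K → ℂ) (CharsMore.conjBy K g v) = (θ : K → ℂ) v
        rw [hθe, hθe, hl])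
      refine ⟨⟨x, hxfix, by show ¬ p ∣ charDegree (θ : K → ℂ); rw [hθ1]; exact hp.not_dvd_one⟩,
        Subtype.ext (MonoidHom.ext fun v => Units.ext ?_)⟩
      rw [← hF, ← hθe]
  apply hS
  rw [← hYS, ← Nat.modEq_zero_iff_dvd]
  refine Nat.ModEq.trans ?_ ((hmod.symm).trans h0)
  -- discard the degrees divisible by `p`
  let Z := {x : X // x ∈ MulAction.fixedPoints P X ∧ p ∣ charDegree ((x.1 : IrrCharacter K) : K → ℂ)}
  have hsplit : Nat.card (MulAction.fixedPoints P X) = Nat.card Y + Nat.card Z := by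
    rw [← Nat.card_sum]
    refine Nat.card_congr ?_
    exact {
      toFun := fun x => if hd : p ∣ charDegree ((x.1.1 : IrrCharacter K) : K → ℂ)
        then Sum.inr ⟨x.1, x.2, hd⟩ else Sum.inl ⟨x.1, x.2, hd⟩
      invFun := Sum.elim (fun y => ⟨y.1, y.2.1⟩) (fun z => ⟨z.1, z.2.1⟩)
      left_inv := fun x => by dsimp only; split_ifs <;> rfl
      right_inv := fun s => by
        rcases s with y | z
        · simp [y.2.2]
        · simp [z.2.2] }
  have hZ : p ∣ Nat.card Z := by
    let B' := {θ : B // (∀ g, conjIrr K g (θ : IrrCharacter K) = (θ : IrrCharacter K)) ∧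
      p ∣ charDegree ((θ : IrrCharacter K) : K → ℂ)}
    let e : Z ≃ Σ θ : B', Fin (charDegree ((θ.1 : IrrCharacter K) : K → ℂ) ^ 2) :=
      { toFun := fun z => ⟨⟨z.1.1, (hfixiff z.1).1 z.2.1, z.2.2⟩, z.1.2⟩
        invFun := fun w => ⟨⟨w.1.1, w.2⟩, (hfixiff ⟨w.1.1, w.2⟩).2 w.1.2.1, w.1.2.2⟩
        left_inv := fun _ => rfl
        right_inv := fun _ => rfl }
    haveI := Fintype.ofFinite B'
    rw [Nat.card_congr e, Nat.card_sigma]
    refine Finset.dvd_sum fun θ _ => ?_
    rw [Nat.card_eq_fintype_card, Fintype.card_fin]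
    exact θ.2.2.trans (dvd_pow_self _ two_ne_zero)
  rw [hsplit]
  obtain ⟨c, hc⟩ := hZ
  rw [hc]
  exact (Nat.ModEq.symm (by simp [Nat.ModEq]))

end EqualDeg

end CfsgLib.Blocks
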