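import Cfsg.Agent.Lib.Blocks.MaximalPairs
import Cfsg.Agent.Lib.Blocks.SecondMain

/-!
# Blocks of stabilizers of Brauer pairs and their defect groups
-/

set_option linter.unusedSectionVars false
set_option linter.style.haveILetI false

namespace CfsgLib.Blocks

open Cfsg Chars

variable {G : Type*} [Group G] [Fintype G] {M : Ideal AlgInt} [M.IsPrime] {p : ℕ} [Fact p.Prime]

/-! ## The idempotent of a block over a pair, exactly -/

theorem subgroupBlockCoeff_eq_extFun (H : Subgroup G) (e : Set (IrrCharacter H)) :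
    subgroupBlockCoeff H e = extFun H (blockCoeff e) := by
  funext g
  by_cases hg : g ∈ H
  · rw [show g = ((⟨g, hg⟩ : H) : G) from rfl, subgroupBlockCoeff_coe, extFun_coe]
  · rw [subgroupBlockCoeff_of_notMem e hg, extFun_of_notMem _ hg]

section LocalFormula

variable {P H : Subgroup G}

/-- The `H`-conjugate of a block of `C(P)`. -/
def conjLocal (hHN : H ≤ Subgroup.normalizer (P : Set G)) (x : H)
    (e : Set (IrrCharacter (Subgroup.centralizer (P : Set G)))) :
    Set (IrrCharacter (Subgroup.centralizer (P : Set G))) :=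
  conjImage (x : G) (conj_mem_iff_of_mem_normalizer (mem_normalizer_centralizer (hHN x.2))) e

theorem subgroupBlockCoeff_conjLocal (hHN : H ≤ Subgroup.normalizer (P : Set G)) (x : H)
    (e : Set (IrrCharacter (Subgroup.centralizer (P : Set G)))) (g : G) :
    subgroupBlockCoeff (Subgroup.centralizer (P : Set G)) (conjLocal hHN x e) g =
      subgroupBlockCoeff (Subgroup.centralizer (P : Set G)) e ((x : G)⁻¹ * g * x) := by
  conv_lhs => rw [show g = (x : G) * ((x : G)⁻¹ * g * x) * (x : G)⁻¹ by group]
  rw [conjLocal, subgroupBlockCoeff_conjImage]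

theorem pairIdem_mul_local_conj (hpM : (p : AlgInt) ∈ M) (hP : IsPGroup p P) (hPH : P ≤ H)
    (hCH : Subgroup.centralizer (P : Set G) ≤ H) (hHN : H ≤ Subgroup.normalizer (P : Set G))
    {e : Set (IrrCharacter (Subgroup.centralizer (P : Set G)))} (he : IsPBlock M e)
    {b : Set (IrrCharacter H)} (hb : IsPBlock M b)
    (h : pairIdem he * pairIdem hb = pairIdem he) (x : H)
    (hx : IsPBlock M (conjLocal hHN x e)) :
    pairIdem hx * pairIdem hb = pairIdem hx := by
  haveI := Fintype.ofFinite (Subgroup.centralizer (P : Set G))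
  have d := fun {e' : Set (IrrCharacter (Subgroup.centralizer (P : Set G)))}
      (he' : IsPBlock M e') => brauerOmega_dichotomy hpM hP (subgroupBlockCoeff_mem_loc hb)
    (fun u hu g => subgroupBlockCoeff_conj_of_mem b (hPH hu) g)
    (fun u hu g => subgroupBlockCoeff_conj_of_mem b (hCH hu) g) (pairIdem_mul_self hb) he'
  have h1 := (d he).1.2 (by rw [← pairIdem, cut_pairIdem_local hpM hP hPH hHN]; exact h)
  have h2 := (d hx).1.1 fun ξ' hξ' => by
    obtain ⟨ξ, hξ, rfl⟩ := hξ'
    rw [brauerOmega_eq, omega_pullIrr]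
    have h3 := h1 ξ hξ
    rw [brauerOmega_eq] at h3
    rwa [show (fun c : Subgroup.centralizer (P : Set G) =>
        resFun (Subgroup.centralizer (P : Set G)) (subgroupBlockCoeff H b)
          ((conjIso (x : G) (conj_mem_iff_of_mem_normalizer
            (mem_normalizer_centralizer (hHN x.2)))).symm.symm c)) =
      resFun (Subgroup.centralizer (P : Set G)) (subgroupBlockCoeff H b) from
        funext fun c => subgroupBlockCoeff_conj_of_mem b x.2 c]
  rwa [← pairIdem, cut_pairIdem_local hpM hP hPH hHN] at h2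

open scoped Classical in
/-- The idempotent of the block of `H` over `e` is the sum of the `H`-orbit of that of `e`. -/
theorem blockCoeff_local [Fintype H] (hpM : (p : AlgInt) ∈ M) (hP : IsPGroup p P) (hPH : P ≤ H)
    (hCH : Subgroup.centralizer (P : Set G) ≤ H) (hHN : H ≤ Subgroup.normalizer (P : Set G))
    {e : Set (IrrCharacter (Subgroup.centralizer (P : Set G)))} (he : IsPBlock M e)
    {b : Set (IrrCharacter H)} (hb : IsPBlock M b)
    (h : pairIdem he * pairIdem hb = pairIdem he) (g : G) :
    subgroupBlockCoeff H b g =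
      ∑ f ∈ Finset.univ.image (fun x : H => conjLocal hHN x e),
        subgroupBlockCoeff (Subgroup.centralizer (P : Set G)) f g := by
  haveI := Fintype.ofFinite (Subgroup.centralizer (P : Set G))
  haveI := irrFintype (Subgroup.centralizer (P : Set G))
  haveI := irrFintype H
  let F : H → Set (IrrCharacter (Subgroup.centralizer (P : Set G))) := fun x => conjLocal hHN x e
  set O := Finset.univ.image F with hO
  have hOb : ∀ f ∈ O, IsPBlock M f := fun f hf => by
    obtain ⟨x, -, rfl⟩ := Finset.mem_image.1 hf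
    exact isPBlock_conjImage _ _ he
  let β : G → ℂ := fun g => ∑ f ∈ O, subgroupBlockCoeff (Subgroup.centralizer (P : Set G)) f g
  -- `β` is the extension of the idempotent of a set of characters
  let A : Set (IrrCharacter (Subgroup.centralizer (P : Set G))) :=
    {ξ | blockOf M (ξ : _ → ℂ) ∈ O}
  have hA : (fun c : Subgroup.centralizer (P : Set G) => ∑ f ∈ O, blockCoeff f c) = blockCoeff A := by
    rw [show (fun c : Subgroup.centralizer (P : Set G) => ∑ f ∈ O, blockCoeff f c) =
      ∑ f ∈ O, blockCoeff f from funext fun c => (Finset.sum_apply c O _).symm]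
    refine eq_blockCoeff (isClassFunction_sum _ fun f _ => isClassFunction_blockCoeff f) fun ξ => ?_
    rw [omega_sum]
    simp only [omega_blockCoeff]
    by_cases hξ : ξ ∈ A
    · rw [if_pos hξ, Finset.sum_eq_single (blockOf M (ξ : _ → ℂ))]
      · rw [if_pos (mem_blockOf_self ξ)]
      · intro f hf hne
        rw [if_neg]
        exact fun hm => hne (IsPBlock.eq_blockOf (hOb f hf) hm)
      · exact fun h' => absurd hξ h'
    · rw [if_neg hξ, Finset.sum_eq_zero]
      intro f hf
      rw [if_neg]
      exact fun hm => hξ (IsPBlock.eq_blockOf (hOb f hf) hm ▸ hf :)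
  have hβext : β = extFun (Subgroup.centralizer (P : Set G)) (blockCoeff A) := by
    funext g
    simp only [β, subgroupBlockCoeff_eq_extFun]
    by_cases hg : g ∈ Subgroup.centralizer (P : Set G)
    · obtain ⟨c, rfl⟩ : ∃ c : Subgroup.centralizer (P : Set G), (c : G) = g := ⟨⟨g, hg⟩, rfl⟩
      simp only [extFun_coe]
      exact congrFun hA c
    · simp only [extFun_of_notMem _ hg, Finset.sum_const_zero]
  have hββ : conv β β = β := by rw [hβext, conv_extFun, conv_blockCoeff_self]
  have hβH : β = extFun H (resFun H β) := by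
    funext g
    by_cases hg : g ∈ H
    · rw [show g = ((⟨g, hg⟩ : H) : G) from rfl, extFun_coe]; rfl
    · rw [extFun_of_notMem _ hg, hβext, extFun_of_notMem _ fun h' => hg (hCH h')]
  have haa : conv (resFun H β) (resFun H β) = resFun H β := by
    funext u
    have h1 := congrFun hββ (u : G)
    rw [hβH, conv_extFun, extFun_coe, extFun_coe] at h1
    exact h1
  have hinv : ∀ u ∈ H, ∀ g, β (u * g * u⁻¹) = β g := by
    intro u hu g
    let σ : Set (IrrCharacter (Subgroup.centralizer (P : Set G))) →
        Set (IrrCharacter (Subgroup.centralizer (P : Set G))) := conjLocal hHN ⟨u, hu⟩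
    have hσ : ∀ x, σ (F x) = F (⟨u, hu⟩ * x) := fun x =>
      eq_of_subgroupBlockCoeff_eq (funext fun g => by
        simp only [σ, F, subgroupBlockCoeff_conjLocal]
        congr 1
        simp [mul_assoc])
    have hσO : O.image σ = O := by
      rw [hO, Finset.image_image]
      ext f
      simp only [Finset.mem_image, Finset.mem_univ, true_and, Function.comp_apply, hσ]
      exact ⟨fun ⟨x, hx⟩ => ⟨_, hx⟩, fun ⟨x, hx⟩ => ⟨⟨u, hu⟩⁻¹ * x, by
        rwa [mul_inv_cancel_left]⟩⟩
    show ∑ f ∈ O, _ = ∑ f ∈ O, _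
    conv_lhs => rw [← hσO]
    rw [Finset.sum_image]
    · refine Finset.sum_congr rfl fun f _ => ?_
      simp only [σ, subgroupBlockCoeff_conjLocal]
      congr 1
      simp [mul_assoc]
    · intro f _ f' _ hff
      refine eq_of_subgroupBlockCoeff_eq (funext fun g => ?_)
      have h1 := congrArg (fun s => subgroupBlockCoeff _ s (u * g * u⁻¹)) hff
      simp only [σ, subgroupBlockCoeff_conjLocal] at h1
      simpa [mul_assoc] using h1
  have hloc : ∀ g, β g ∈ loc M := fun g =>
    sum_mem fun f hf => subgroupBlockCoeff_mem_loc (hOb f hf) g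
  have ha : IsLocClassFun M (resFun H β) :=
    ⟨isClassFunction_resFun_of_inv hinv, fun u => hloc u⟩
  -- the group ring image
  let E : Set (IrrCharacter (Subgroup.centralizer (P : Set G))) → MonoidAlgebra (ResField M) G :=
    fun f => if hf : IsPBlock M f then pairIdem hf else 0
  have hred : redFun β hloc = ∑ f ∈ O, E f := by
    apply MonoidAlgebra.ext
    ext g
    let z : Set (IrrCharacter (Subgroup.centralizer (P : Set G))) → loc M := fun f =>
      if hf : IsPBlock M f then ⟨subgroupBlockCoeff (Subgroup.centralizer (P : Set G)) f g,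
        subgroupBlockCoeff_mem_loc hf g⟩ else 0
    have e1 : ∀ f ∈ O, (E f).coeff g = red (z f) := fun f hf => by
      simp only [E, z, dif_pos (hOb f hf), pairIdem, coeff_redFun]
    rw [MonoidAlgebra.coeff_sum, Finsupp.finsetSum_apply, Finset.sum_congr rfl e1, ← map_sum,
      coeff_redFun]
    refine congrArg red (Subtype.ext ?_)
    rw [AddSubmonoidClass.coe_finsetSum]
    exact Finset.sum_congr rfl fun f hf => by simp [z, dif_pos (hOb f hf)]
  have hincl : incl M H (redFun (resFun H β) ha.2) = redFun β hloc := by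
    rw [← cut_redFun_eq_incl hloc, cut_eq_self_iff]
    intro g hg
    rw [coeff_redFun_eq_zero_iff, hβext, extFun_of_notMem _ fun h' => hg (hCH h')]
    exact MemLocalIdeal.zero'
  have hidem : redFun (resFun H β) ha.2 * redFun (resFun H β) ha.2 =
      redFun (resFun H β) ha.2 := by
    rw [redFun, ← map_mul, toAlg_mul_self ha.2 haa]
  have h01 : ∀ χ : IrrCharacter H, omega (χ : H → ℂ) (resFun H β) = 0 ∨
      omega (χ : H → ℂ) (resFun H β) = 1 := fun χ => by
    have h1 : omega (χ : H → ℂ) (resFun H β) *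
        (omega (χ : H → ℂ) (resFun H β) - 1) = 0 := by
      have := omega_conv χ ha.1 (resFun H β)
      rw [haa] at this
      rw [mul_sub, mul_one, ← this, sub_self]
    rcases mul_eq_zero.1 h1 with h2 | h2
    · exact Or.inl h2
    · exact Or.inr (sub_eq_zero.1 h2)
  have key : ∀ χ : IrrCharacter H, omega (χ : H → ℂ) (resFun H β) = 1 ↔ χ ∈ b := by
    have hself : pairIdem he * redFun β hloc = pairIdem he := by
      have h1 : F 1 = e := eq_of_subgroupBlockCoeff_eq (funext fun g => by
        simp [F, subgroupBlockCoeff_conjLocal])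
      have h2 : e ∈ O := Finset.mem_image.2 ⟨1, Finset.mem_univ _, h1⟩
      rw [hred, Finset.mul_sum, Finset.sum_eq_single e]
      · simp only [E, dif_pos he, pairIdem_mul_self]
      · intro f hf hne
        simp only [E, dif_pos (hOb f hf)]
        rw [pairIdem_mul_of_ne _ _ hne.symm]
      · exact fun h'' => absurd h2 h''
    have hbS : ∀ χ ∈ b, omega (χ : H → ℂ) (resFun H β) = 1 := by
      intro χ hχ
      rcases h01 χ with h1 | h1
      · exfalso
        rcases blockIdem_mul_dichotomy hb ha hidem hχ with ⟨h2, -⟩ | ⟨-, h2⟩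
        · rw [h1, zero_sub] at h2
          exact not_memLocalIdeal_one (by simpa using MemLocalIdeal.neg' h2)
        · apply pairIdem_ne_zero he
          rw [← h, ← hself, mul_assoc, ← hincl, pairIdem_eq_incl hb, ← map_mul,
            ← (commute_blockIdem hb _).eq, h2, map_zero, mul_zero]
      · exact h1
    intro χ
    refine ⟨fun h1 => ?_, hbS χ⟩
    by_contra hχ
    set b' := blockOf M (χ : H → ℂ) with hb'def
    have hb' : IsPBlock M b' := isPBlock_blockOf χ
    have hne : b ≠ b' := fun e' => hχ (e' ▸ mem_blockOf_self χ)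
    rcases blockIdem_mul_dichotomy hb' ha hidem (mem_blockOf_self χ) with ⟨-, h2⟩ | ⟨h2, -⟩
    · apply pairIdem_ne_zero hb'
      have h3 : pairIdem hb' = redFun β hloc * pairIdem hb' := by
        rw [← hincl, pairIdem_eq_incl hb', ← map_mul, ← (commute_blockIdem hb' _).eq, h2]
      rw [h3, hred, Finset.sum_mul]
      refine Finset.sum_eq_zero fun f hf => ?_
      simp only [E, dif_pos (hOb f hf)]
      have hf' := hf
      obtain ⟨x, -, rfl⟩ := Finset.mem_image.1 hf'
      rw [← pairIdem_mul_local_conj hpM hP hPH hCH hHN he hb h x (hOb _ hf), mul_assoc,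
        pairIdem_mul_of_ne hb hb' hne, mul_zero]
    · rw [h1] at h2
      exact not_memLocalIdeal_one h2
  have hfin : resFun H β = blockCoeff b := eq_blockCoeff ha.1 fun χ => by
    by_cases hχ : χ ∈ b
    · rw [if_pos hχ]; exact (key χ).2 hχ
    · rw [if_neg hχ]; exact (h01 χ).resolve_right fun h' => hχ ((key χ).1 h')
  show subgroupBlockCoeff H b g = β g
  rw [subgroupBlockCoeff_eq_extFun, hβH, hfin]

/-- A block whose idempotent is that of an invariant block of `C(P)`. -/
theorem exists_block_eq_of_stable (hpM : (p : AlgInt) ∈ M) (hP : IsPGroup p P) (hPH : P ≤ H)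
    (hCH : Subgroup.centralizer (P : Set G) ≤ H) (hHN : H ≤ Subgroup.normalizer (P : Set G))
    {e : Set (IrrCharacter (Subgroup.centralizer (P : Set G)))} (he : IsPBlock M e)
    (hst : ∀ x ∈ H, StabilizesBlock (Subgroup.centralizer (P : Set G)) e x) :
    ∃ b : Set (IrrCharacter H), IsPBlock M b ∧
      subgroupBlockCoeff H b = subgroupBlockCoeff (Subgroup.centralizer (P : Set G)) e := by
  classical
  haveI := Fintype.ofFinite H
  obtain ⟨b, hb, h⟩ := exists_local_block hpM hP hPH hCH hHN he
  refine ⟨b, hb, funext fun g => ?_⟩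
  rw [blockCoeff_local hpM hP hPH hCH hHN he hb h g]
  have e1 : Finset.univ.image (fun x : H => conjLocal hHN x e) = {e} := by
    ext f
    simp only [Finset.mem_image, Finset.mem_univ, true_and, Finset.mem_singleton]
    constructor
    · rintro ⟨x, rfl⟩
      exact (stabilizesBlock_iff_conjImage he (mem_normalizer_centralizer (hHN x.2))).1 (hst x x.2)
    · rintro rfl
      exact ⟨1, (stabilizesBlock_iff_conjImage he (mem_normalizer_centralizer (hHN (1 : H).2))).1 (hst _ (1 : H).2)⟩
  rw [e1, Finset.sum_singleton]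

end LocalFormula

/-! ## Stabilizers and defect groups -/

/-- The stabilizer of a pair. -/
def stabPair (a : BrauerPairIdx G) : Subgroup G where
  carrier := {x | conjPair x a = a}
  one_mem' := conjPair_one a
  mul_mem' := fun {x y} (hx : conjPair x a = a) (hy : conjPair y a = a) => by
    show conjPair (x * y) a = a
    rw [← conjPair_mul, hy, hx]
  inv_mem' := fun {x} (hx : conjPair x a = a) => by
    show conjPair x⁻¹ a = a
    conv_lhs => rw [← hx]
    rw [conjPair_mul, inv_mul_cancel, conjPair_one]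

theorem stabPair_le_normalizer (a : BrauerPairIdx G) :
    stabPair a ≤ Subgroup.normalizer (a.1 : Set G) := by
  have key : ∀ x ∈ stabPair a, ∀ g ∈ a.1, x * g * x⁻¹ ∈ a.1 := fun x hx g hg => by
    have h1 : a.1.map (MulAut.conj x).toMonoidHom = a.1 :=
      congrArg Sigma.fst (show conjPair x a = a from hx)
    exact h1 ▸ ⟨g, hg, rfl⟩
  intro x hx
  rw [Subgroup.mem_normalizer_iff]
  refine fun g => ⟨key x hx g, fun hg => ?_⟩
  simpa [mul_assoc] using key x⁻¹ (inv_mem hx) _ hg

theorem mem_stabPair_iff {Q : Subgroup G}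
    {f : Set (IrrCharacter (Subgroup.centralizer (Q : Set G)))} (hf : IsPBlock M f) {x : G} :
    x ∈ stabPair ⟨Q, f⟩ ↔ x ∈ Subgroup.normalizer (Q : Set G) ∧
      StabilizesBlock (Subgroup.centralizer (Q : Set G)) f x :=
  ⟨fun h => ⟨stabPair_le_normalizer _ h,
      (conjPair_eq_self_iff hf (stabPair_le_normalizer _ h)).1 h⟩,
    fun h => (conjPair_eq_self_iff hf h.1).2 h.2⟩

theorem conj_mem_stabPair_iff (a : BrauerPairIdx G) (x g : G) :
    x * g * x⁻¹ ∈ stabPair (conjPair x a) ↔ g ∈ stabPair a := by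
  show conjPair (x * g * x⁻¹) (conjPair x a) = conjPair x a ↔ conjPair g a = a
  rw [conjPair_mul, inv_mul_cancel_right, ← conjPair_mul]
  refine ⟨fun h => ?_, fun h => by rw [h]⟩
  have h1 := congrArg (conjPair x⁻¹) h
  rwa [conjPair_mul x, conjPair_mul x, inv_mul_cancel, conjPair_one, conjPair_one] at h1

theorem centralizer_le_stabPair {Q : Subgroup G}
    {f : Set (IrrCharacter (Subgroup.centralizer (Q : Set G)))} (hf : IsPBlock M f) :
    Subgroup.centralizer (Q : Set G) ≤ stabPair ⟨Q, f⟩ := by
  intro c hc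
  have hN : c ∈ Subgroup.normalizer (Q : Set G) := by
    rw [Subgroup.mem_normalizer_iff]
    intro g
    constructor
    · intro hg
      rwa [← Subgroup.mem_centralizer_iff.1 hc g hg, mul_inv_cancel_right]
    · intro hg
      have h2 := Subgroup.mem_centralizer_iff.1 (inv_mem hc) _ hg
      have h3 : g = c * g * c⁻¹ := by
        calc g = c⁻¹ * (c * g * c⁻¹) * c := by group
          _ = _ := by rw [← h2]; group
      rwa [h3]
  refine (conjPair_eq_self_iff hf hN).2
    ((stabilizesBlock_iff hf).2 ⟨Subgroup.le_normalizer hc, fun g => ?_⟩)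
  exact subgroupBlockCoeff_conj_of_mem f hc g

theorem subgroup_le_stabPair (hpM : (p : AlgInt) ∈ M) {Q : Subgroup G}
    {f : Set (IrrCharacter (Subgroup.centralizer (Q : Set G)))} (hQf : IsBrauerPair p M Q f) :
    Q ≤ stabPair ⟨Q, f⟩ := fun x hx =>
  (mem_stabPair_iff hQf.2).2 ⟨Subgroup.le_normalizer hx,
    (isNormalSubpair_refl hpM hQf).2.2.2.2.1 x hx⟩

theorem exists_coeff_of_normal (hpM : (p : AlgInt) ∈ M) {Q R : Subgroup G}
    {f : Set (IrrCharacter (Subgroup.centralizer (Q : Set G)))}
    {g : Set (IrrCharacter (Subgroup.centralizer (R : Set G)))}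
    (h : IsNormalSubpair p M Q f R g) :
    ∃ c ∈ Subgroup.centralizer (R : Set G),
      ¬ MemLocalIdeal M (subgroupBlockCoeff (Subgroup.centralizer (Q : Set G)) f c) := by
  by_contra hcon
  apply pairIdem_ne_zero h.2.1.2
  rw [← IsNormalSubpair.mul_cut hpM h]
  convert mul_zero (pairIdem h.2.1.2)
  apply MonoidAlgebra.ext
  ext c
  by_cases hc : c ∈ Subgroup.centralizer (R : Set G)
  · rw [coeff_cut_of_mem _ (show c ∈ (Subgroup.centralizer (R : Set G) : Set G) from hc)]
    rw [(coeff_pairIdem_eq_zero_iff h.1.2 c).2 (not_not.1 fun h' => hcon ⟨c, hc, h'⟩)]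
    simp
  · rw [coeff_cut_of_notMem _ hc]
    simp

theorem blockDefect_conjImage {H H' : Subgroup G} (x : G)
    (h : ∀ g, x * g * x⁻¹ ∈ H' ↔ g ∈ H) (e : Set (IrrCharacter H)) :
    blockDefect p (conjImage x h e) = blockDefect p e := by
  rw [blockDefect, blockDefect, conjImage, Set.image_image,
    Nat.card_congr (conjIso x h).toEquiv]
  simp only [charDegree, pullIrr_apply, map_one]

section Defect

variable {b : BrauerPairIdx G} {Q : Subgroup G}
  {f : Set (IrrCharacter (Subgroup.centralizer (Q : Set G)))} {H : Subgroup G}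
  {F : Set (IrrCharacter H)}

/-- Defect groups of the block of a stabilizer contain the part of any pair above. -/
theorem exists_defect_ge (hpM : (p : AlgInt) ∈ M) (hb : IsBrauerPair p M b.1 b.2)
    (hle : Relation.ReflTransGen (NormalSubpairRel p M) ⟨Q, f⟩ b)
    (hCH : Subgroup.centralizer (Q : Set G) ≤ H) (hH : H ≤ stabPair ⟨Q, f⟩) (hF : IsPBlock M F)
    (hFf : subgroupBlockCoeff H F = subgroupBlockCoeff (Subgroup.centralizer (Q : Set G)) f)
    {S : Subgroup G} (hSb : S ≤ b.1) (hSH : S ≤ H) :
    ∃ D : Subgroup H, IsDefectGroup p M F D ∧ S.subgroupOf H ≤ D := by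
  haveI := Fintype.ofFinite H
  have hRN : Q ⊔ S ≤ Subgroup.normalizer (Q : Set G) :=
    sup_le Subgroup.le_normalizer (hSH.trans (hH.trans (stabPair_le_normalizer _)))
  obtain ⟨g, hg⟩ := exists_below hpM hb (Q ⊔ S) (sup_le (below_le hle) hSb)
  have hn := isNormalSubpair_of_below hpM hb hle hg le_sup_left hRN
  obtain ⟨c, hc, hne⟩ := exists_coeff_of_normal hpM hn
  have hcH : c ∈ H := hCH (centralizer_antitone le_sup_left hc)
  rw [← hFf, show c = ((⟨c, hcH⟩ : H) : G) from rfl, subgroupBlockCoeff_coe] at hne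
  obtain ⟨D, hD⟩ := exists_isDefectGroup (p := p) hF
  obtain ⟨y, hy⟩ := IsDefectGroup.exists_map_conj_le hpM hF hD
    (isPGroup_subgroupOf (hb.1.to_le hSb) hSH)
    ((mem_centralizer_subgroupOf_iff hSH _).2 (centralizer_antitone le_sup_right hc)) hne
  refine ⟨D.map (MulAut.conj y⁻¹).toMonoidHom, IsDefectGroup.map_conj hD y⁻¹ hF, ?_⟩
  have h1 := Subgroup.map_mono (f := (MulAut.conj y⁻¹).toMonoidHom) hy
  rwa [map_conj_map_conj, inv_mul_cancel, map_conj_one] at h1

/-- Some conjugate of a pair below a maximal pair meets it in a defect group. -/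
theorem exists_conj_defect (hpM : (p : AlgInt) ∈ M) {B : Set (IrrCharacter G)}
    (hmax : IsMaximalBrauerPair p M B b.1 b.2)
    (hle : Relation.ReflTransGen (NormalSubpairRel p M) ⟨Q, f⟩ b)
    (hCH : Subgroup.centralizer (Q : Set G) ≤ H) (hH : H ≤ stabPair ⟨Q, f⟩) (hF : IsPBlock M F)
    (hFf : subgroupBlockCoeff H F = subgroupBlockCoeff (Subgroup.centralizer (Q : Set G)) f) :
    ∃ x : G, Relation.ReflTransGen (NormalSubpairRel p M) (conjPair x ⟨Q, f⟩) b ∧
      ∀ H' : Subgroup G, (∀ g, x * g * x⁻¹ ∈ H' ↔ g ∈ H) → ∀ F' : Set (IrrCharacter H'),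
        IsPBlock M F' → subgroupBlockCoeff H' F' = pairCoeff (conjPair x ⟨Q, f⟩) →
          IsDefectGroup p M F' ((b.1 ⊓ H').subgroupOf H') := by
  haveI := Fintype.ofFinite H
  have hQf := below_isBrauerPair hle hmax.1.1
  obtain ⟨D, hD⟩ := exists_isDefectGroup (p := p) hF
  obtain ⟨g, hg, S, hS⟩ := id hD
  set R := Q ⊔ D.map H.subtype with hR
  have hDH : D.map H.subtype ≤ H := Subgroup.map_subtype_le D
  have hDN := hDH.trans (hH.trans (stabPair_le_normalizer _))
  have hRp : IsPGroup p R := IsPGroup.to_sup_of_normal_left' hQf.1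
    (isPGroup_map_subtype (IsDefectGroup.isPGroup hD)) hDN
  have hgne : ¬ MemLocalIdeal M
      (subgroupBlockCoeff (Subgroup.centralizer (Q : Set G)) f (g : G)) := by
    rw [← hFf, subgroupBlockCoeff_coe]; exact hg.2.1
  have hgC : (g : G) ∈ Subgroup.centralizer (Q : Set G) := by
    by_contra hn
    rw [subgroupBlockCoeff_of_notMem f hn] at hgne
    exact hgne MemLocalIdeal.zero'
  have hgR : (g : G) ∈ Subgroup.centralizer (R : Set G) := by
    have h1 := mem_centralizer_sylow g S
    rw [← hS] at h1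
    have h2 : R ≤ Subgroup.centralizer ({(g : G)} : Set G) := by
      refine sup_le (fun u hu => ?_) ?_
      · rw [Subgroup.mem_centralizer_singleton_iff]
        exact Subgroup.mem_centralizer_iff.1 hgC u hu
      · rintro _ ⟨u, hu, rfl⟩
        rw [Subgroup.mem_centralizer_singleton_iff]
        exact congrArg Subtype.val (Subgroup.mem_centralizer_iff.1 h1 u hu)
    rw [Subgroup.mem_centralizer_iff]
    exact fun u hu => Subgroup.mem_centralizer_singleton_iff.1 (h2 hu)
  have hRst : R ≤ stabPair ⟨Q, f⟩ :=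
    sup_le (subgroup_le_stabPair hpM hQf) (hDH.trans hH)
  have hstab : ∀ u ∈ R, StabilizesBlock (Subgroup.centralizer (Q : Set G)) f u := fun u hu =>
    ((mem_stabPair_iff hQf.2).1 (hRst hu)).2
  obtain ⟨h, hh, hmul⟩ := exists_pair_of_coeff hpM hRp (subgroupBlockCoeff_mem_loc hQf.2)
    (fun u hu x => ((stabilizesBlock_iff hQf.2).1 (hstab u hu)).2 x)
    (fun u hu x => subgroupBlockCoeff_conj_of_mem f (centralizer_antitone le_sup_left hu) x)
    (pairIdem_mul_self hQf.2) hgR hgne
  have hn : IsNormalSubpair p M Q f R h := isNormalSubpair_of_ne_zero hpM ⟨hRp, hh⟩ le_sup_left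
    (hRst.trans (stabPair_le_normalizer _)) hQf.2 hstab
    (fun h0 => pairIdem_ne_zero hh (hmul.symm.trans h0))
  have hpair : IsBrauerPairOf p M B R h :=
    (isBrauerPairOf_of_normal hpM hn B).1 ((isBrauerPairOf_iff_of_below hpM hle B).2 hmax.1)
  obtain ⟨x, hx⟩ := exists_conj_below hpM (a := ⟨R, h⟩) hmax hpair
  have hle' : Relation.ReflTransGen (NormalSubpairRel p M) (conjPair x ⟨Q, f⟩) b :=
    (below_conj (Relation.ReflTransGen.single
      (show NormalSubpairRel p M ⟨Q, f⟩ ⟨R, h⟩ from hn)) x).trans hx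
  refine ⟨x, hle', fun H' hH' F' hF' hFf' => ?_⟩
  haveI := Fintype.ofFinite H'
  have hCH' : Subgroup.centralizer ((conjPair x ⟨Q, f⟩).1 : Set G) ≤ H' := fun c hc => by
    have h1 : x * (x⁻¹ * c * x) * x⁻¹ = c := by group
    rw [← h1]
    exact (hH' _).2 (hCH ((centralizer_conj_iff Q x _).1 (h1.symm ▸ hc)))
  have hH'st : H' ≤ stabPair (conjPair x ⟨Q, f⟩) := fun c hc => by
    have h1 : x * (x⁻¹ * c * x) * x⁻¹ = c := by group
    rw [← h1]
    exact (conj_mem_stabPair_iff _ x _).2 (hH ((hH' _).1 (h1.symm ▸ hc)))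
  have hFeq : F' = conjImage x hH' F := eq_of_subgroupBlockCoeff_eq (funext fun c => by
    rw [hFf', pairCoeff_conjPair]
    conv_rhs => rw [show c = x * (x⁻¹ * c * x) * x⁻¹ by group]
    rw [subgroupBlockCoeff_conjImage, hFf]
    rfl)
  obtain ⟨D₁, hD₁, hle₁⟩ := exists_defect_ge hpM hmax.1.1 hle' hCH' hH'st hF' hFf'
    (S := b.1 ⊓ H') inf_le_left inf_le_right
  have hsub : (D.map H.subtype).map (MulAut.conj x).toMonoidHom ≤ b.1 ⊓ H' := by
    refine le_inf ((Subgroup.map_mono le_sup_right).trans (below_le hx)) ?_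
    rintro _ ⟨u, hu, rfl⟩
    exact (hH' u).2 (hDH hu)
  have hc1 := Subgroup.card_le_of_le hsub
  rw [Base.card_map_conj, Subgroup.card_map_of_injective H.subtype_injective,
    BlockOrth.card_defectGroup hpM hF hD, ← blockDefect_conjImage (p := p) x hH' F, ← hFeq,
    ← Base.card_subgroupOf (inf_le_right : b.1 ⊓ H' ≤ H')] at hc1
  rwa [Subgroup.eq_of_le_of_card_ge hle₁ (by rwa [BlockOrth.card_defectGroup hpM hF' hD₁])]

end Defect

end CfsgLib.Blocks
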