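import Cfsg.Agent.Lib.Blocks.PSolvableFong
import Cfsg.Agent.Lib.Blocks.PairInduced
import Cfsg.Agent.Lib.Blocks.LocalDefect
import Cfsg.Agent.Lib.Blocks.PIndexPairs

/-!
# The pairs of Fong's block at a `p`-subgroup
-/

set_option linter.unusedSectionVars false
set_option linter.style.haveILetI false

namespace CfsgLib.Blocks

open Cfsg Chars

variable {G : Type*} [Group G] [Fintype G] {M : Ideal AlgInt} [M.IsPrime] {p : ℕ} [Fact p.Prime]

/-- A block of `V ≤ K`, seen inside `K`. -/
theorem exists_transBlock_inv {K : Subgroup G} {U : Subgroup K} {V : Subgroup G} [Fintype K]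
    (hV : V ≤ K) (hUV : ∀ h : K, h ∈ U ↔ (h : G) ∈ V) {r : Set (IrrCharacter V)}
    (hr : IsPBlock M r) :
    ∃ hr' : IsPBlock M (pullIrr (transIso hV hUV) '' r), pairIdem hr = incl M K (pairIdem hr') := by
  haveI := Fintype.ofFinite U
  haveI := Fintype.ofFinite V
  have hr' : IsPBlock M (pullIrr (transIso hV hUV) '' r) := isPBlock_image_pullIrr _ hr
  refine ⟨hr', ?_⟩
  have key : ∀ u : K, subgroupBlockCoeff U (pullIrr (transIso hV hUV) '' r) u =
      subgroupBlockCoeff V r (u : G) := by
    intro u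
    by_cases hu : u ∈ U
    · rw [show u = ((⟨u, hu⟩ : U) : K) from rfl, subgroupBlockCoeff_coe,
        blockCoeff_image_pullIrr,
        show (((⟨u, hu⟩ : U) : K) : G) = ((⟨(u : G), (hUV u).1 hu⟩ : V) : G) from rfl,
        subgroupBlockCoeff_coe]
      rfl
    · rw [subgroupBlockCoeff_of_notMem _ hu,
        subgroupBlockCoeff_of_notMem _ fun h' => hu ((hUV u).2 h')]
  apply MonoidAlgebra.ext
  ext g
  by_cases hg : g ∈ K
  · obtain ⟨u, rfl⟩ : ∃ u : K, (u : G) = g := ⟨⟨g, hg⟩, rfl⟩
    rw [coeff_incl, pairIdem, pairIdem, coeff_redFun, coeff_redFun]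
    exact congrArg red (Subtype.ext (key u).symm)
  · rw [coeff_incl_of_notMem _ hg, coeff_pairIdem_eq_zero_iff,
      subgroupBlockCoeff_of_notMem _ fun h' => hg (hV h')]
    exact MemLocalIdeal.zero'

/-- `N` a normal `p'`-subgroup with complement the `p`-subgroup `R`: at `R`, the invariant
character `θ` of `N` sees a single character of `C_N(R)`. -/
theorem constituent_at_complement_unique (hpM : (p : AlgInt) ∈ M) (N : Subgroup G) [N.Normal]
    [Fintype N] (hN : ¬ p ∣ Nat.card N) {R : Subgroup G} (hR : IsPGroup p R) (hNR : N ⊔ R = ⊤)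
    (θ : IrrCharacter N) (hinv : ∀ (g : G) (n : N), (θ : N → ℂ) (CharsMore.conjBy N g n) =
      (θ : N → ℂ) n) (hθb : IsPBlock M ({θ} : Set (IrrCharacter N)))
    {φ φ' : IrrCharacter (Subgroup.centralizer (R : Set G) ⊓ N : Subgroup G)}
    (hφ : IsPBlock M ({φ} : Set _)) (hφ' : IsPBlock M ({φ'} : Set _))
    (hne : pairIdem hφ * cut (Subgroup.centralizer (R : Set G) : Set G) (pairIdem hθb) ≠ 0)
    (hne' : pairIdem hφ' * cut (Subgroup.centralizer (R : Set G) : Set G) (pairIdem hθb) ≠ 0) :
    φ = φ' := by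
  classical
  haveI := charP_resField (M := M) (Fact.out (p := p.Prime)) hpM
  have hp : p.Prime := Fact.out
  haveI := Fintype.ofFinite (Subgroup.centralizer (R : Set G))
  haveI := Fintype.ofFinite (Subgroup.centralizer (R : Set G) ⊓ N : Subgroup G)
  have hinf : R ⊓ N = ⊥ := by
    rw [← Subgroup.card_eq_one]
    obtain ⟨i, hi⟩ := IsPGroup.iff_card.1 (hR.to_le (inf_le_left : R ⊓ N ≤ R))
    rcases Nat.eq_zero_or_pos i with rfl | hi0
    · simpa using hi
    · exact absurd ((dvd_pow_self p hi0.ne').trans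
        (hi ▸ Subgroup.card_dvd_of_le inf_le_right)) hN
  have hdec : ∀ x : G, ∃ n ∈ N, ∃ r ∈ R, x = n * r := fun x => by
    have hx : x ∈ ((N ⊔ R : Subgroup G) : Set G) := by rw [hNR]; exact Set.mem_univ x
    rw [Subgroup.normal_mul] at hx
    obtain ⟨n, hn, r, hr, rfl⟩ := hx
    exact ⟨n, hn, r, hr, rfl⟩
  obtain ⟨k, hk⟩ : ∃ k, N.index = p ^ k := by
    obtain ⟨j, hj⟩ := IsPGroup.iff_card.1 hR
    have h1 : N.index ∣ p ^ j := by
      rw [← Subgroup.relIndex_top_right, ← hNR, Subgroup.relIndex_sup_left, ← hj]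
      exact Subgroup.index_dvd_card _
    obtain ⟨k, -, hk⟩ := (Nat.dvd_prime_pow hp).1 h1
    exact ⟨k, hk⟩
  have hst : ∀ x : G, StabilizesBlock N ({θ} : Set _) x := by
    intro x
    rw [stabilizesBlock_iff_conjImage hθb (by rw [Subgroup.normalizer_eq_top]; exact Subgroup.mem_top _)]
    rw [conjImage, Set.image_singleton]
    congr 1
    refine Subtype.ext (funext fun u => ?_)
    rw [pullIrr_apply]
    conv_rhs => rw [← hinv x⁻¹ u]
    refine congrArg (θ : N → ℂ) (Subtype.ext ?_)
    simp [conjIso, CharsMore.coe_conjBy, mul_assoc]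
  obtain ⟨B, hB, hBc⟩ := exists_block_lift N hpM hk hθb hst
  have hid := blockIdem_eq_pairIdem hθb hB hBc
  have hRB : IsDefectGroup p M B R := by
    obtain ⟨D, hD⟩ := exists_isDefectGroup (p := p) hB
    obtain ⟨-, -, hd⟩ := defect_of_lift N hpM hk hθb hst hB hBc hD
    have h0 : blockDefect p ({θ} : Set (IrrCharacter N)) = 0 := by
      have h := BlockOrth.blockMin_add_blockDefect (p := p) (B := ({θ} : Set (IrrCharacter N)))
        (Set.singleton_nonempty θ)
      rw [Nat.factorization_eq_zero_of_not_dvd hN] at h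
      omega
    rw [h0, zero_add] at hd
    have hG : (Nat.card G).factorization p = k := by
      rw [← N.card_mul_index, hk, Nat.factorization_mul Nat.card_pos.ne'
        (pow_ne_zero _ hp.ne_zero), Finsupp.add_apply, Nat.factorization_eq_zero_of_not_dvd hN,
        zero_add, hp.factorization_pow, Finsupp.single_eq_same]
    have hRi : ¬ p ∣ R.index := by
      intro h
      have h1 : R.index ∣ Nat.card N := by
        have h2 : N.index ∣ Nat.card R := by
          rw [← Subgroup.relIndex_top_right, ← hNR, Subgroup.relIndex_sup_left]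
          exact Subgroup.index_dvd_card _
        refine Nat.dvd_of_mul_dvd_mul_left (Nat.card_pos (α := R)) ?_
        rw [R.card_mul_index, ← N.card_mul_index, mul_comm (Nat.card R)]
        exact Nat.mul_dvd_mul_left _ h2
      exact hN (h.trans h1)
    obtain ⟨x, hx⟩ := MulAction.exists_smul_eq G
      (Sylow.ofCard D (by rw [BlockOrth.card_defectGroup hpM hB hD, hd, hG])) (hR.toSylow hRi)
    have h2 := IsDefectGroup.map_conj hD x hB
    have h3 : D.map (MulAut.conj x).toMonoidHom = R := (congrArg Sylow.toSubgroup hx :)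
    rwa [h3] at h2
  -- the lifts to the centralizer
  have hWU : (Subgroup.centralizer (R : Set G)) ⊓ N ≤ (Subgroup.centralizer (R : Set G)) := inf_le_left
  haveI : (((Subgroup.centralizer (R : Set G)) ⊓ N).subgroupOf (Subgroup.centralizer (R : Set G))).Normal := by
    rw [show ((Subgroup.centralizer (R : Set G)) ⊓ N).subgroupOf (Subgroup.centralizer (R : Set G)) = N.subgroupOf (Subgroup.centralizer (R : Set G)) by ext; simp [Subgroup.mem_subgroupOf]]
    infer_instance
  haveI := Fintype.ofFinite (((Subgroup.centralizer (R : Set G)) ⊓ N).subgroupOf (Subgroup.centralizer (R : Set G)))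
  obtain ⟨j, hj⟩ : ∃ j, (((Subgroup.centralizer (R : Set G)) ⊓ N).subgroupOf (Subgroup.centralizer (R : Set G))).index = p ^ j := by
    have h1 : (((Subgroup.centralizer (R : Set G)) ⊓ N).subgroupOf (Subgroup.centralizer (R : Set G))).index ∣ p ^ k := by
      rw [show ((Subgroup.centralizer (R : Set G)) ⊓ N).subgroupOf (Subgroup.centralizer (R : Set G)) = N.subgroupOf (Subgroup.centralizer (R : Set G)) by ext; simp [Subgroup.mem_subgroupOf], ← hk]
      exact Subgroup.relIndex_dvd_index_of_normal N (Subgroup.centralizer (R : Set G))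
    obtain ⟨j, -, hj⟩ := (Nat.dvd_prime_pow hp).1 h1
    exact ⟨j, hj⟩
  have lift : ∀ (ψ : IrrCharacter ((Subgroup.centralizer (R : Set G)) ⊓ N : Subgroup G)) (hψ : IsPBlock M ({ψ} : Set _)),
      ∃ (h : Set (IrrCharacter (Subgroup.centralizer (R : Set G)))) (hh : IsPBlock M h), pairIdem hh = pairIdem hψ := by
    intro ψ hψ
    have hUV : ∀ u : (Subgroup.centralizer (R : Set G)), u ∈ ((Subgroup.centralizer (R : Set G)) ⊓ N).subgroupOf (Subgroup.centralizer (R : Set G)) ↔ (u : G) ∈ (Subgroup.centralizer (R : Set G)) ⊓ N := fun u => Iff.rfl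
    obtain ⟨hψ', hidem⟩ := exists_transBlock_inv hWU hUV hψ
    have hstU : ∀ x : (Subgroup.centralizer (R : Set G)), StabilizesBlock (((Subgroup.centralizer (R : Set G)) ⊓ N).subgroupOf (Subgroup.centralizer (R : Set G))) (pullIrr (transIso hWU hUV) '' {ψ}) x := by
      intro x
      obtain ⟨n, hn, r, hr, hx⟩ := hdec x
      have hcomm : ∀ u ∈ R, u * (x : G) = (x : G) * u := fun u hu =>
        Subgroup.mem_centralizer_iff.1 x.2 u hu
      have hrz : ∀ u ∈ R, u * r = r * u := by
        intro u hu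
        have h1 : r⁻¹ * u⁻¹ * r * u ∈ R ⊓ N := by
          refine ⟨R.mul_mem (R.mul_mem (R.mul_mem (R.inv_mem hr) (R.inv_mem hu)) hr) hu, ?_⟩
          have h2 : r⁻¹ * u⁻¹ * r * u = (u⁻¹ * r⁻¹) * (n⁻¹ * (u * n * u⁻¹)) * (u⁻¹ * r⁻¹)⁻¹ := by
            have h3 : (u * n * u⁻¹) * (u * r * u⁻¹) = n * r := by
              have := hcomm u hu
              rw [hx] at this
              calc (u * n * u⁻¹) * (u * r * u⁻¹) = u * (n * r) * u⁻¹ := by group
                _ = n * r * u * u⁻¹ := by rw [this]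
                _ = n * r := by group
            have h4 : n⁻¹ * (u * n * u⁻¹) = r * (u * r * u⁻¹)⁻¹ := by
              rw [eq_mul_inv_iff_mul_eq, mul_assoc, h3]; group
            rw [h4]; group
          rw [h2]
          exact ‹N.Normal›.conj_mem _ (N.mul_mem (N.inv_mem hn)
            (‹N.Normal›.conj_mem n hn u)) _
        rw [hinf, Subgroup.mem_bot] at h1
        calc u * r = u * r * (r⁻¹ * u⁻¹ * r * u) := by rw [h1, mul_one]
          _ = r * u := by group
      have hrU : r ∈ (Subgroup.centralizer (R : Set G)) := Subgroup.mem_centralizer_iff.2 hrz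
      have hnU : n ∈ (Subgroup.centralizer (R : Set G)) := by
        rw [show n = (x : G) * r⁻¹ by rw [hx]; group]
        exact (Subgroup.centralizer (R : Set G)).mul_mem x.2 ((Subgroup.centralizer (R : Set G)).inv_mem hrU)
      rw [stabilizesBlock_iff hψ']
      refine ⟨by rw [Subgroup.normalizer_eq_top]; exact Subgroup.mem_top _, fun u => ?_⟩
      have hn' : (⟨n, hnU⟩ : (Subgroup.centralizer (R : Set G))) ∈ ((Subgroup.centralizer (R : Set G)) ⊓ N).subgroupOf (Subgroup.centralizer (R : Set G)) := ⟨hnU, hn⟩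
      rw [show x * u * x⁻¹ = (⟨n, hnU⟩ : (Subgroup.centralizer (R : Set G))) * ((⟨r, hrU⟩ : (Subgroup.centralizer (R : Set G))) * u * (⟨r, hrU⟩ : (Subgroup.centralizer (R : Set G)))⁻¹) *
          (⟨n, hnU⟩ : (Subgroup.centralizer (R : Set G)))⁻¹ from Subtype.ext (by simp [hx, mul_assoc]),
        subgroupBlockCoeff_conj_of_mem _ hn']
      by_cases hu : u ∈ ((Subgroup.centralizer (R : Set G)) ⊓ N).subgroupOf (Subgroup.centralizer (R : Set G))
      · congr 1
        refine Subtype.ext ?_
        show r * (u : G) * r⁻¹ = (u : G)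
        rw [Subgroup.mem_centralizer_iff.1 u.2 r hr, mul_inv_cancel_right]
      · rw [subgroupBlockCoeff_of_notMem _ hu, subgroupBlockCoeff_of_notMem _ fun h' => hu ?_]
        have := (inferInstance : (((Subgroup.centralizer (R : Set G)) ⊓ N).subgroupOf (Subgroup.centralizer (R : Set G))).Normal).conj_mem _ h' (⟨r, hrU⟩ : (Subgroup.centralizer (R : Set G)))⁻¹
        simpa [mul_assoc] using this
    obtain ⟨h, hh, hhc⟩ := exists_block_lift (((Subgroup.centralizer (R : Set G)) ⊓ N).subgroupOf (Subgroup.centralizer (R : Set G))) hpM hj hψ' hstU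
    exact ⟨h, hh, by rw [pairIdem_eq_incl hh, blockIdem_eq_pairIdem hψ' hh hhc, ← hidem]⟩
  obtain ⟨h, hh, he⟩ := lift φ hφ
  obtain ⟨h', hh', he'⟩ := lift φ' hφ'
  have hpair : ∀ {ψ : IrrCharacter ((Subgroup.centralizer (R : Set G)) ⊓ N : Subgroup G)} (hψ : IsPBlock M ({ψ} : Set _))
      {q : Set (IrrCharacter (Subgroup.centralizer (R : Set G)))} (hq : IsPBlock M q), pairIdem hq = pairIdem hψ →
      pairIdem hψ * cut ((Subgroup.centralizer (R : Set G)) : Set G) (pairIdem hθb) ≠ 0 → IsBrauerPairOf p M B R q := by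
    intro ψ hψ q hq heq hnz
    have hiff := isBrauerPairOf_iff hpM (⟨hR, hq⟩ : IsBrauerPair p M R q) hB
    refine hiff.1.2 (hiff.2.resolve_right ?_)
    rw [heq, hid]
    exact hnz
  have hb1 := hpair hφ hh he hne
  have hb2 := hpair hφ' hh' he' hne'
  obtain ⟨x, hx, hxe⟩ := exists_conj_pair_same_group hpM (isMaximal_of_defectGroup hpM hRB hb1) hb2
  have hxs : x ∈ stabPair (⟨R, h⟩ : BrauerPairIdx G) := by
    obtain ⟨n, hn, r, hr, rfl⟩ := hdec x
    refine Subgroup.mul_mem _ (centralizer_le_stabPair hh ?_) (subgroup_le_stabPair hpM hb1.1 hr)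
    have hnN : n ∈ Subgroup.normalizer (R : Set G) := by
      have := Subgroup.mul_mem _ hx (Subgroup.inv_mem _ (Subgroup.le_normalizer hr))
      simpa [mul_assoc] using this
    rw [Subgroup.mem_centralizer_iff]
    intro u hu
    have h1 : n * u * n⁻¹ * u⁻¹ ∈ R ⊓ N :=
      ⟨R.mul_mem ((Subgroup.mem_normalizer_iff.1 hnN u).1 hu) (R.inv_mem hu), by
        have := ‹N.Normal›.conj_mem _ (N.inv_mem hn) u
        simpa [mul_assoc] using N.mul_mem hn this⟩
    rw [hinf, Subgroup.mem_bot] at h1
    calc u * n = 1 * (u * n) := (one_mul _).symm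
      _ = n * u * n⁻¹ * u⁻¹ * (u * n) := by rw [h1]
      _ = n * u := by group
  have heq : (⟨R, h⟩ : BrauerPairIdx G) = ⟨R, h'⟩ := by
    rw [← hxe]; exact hxs.symm
  obtain rfl : h = h' := eq_of_heq (Sigma.mk.inj heq).2
  by_contra hne0
  apply pairIdem_ne_zero hh
  conv_lhs => rw [← pairIdem_mul_self hh]
  nth_rw 1 [he]
  rw [he']
  exact pairIdem_mul_of_ne hφ hφ' fun h' => hne0 (Set.singleton_eq_singleton_iff.1 h')

/-- In Fong's situation each `p`-subgroup carries exactly one pair. -/
theorem existsUnique_pair_at (hpM : (p : AlgInt) ∈ M) (N : Subgroup G) [N.Normal] [Fintype N]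
    (hN : ¬ p ∣ Nat.card N) (θ : IrrCharacter N) (hinv : ∀ (g : G) (n : N),
      (θ : N → ℂ) (CharsMore.conjBy N g n) = (θ : N → ℂ) n)
    {B : Set (IrrCharacter G)} (hB : IsPBlock M B)
    (hset : ∀ χ : IrrCharacter G, χ ∈ B ↔
      classInner (fun n : N => (χ : G → ℂ) n) (θ : N → ℂ) ≠ 0)
    (hS : ∀ S : Sylow p G, IsDefectGroup p M B (S : Subgroup G)) {R : Subgroup G}
    (hR : IsPGroup p R) (L : Subgroup (Subgroup.centralizer (R : Set G))) [L.Normal]
    (hNL : N.subgroupOf (Subgroup.centralizer (R : Set G)) ≤ L) {k : ℕ}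
    (hk : (N.subgroupOf (Subgroup.centralizer (R : Set G))).relIndex L = p ^ k)
    {Q : Subgroup (Subgroup.centralizer (R : Set G))} (hQL : Q ≤ L) (hQ : IsPGroup p Q)
    (hQS : ¬ p ∣ Q.relIndex L)
    (hCQ : Subgroup.centralizer (Q : Set (Subgroup.centralizer (R : Set G))) ≤ L) :
    ∃! f, IsBrauerPairOf p M B R f := by
  classical
  haveI := charP_resField (M := M) (Fact.out (p := p.Prime)) hpM
  haveI := Fintype.ofFinite (Subgroup.centralizer (R : Set G))
  haveI := Fintype.ofFinite (Subgroup.centralizer (R : Set G) ⊓ N : Subgroup G)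
  haveI := Fintype.ofFinite (N.subgroupOf (Subgroup.centralizer (R : Set G)))
  have hθb := isPBlock_singleton_of_pPrime (M := M) hpM hN θ
  have hconj : ∀ x : G, conjIrr N x θ = θ := fun x =>
    Subtype.ext (funext fun n => by rw [coe_conjIrr]; exact hinv x n)
  have hid : blockIdem hB = pairIdem hθb := by
    refine blockIdem_eq_pairIdem hθb hB ?_
    rw [subgroupBlockCoeff_eq_liftIdem]
    refine classFun_ext_omega (isClassFunction_blockCoeff B)
      (isClassFunction_liftIdem N (conjIrr_mem_of_invariant N (fun x φ hφ => by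
        rw [Set.mem_singleton_iff.1 hφ, hconj]; rfl))) fun χ => ?_
    obtain ⟨φ, hφ⟩ := exists_constituent_restrict N χ
    rw [omega_blockCoeff, omega_liftIdem N (conjIrr_mem_of_invariant N (fun x φ hφ => by
        rw [Set.mem_singleton_iff.1 hφ, hconj]; rfl)) χ hφ]
    suffices h : χ ∈ B ↔ φ ∈ ({θ} : Set _) by split_ifs <;> tauto
    rw [hset, Set.mem_singleton_iff]
    refine ⟨fun h => ?_, fun h => h ▸ hφ⟩
    obtain ⟨x, θ', hθ', rfl⟩ := mem_conjSet_of_sameBlock N hθb
      (IsPBlock.sameBlock (isPBlock_blockOf (M := M) χ) (mem_blockOf_self χ) (mem_blockOf_self χ))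
      (Set.mem_singleton θ) h hφ
    rw [Set.mem_singleton_iff.1 hθ', hconj]
  have hCN : ¬ p ∣ Nat.card (Subgroup.centralizer (R : Set G) ⊓ N : Subgroup G) := fun h =>
    hN (h.trans (Subgroup.card_dvd_of_le inf_le_right))
  -- uniqueness of the character of `C_N(R)`
  have huniq : ∀ {φ φ' : IrrCharacter (Subgroup.centralizer (R : Set G) ⊓ N : Subgroup G)}
      (hφ : IsPBlock M ({φ} : Set _)) (hφ' : IsPBlock M ({φ'} : Set _)),
      pairIdem hφ * cut (Subgroup.centralizer (R : Set G) : Set G) (pairIdem hθb) ≠ 0 →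
      pairIdem hφ' * cut (Subgroup.centralizer (R : Set G) : Set G) (pairIdem hθb) ≠ 0 →
      φ = φ' := by
    intro φ φ' hφ hφ' hne hne'
    obtain ⟨H, hH⟩ : ∃ H, H = N ⊔ R := ⟨_, rfl⟩
    have hNH : N ≤ H := hH ▸ le_sup_left
    have hRH : R ≤ H := hH ▸ le_sup_right
    haveI := Fintype.ofFinite H
    haveI := Fintype.ofFinite (N.subgroupOf H)
    have hVN : Subgroup.centralizer (R : Set G) ⊓ N ≤ H := inf_le_right.trans hNH
    have hCV : ∀ u : H, u ∈ Subgroup.centralizer (R.subgroupOf H : Set H) ↔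
        (u : G) ∈ Subgroup.centralizer (R : Set G) ⊓ H :=
      fun u => (mem_centralizer_subgroupOf_iff hRH u).trans ⟨fun h' => ⟨h', u.2⟩, And.left⟩
    have hWV : ∀ u : H, u ∈ Subgroup.centralizer (R.subgroupOf H : Set H) ⊓ N.subgroupOf H ↔
        (u : G) ∈ Subgroup.centralizer (R : Set G) ⊓ N := fun u => by
      rw [Subgroup.mem_inf, Subgroup.mem_inf, mem_centralizer_subgroupOf_iff hRH u,
        Subgroup.mem_subgroupOf]
    obtain ⟨hθ', hθid⟩ := exists_transBlock_inv (K := H) (U := N.subgroupOf H) hNH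
      (fun u => Iff.rfl) hθb
    rw [Set.image_singleton] at hθ'
    obtain ⟨hφ₁, hid₁⟩ := exists_transBlock_inv hVN hWV hφ
    obtain ⟨hφ₂, hid₂⟩ := exists_transBlock_inv hVN hWV hφ'
    rw [Set.image_singleton] at hφ₁ hφ₂
    have hcut : cut (Subgroup.centralizer (R : Set G) : Set G) (pairIdem hθb) =
        incl M H (cut (Subgroup.centralizer (R.subgroupOf H : Set H) : Set H) (pairIdem hθ')) := by
      rw [incl_cut_trans inf_le_right hCV]
      have : pairIdem hθb = incl M H (pairIdem hθ') := by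
        simp only [Set.image_singleton] at hθid
        exact hθid
      rw [← this, ← cut_pairIdem hθb, cut_cut, cut_cut]
      congr 1
      ext y
      exact ⟨fun hy => ⟨⟨hy.1, hNH hy.2⟩, hy.2⟩, fun hy => ⟨hy.1.1, hy.2⟩⟩
    simp only [Set.image_singleton] at hid₁ hid₂
    have h1 : pullIrr (transIso hVN hWV) φ = pullIrr (transIso hVN hWV) φ' := by
      refine constituent_at_complement_unique hpM (N.subgroupOf H)
        (by rwa [Nat.card_congr (Subgroup.subgroupOfEquivOfLe hNH).toEquiv])
        (hR.of_equiv (Subgroup.subgroupOfEquivOfLe hRH).symm)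
        (by rw [← Subgroup.subgroupOf_sup hNH hRH, ← hH, Subgroup.subgroupOf_self]) _ ?_ hθ'
        hφ₁ hφ₂ ?_ ?_
      · intro g n
        rw [pullIrr_apply, pullIrr_apply]
        conv_rhs => rw [← hinv (g : G) (transIso hNH (fun u => Iff.rfl) n)]
        rfl
      · intro h0
        apply hne
        rw [hid₁, hcut, ← map_mul, h0, map_zero]
      · intro h0
        apply hne'
        rw [hid₂, hcut, ← map_mul, h0, map_zero]
    have h2 := congrArg (pullIrr (transIso hVN hWV).symm) h1
    simpa [pullIrr, MulEquiv.apply_symm_apply] using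
      (show pullIrr (transIso hVN hWV).symm (pullIrr (transIso hVN hWV) φ) =
        pullIrr (transIso hVN hWV).symm (pullIrr (transIso hVN hWV) φ') from h2)
  -- every pair covers that character
  have hcov : ∀ f, IsBrauerPairOf p M B R f →
      ∃ (φ : IrrCharacter (Subgroup.centralizer (R : Set G) ⊓ N : Subgroup G))
        (hφ : IsPBlock M ({φ} : Set _)) (hf : IsPBlock M f),
        pairIdem hφ * cut (Subgroup.centralizer (R : Set G) : Set G) (pairIdem hθb) ≠ 0 ∧
        pairIdem hf * pairIdem hφ ≠ 0 := by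
    intro f hf
    have h1 := (isBrauerPairOf_iff hpM hf.1 hB).1.1 hf
    rw [hid] at h1
    by_contra hcon
    apply pairIdem_ne_zero hf.1.2
    rw [← h1, ← one_mul (cut _ (pairIdem hθb)), ← sum_pairIdem (M := M)
      (blockFinset M (Subgroup.centralizer (R : Set G) ⊓ N : Subgroup G)) rfl
      (fun e => if he : IsPBlock M e then pairIdem he else 0) (fun e he => dif_pos he),
      Finset.sum_mul, Finset.mul_sum]
    refine Finset.sum_eq_zero fun e he => ?_
    rw [dif_pos (mem_blockFinset.1 he)]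
    obtain ⟨φ, hφe⟩ := IsPBlock.nonempty (mem_blockFinset.1 he)
    have hb := isPBlock_singleton_of_pPrime (M := M) hpM hCN φ
    obtain rfl := IsPBlock.eq_of_mem hb (mem_blockFinset.1 he) (Set.mem_singleton φ) hφe
    by_contra h0
    refine hcon ⟨φ, hb, hf.1.2, fun h2 => h0 ?_, fun h2 => h0 ?_⟩
    · rw [h2, mul_zero]
    · rw [← mul_assoc, h2, zero_mul]
  -- existence
  obtain ⟨S, hRS⟩ := hR.exists_le_sylow
  obtain ⟨h₀, hh₀⟩ := exists_pair_on_defectGroup hpM hB (hS S)
  obtain ⟨f₀, hf₀⟩ := exists_below (b := ⟨(S : Subgroup G), h₀⟩) hpM hh₀.1 R hRS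
  have hpair₀ := (isBrauerPairOf_iff_of_below hpM hf₀ B).2 hh₀
  obtain ⟨φ₀, hφ₀, -, hne₀, -⟩ := hcov f₀ hpair₀
  refine ⟨f₀, hpair₀, fun f hf => ?_⟩
  -- the character is invariant
  have hWU : Subgroup.centralizer (R : Set G) ⊓ N ≤ Subgroup.centralizer (R : Set G) := inf_le_left
  have hUV : ∀ u : Subgroup.centralizer (R : Set G),
      u ∈ N.subgroupOf (Subgroup.centralizer (R : Set G)) ↔
        (u : G) ∈ Subgroup.centralizer (R : Set G) ⊓ N := fun u =>
    ⟨fun h => ⟨u.2, h⟩, fun h => h.2⟩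
  have hinvφ : ∀ (g : Subgroup.centralizer (R : Set G))
      (n : N.subgroupOf (Subgroup.centralizer (R : Set G))),
      (pullIrr (transIso hWU hUV) φ₀ : _ → ℂ) (CharsMore.conjBy _ g n) =
        (pullIrr (transIso hWU hUV) φ₀ : _ → ℂ) n := by
    intro g n
    have hxN : (g : G) ∈ Subgroup.normalizer
        ((Subgroup.centralizer (R : Set G) ⊓ N : Subgroup G) : Set G) := by
      rw [Subgroup.mem_normalizer_iff]
      intro y
      refine ⟨fun h => ⟨Subgroup.mul_mem _ (Subgroup.mul_mem _ g.2 h.1) (Subgroup.inv_mem _ g.2), ‹N.Normal›.conj_mem _ h.2 _⟩,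
        fun h => ⟨?_, ?_⟩⟩
      · simpa [mul_assoc] using mul_mem (mul_mem (inv_mem g.2) h.1) g.2
      · simpa [mul_assoc] using ‹N.Normal›.conj_mem _ h.2 (g : G)⁻¹
    have hc1 := isPBlock_conjImage (g : G) (conj_mem_iff_of_mem_normalizer hxN) hφ₀
    rw [conjImage, Set.image_singleton] at hc1
    have h1 : pullIrr (conjIso (g : G) (conj_mem_iff_of_mem_normalizer hxN)).symm φ₀ = φ₀ := by
      refine huniq hc1 hφ₀ (fun h0 => hne₀ ?_) hne₀
      have e1 : conjAlg (g : G) (pairIdem hφ₀) = pairIdem hc1 := by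
        refine conjAlg_pairIdem hφ₀ hc1 _ fun y => ?_
        have := subgroupBlockCoeff_conjImage (g : G) (conj_mem_iff_of_mem_normalizer hxN)
          ({φ₀} : Set _) ((g : G)⁻¹ * y * g)
        rw [conjImage, Set.image_singleton] at this
        simpa [mul_assoc] using this
      have e2 : conjAlg (g : G)
          (cut (Subgroup.centralizer (R : Set G) : Set G) (pairIdem hθb)) =
          cut (Subgroup.centralizer (R : Set G) : Set G) (pairIdem hθb) := by
        rw [← hid]
        apply MonoidAlgebra.ext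
        ext y
        rw [coeff_conjAlg]
        by_cases hy : y ∈ Subgroup.centralizer (R : Set G)
        · rw [coeff_cut_of_mem _ (show (g : G)⁻¹ * y * g ∈ (Subgroup.centralizer (R : Set G) : Set G)
              from mul_mem (mul_mem (inv_mem g.2) hy) g.2),
            coeff_cut_of_mem _ (show y ∈ (Subgroup.centralizer (R : Set G) : Set G) from hy),
            blockIdem, coeff_redFun, coeff_redFun]
          refine congrArg red (Subtype.ext ?_)
          have := isClassFunction_blockCoeff B y (g : G)⁻¹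
          simpa using this
        · rw [coeff_cut_of_notMem _ (show (g : G)⁻¹ * y * g ∉
              (Subgroup.centralizer (R : Set G) : Set G) from fun h' => hy (by
                simpa [mul_assoc] using mul_mem (mul_mem g.2 h') (inv_mem g.2))),
            coeff_cut_of_notMem _ (show y ∉ (Subgroup.centralizer (R : Set G) : Set G) from hy)]
      have e3 := congrArg (conjAlg (g : G)⁻¹) h0
      rw [← e1, ← e2, ← map_mul, map_zero] at e3
      have e4 : ∀ z, conjAlg (M := M) (g : G)⁻¹ (conjAlg (g : G) z) = z := fun z => by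
        apply MonoidAlgebra.ext
        ext y
        rw [coeff_conjAlg, coeff_conjAlg]
        congr 1
        group
      rwa [e4] at e3
    rw [pullIrr_apply, pullIrr_apply]
    conv_lhs => rw [← h1]
    rw [pullIrr_apply]
    refine congrArg (φ₀.1) (Subtype.ext ?_)
    simp [transIso, conjIso, CharsMore.coe_conjBy, mul_assoc]
  obtain ⟨hblock, -⟩ := fong_single_block hpM (N.subgroupOf (Subgroup.centralizer (R : Set G)))
    (fun h => hCN (by rwa [← Nat.card_congr (transIso hWU hUV).toEquiv])) L hNL hk hQL hQ hQS hCQ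
    _ hinvφ
  have hin : ∀ f', IsBrauerPairOf p M B R f' → f' = {χ : IrrCharacter (Subgroup.centralizer (R : Set G)) |
      classInner (fun n : N.subgroupOf (Subgroup.centralizer (R : Set G)) =>
        (χ : Subgroup.centralizer (R : Set G) → ℂ) n) (pullIrr (transIso hWU hUV) φ₀ : _ → ℂ) ≠ 0} := by
    intro f' hf'
    obtain ⟨φ, hφ, hf'', hne, hprod⟩ := hcov f' hf'
    obtain rfl := huniq hφ hφ₀ hne hne₀
    obtain ⟨hφ', hidφ⟩ := exists_transBlock_inv hWU hUV hφ
    have hcov' := covers_of_mul_ne_zero hφ' hf'' (fun h0 => hprod (by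
      rw [pairIdem_eq_incl hf'', hidφ, ← map_mul, h0, map_zero]))
    obtain ⟨χ, hχ, ψ, hψ, hne2⟩ := hcov'
    rw [Set.image_singleton, Set.mem_singleton_iff] at hψ
    subst hψ
    exact IsPBlock.eq_of_mem hf'' hblock hχ hne2
  rw [hin f hf, hin f₀ hpair₀]

end CfsgLib.Blocks
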