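import Cfsg.Agent.Lib.Blocks.FreeCount
import Cfsg.Agent.Lib.Blocks.SubsectionColumn
import Cfsg.Agent.Lib.Blocks.StarNonzero

/-!
# Two-blocks with a four group as defect group
-/

set_option linter.unusedSectionVars false
set_option linter.style.haveILetI false

namespace CfsgLib.Blocks

open Cfsg Chars Finset
open scoped ComplexConjugate

universe u

variable {G : Type u} [Group G] [Fintype G] {M : Ideal AlgInt} [M.IsPrime]
  {B : Set (IrrCharacter G)} {P : Subgroup G}
  {e : Set (IrrCharacter (Subgroup.centralizer (P : Set G)))}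

theorem four_comm (hsq : ∀ x ∈ P, x * x = 1) : ∀ x ∈ P, ∀ y ∈ P, x * y = y * x := by
  intro x hx y hy
  have h := hsq (x * y) (P.mul_mem hx hy)
  calc x * y = (x * y)⁻¹ := eq_inv_of_mul_eq_one_left h
    _ = y⁻¹ * x⁻¹ := mul_inv_rev x y
    _ = y * x := by
      rw [← eq_inv_of_mul_eq_one_left (hsq x hx), ← eq_inv_of_mul_eq_one_left (hsq y hy)]

/-- **Two-blocks with a four group as defect group.** -/
theorem four_defect (hM : IsPModular 2 M) (hmax : IsMaximalBrauerPair 2 M B P e)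
    (hP4 : Nat.card P = 4) (hsq : ∀ x ∈ P, x * x = 1) :
    ((Subgroup.centralizer (P : Set G)).relIndex (stabPair ⟨P, e⟩) = 1 ∨
      (Subgroup.centralizer (P : Set G)).relIndex (stabPair ⟨P, e⟩) = 3) ∧ Nat.card B = 4 ∧
      blockRank 2 B = (Subgroup.centralizer (P : Set G)).relIndex (stabPair ⟨P, e⟩) := by
  classical
  have hpM := hM.2.2
  have hab := four_comm hsq
  have hD := isDefectGroup_of_maximal hpM hmax
  obtain ⟨r, hr⟩ : ∃ r, r = (Subgroup.centralizer (P : Set G)).relIndex (stabPair ⟨P, e⟩) := ⟨_, rfl⟩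
  rw [← hr]
  have hodd : ¬ 2 ∣ r := by rw [hr]; exact not_dvd_index_centralizer_stab hpM hmax hab
  have hCT : Subgroup.centralizer (P : Set G) ≤ stabPair ⟨P, e⟩ :=
    centralizer_le_stabPair hmax.1.1.2
  haveI : ((Subgroup.centralizer (P : Set G)).subgroupOf (stabPair ⟨P, e⟩)).Normal :=
    (Subgroup.normal_subgroupOf_iff_le_normalizer hCT).2
      fun g hg => mem_normalizer_centralizer (stabPair_le_normalizer _ hg)
  have hfree : ∀ g ∈ stabPair ⟨P, e⟩, ∀ x ∈ P, x ≠ 1 → g * x * g⁻¹ = x →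
      g ∈ Subgroup.centralizer (P : Set G) := by
    intro g hg x hx hx1 hfix
    have hN := Subgroup.mem_normalizer_iff.1 (stabPair_le_normalizer _ hg)
    have hsq2 : g * g ∈ Subgroup.centralizer (P : Set G) := by
      rw [Subgroup.mem_centralizer_iff]
      intro y hy
      suffices h : g * (g * y * g⁻¹) * g⁻¹ = y by
        calc y * (g * g) = g * (g * y * g⁻¹) * g⁻¹ * (g * g) := by rw [h]
          _ = g * g * y := by group
      -- the image of `y` is one of the two elements outside `⟨x⟩`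
      have hPcard : ∀ z ∈ P, z = 1 ∨ z = x ∨ z = y ∨ z = x * y ∨ y = 1 ∨ y = x := by
        intro z hz
        by_contra hne
        simp only [not_or] at hne
        obtain ⟨h1, h2, h3, h4, h5, h6⟩ := hne
        have hxy1 : x * y ≠ 1 := fun h => h6 (by
          calc y = x * x * y := by rw [hsq x hx, one_mul]
            _ = x := by rw [mul_assoc, h, mul_one])
        have hcard : ({⟨1, P.one_mem⟩, ⟨x, hx⟩, ⟨y, hy⟩, ⟨x * y, P.mul_mem hx hy⟩, ⟨z, hz⟩} :
            Finset P).card = 5 := by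
          rw [Finset.card_insert_of_notMem, Finset.card_insert_of_notMem,
            Finset.card_insert_of_notMem, Finset.card_insert_of_notMem, Finset.card_singleton] <;>
            simp only [Finset.mem_insert, Finset.mem_singleton, Subtype.mk.injEq, not_or]
          · exact Ne.symm h4
          · exact ⟨fun h => hx1 (mul_eq_right.1 h.symm), Ne.symm h3⟩
          · exact ⟨Ne.symm h6, fun h => h5 (mul_eq_left.1 h.symm), Ne.symm h2⟩
          · exact ⟨Ne.symm hx1, Ne.symm h5, Ne.symm hxy1, Ne.symm h1⟩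
        have := Finset.card_le_univ ({⟨1, P.one_mem⟩, ⟨x, hx⟩, ⟨y, hy⟩, ⟨x * y, P.mul_mem hx hy⟩,
          ⟨z, hz⟩} : Finset P)
        rw [hcard, ← Nat.card_eq_fintype_card, hP4] at this
        omega
      rcases hPcard _ ((hN y).1 hy) with h | h | h | h | h | h
      · have : y = 1 := conj_eq_one_iff.1 h
        subst this; simp
      · have : y = x := mul_left_cancel (mul_right_cancel (h.trans hfix.symm))
        subst this; rw [hfix, hfix]
      · rw [h, h]
      · rw [h, show g * (x * y) * g⁻¹ = g * x * g⁻¹ * (g * y * g⁻¹) by group, hfix, h, ← mul_assoc,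
          hsq x hx, one_mul]
      · subst h; simp
      · subst h; rw [hfix, hfix]
    have hpow : g ^ r ∈ Subgroup.centralizer (P : Set G) := by
      have h := Subgroup.pow_index_mem ((Subgroup.centralizer (P : Set G)).subgroupOf
        (stabPair ⟨P, e⟩)) ⟨g, hg⟩
      rw [Subgroup.mem_subgroupOf, SubmonoidClass.coe_pow] at h
      rwa [hr]
    obtain ⟨m, hm⟩ : ∃ m, r = 2 * m + 1 := ⟨r / 2, by omega⟩
    rw [hm, pow_succ, pow_mul, sq] at hpow
    have := Subgroup.mul_mem _ (Subgroup.inv_mem _ (Subgroup.pow_mem _ hsq2 m)) hpow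
    rwa [inv_mul_cancel_left] at this
  obtain ⟨t, ht, hkt⟩ := card_eq_rank_add_sections hM hmax hab hfree
  rw [← hr, hP4] at ht
  have hr13 : r = 1 ∨ r = 3 := by
    have hdvd : r ∣ 3 := ⟨t, by linarith⟩
    exact (Nat.dvd_prime Nat.prime_three).1 hdvd
  refine ⟨hr13, ?_⟩
  rcases hr13 with h1 | h3
  · have htriv : stabPair ⟨P, e⟩ ≤ Subgroup.centralizer (P : Set G) :=
      Subgroup.relIndex_eq_one.1 (hr ▸ h1)
    have hl := blockRank_eq_one_of_trivial_inertia hM hmax hab htriv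
    subst h1
    exact ⟨by omega, hl⟩
  subst h3
  suffices hk : Nat.card B = 4 from ⟨hk, by omega⟩
  -- an integral column with sum of squares four
  obtain ⟨⟨u, hu⟩, hu1'⟩ := Subgroup.ne_bot_iff_exists_ne_one.1
    (fun h : P = ⊥ => by rw [h, Subgroup.card_bot] at hP4; omega)
  have hu1 : u ≠ 1 := fun h => hu1' (Subtype.ext h)
  have hu2 : ∃ k : ℕ, u ^ 2 ^ k = 1 := ⟨1, by rw [pow_one, sq, hsq u hu]⟩
  obtain ⟨f, hf⟩ := exists_below (b := ⟨P, e⟩) hpM hmax.1.1 (Subgroup.zpowers u)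
    (Subgroup.zpowers_le.2 hu)
  have hpair := (isBrauerPairOf_iff_of_below hpM hf B).2 hmax.1
  haveI := Fintype.ofFinite (Subgroup.centralizer (Subgroup.zpowers u : Set G))
  haveI := irrFintype (Subgroup.centralizer (Subgroup.zpowers u : Set G))
  haveI := irrFintype G
  have hQ1 : Subgroup.zpowers u ≠ ⊥ := fun h => hu1 (Subgroup.zpowers_eq_bot.1 h)
  have hl := blockRank_eq_one_of_below_free hM hmax hab hfree hQ1 hf
  have hint : stabPair ⟨P, e⟩ ⊓ Subgroup.centralizer (Subgroup.zpowers u : Set G) ≤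
      Subgroup.centralizer (P : Set G) := by
    intro g hg
    refine hfree g hg.1 u hu hu1 ?_
    rw [← Subgroup.mem_centralizer_iff.1 hg.2 u (Subgroup.mem_zpowers u), mul_inv_cancel_right]
  obtain ⟨e', hPC, hmax', -⟩ := exists_maximal_local hpM (a := ⟨_, f⟩) (c := ⟨P, e⟩)
    hmax hab hint hf
  have hdef := BlockOrth.blockDefect_eq_of_major hpM hmax.1.2.1 hpair.1.2 hD hPC
    (isDefectGroup_of_maximal hpM hmax')
  have hdB : 2 ^ blockDefect 2 B = 4 := by
    rw [← BlockOrth.card_defectGroup hpM hmax.1.2.1 hD, hP4]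
  obtain ⟨φ, d, -, hd, hdsq⟩ := BlockOrth.exists_decomposition_of_rank_one hpM hpair.1.2 hl
  rw [hdef, hdB] at hdsq
  have hH : ∀ c : G, c ∈ Subgroup.centralizer (Subgroup.zpowers u : Set G) ↔ c * u = u * c := by
    intro c
    rw [Subgroup.zpowers_eq_closure, Subgroup.centralizer_closure]
    exact Subgroup.mem_centralizer_singleton_iff
  have h1reg : ¬ 2 ∣ orderOf (1 : Subgroup.centralizer (Subgroup.zpowers u : Set G)) := by simp
  have hint' : ∀ χ : IrrCharacter G, ∃ m : ℤ,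
      secVal ⟨Subgroup.zpowers u, f⟩ (χ : G → ℂ) u = (m : ℂ) * φ 1 ∧
      (χ ∈ B → m ≠ 0) := by
    intro χ
    obtain ⟨m, hm⟩ := secCol_involution (G := G) ⟨u, (hH u).2 rfl⟩
      (BlockOrth.mem_center_of_self hH) (Subtype.ext (hsq u hu)) f d χ
    have hv := fun (y : Subgroup.centralizer (Subgroup.zpowers u : Set G)) hy =>
      secVal_eq_secCol (p := 2) hd χ (y := y) hy
    refine ⟨m, ?_, fun hχ hm0 => ?_⟩
    · have := hv 1 h1reg
      rw [Subgroup.coe_one, mul_one] at this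
      rw [this, ← hm]
    · obtain ⟨y, hyc, hy, hne⟩ := exists_secVal_ne_zero_of_central hpM hmax hu
        (le_centralizer_of_abelian le_rfl hab hu) hf hχ
      refine hne ?_
      have hy' := hv ⟨y, (hH y).2 hyc.eq.symm⟩ (by rwa [← Subgroup.orderOf_coe])
      rw [show secVal ⟨Subgroup.zpowers u, f⟩ (χ : G → ℂ) (u * y) = _ from hy', hm, hm0,
        Int.cast_zero, zero_mul]
  choose m hm hm0 using hint'
  have horth := sum_secVal_mul_conj hpM hu2 hu2 hpair hpair
  have hstab : (univ.filter fun g : G => g * u * g⁻¹ = u ∧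
      conjPair g ⟨Subgroup.zpowers u, f⟩ = (⟨Subgroup.zpowers u, f⟩ : BrauerPairIdx G)).card =
      Nat.card (Subgroup.centralizer (Subgroup.zpowers u : Set G)) := by
    rw [← Fintype.card_subtype, ← Nat.card_eq_fintype_card]
    refine Nat.card_congr (Equiv.subtypeEquivRight fun g => ?_)
    rw [hH, mul_inv_eq_iff_eq_mul]
    exact ⟨fun h => h.1, fun h => ⟨h, centralizer_le_stabPair hpair.1.2 ((hH g).2 h)⟩⟩
  rw [hstab] at horth
  have hφ1 : ∀ η ∈ f, (η : Subgroup.centralizer (Subgroup.zpowers u : Set G) → ℂ) 1 =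
      (d η : ℂ) * φ 1 := fun η hη => hd η hη 1 h1reg
  obtain ⟨η₀, hη₀⟩ := IsPBlock.nonempty hpair.1.2
  have hdeg0 : φ 1 ≠ 0 := fun h => irr_degree_ne_zero η₀.2 (by rw [hφ1 η₀ hη₀, h, mul_zero])
  have hφreal : conj (φ 1) = φ 1 := by
    obtain ⟨n, -, hn⟩ := irr_degree_nat η₀.2
    have h0 : (d η₀ : ℂ) ≠ 0 := fun h => irr_degree_ne_zero η₀.2 (by rw [hφ1 η₀ hη₀, h, zero_mul])
    rw [show φ 1 = (n : ℂ) / (d η₀ : ℂ) by
      rw [eq_div_iff h0, mul_comm, ← hφ1 η₀ hη₀, hn], map_div₀, map_natCast, map_natCast]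
  have hb1 : (Nat.card (Subgroup.centralizer (Subgroup.zpowers u : Set G)) : ℂ) * blockCoeff f 1 =
      4 * φ 1 * φ 1 := by
    rw [blockCoeff, mul_inv_cancel_left₀ (card_ne_zero _)]
    calc ∑ᶠ η ∈ f, (η : Subgroup.centralizer (Subgroup.zpowers u : Set G) → ℂ) 1 *
          conj ((η : Subgroup.centralizer (Subgroup.zpowers u : Set G) → ℂ) 1)
        = ∑ᶠ η ∈ f, ((d η ^ 2 : ℕ) : ℂ) * (φ 1 * φ 1) := finsum_mem_congr rfl fun η hη => by
          rw [hφ1 η hη, map_mul, map_natCast, hφreal]; push_cast; ring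
      _ = _ := by
          rw [← finsum_mem_mul]
          rw [show (∑ᶠ η ∈ f, ((d η ^ 2 : ℕ) : ℂ)) = ((∑ᶠ η ∈ f, d η ^ 2 : ℕ) : ℂ) from
            ((Nat.castAddMonoidHom ℂ).map_finsum_mem _ (Set.toFinite _)).symm, hdsq]
          push_cast; ring
  rw [hb1, Finset.sum_congr rfl fun (χ : IrrCharacter G) _ => show secVal ⟨Subgroup.zpowers u, f⟩ (χ : G → ℂ) u *
      conj (secVal ⟨Subgroup.zpowers u, f⟩ (χ : G → ℂ) u) =
      ((m χ * m χ : ℤ) : ℂ) * (φ 1 * φ 1) by
    rw [hm, map_mul, map_intCast, hφreal]; push_cast; ring, ← Finset.sum_mul, mul_assoc] at horth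
  have h4 : ∑ χ ∈ univ.filter (· ∈ B), m χ * m χ = 4 := by
    apply Int.cast_injective (α := ℂ)
    push_cast
    have := mul_right_cancel₀ (mul_ne_zero hdeg0 hdeg0) horth
    push_cast at this
    exact this
  have hcard : Nat.card B = (univ.filter (· ∈ B)).card := by
    rw [Nat.card_eq_fintype_card, Fintype.card_subtype]
  have hle : ∀ χ ∈ univ.filter (· ∈ B), 1 ≤ m χ * m χ ∧ (m χ * m χ = 4 ∨ m χ * m χ = 1) := by
    intro χ hχ
    have h := Finset.single_le_sum (f := fun χ => m χ * m χ) (fun j _ => mul_self_nonneg (m j)) hχ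
    simp only [h4] at h
    have hne := hm0 χ (mem_filter.1 hχ).2
    have h1 : -2 ≤ m χ := by nlinarith
    have h2 : m χ ≤ 2 := by nlinarith
    obtain h' | h' | h' | h' : m χ = -2 ∨ m χ = -1 ∨ m χ = 1 ∨ m χ = 2 := by omega
    all_goals simp [h']
  have hl1 := one_le_blockRank (p := 2) hmax.1.2.1
  by_cases hbig : ∃ χ ∈ univ.filter (· ∈ B), m χ * m χ = 4
  · exfalso
    obtain ⟨χ, hχ, hχ4⟩ := hbig
    rw [← Finset.add_sum_erase _ _ hχ, hχ4] at h4
    have h0 : ((univ.filter (· ∈ B)).erase χ).card = 0 := by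
      by_contra hne
      obtain ⟨ψ, hψ⟩ := Finset.card_pos.1 (Nat.pos_of_ne_zero hne)
      have h := Finset.single_le_sum (f := fun χ => m χ * m χ) (fun j _ => mul_self_nonneg (m j)) hψ
      have := (hle ψ (Finset.mem_erase.1 hψ).2).1
      omega
    rw [Finset.card_erase_of_mem hχ, ← hcard] at h0
    omega
  · simp only [not_exists, not_and] at hbig
    rw [Finset.sum_congr rfl fun χ hχ => ((hle χ hχ).2.resolve_left (hbig χ hχ))] at h4
    simp at h4
    omega

end CfsgLib.Blocks
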