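import Cfsg.Agent.Lib.Blocks.PrimIdem
import Cfsg.Agent.Lib.Blocks.BrauerPairs

/-!
# The Brauer pairs below a primitive idempotent

A primitive `S`-fixed idempotent with nonzero Brauer image at `S` determines a block of `C(S)`,
and its Brauer image at every subgroup `Q` lies in the block of the pair below that one.
-/

set_option linter.unusedSectionVars false
set_option linter.style.haveILetI false

namespace CfsgLib.Blocks

open Cfsg Chars

variable {G : Type*} [Group G] [Fintype G] {M : Ideal AlgInt} [M.IsPrime] {p : ℕ} [Fact p.Prime]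
variable {S : Subgroup G}

theorem cut_smul' (S' : Set G) (c : ResField M) (z : MonoidAlgebra (ResField M) G) :
    cut S' (c • z) = c • cut S' z := cut_smul S' c z

/-- A primitive idempotent with nonzero Brauer image lies in one block of the centralizer. -/
theorem IsPrimIn.exists_block (hpM : (p : AlgInt) ∈ M) (hS : IsPGroup p S)
    {i : MonoidAlgebra (ResField M) G} (hi : IsPrimIn S i)
    (h0 : cut (Subgroup.centralizer (S : Set G) : Set G) i ≠ 0) :
    ∃ (f : Set (IrrCharacter (Subgroup.centralizer (S : Set G)))) (hf : IsPBlock M f),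
      pairIdem hf * cut (Subgroup.centralizer (S : Set G) : Set G) i =
        cut (Subgroup.centralizer (S : Set G) : Set G) i := by
  classical
  haveI := charP_resField (M := M) (Fact.out (p := p.Prime)) hpM
  haveI := Fintype.ofFinite (Subgroup.centralizer (S : Set G))
  let F : Set (IrrCharacter (Subgroup.centralizer (S : Set G))) → MonoidAlgebra (ResField M) G :=
    fun f => if hf : IsPBlock M f then pairIdem hf else 0
  have hsum : ∑ f ∈ blockFinset M (Subgroup.centralizer (S : Set G)), F f = 1 :=
    sum_pairIdem (M := M) _ rfl F fun f hf => dif_pos hf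
  have hFix : ∀ f, IsFixedBy S (F f) := by
    intro f
    by_cases hf : IsPBlock M f
    · simp only [F, dif_pos hf]
      refine isFixedBy_iff_commute.2 fun u hu => ?_
      apply MonoidAlgebra.ext
      ext g
      have key : ∀ w : G, (pairIdem hf).coeff (u * w * u⁻¹) = (pairIdem hf).coeff w := by
        intro w
        by_cases hw : w ∈ Subgroup.centralizer (S : Set G)
        · rw [Subgroup.mem_centralizer_iff.1 hw u hu, mul_inv_cancel_right]
        · have hw' := mt (conj_mem_centralizer_iff (Subgroup.le_normalizer hu) w).1 hw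
          rw [cut_eq_self_iff.1 (cut_pairIdem hf) _ hw, cut_eq_self_iff.1 (cut_pairIdem hf) _ hw']
      have h1 := key (u⁻¹ * g)
      rw [mul_inv_cancel_left] at h1
      simp [h1]
    · simp only [F, dif_neg hf]; exact IsFixedBy.zero
  obtain ⟨f, hf, hne⟩ : ∃ f ∈ blockFinset M (Subgroup.centralizer (S : Set G)),
      residueAt S i (F f) ≠ 0 := by
    refine Finset.exists_ne_zero_of_sum_ne_zero ?_
    rw [← hi.residueAt_sum _ fun f _ => hFix f, hsum, hi.residueAt_unique IsFixedBy.one (c := 1)
      (by rw [mul_one, hi.2.1, one_smul, sub_self]; exact IsNilpotent.zero)]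
    exact one_ne_zero
  have hf' := mem_blockFinset.1 hf
  refine ⟨f, hf', ?_⟩
  have hw : IsFixedBy S (i * F f * i) := (hi.1.mul (hFix f)).mul hi.1
  obtain ⟨y, hy, -, -, hy1, -⟩ := (hi.dichotomy hw (by rw [← mul_assoc, ← mul_assoc, hi.2.1])
    (by rw [mul_assoc, hi.2.1])).resolve_left fun hn =>
      hne (hi.residueAt_eq_zero (hFix f) hn)
  have hFf : F f = pairIdem hf' := dif_pos hf'
  have hidem : cut (Subgroup.centralizer (S : Set G) : Set G) i *
      cut (Subgroup.centralizer (S : Set G) : Set G) i =
        cut (Subgroup.centralizer (S : Set G) : Set G) i := by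
    rw [← cut_mul p hS hi.1 hi.1, hi.2.1]
  have h1 := congrArg (cut (Subgroup.centralizer (S : Set G) : Set G)) hy1
  rw [cut_mul p hS hw hy, cut_mul p hS (hi.1.mul (hFix f)) hi.1, cut_mul p hS hi.1 (hFix f), hFf,
    cut_pairIdem, (commute_pairIdem_of_cut hf' (cut_cut_self _ i)).eq] at h1
  generalize cut (Subgroup.centralizer (S : Set G) : Set G) i = A at h1 hidem ⊢
  generalize cut (Subgroup.centralizer (S : Set G) : Set G) y = Y at h1
  rw [mul_assoc (pairIdem hf') A A, hidem] at h1
  conv_lhs => rw [← h1, ← mul_assoc, ← mul_assoc, pairIdem_mul_self]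
  exact h1

/-- **The Brauer image of a primitive idempotent below its pair.** -/
theorem IsPrimIn.cut_mul_pairIdem_below (hpM : (p : AlgInt) ∈ M) (hS : IsPGroup p S)
    {i : MonoidAlgebra (ResField M) G} (hi : IsPrimIn S i)
    (h0 : cut (Subgroup.centralizer (S : Set G) : Set G) i ≠ 0)
    {f : Set (IrrCharacter (Subgroup.centralizer (S : Set G)))} (hf : IsPBlock M f)
    (hif : pairIdem hf * cut (Subgroup.centralizer (S : Set G) : Set G) i =
      cut (Subgroup.centralizer (S : Set G) : Set G) i) {Q : Subgroup G}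
    {e : Set (IrrCharacter (Subgroup.centralizer (Q : Set G)))}
    (hle : Relation.ReflTransGen (NormalSubpairRel p M) ⟨Q, e⟩ ⟨S, f⟩) (he : IsPBlock M e) :
    pairIdem he * cut (Subgroup.centralizer (Q : Set G) : Set G) i =
      cut (Subgroup.centralizer (Q : Set G) : Set G) i := by
  haveI := charP_resField (M := M) (Fact.out (p := p.Prime)) hpM
  have hb : IsBrauerPair p M S f := ⟨hS, hf⟩
  induction hn : Nat.card S - Nat.card Q using Nat.strong_induction_on generalizing Q with
  | _ n ih =>
    by_cases hQ : Q = S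
    · subst hQ
      have := below_unique (b := ⟨Q, f⟩) hpM hb hle Relation.ReflTransGen.refl
      subst this
      exact hif
    have hQS : Q ≤ S := below_le hle
    obtain ⟨N, hN⟩ : ∃ N, N = S ⊓ Subgroup.normalizer (Q : Set G) := ⟨_, rfl⟩
    have hQN : Q < N := hN ▸ exists_lt_le_normalizer hS (lt_of_le_of_ne hQS hQ)
    have hNS : N ≤ S := hN ▸ inf_le_left
    have hNQ : N ≤ Subgroup.normalizer (Q : Set G) := hN ▸ inf_le_right
    have hcardlt : ∀ X : Subgroup G, Q < X → X ≤ S → Nat.card S - Nat.card X < n := by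
      intro X hX hXS
      have h1 : Nat.card Q < Nat.card X := Set.Finite.card_lt_card (Set.toFinite _) hX
      have h2 : Nat.card X ≤ Nat.card S := Subgroup.card_le_of_le hXS
      omega
    obtain ⟨eN, heN⟩ := exists_below hpM (b := ⟨S, f⟩) hb N hNS
    have hstep := isNormalSubpair_of_below hpM (b := ⟨S, f⟩) hb hle heN hQN.le hNQ
    have hefix : IsFixedBy N (pairIdem he) := isFixedBy_pairIdem_of_stab he hstep.2.2.2.2.1
    have hAfix : IsFixedBy N (cut (Subgroup.centralizer (Q : Set G) : Set G) i) :=
      isFixedBy_cut (hi.1.mono hNS) hNQ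
    set A := cut (Subgroup.centralizer (Q : Set G) : Set G) i with hA
    have hP := hS.to_le hQS
    have hAA : A * A = A := by rw [hA, ← cut_mul p hP (hi.1.mono hQS) (hi.1.mono hQS), hi.2.1]
    have hcomm : Commute A (pairIdem he) := commute_pairIdem_of_cut he (cut_cut_self _ i)
    obtain ⟨x, hx⟩ : ∃ x, x = A - pairIdem he * A := ⟨_, rfl⟩
    suffices x = 0 by
      rw [hx, sub_eq_zero] at this
      exact this.symm
    have hxfix : IsFixedBy N x := hx ▸ hAfix.sub (hefix.mul hAfix)
    -- the image of `x` at every intermediate subgroup vanishes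
    have hxX : ∀ X : Subgroup G, Q < X → X ≤ N →
        cut (Subgroup.centralizer (X : Set G) : Set G) x = 0 := by
      intro X hQX hXN
      obtain ⟨eX, heX⟩ := exists_below hpM (b := ⟨S, f⟩) hb X (hXN.trans hNS)
      have hPX := hS.to_le (hXN.trans hNS)
      have hsX := isNormalSubpair_of_below hpM (b := ⟨S, f⟩) hb hle heX hQX.le (hXN.trans hNQ)
      have hIH := ih _ (hcardlt X hQX (hXN.trans hNS)) heX hsX.2.1.2 rfl
      have hcX : cut (Subgroup.centralizer (X : Set G) : Set G) A =
          cut (Subgroup.centralizer (X : Set G) : Set G) i := cut_cut_centralizer hQX.le i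
      rw [hx, cut_sub, cut_mul p hPX (hefix.mono hXN) (hAfix.mono hXN), hcX]
      have hc2 := (commute_pairIdem_of_cut hsX.2.1.2
        (cut_cut_self (Subgroup.centralizer (X : Set G) : Set G) (pairIdem he))).eq
      conv_lhs => arg 2; rw [← hIH, ← mul_assoc, hc2, IsNormalSubpair.mul_cut hpM hsX, hIH]
      rw [sub_self]
    have hsuppC : ∀ g, x.coeff g ≠ 0 → g ∈ Subgroup.centralizer (Q : Set G) := by
      intro g hg
      by_contra hgC
      apply hg
      have h1 : cut (Subgroup.centralizer (Q : Set G) : Set G) x = x := by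
        rw [hx, cut_sub, cut_mul p hP (hefix.mono hQN.le) (hAfix.mono hQN.le), cut_pairIdem, hA,
          cut_cut_self]
      exact cut_eq_self_iff.1 h1 g hgC
    have hsupp : ∀ g, x.coeff g ≠ 0 → g ∈ Subgroup.centralizer (Q : Set G) ∧
        S ⊓ Subgroup.normalizer (Q : Set G) ⊓ Subgroup.centralizer ({g} : Set G) ≤ Q := by
      intro g hg
      refine ⟨hsuppC g hg, ?_⟩
      rw [← hN]
      by_contra hle'
      have hQle : Q ≤ N ⊓ Subgroup.centralizer ({g} : Set G) := le_inf hQN.le fun a ha =>
        Subgroup.mem_centralizer_singleton_iff.2 (Subgroup.mem_centralizer_iff.1 (hsuppC g hg) a ha)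
      have hlt : Q < N ⊓ Subgroup.centralizer ({g} : Set G) := lt_of_le_not_ge hQle hle'
      have hgX : g ∈ Subgroup.centralizer ((N ⊓ Subgroup.centralizer ({g} : Set G) : Subgroup G) : Set G) :=
        Subgroup.mem_centralizer_iff.2 fun a ha => Subgroup.mem_centralizer_singleton_iff.1 ha.2
      apply hg
      rw [← coeff_cut_of_mem (S := (Subgroup.centralizer
        ((N ⊓ Subgroup.centralizer ({g} : Set G) : Subgroup G) : Set G) : Set G)) x hgX,
        hxX _ hlt inf_le_left]
      simp
    obtain ⟨y, hy, hyx⟩ := exists_trOver_cut_eq hS hQS (hN ▸ hxfix) hsupp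
    have hiyi : IsFixedBy S (i * y * i) := (hi.1.mul hy).mul hi.1
    have hxe : cut (Subgroup.centralizer (Q : Set G) : Set G) (i * y * i) = x := by
      rw [cut_mul p hP ((hi.1.mul hy).mono hQS) (hi.1.mono hQS),
        cut_mul p hP (hi.1.mono hQS) (hy.mono hQS), hyx, ← hA, hx]
      rw [mul_sub, sub_mul, hAA, hAA, ← mul_assoc A (pairIdem he), hcomm.eq, mul_assoc (pairIdem he),
        hAA, mul_assoc, hAA]
    have hxx : x * x = x := by
      rw [hx, mul_sub, sub_mul, sub_mul, hAA, ← mul_assoc A (pairIdem he), hcomm.eq,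
        mul_assoc (pairIdem he) A A, hAA, mul_assoc (pairIdem he) A (pairIdem he * A),
        ← mul_assoc A, hcomm.eq, mul_assoc (pairIdem he) A A, hAA,
        ← mul_assoc, pairIdem_mul_self]
      abel
    have hl : i * (i * y * i) = i * y * i := by rw [← mul_assoc, ← mul_assoc, hi.2.1]
    have hr : i * y * i * i = i * y * i := by rw [mul_assoc, hi.2.1]
    rcases hi.dichotomy hiyi hl hr with ⟨k, hk⟩ | ⟨z, hz, -, -, hz1, -⟩
    · rcases Nat.eq_zero_or_pos k with rfl | hk0
      · rw [pow_zero] at hk
        rw [← mul_one x, ← map_zero (algebraMap (ResField M) (MonoidAlgebra (ResField M) G)),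
          map_zero, hk, mul_zero]
      obtain ⟨k', rfl⟩ : ∃ k', k = k' + 1 := ⟨k - 1, by omega⟩
      have h := congrArg (cut (Subgroup.centralizer (Q : Set G) : Set G)) hk
      rwa [cut_pow p hP (hiyi.mono hQS), hxe, IsIdempotentElem.pow_succ_eq k'
        (show IsIdempotentElem x from hxx), cut_zero] at h
    -- otherwise `x` is the whole image, which is nonzero at `S`
    exfalso
    have h1 : x * cut (Subgroup.centralizer (Q : Set G) : Set G) z = A := by
      rw [← hxe, ← cut_mul p hP (hiyi.mono hQS) (hz.mono hQS), hz1]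
    have hxA : x = A := by
      have h2 : x * A = A := by conv_lhs => rw [← h1, ← mul_assoc, hxx, h1]
      have h3 : x * A = x := by
        rw [hx, sub_mul, mul_assoc, hAA]
      rw [← h3, h2]
    apply h0
    have h4 := hxX N hQN le_rfl
    rw [hxA, hA, cut_cut_centralizer hQN.le] at h4
    rw [← cut_cut_centralizer hNS, h4, cut_zero]

end CfsgLib.Blocks
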