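import Cfsg.Agent.Lib.Blocks.PrimIdem

/-!
# Additive invariants of idempotents vanish modulo `p` on relative traces

An integer-valued function of the idempotents fixed by `T` which is additive, invariant under
equivalence and invariant under `S` extends modulo `p` to a symmetric linear form; so it is
divisible by `p` on every idempotent which is a trace from `T`, a normal subgroup of index `p`.
-/

set_option linter.unusedSectionVars false
set_option linter.style.haveILetI false

namespace CfsgLib.Blocks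

open Cfsg Chars

variable {G : Type*} [Group G] [Fintype G] {M : Ideal AlgInt} [M.IsPrime] {p : ℕ} [Fact p.Prime]
variable {S T : Subgroup G}

theorem IsPrimIn.residueAt_smul {i : MonoidAlgebra (ResField M) G} (hi : IsPrimIn T i)
    {x : MonoidAlgebra (ResField M) G} (hx : IsFixedBy T x) (c : ResField M) :
    residueAt T i (c • x) = c * residueAt T i x := by
  refine hi.residueAt_unique (hx.smul c) ?_
  rw [mul_smul_comm, smul_mul_assoc, mul_smul, ← smul_sub]
  exact (hi.residueAt_spec hx).smul c

theorem IsPrimIn.conjAlg (hST : S ≤ Subgroup.normalizer (T : Set G)) {u : G} (hu : u ∈ S)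
    {i : MonoidAlgebra (ResField M) G} (hi : IsPrimIn T i) : IsPrimIn T (Blocks.conjAlg u i) := by
  have hinv : ∀ y : MonoidAlgebra (ResField M) G, Blocks.conjAlg u (Blocks.conjAlg u⁻¹ y) = y := by
    intro y
    rw [conjAlg_conjAlg, mul_inv_cancel, conjAlg_eq_self (P := ⊥) (fun a ha g => by
      rw [Subgroup.mem_bot] at ha; subst ha; simp) (Subgroup.one_mem _)]
  refine ⟨isFixedBy_conjAlg hST hu hi.1, by rw [← map_mul, hi.2.1], fun h => hi.2.2.1 ?_,
    fun e he hee h1 h2 => ?_⟩
  · have := congrArg (Blocks.conjAlg u⁻¹) h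
    rwa [map_zero, conjAlg_conjAlg, inv_mul_cancel, conjAlg_eq_self (P := ⊥) (fun a ha g => by
      rw [Subgroup.mem_bot] at ha; subst ha; simp) (Subgroup.one_mem _)] at this
  · have hinv' : ∀ y : MonoidAlgebra (ResField M) G,
        Blocks.conjAlg u⁻¹ (Blocks.conjAlg u y) = y := by
      intro y
      rw [conjAlg_conjAlg, inv_mul_cancel, conjAlg_eq_self (P := ⊥) (fun a ha g => by
        rw [Subgroup.mem_bot] at ha; subst ha; simp) (Subgroup.one_mem _)]
    rcases hi.2.2.2 (Blocks.conjAlg u⁻¹ e) (isFixedBy_conjAlg hST (S.inv_mem hu) he)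
      (by rw [← map_mul, hee]) (by rw [← hinv' i, ← map_mul, h1])
      (by rw [← hinv' i, ← map_mul, h2]) with h | h
    · left; rw [← hinv e, h, map_zero]
    · right; rw [← hinv e, h]

/-- The invariant is divisible by `p` on relative traces. -/
theorem dvd_of_trOver (hpM : (p : AlgInt) ∈ M) (hST : S ≤ Subgroup.normalizer (T : Set G))
    (hTS : T ≤ S) (hcard : Nat.card S = p * Nat.card T)
    (ψ : MonoidAlgebra (ResField M) G → ℤ)
    (hadd : ∀ a b, IsFixedBy T a → IsFixedBy T b → a * a = a → b * b = b → a * b = 0 → b * a = 0 →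
      ψ (a + b) = ψ a + ψ b)
    (hequiv : ∀ a b u v, IsFixedBy T a → IsFixedBy T b → IsFixedBy T u → IsFixedBy T v →
      a * a = a → b * b = b → u * v = a → v * u = b → ψ a = ψ b)
    (hconj : ∀ u ∈ S, ∀ a, IsFixedBy T a → a * a = a → ψ (conjAlg u a) = ψ a)
    {j a : MonoidAlgebra (ResField M) G} (hj : IsFixedBy T j) (hjj : j * j = j)
    (ha : IsFixedBy T a) (hja : j = trOver S T a) : (p : ℤ) ∣ ψ j := by
  classical
  haveI := charP_resField (M := M) (Fact.out (p := p.Prime)) hpM
  obtain ⟨n, f, hf, hfo, hfs⟩ := exists_decomp (S := T) (M := M) IsFixedBy.one (one_mul 1)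
  obtain ⟨F, hF⟩ : ∃ F : MonoidAlgebra (ResField M) G → ResField M,
      ∀ x, F x = ∑ k, (ψ (f k) : ResField M) * residueAt T (f k) x := ⟨_, fun _ => rfl⟩
  have hFadd : ∀ x y, IsFixedBy T x → IsFixedBy T y → F (x + y) = F x + F y := by
    intro x y hx hy
    rw [hF, hF, hF, ← Finset.sum_add_distrib]
    exact Finset.sum_congr rfl fun k _ => by rw [(hf k).residueAt_add hx hy, mul_add]
  have hFsum : ∀ {ι : Type} (s : Finset ι) (g : ι → MonoidAlgebra (ResField M) G),
      (∀ k ∈ s, IsFixedBy T (g k)) → F (∑ k ∈ s, g k) = ∑ k ∈ s, F (g k) := by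
    intro ι s g hg
    rw [hF]
    simp only [hF]
    rw [Finset.sum_comm]
    exact Finset.sum_congr rfl fun k _ => by rw [(hf k).residueAt_sum s hg, Finset.mul_sum]
  have hFsmul : ∀ (c : ResField M) x, IsFixedBy T x → F (c • x) = c * F x := by
    intro c x hx
    rw [hF, hF, Finset.mul_sum]
    exact Finset.sum_congr rfl fun k _ => by rw [(hf k).residueAt_smul hx, mul_left_comm]
  have hsymm : ∀ x y, IsFixedBy T x → IsFixedBy T y → F (x * y) = F (y * x) := by
    intro x y hx hy
    have hexp : ∀ (k : Fin n) (x y : MonoidAlgebra (ResField M) G), IsFixedBy T x → IsFixedBy T y →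
        residueAt T (f k) (x * y) =
          ∑ l, residueAt T (f k) (f k * x * f l * (f l * y * f k)) := by
      intro k x y hx hy
      rw [← (hf k).residueAt_sum Finset.univ fun l _ =>
        (((hf k).1.mul hx).mul (hf l).1).mul (((hf l).1.mul hy).mul (hf k).1)]
      refine (hf k).residueAt_unique (hx.mul hy) ?_
      have e : f k * (x * y) * f k =
          f k * (∑ l, f k * x * f l * (f l * y * f k)) * f k := by
        have e1 : ∀ l, f k * (f k * x * f l * (f l * y * f k)) * f k = f k * x * f l * y * f k := by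
          intro l
          simp only [mul_assoc, (hf k).2.1]
          rw [← mul_assoc (f l) (f l), (hf l).2.1, ← mul_assoc (f k) (f k), (hf k).2.1]
        rw [Finset.mul_sum, Finset.sum_mul, Finset.sum_congr rfl fun l _ => e1 l]
        conv_lhs => rw [show x * y = x * (∑ l, f l) * y by rw [hfs, mul_one]]
        simp only [Finset.mul_sum, Finset.sum_mul, mul_assoc]
      rw [e]
      exact (hf k).residueAt_spec (IsFixedBy.sum _ fun l _ =>
        (((hf k).1.mul hx).mul (hf l).1).mul (((hf l).1.mul hy).mul (hf k).1))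
    rw [hF, hF]
    simp only [hexp _ x y hx hy, hexp _ y x hy hx, Finset.mul_sum]
    rw [Finset.sum_comm]
    refine Finset.sum_congr rfl fun l _ => Finset.sum_congr rfl fun k _ => ?_
    have hA : IsFixedBy T (f k * x * f l) := ((hf k).1.mul hx).mul (hf l).1
    have hB : IsFixedBy T (f l * y * f k) := ((hf l).1.mul hy).mul (hf k).1
    have hkA : f k * (f k * x * f l) = f k * x * f l := by
      rw [← mul_assoc, ← mul_assoc, (hf k).2.1]
    have hAl : f k * x * f l * f l = f k * x * f l := by rw [mul_assoc, (hf l).2.1]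
    have hlB : f l * (f l * y * f k) = f l * y * f k := by
      rw [← mul_assoc, ← mul_assoc, (hf l).2.1]
    have hBk : f l * y * f k * f k = f l * y * f k := by rw [mul_assoc, (hf k).2.1]
    rw [← (hf k).residueAt_mul_comm (hf l) hA hB hkA hAl hlB hBk]
    by_cases hnil : IsNilpotent (f k * x * f l * (f l * y * f k))
    · rw [(hf k).residueAt_eq_zero (hA.mul hB) (by rwa [← mul_assoc (f k), hkA, mul_assoc, hBk]),
        mul_zero, mul_zero]
    obtain ⟨u, v, hu, hv, huv, hvu⟩ := (hf k).exists_equiv (hf l) hA hB hkA hAl hlB hBk hnil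
    rw [hequiv _ _ u v (hf k).1 (hf l).1 hu hv (hf k).2.1 (hf l).2.1 huv hvu]
  have hFf : ∀ k, F (f k) = ψ (f k) := by
    intro k
    rw [hF, Finset.sum_eq_single k]
    · rw [(hf k).residueAt_self, mul_one]
    · intro l _ hl
      rw [(hf l).residueAt_eq_zero (hf k).1 (by rw [hfo l k hl, zero_mul]; exact IsNilpotent.zero),
        mul_zero]
    · simp
  -- every primitive idempotent is equivalent to one of the decomposition
  have hlink : ∀ i, IsPrimIn T i → ∃ k u v, IsFixedBy T u ∧ IsFixedBy T v ∧ u * v = i ∧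
      v * u = f k := by
    intro i hi
    obtain ⟨k, -, hk⟩ : ∃ k ∈ Finset.univ, residueAt T i (f k) ≠ 0 := by
      refine Finset.exists_ne_zero_of_sum_ne_zero ?_
      rw [← hi.residueAt_sum Finset.univ fun k _ => (hf k).1, hfs,
        hi.residueAt_unique IsFixedBy.one (c := 1) (by
          rw [mul_one, hi.2.1, one_smul, sub_self]; exact IsNilpotent.zero)]
      exact one_ne_zero
    refine ⟨k, hi.exists_equiv (hf k) (hi.1.mul (hf k).1) ((hf k).1.mul hi.1)
      (by rw [← mul_assoc, hi.2.1]) (by rw [mul_assoc, (hf k).2.1])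
      (by rw [← mul_assoc, (hf k).2.1]) (by rw [mul_assoc, hi.2.1]) fun hnil => hk ?_⟩
    refine hi.residueAt_eq_zero (hf k).1 ?_
    rwa [mul_assoc i, ← mul_assoc (f k), (hf k).2.1, ← mul_assoc] at hnil
  have hFprim : ∀ i, IsPrimIn T i → F i = ψ i := by
    intro i hi
    obtain ⟨k, u, v, hu, hv, huv, hvu⟩ := hlink i hi
    rw [← huv, hsymm u v hu hv, hvu, hFf, huv,
      hequiv _ _ u v hi.1 (hf k).1 hu hv hi.2.1 (hf k).2.1 huv hvu]
  have hFnil : ∀ i z, IsPrimIn T i → IsFixedBy T z → i * z = z → z * i = z → IsNilpotent z →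
      F z = 0 := by
    intro i z hi hz hiz hzi ⟨m, hm⟩
    obtain ⟨k, u, v, hu, hv, huv, hvu⟩ := hlink i hi
    have e : z = u * (v * z) := by rw [← mul_assoc, huv, hiz]
    rw [e, hsymm u (v * z) hu (hv.mul hz), hF]
    refine Finset.sum_eq_zero fun l _ => ?_
    rw [(hf l).residueAt_eq_zero ((hv.mul hz).mul hu), mul_zero]
    by_cases hl : l = k
    · subst hl
      have hfv : f l * v = v * i := by rw [← hvu, mul_assoc, huv]
      have hfl : f l * (v * z * u) * f l = v * z * u := by
        rw [← mul_assoc, ← mul_assoc, hfv, mul_assoc v i z, hiz, ← hvu]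
        calc v * z * u * (v * u) = v * (z * (u * v)) * u := by simp only [mul_assoc]
          _ = v * z * u := by rw [huv, hzi]
      rw [hfl]
      refine ⟨m + 1, ?_⟩
      have : ∀ r, (v * z * u) ^ (r + 1) = v * z ^ (r + 1) * u := by
        intro r
        induction r with
        | zero => simp
        | succ r ih =>
          rw [pow_succ, ih, pow_succ z (r + 1)]
          calc v * z ^ (r + 1) * u * (v * z * u)
              = v * z ^ (r + 1) * ((u * v) * z) * u := by simp only [mul_assoc]
            _ = v * (z ^ (r + 1) * z) * u := by rw [huv, hiz]; simp only [mul_assoc]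
      rw [this, pow_succ, hm, zero_mul, mul_zero, zero_mul]
    · have hfv : f l * v * z = f l * f k * v * z := by
        conv_rhs => rw [← hvu, mul_assoc (f l) (v * u) v, mul_assoc v u v, huv, ← mul_assoc,
          mul_assoc (f l * v) i z, hiz]
      rw [← mul_assoc, ← mul_assoc, hfv, hfo l k hl]
      simp
  have hFconj : ∀ u ∈ S, ∀ x, IsFixedBy T x → F (conjAlg u x) = F x := by
    intro u hu x hx
    have hx1 : x = ∑ k, ∑ l, f k * x * f l := by
      simp only [← Finset.mul_sum, ← Finset.sum_mul]
      rw [hfs, one_mul, mul_one]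
    have hcf : ∀ y : MonoidAlgebra (ResField M) G, IsFixedBy T y → IsFixedBy T (conjAlg u y) := fun y hy =>
      isFixedBy_conjAlg hST hu hy
    conv_lhs => rw [hx1, map_sum]
    rw [hFsum _ _ fun k _ => hcf _ (IsFixedBy.sum _ fun l _ => ((hf k).1.mul hx).mul (hf l).1), hF]
    refine Finset.sum_congr rfl fun k _ => ?_
    rw [map_sum, hFsum _ _ fun l _ => hcf _ (((hf k).1.mul hx).mul (hf l).1),
      Finset.sum_eq_single k]
    · obtain ⟨z, hz⟩ : ∃ z, z = f k * x * f k - residueAt T (f k) x • f k := ⟨_, rfl⟩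
      have hzf : IsFixedBy T z := hz ▸ (((hf k).1.mul hx).mul (hf k).1).sub ((hf k).1.smul _)
      have hzn : IsNilpotent z := hz ▸ (hf k).residueAt_spec hx
      rw [show f k * x * f k = residueAt T (f k) x • f k + z by rw [hz]; abel, map_add,
        conjAlg_smul, hFadd _ _ ((hcf _ (hf k).1).smul _) (hcf _ hzf), hFsmul _ _ (hcf _ (hf k).1),
        hFprim _ ((hf k).conjAlg hST hu), hconj u hu _ (hf k).1 (hf k).2.1,
        hFnil _ _ ((hf k).conjAlg hST hu) (hcf _ hzf)
          (by rw [← map_mul]; congr 1; rw [hz, mul_sub, mul_smul_comm, (hf k).2.1, ← mul_assoc,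
            ← mul_assoc, (hf k).2.1])
          (by rw [← map_mul]; congr 1; rw [hz, sub_mul, smul_mul_assoc, (hf k).2.1, mul_assoc,
            (hf k).2.1])
          (hzn.map _), add_zero, mul_comm]
    · intro l _ hl
      rw [map_mul, map_mul, hsymm _ _ ((hcf _ (hf k).1).mul (hcf _ hx)) (hcf _ (hf l).1),
        ← map_mul, ← map_mul, ← mul_assoc, hfo l k hl, zero_mul, map_zero, hF]
      exact Finset.sum_eq_zero fun i _ => by rw [(hf i).residueAt_zero, mul_zero]
    · simp
  have hψ0 : ψ 0 = 0 := by
    have := hadd 0 0 IsFixedBy.zero IsFixedBy.zero (mul_zero 0) (mul_zero 0) (mul_zero 0) (mul_zero 0)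
    rw [add_zero] at this
    linarith
  have hFj : F j = ψ j := by
    refine idem_induction (S := T) (C := fun b => F b = (ψ b : ResField M)) ?_ hFprim ?_ j hj hjj
    · rw [hψ0, Int.cast_zero, hF]
      exact Finset.sum_eq_zero fun k _ => by rw [(hf k).residueAt_zero, mul_zero]
    · intro b c hb hc hbb hcc hbc hcb h1 h2
      rw [hFadd b c hb hc, h1, h2, hadd b c hb hc hbb hcc hbc hcb, Int.cast_add]
  have hF0 : F j = 0 := by
    letI := Fintype.ofFinite (S ⧸ T.subgroupOf S)
    have hidx : Fintype.card (S ⧸ T.subgroupOf S) = p := by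
      have h1 := (T.subgroupOf S).card_mul_index
      rw [Nat.card_congr (Subgroup.subgroupOfEquivOfLe hTS).toEquiv, hcard, mul_comm p] at h1
      rw [← Nat.card_eq_fintype_card]
      exact Nat.eq_of_mul_eq_mul_left Nat.card_pos h1
    rw [hja, trOver, hF]
    rw [Finset.sum_congr rfl fun k _ => by
      rw [(hf k).residueAt_sum _ fun q _ => isFixedBy_conjAlg hST (q.out : S).2 ha, Finset.mul_sum]]
    rw [Finset.sum_comm, Finset.sum_congr rfl fun q _ => by
      rw [← hF, hFconj _ (q.out : S).2 a ha]]
    rw [Finset.sum_const, Finset.card_univ, nsmul_eq_mul]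
    have hp0 : (p : ResField M) = 0 := CharP.cast_eq_zero _ p
    convert zero_mul (F a) using 2
    rw [← hp0, ← hidx]
  rw [← CharP.intCast_eq_zero_iff (ResField M) p, ← hFj, hF0]

end CfsgLib.Blocks
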