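import Cfsg.Agent.Lib.Blocks.StarTau
import Cfsg.Agent.Lib.Blocks.TraceDiv
import Cfsg.Agent.Lib.Blocks.Purity

/-!
# The weighted twisted traces form generalized characters of `p`-subgroups
-/

set_option linter.unusedSectionVars false
set_option linter.style.haveILetI false

namespace CfsgLib.Blocks

open Cfsg Chars Polynomial
open scoped ComplexConjugate

variable {G : Type*} [Group G] [Fintype G] {M : Ideal AlgInt} [M.IsPrime] {p : ℕ} [Fact p.Prime]

theorem exists_idem_lift_red (hpM : (p : AlgInt) ∈ M) {S : Subgroup G}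
    {z : MonoidAlgebra (ResField M) G} (hz : IsFixedBy S z) (hzz : z * z = z) :
    ∃ e : MonoidAlgebra (loc M) G, e * e = e ∧ IsFixedBy S e ∧ redAlg e = z := by
  obtain ⟨x, hx, hxz⟩ := exists_fixed_lift S hz
  obtain ⟨W, gM, he, -, -, hW⟩ := exists_idem_poly x
  have hbot : ∀ w : MonoidAlgebra (ResField M) G,
      cut (Subgroup.centralizer ((⊥ : Subgroup G) : Set G) : Set G) w = w := fun w =>
    cut_eq_self_iff.2 fun g hg => absurd (Subgroup.mem_centralizer_iff.2 fun u hu => by
      obtain rfl : u = 1 := Subgroup.mem_bot.1 hu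
      simp) hg
  have key : ∀ q : (loc M)[X], redAlg (aeval x q) = aeval z (q.map red) := fun q => by
    have := cut_redAlg_aeval hpM (P := ⊥) IsPGroup.of_bot (hx.mono bot_le) q
    rwa [hbot, hbot, hxz] at this
  refine ⟨aeval x (X * W), he, hx.aeval _, ?_⟩
  rw [key]
  exact hW z hzz fun q hq => by rw [← key, hq, map_zero]

/-- A class function on a `p`-group vanishing off a normal subgroup of index `p` is a generalized
character if its restriction is one and meets every invariant character in a multiple of `p`. -/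
theorem isGeneralized_of_index_p {S T : Subgroup G} [Fintype S] [Fintype T] (hS : IsPGroup p S)
    (hTS : T ≤ S) (hn : S ≤ Subgroup.normalizer (T : Set G))
    (hcard : Nat.card S = p * Nat.card T) {θ : G → ℂ}
    (hcl : ∀ u ∈ S, ∀ g ∈ S, θ (u * g * u⁻¹) = θ g) (hoff : ∀ g ∈ S, g ∉ T → θ g = 0)
    (hgen : IsGeneralizedCharacter T (fun t : T => θ t))
    (hdiv : ∀ α : IrrCharacter T,
      (∀ u ∈ S, ∀ t t' : T, (t' : G) = u * t * u⁻¹ → (α : T → ℂ) t' = (α : T → ℂ) t) →
        ∃ m : ℤ, classInner (fun t : T => θ t) (α : T → ℂ) = ((p : ℤ) * m : ℤ)) :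
    IsGeneralizedCharacter S (fun u : S => θ u) := by
  classical
  refine isGeneralized_iff_inner.2 ⟨fun g h => by simpa using hcl h h.2 g g.2, fun ξ => ?_⟩
  haveI := irrFintype T
  set ξT : T → ℂ := fun t => (ξ : S → ℂ) ⟨t, hTS t.2⟩ with hξT
  have hξchar : IsCharacter T ξT := isCharacter_comp (Subgroup.inclusion hTS) (isCharacter_of_irr ξ.2)
  choose c hc using (isGeneralized_iff_inner.1 hgen).2
  choose m hm using fun α => inner_irr_right_nat hξchar α
  -- conjugation on `T`
  let cT : S → T →* T := fun u =>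
    { toFun := fun t => ⟨(u : G) * t * (u : G)⁻¹, (Subgroup.mem_normalizer_iff.1 (hn u.2) t).1 t.2⟩
      map_one' := Subtype.ext (by simp)
      map_mul' := fun a b => Subtype.ext (by simp [mul_assoc]) }
  have hsurj : ∀ u, Function.Surjective (cT u) := fun u t =>
    ⟨⟨(u : G)⁻¹ * t * u, by
      simpa using (Subgroup.mem_normalizer_iff.1 (hn (S.inv_mem u.2)) t).1 t.2⟩,
      Subtype.ext (by simp [cT, mul_assoc])⟩
  letI : MulAction S (IrrCharacter T) :=
    { smul := fun u α => ⟨fun t => (α : T → ℂ) (cT u⁻¹ t), isIrrCharacter_comp _ (hsurj u⁻¹) α.2⟩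
      one_smul := fun α => Subtype.ext (funext fun t => congrArg (α : T → ℂ) (Subtype.ext (by
        show ((1 : S)⁻¹ : S) * (t : G) * (((1 : S)⁻¹ : S) : G)⁻¹ = t; simp)))
      mul_smul := fun u v α => Subtype.ext (funext fun t => congrArg (α : T → ℂ) (Subtype.ext (by
        simp [cT, mul_assoc]))) }
  have hsmul : ∀ (u : S) (α : IrrCharacter T) (t : T),
      ((u • α : IrrCharacter T) : T → ℂ) t = (α : T → ℂ) (cT u⁻¹ t) := fun _ _ _ => rfl
  have hinv : ∀ (φ : T → ℂ) (u : S) (α : IrrCharacter T), (∀ t, φ (cT u t) = φ t) →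
      classInner φ ((u • α : IrrCharacter T) : T → ℂ) = classInner φ (α : T → ℂ) := by
    intro φ u α hφ
    rw [inner_def, inner_def]
    congr 1
    rw [← Equiv.sum_comp (Equiv.ofBijective (cT u)
      ⟨fun a b h => by simpa [cT] using congrArg Subtype.val h, hsurj u⟩)]
    refine Finset.sum_congr rfl fun t _ => ?_
    show φ (cT u t) * conj ((α : T → ℂ) (cT u⁻¹ (cT u t))) = _
    rw [hφ, show cT u⁻¹ (cT u t) = t from Subtype.ext (by simp [cT, mul_assoc])]
  have hc' : ∀ (u : S) (α : IrrCharacter T), c (u • α) = c α := fun u α => by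
    have := hinv (fun t : T => θ t) u α fun t => hcl u u.2 t (hTS t.2)
    rw [hc, hc] at this
    exact_mod_cast this
  have hm' : ∀ (u : S) (α : IrrCharacter T), m (u • α) = m α := fun u α => by
    have := hinv ξT u α fun t => by
      show (ξ : S → ℂ) _ = (ξ : S → ℂ) _
      rw [← isClassFunction_irr ξ ⟨t, hTS t.2⟩ u]
      rfl
    rw [hm, hm] at this
    exact_mod_cast this
  have hdvd : (p : ℤ) ∣ ∑ α : IrrCharacter T, c α * m α := by
    rw [← ZMod.intCast_zmod_eq_zero_iff_dvd, Int.cast_sum]
    rw [sum_eq_sum_fixedPoints p hS (fun α : IrrCharacter T => ((c α * m α : ℤ) : ZMod p))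
      (fun u α => by simp only [hc', hm'])]
    refine Finset.sum_eq_zero fun α hα => ?_
    obtain ⟨n, hn'⟩ := hdiv α fun u hu t t' htt => by
      have hfix := congrArg (fun β : IrrCharacter T => (β : T → ℂ) t')
        ((Finset.mem_filter.1 hα).2 ⟨u, hu⟩)
      simp only [hsmul] at hfix
      rw [← hfix]
      refine congrArg (α : T → ℂ) (Subtype.ext ?_)
      show (((⟨u, hu⟩ : S)⁻¹ : S) : G) * (t' : G) * (((⟨u, hu⟩ : S)⁻¹ : S) : G)⁻¹ = (t : G)
      rw [htt]
      push_cast
      group
    rw [hc] at hn'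
    rw [show c α = (p : ℤ) * n by exact_mod_cast hn']
    simp
  obtain ⟨n, hn'⟩ := hdvd
  refine ⟨n, ?_⟩
  have hT : classInner (fun t : T => θ t) ξT = ((∑ α : IrrCharacter T, c α * m α : ℤ) : ℂ) := by
    rw [inner_eq_sum (isClassFunction_of_isGeneralized hgen), Int.cast_sum]
    refine Finset.sum_congr rfl fun α _ => ?_
    rw [hc, hm]
    simp
  rw [hn', inner_def] at hT
  rw [inner_def]
  have hsum : ∑ g : S, θ g * conj ((ξ : S → ℂ) g) = ∑ t : T, θ t * conj (ξT t) := by
    symm
    refine Finset.sum_bij_ne_zero (fun t _ _ => (⟨t, hTS t.2⟩ : S)) (by simp) (fun a _ _ b _ _ h =>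
      Subtype.ext (congrArg (fun w : S => (w : G)) h)) (fun g _ hg => ?_) fun _ _ _ => rfl
    have hgT : (g : G) ∈ T := by
      by_contra h
      exact hg (by rw [hoff g g.2 h, zero_mul])
    exact ⟨⟨g, hgT⟩, Finset.mem_univ _, by exact hg, rfl⟩
  rw [hsum, hcard, Nat.cast_mul, mul_inv, mul_assoc, hT]
  push_cast
  rw [← mul_assoc, inv_mul_cancel₀ (Nat.cast_ne_zero.2 (Fact.out (p := p.Prime)).ne_zero), one_mul]

/-- **The local integrality theorem of Broué and Puig**: for a stable generalized character `η` of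
the group of the pair, the weighted twisted traces of a fixed idempotent form a generalized
character of the `p`-subgroup. -/
theorem isGeneralized_starTau (hpM : (p : AlgInt) ∈ M) {B : Set (IrrCharacter G)}
    {c : BrauerPairIdx G} {η : G → ℂ} (hc : IsMaximalBrauerPair p M B c.1 c.2) (hη : IsPairStable p M c η)
    (hgen : IsGeneralizedCharacter c.1 (fun u : c.1 => η u)) (χ : IrrCharacter G) :
    ∀ (S : Subgroup G), IsPGroup p S → ∀ z : MonoidAlgebra (ResField M) G, IsFixedBy S z →
      z * z = z →
        IsGeneralizedCharacter S (fun u : S => starTau p c η (χ : G → ℂ) (u : G) z) := by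
  classical
  haveI := charP_resField (M := M) (Fact.out (p := p.Prime)) hpM
  have hθ : IsLocClassFun M (χ : G → ℂ) := ⟨isClassFunction_irr χ, irr_mem_loc χ⟩
  intro S
  induction hcard : Nat.card S using Nat.strong_induction_on generalizing S with
  | _ n ih =>
  intro hS z hz hzz
  haveI := Fintype.ofFinite S
  have hpow : ∀ {u : G}, u ∈ S → ∃ k : ℕ, u ^ p ^ k = 1 := fun {u} hu => by
    obtain ⟨k, hk⟩ := hS ⟨u, hu⟩
    exact ⟨k, congrArg Subtype.val hk⟩
  have hfix : ∀ {u : G}, u ∈ S → ∀ {w : MonoidAlgebra (ResField M) G}, IsFixedBy S w →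
      IsFixedBy (Subgroup.zpowers u) w := fun hu _ hw => hw.mono (Subgroup.zpowers_le.2 hu)
  have hzero : IsGeneralizedCharacter S (0 : S → ℂ) :=
    ⟨0, 0, isCharacter_zero, isCharacter_zero, (sub_zero _).symm⟩
  refine idem_induction (S := S) (C := fun z =>
    IsGeneralizedCharacter S (fun u : S => starTau p c η (χ : G → ℂ) (u : G) z)) ?_ ?_ ?_ z hz hzz
  · convert hzero using 1
    funext u
    exact starTau_zero hpM hθ (hpow u.2) (cut_zero _)
  · intro i hi
    by_cases h0 : cut (Subgroup.centralizer (S : Set G) : Set G) i = 0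
    · -- a trace from a subgroup of index `p`
      obtain ⟨T, a, hTlt, hn, hTcard, haT, hia⟩ := hi.exists_trOver hS h0
      haveI := Fintype.ofFinite T
      have hlt : Nat.card T < n := by
        rw [← hcard, hTcard]
        exact lt_mul_of_one_lt_left Nat.card_pos (Fact.out (p := p.Prime)).one_lt
      have hT := hS.to_le hTlt.le
      have hTgen : ∀ w, IsFixedBy T w → w * w = w →
          IsGeneralizedCharacter T (fun t : T => starTau p c η (χ : G → ℂ) (t : G) w) :=
        fun w hw hww => ih _ hlt T rfl hT w hw hww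
      refine isGeneralized_of_index_p (θ := fun g => starTau p c η (χ : G → ℂ) g i) hS hTlt.le hn
        hTcard (fun u hu g hg => ?_) (fun g hg hgT => ?_) (hTgen i (hi.1.mono hTlt.le) hi.2.1) ?_
      · have := starTau_conj hpM hθ hη (hpow hg) u (hfix hg hi.1) hi.2.1
        rwa [conjAlg_eq_self hi.1 hu] at this
      · refine starTau_zero hpM hθ (hpow hg) ?_
        rw [hia]
        exact cut_trOver_eq_zero hpM hS hn hg hgT haT
      intro α hα
      obtain ⟨ψ, hψ⟩ : ∃ ψ : MonoidAlgebra (ResField M) G → ℤ, ∀ w, IsFixedBy T w → w * w = w →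
          classInner (fun t : T => starTau p c η (χ : G → ℂ) (t : G) w) (α : T → ℂ) = (ψ w : ℤ) := by
        refine ⟨fun w => if h : IsFixedBy T w ∧ w * w = w then
          ((isGeneralized_iff_inner.1 (hTgen w h.1 h.2)).2 α).choose else 0, fun w hw hww => ?_⟩
        show _ = (((dite _ _ _) : ℤ) : ℂ)
        rw [dif_pos ⟨hw, hww⟩]
        exact ((isGeneralized_iff_inner.1 (hTgen w hw hww)).2 α).choose_spec
      have hTfix : ∀ (t : T) {w : MonoidAlgebra (ResField M) G}, IsFixedBy T w →
          IsFixedBy (Subgroup.zpowers (t : G)) w := fun t _ hw => hw.mono (Subgroup.zpowers_le.2 t.2)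
      suffices hdvd' : (p : ℤ) ∣ ψ i by
        obtain ⟨k, hk⟩ := hdvd'
        exact ⟨k, by rw [hψ i (hi.1.mono hTlt.le) hi.2.1, hk]⟩
      have hdiv : (p : ℤ) ∣ ψ i := by
        refine dvd_of_trOver hpM hn hTlt.le hTcard ψ (fun a b ha hb haa hbb hab hba => ?_)
          (fun a b u v ha hb hu hv haa hbb huv hvu => ?_) (fun u hu a ha haa => ?_)
          (hi.1.mono hTlt.le) hi.2.1 haT hia
        · have hab' : (a + b) * (a + b) = a + b := by
            simp only [add_mul, mul_add, haa, hbb, hab, hba, add_zero, zero_add]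
          apply Int.cast_injective (α := ℂ)
          rw [Int.cast_add, ← hψ _ (ha.add hb) hab', ← hψ a ha haa, ← hψ b hb hbb,
            ← Chars.inner_add_left]
          congr 1
          funext t
          exact starTau_add hpM hθ (hpow (hTlt.le t.2)) (hTfix t ha) (hTfix t hb) haa hbb hab hba
        · apply Int.cast_injective (α := ℂ)
          rw [← hψ a ha haa, ← hψ b hb hbb]
          congr 1
          funext t
          exact starTau_eq_of_equiv hpM hθ (hpow (hTlt.le t.2)) (hTfix t ha) (hTfix t hb)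
            (hTfix t hu) (hTfix t hv) haa hbb huv hvu
        · apply Int.cast_injective (α := ℂ)
          rw [← hψ _ (isFixedBy_conjAlg hn hu ha) (by rw [← map_mul, haa]), ← hψ a ha haa,
            inner_def, inner_def]
          congr 1
          let e : T ≃ T :=
            { toFun := fun t => ⟨u * t * u⁻¹, (Subgroup.mem_normalizer_iff.1 (hn hu) t).1 t.2⟩
              invFun := fun t => ⟨u⁻¹ * t * u, by
                simpa using (Subgroup.mem_normalizer_iff.1 (hn (S.inv_mem hu)) t).1 t.2⟩
              left_inv := fun t => Subtype.ext (by simp [mul_assoc])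
              right_inv := fun t => Subtype.ext (by simp [mul_assoc]) }
          rw [← Equiv.sum_comp e]
          refine Finset.sum_congr rfl fun t _ => ?_
          show starTau p c η (χ : G → ℂ) (u * t * u⁻¹) (conjAlg u a) * conj ((α : T → ℂ) (e t)) = _
          rw [starTau_conj hpM hθ hη (hpow (hTlt.le t.2)) u (hTfix t ha) haa, hα u hu t (e t) rfl]
      exact hdiv
    · -- the pair of the idempotent
      obtain ⟨f, hf, hif⟩ := hi.exists_block hpM hS h0
      have hb : IsBrauerPair p M S f := ⟨hS, hf⟩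
      have hterm : ∀ u : S, ∃ b : Set (IrrCharacter (Subgroup.centralizer (Subgroup.zpowers (u : G) : Set G))),
          Relation.ReflTransGen (NormalSubpairRel p M) ⟨Subgroup.zpowers (u : G), b⟩ ⟨S, f⟩ ∧
          starTau p c η (χ : G → ℂ) (u : G) i = pairWeight p M c η ⟨Subgroup.zpowers (u : G), b⟩ (u : G) *
            secTau (χ : G → ℂ) (u : G) i := by
        intro u
        obtain ⟨b, hb'⟩ := exists_below hpM (b := ⟨S, f⟩) hb (Subgroup.zpowers (u : G))
          (Subgroup.zpowers_le.2 u.2)
        have hbB := (below_isBrauerPair hb' hb).2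
        have hpure := hi.cut_mul_pairIdem_below hpM hS h0 hf hif hb' hbB
        refine ⟨b, hb', ?_⟩
        rw [starTau, Finset.sum_eq_single (⟨Subgroup.zpowers (u : G), b⟩ : BrauerPairIdx G)]
        · rw [pairE_eq (a := ⟨Subgroup.zpowers (u : G), b⟩) hbB, hpure,
            secTau_congr (z' := i) (cut_cut_self _ i)]
        · intro d hd hdne
          obtain ⟨Q, b'⟩ := d
          obtain ⟨rfl, hb''⟩ := mem_pairsAt.1 hd
          have hne : b' ≠ b := fun h => hdne (by rw [h])
          rw [pairE_eq (a := ⟨Subgroup.zpowers (u : G), b'⟩) hb'', ← hpure, ← mul_assoc,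
            pairIdem_mul_of_ne hb'' hbB hne, zero_mul,
            secTau_zero hpM hθ (hpow u.2) (cut_zero _), mul_zero]
        · exact fun h => absurd (mem_pairsAt.2 ⟨rfl, hbB⟩) h
      by_cases hB : ∃ x : G, Relation.ReflTransGen (NormalSubpairRel p M) (conjPair x ⟨S, f⟩) c
      · obtain ⟨x, hx⟩ := hB
        obtain ⟨e, hee, hef, hered⟩ := exists_idem_lift_red hpM hi.1 hi.2.1
        obtain ⟨m, ρ, -, hρ⟩ := χ.2
        have hxS : ∀ u : S, x * (u : G) * x⁻¹ ∈ c.1 := fun u => below_le hx ⟨u, u.2, rfl⟩
        let φ : S →* c.1 :=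
          { toFun := fun u => ⟨x * u * x⁻¹, hxS u⟩
            map_one' := Subtype.ext (by simp)
            map_mul' := fun a b => Subtype.ext (by simp [mul_assoc]) }
        have hchar : IsCharacter S (fun u : S => secTrace (χ : G → ℂ) (u : G) e) := by
          rw [← hρ]; exact isCharacter_secTrace ρ hee hef
        obtain ⟨α, β, hα, hβ, hαβ⟩ := hgen
        refine ⟨(fun u : S => α (φ u)) * fun u : S => secTrace (χ : G → ℂ) (u : G) e,
          (fun u : S => β (φ u)) * fun u : S => secTrace (χ : G → ℂ) (u : G) e,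
          isCharacter_mul (isCharacter_comp φ hα) hchar, isCharacter_mul (isCharacter_comp φ hβ) hchar,
          funext fun u => ?_⟩
        obtain ⟨b, hb', hval⟩ := hterm u
        rw [hval, pairWeight_eq hη (Subgroup.mem_zpowers _) ((below_conj hb' x).trans hx),
          secTau_eq hpM hθ (hpow u.2) hee (hfix u.2 hi.1 |> fun _ => hef.mono (Subgroup.zpowers_le.2 u.2))
            (by rw [hered])]
        have h1 := congrFun hαβ (φ u)
        simp only [Pi.sub_apply, Pi.mul_apply] at h1 ⊢
        rw [← sub_mul, ← h1]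
        rfl
      · convert hzero using 1
        funext u
        obtain ⟨b, hb', hval⟩ := hterm u
        rw [hval, pairWeight_of_not, zero_mul]
        · rfl
        rintro ⟨x, hx⟩
        -- the pair `(S, f)` would lie in the same block
        have h1 := isBrauerPairOf_conj ((isBrauerPairOf_iff_of_below hpM hx B).2 hc.1) x⁻¹
        rw [conjPair_mul, inv_mul_cancel, conjPair_one] at h1
        exact hB (exists_conj_below hpM hc ((isBrauerPairOf_iff_of_below hpM hb' B).1 h1))
  · intro a b ha hb haa hbb hab hba h1 h2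
    obtain ⟨α, β, hα, hβ, e1⟩ := h1
    obtain ⟨α', β', hα', hβ', e2⟩ := h2
    refine ⟨α + α', β + β', isCharacter_add hα hα', isCharacter_add hβ hβ', funext fun u => ?_⟩
    rw [starTau_add hpM hθ (hpow u.2) (hfix u.2 ha) (hfix u.2 hb) haa hbb hab hba, congrFun e1 u,
      congrFun e2 u]
    simp only [Pi.sub_apply, Pi.add_apply]
    ring

end CfsgLib.Blocks
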