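import Cfsg.Agent.Lib.Blocks.IdemLift

/-!
# Twisted traces of Brauer images, and traces of group ring idempotents as characters
-/

set_option linter.unusedSectionVars false
set_option linter.style.haveILetI false

namespace CfsgLib.Blocks

open Cfsg Chars Polynomial

variable {G : Type*} [Group G] [Fintype G] {M : Ideal AlgInt} [M.IsPrime] {p : ℕ} [Fact p.Prime]

open scoped Classical in
/-- The twisted trace attached to the Brauer image at `s` of an element of the group ring modulo
`M`: the value of `θ` on `e * s` for any idempotent `e` lifting that image. -/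
noncomputable def secTauAux (θ : G → ℂ) (s : G) (w : MonoidAlgebra (ResField M) G) : ℂ :=
  if h : ∃ e : MonoidAlgebra (loc M) G, e * e = e ∧ IsFixedBy (Subgroup.zpowers s) e ∧
      cut (Subgroup.centralizer (Subgroup.zpowers s : Set G) : Set G) (redAlg e) = w
  then secTrace θ s h.choose else 0

/-- The twisted trace attached to the Brauer image at `s` of an element. -/
noncomputable def secTau (θ : G → ℂ) (s : G) (z : MonoidAlgebra (ResField M) G) : ℂ :=
  secTauAux θ s (cut (Subgroup.centralizer (Subgroup.zpowers s : Set G) : Set G) z)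

variable {θ : G → ℂ} {s : G}

theorem secTau_congr {z z' : MonoidAlgebra (ResField M) G}
    (h : cut (Subgroup.centralizer (Subgroup.zpowers s : Set G) : Set G) z =
      cut (Subgroup.centralizer (Subgroup.zpowers s : Set G) : Set G) z') :
    secTau θ s z = secTau θ s z' := by
  rw [secTau, secTau, h]

theorem secTau_eq (hpM : (p : AlgInt) ∈ M) (hθ : IsLocClassFun M θ) (hs : ∃ k : ℕ, s ^ p ^ k = 1)
    {z : MonoidAlgebra (ResField M) G} {e : MonoidAlgebra (loc M) G} (he : e * e = e)
    (hef : IsFixedBy (Subgroup.zpowers s) e)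
    (hcut : cut (Subgroup.centralizer (Subgroup.zpowers s : Set G) : Set G) (redAlg e) =
        cut (Subgroup.centralizer (Subgroup.zpowers s : Set G) : Set G) z) :
    secTau θ s z = secTrace θ s e := by
  have h : ∃ e : MonoidAlgebra (loc M) G, e * e = e ∧ IsFixedBy (Subgroup.zpowers s) e ∧
      cut (Subgroup.centralizer (Subgroup.zpowers s : Set G) : Set G) (redAlg e) =
        cut (Subgroup.centralizer (Subgroup.zpowers s : Set G) : Set G) z := ⟨e, he, hef, hcut⟩
  rw [secTau, secTauAux, dif_pos h]
  obtain ⟨h1, h2, h3⟩ := h.choose_spec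
  have hP := isPGroup_zpowers hs
  refine secTrace_eq_of_equiv hpM hθ hs h1 he h2 hef h2 hef ?_ ?_
  · rw [cut_redAlg_mul hpM hP h2 hef, hcut, h3]
    conv_rhs => rw [← h3, ← h1, cut_redAlg_mul hpM hP h2 h2, h3]
  · rw [cut_redAlg_mul hpM hP hef h2, hcut, h3]
    conv_rhs => rw [← hcut, ← he, cut_redAlg_mul hpM hP hef hef, hcut]

theorem exists_idem_lift (hpM : (p : AlgInt) ∈ M) {P : Subgroup G} (hP : IsPGroup p P)
    {z : MonoidAlgebra (ResField M) G} (hz : IsFixedBy P z)
    (hidem : cut (Subgroup.centralizer (P : Set G) : Set G) z *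
      cut (Subgroup.centralizer (P : Set G) : Set G) z =
        cut (Subgroup.centralizer (P : Set G) : Set G) z) :
    ∃ e : MonoidAlgebra (loc M) G, e * e = e ∧ IsFixedBy P e ∧
      cut (Subgroup.centralizer (P : Set G) : Set G) (redAlg e) =
        cut (Subgroup.centralizer (P : Set G) : Set G) z := by
  obtain ⟨x, hx, hxz⟩ := exists_fixed_lift P hz
  obtain ⟨w, hw, -, hidem', hc⟩ := exists_idem_of_cut hpM hP hx (by rw [hxz]; exact hidem)
  exact ⟨x * w, hidem', hx.mul hw, by rw [hc, hxz]⟩

theorem secTau_add (hpM : (p : AlgInt) ∈ M) (hθ : IsLocClassFun M θ) (hs : ∃ k : ℕ, s ^ p ^ k = 1)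
    {z z' : MonoidAlgebra (ResField M) G} (hz : IsFixedBy (Subgroup.zpowers s) z)
    (hz' : IsFixedBy (Subgroup.zpowers s) z')
    (h1 : cut (Subgroup.centralizer (Subgroup.zpowers s : Set G) : Set G) z *
      cut (Subgroup.centralizer (Subgroup.zpowers s : Set G) : Set G) z =
        cut (Subgroup.centralizer (Subgroup.zpowers s : Set G) : Set G) z)
    (h2 : cut (Subgroup.centralizer (Subgroup.zpowers s : Set G) : Set G) z' *
      cut (Subgroup.centralizer (Subgroup.zpowers s : Set G) : Set G) z' =
        cut (Subgroup.centralizer (Subgroup.zpowers s : Set G) : Set G) z')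
    (h12 : cut (Subgroup.centralizer (Subgroup.zpowers s : Set G) : Set G) z *
      cut (Subgroup.centralizer (Subgroup.zpowers s : Set G) : Set G) z' = 0)
    (h21 : cut (Subgroup.centralizer (Subgroup.zpowers s : Set G) : Set G) z' *
      cut (Subgroup.centralizer (Subgroup.zpowers s : Set G) : Set G) z = 0) :
    secTau θ s (z + z') = secTau θ s z + secTau θ s z' := by
  have hP := isPGroup_zpowers hs
  set A := cut (Subgroup.centralizer (Subgroup.zpowers s : Set G) : Set G) z with hA
  set A' := cut (Subgroup.centralizer (Subgroup.zpowers s : Set G) : Set G) z' with hA'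
  have hsum : cut (Subgroup.centralizer (Subgroup.zpowers s : Set G) : Set G) (z + z') = A + A' :=
    cut_add _ _ _
  obtain ⟨c, hc, hcf, hcc⟩ := exists_idem_lift hpM hP (hz.add hz') (by
    rw [hsum]; simp only [add_mul, mul_add, h1, h2, h12, h21, add_zero, zero_add])
  rw [hsum] at hcc
  obtain ⟨x, hxf, hxz⟩ := exists_fixed_lift (Subgroup.zpowers s) hz
  have hcx : cut (Subgroup.centralizer (Subgroup.zpowers s : Set G) : Set G) (redAlg (c * x * c)) =
      A := by
    rw [cut_redAlg_mul hpM hP (hcf.mul hxf) hcf, cut_redAlg_mul hpM hP hcf hxf, hcc, hxz, ← hA]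
    simp only [add_mul, mul_add, h1, h21, h12, add_zero, zero_mul]
  obtain ⟨w, hwf, hcomm, hidem, hw⟩ := exists_idem_of_cut hpM hP ((hcf.mul hxf).mul hcf)
    (by rw [hcx, h1])
  rw [hcx] at hw
  obtain ⟨e, he⟩ : ∃ e, e = c * x * c * w := ⟨_, rfl⟩
  rw [← he] at hidem hw
  have hce : c * e = e := by rw [he]; simp only [← mul_assoc, hc]
  have hec : e * c = e := by
    rw [he, hcomm.eq]; simp only [mul_assoc, hc]
  have hef : IsFixedBy (Subgroup.zpowers s) e := he ▸ ((hcf.mul hxf).mul hcf).mul hwf
  rw [secTau_eq hpM hθ hs hc hcf (by rw [hcc, hsum]), secTau_eq hpM hθ hs hidem hef hw,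
    secTau_eq hpM hθ hs (e := c - e) (z := z') ?_ (hcf.sub hef) ?_, secTrace_sub, add_sub_cancel]
  · rw [sub_mul, mul_sub, mul_sub, hc, hce, hec, hidem]; abel
  · rw [map_sub, cut_sub, hcc, hw, add_sub_cancel_left, ← hA']

theorem secTau_zero (hpM : (p : AlgInt) ∈ M) (hθ : IsLocClassFun M θ)
    (hs : ∃ k : ℕ, s ^ p ^ k = 1) {z : MonoidAlgebra (ResField M) G}
    (hz : cut (Subgroup.centralizer (Subgroup.zpowers s : Set G) : Set G) z = 0) :
    secTau θ s z = 0 := by
  rw [secTau_eq hpM hθ hs (e := 0) (mul_zero 0) IsFixedBy.zero (by rw [map_zero, cut_zero, hz])]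
  simp [secTrace]

theorem secTau_eq_of_equiv (hpM : (p : AlgInt) ∈ M) (hθ : IsLocClassFun M θ)
    (hs : ∃ k : ℕ, s ^ p ^ k = 1) {a e u v : MonoidAlgebra (ResField M) G}
    (ha : IsFixedBy (Subgroup.zpowers s) a) (he : IsFixedBy (Subgroup.zpowers s) e)
    (hu : IsFixedBy (Subgroup.zpowers s) u) (hv : IsFixedBy (Subgroup.zpowers s) v)
    (haa : cut (Subgroup.centralizer (Subgroup.zpowers s : Set G) : Set G) a *
      cut (Subgroup.centralizer (Subgroup.zpowers s : Set G) : Set G) a =
        cut (Subgroup.centralizer (Subgroup.zpowers s : Set G) : Set G) a)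
    (hee : cut (Subgroup.centralizer (Subgroup.zpowers s : Set G) : Set G) e *
      cut (Subgroup.centralizer (Subgroup.zpowers s : Set G) : Set G) e =
        cut (Subgroup.centralizer (Subgroup.zpowers s : Set G) : Set G) e)
    (huv : cut (Subgroup.centralizer (Subgroup.zpowers s : Set G) : Set G) u *
      cut (Subgroup.centralizer (Subgroup.zpowers s : Set G) : Set G) v =
        cut (Subgroup.centralizer (Subgroup.zpowers s : Set G) : Set G) a)
    (hvu : cut (Subgroup.centralizer (Subgroup.zpowers s : Set G) : Set G) v *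
      cut (Subgroup.centralizer (Subgroup.zpowers s : Set G) : Set G) u =
        cut (Subgroup.centralizer (Subgroup.zpowers s : Set G) : Set G) e) :
    secTau θ s a = secTau θ s e := by
  have hP := isPGroup_zpowers hs
  obtain ⟨a', ha', ha'f, hca⟩ := exists_idem_lift hpM hP ha haa
  obtain ⟨e', he', he'f, hce⟩ := exists_idem_lift hpM hP he hee
  obtain ⟨u', hu', rfl⟩ := exists_fixed_lift (Subgroup.zpowers s) hu
  obtain ⟨v', hv', rfl⟩ := exists_fixed_lift (Subgroup.zpowers s) hv
  rw [secTau_eq hpM hθ hs ha' ha'f hca, secTau_eq hpM hθ hs he' he'f hce]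
  exact secTrace_eq_of_equiv hpM hθ hs ha' he' ha'f he'f hu' hv'
    (by rw [cut_redAlg_mul hpM hP hu' hv', huv, hca])
    (by rw [cut_redAlg_mul hpM hP hv' hu', hvu, hce])

/-! ## Representations of the group ring over the local ring -/

section Rep

variable {V : Type*} [AddCommGroup V] [Module ℂ V]

/-- The action of the group ring over the local ring in a complex representation. -/
noncomputable def locRep (ρ : Representation ℂ G V) :
    MonoidAlgebra (loc M) G →+* Module.End ℂ V :=
  ρ.asAlgebraHom.toRingHom.comp (MonoidAlgebra.mapRingHom G (loc M).subtype)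

theorem locRep_single (ρ : Representation ℂ G V) (g : G) (c : loc M) :
    locRep ρ (MonoidAlgebra.single g c) = (c : ℂ) • ρ g := by
  simp [locRep]

theorem secTrace_eq_trace (ρ : Representation ℂ G V) (s : G) (x : MonoidAlgebra (loc M) G) :
    secTrace ρ.character s x = LinearMap.trace ℂ V (locRep ρ x * ρ s) := by
  conv_rhs => rw [sum_single_coeff x, map_sum, Finset.sum_mul, map_sum]
  refine Finset.sum_congr rfl fun g _ => ?_
  rw [locRep_single, smul_mul_assoc, map_smul, ← map_mul, smul_eq_mul]
  rfl

/-- For an idempotent fixed by `S` the twisted traces form a character of `S`. -/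
theorem isCharacter_secTrace [FiniteDimensional ℂ V] (ρ : Representation ℂ G V) {S : Subgroup G}
    {e : MonoidAlgebra (loc M) G} (he : e * e = e) (hef : IsFixedBy S e) :
    IsCharacter S (fun u : S => secTrace ρ.character (u : G) e) := by
  set W := LinearMap.range (locRep ρ e) with hW
  have hcomm : ∀ u : S, locRep ρ e * ρ u = ρ u * locRep ρ e := by
    intro u
    have h1 := ((isFixedBy_iff_commute.1 hef) u u.2).map (locRep (M := M) ρ)
    rw [locRep_single] at h1
    simpa using h1.eq
  have hmem : ∀ u : S, ∀ x ∈ W, ρ u x ∈ W := by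
    rintro u - ⟨y, rfl⟩
    exact ⟨ρ u y, by rw [← Module.End.mul_apply, hcomm u]; rfl⟩
  let σ : Representation ℂ S W :=
    { toFun := fun u => (ρ u).restrict (hmem u)
      map_one' := by ext x; simp [LinearMap.restrict_apply]
      map_mul' := fun u v => by ext x; simp [LinearMap.restrict_apply] }
  have hσ : σ.character = fun u : S => secTrace ρ.character (u : G) e := by
    funext u
    rw [secTrace_eq_trace]
    have hall : ∀ x, (locRep ρ e * ρ u) x ∈ W := fun x => ⟨ρ u x, rfl⟩
    rw [← LinearMap.trace_restrict_eq_of_forall_mem W _ hall]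
    show LinearMap.trace ℂ W ((ρ u).restrict (hmem u)) = _
    congr 1
    ext ⟨x, y, rfl⟩
    show ρ u (locRep ρ e y) = locRep ρ e (ρ u (locRep ρ e y))
    rw [← Module.End.mul_apply (ρ u), ← hcomm u, ← Module.End.mul_apply (locRep ρ e),
      ← mul_assoc, ← map_mul, he]
  rw [← hσ]
  exact Chars.isCharacter_character σ

/-- The trace of an element nilpotent modulo `M` lies in the local ideal. -/
theorem memLocalIdeal_secTrace_of_nilpotent [FiniteDimensional ℂ V] (ρ : Representation ℂ G V)
    {x : MonoidAlgebra (loc M) G} (hx : IsNilpotent (redAlg x)) :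
    MemLocalIdeal M (secTrace ρ.character 1 x) := by
  obtain ⟨n, hn⟩ := hx
  obtain ⟨W, gM, hidem, hgM, hroot, hz⟩ := exists_idem_poly (x ^ n)
  have hred : redAlg (aeval (x ^ n) (X * W)) = 0 := by
    rw [map_mul, aeval_X, map_mul, map_pow, hn, zero_mul]
  have hkill := hgM (idem_eq_zero_of_red_eq_zero hidem hred)
  rw [secTrace_eq_trace, map_one, mul_one,
    Module.End.trace_eq_sum_roots_charpoly_of_splits (IsAlgClosed.splits _)]
  refine Multiset.sum_induction (MemLocalIdeal M) _ (fun _ _ => MemLocalIdeal.add')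
    MemLocalIdeal.zero' fun r hr => ?_
  rw [Polynomial.mem_roots (LinearMap.charpoly_monic _).ne_zero,
    ← Module.End.hasEigenvalue_iff_isRoot_charpoly] at hr
  obtain ⟨v, hv⟩ := hr.exists_hasEigenvector
  have hpow : ∀ k, locRep ρ (x ^ k) v = r ^ k • v := fun k => by
    rw [map_pow]; exact hv.pow_apply k
  have heval : ∀ q : (loc M)[X],
      locRep ρ (aeval (x ^ n) q) v = q.eval₂ (loc M).subtype (r ^ n) • v := by
    intro q
    induction q using Polynomial.induction_on' with
    | add a b ha hb =>
      rw [map_add, map_add, LinearMap.add_apply, ha, hb, eval₂_add, add_smul]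
    | monomial k c =>
      rw [aeval_monomial, eval₂_monomial, ← pow_mul, ← pow_mul, ← Algebra.smul_def]
      have e : locRep ρ (c • x ^ (n * k)) = (c : ℂ) • locRep ρ (x ^ (n * k)) := by
        have e1 : c • x ^ (n * k) = MonoidAlgebra.single 1 c * x ^ (n * k) := by
          apply MonoidAlgebra.ext
          ext g
          simp
        rw [e1, map_mul, locRep_single, map_one, smul_one_mul]
      rw [e, LinearMap.smul_apply, hpow, smul_smul]
      rfl
  have h0 := heval gM
  rw [hkill, map_zero, LinearMap.zero_apply] at h0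
  have hn' : MemLocalIdeal M (r ^ n) := hroot _ ((smul_eq_zero.1 h0.symm).resolve_right hv.2)
  rcases Nat.eq_zero_or_pos n with rfl | hn0
  · rw [pow_zero] at hn'
    exact absurd hn' not_memLocalIdeal_one
  have hrloc : r ∈ loc M := mem_loc_of_root (P := X ^ n - C ⟨r ^ n, MemLocalIdeal.mem_loc hn'⟩)
    (monic_X_pow_sub_C _ hn0.ne') (by simp)
  exact mem_locIdeal.1 ((instLocIdealPrime (M := M)).mem_of_pow_mem n
    (show (⟨r, hrloc⟩ : loc M) ^ n ∈ locIdeal M from hn'))

end Rep

end CfsgLib.Blocks
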