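import Cfsg.Agent.Lib.Blocks.StarChar
import Cfsg.Agent.Lib.Blocks.StarFun
import Cfsg.Agent.Lib.Chars.MonSpan
import Cfsg.Agent.Lib.CharsMore.Feit

/-!
# The product of a character of a block with a stable generalized character is a generalized character
-/

set_option linter.unusedSectionVars false
set_option linter.style.haveILetI false

namespace CfsgLib.Blocks

open Cfsg Chars BlockOrth
open scoped ComplexConjugate

variable {G : Type*} [Group G] [Fintype G] {M : Ideal AlgInt} [M.IsPrime] {p : ℕ} [Fact p.Prime]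

theorem pairCoeff_eq_extFun (a : BrauerPairIdx G) :
    pairCoeff a = extFun (Subgroup.centralizer (a.1 : Set G)) (blockCoeff a.2) := by
  funext g
  by_cases hg : g ∈ Subgroup.centralizer (a.1 : Set G)
  · obtain ⟨g, rfl⟩ : ∃ g' : Subgroup.centralizer (a.1 : Set G), (g' : G) = g := ⟨⟨g, hg⟩, rfl⟩
    rw [pairCoeff, subgroupBlockCoeff_coe, extFun_coe]
  · rw [pairCoeff, subgroupBlockCoeff_of_notMem _ hg, extFun_of_notMem _ hg]

theorem conv_pairCoeff_self (a : BrauerPairIdx G) :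
    conv (pairCoeff a) (pairCoeff a) = pairCoeff a := by
  haveI := Fintype.ofFinite (Subgroup.centralizer (a.1 : Set G))
  rw [pairCoeff_eq_extFun, conv_extFun, conv_blockCoeff_self]

/-- The coefficients of the idempotent of a linear character of a subgroup. -/
noncomputable def linCoeff (Y : Subgroup G) (l : Y →* ℂˣ) : G → ℂ :=
  extFun Y fun y => (Nat.card Y : ℂ)⁻¹ * conj (l y : ℂ)

theorem conv_linCoeff_self (Y : Subgroup G) (l : Y →* ℂˣ) :
    conv (linCoeff Y l) (linCoeff Y l) = linCoeff Y l := by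
  haveI := Fintype.ofFinite Y
  rw [linCoeff, conv_extFun]
  congr 1
  funext x
  have h : ∀ y : Y, (Nat.card Y : ℂ)⁻¹ * conj (l y : ℂ) *
      ((Nat.card Y : ℂ)⁻¹ * conj (l (y⁻¹ * x) : ℂ)) =
        (Nat.card Y : ℂ)⁻¹ * ((Nat.card Y : ℂ)⁻¹ * conj (l x : ℂ)) := fun y => by
    have hy : (l y : ℂ) * (l (y⁻¹ * x) : ℂ) = (l x : ℂ) := by
      rw [← Units.val_mul, ← map_mul, mul_inv_cancel_left]
    rw [← hy, map_mul (starRingEnd ℂ)]
    ring
  rw [Blocks.conv, Finset.sum_congr rfl fun y _ => h y, Finset.sum_const, Finset.card_univ,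
    ← Nat.card_eq_fintype_card, nsmul_eq_mul, ← mul_assoc, mul_inv_cancel₀ (card_ne_zero Y), one_mul]

theorem conv_comm_of_invariant {a l : G → ℂ}
    (h : ∀ w, l w ≠ 0 → ∀ g, a (w * g * w⁻¹) = a g) : conv a l = conv l a := by
  funext x
  simp only [Blocks.conv]
  rw [← Equiv.sum_comp ((Equiv.inv G).trans (Equiv.mulLeft x))]
  refine Finset.sum_congr rfl fun z _ => ?_
  simp only [Equiv.trans_apply, Equiv.inv_apply, Equiv.coe_mulLeft, mul_inv_rev, inv_inv]
  rw [mul_assoc z x⁻¹ x, inv_mul_cancel, mul_one]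
  by_cases hz : l z = 0
  · simp [hz]
  · rw [← h z hz (z⁻¹ * x), mul_comm]
    congr 2
    group

theorem linCoeff_mem_loc (hpM : (p : AlgInt) ∈ M) {Y : Subgroup G} (hY : ¬ p ∣ Nat.card Y)
    (l : Y →* ℂˣ) (g : G) : linCoeff Y l g ∈ loc M := by
  by_cases hg : g ∈ Y
  · obtain ⟨g, rfl⟩ : ∃ g' : Y, (g' : G) = g := ⟨⟨g, hg⟩, rfl⟩
    rw [linCoeff, extFun_coe]
    haveI := Fintype.ofFinite Y
    exact mul_mem (inv_natCast_mem_loc (Fact.out (p := p.Prime)) hpM hY)
      (isIntegral_mem_loc (char_isIntegral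
        (isCharacter_of_irr (isIrrCharacter_conj (isIrrCharacter_linear l))) g))
  · rw [linCoeff, extFun_of_notMem _ hg]
    exact zero_mem _

variable {c : BrauerPairIdx G} {η : G → ℂ}

/-- The twisted trace of the image of the idempotent of a linear character at a pair. -/
theorem secTau_linCoeff (hpM : (p : AlgInt) ∈ M) {θ : G → ℂ} (hθ : IsLocClassFun M θ) {s : G}
    (hs : ∃ k : ℕ, s ^ p ^ k = 1) {Y : Subgroup G} [Fintype Y] (hY : ¬ p ∣ Nat.card Y)
    (hsY : ∀ y : Y, Commute s (y : G)) (l : Y →* ℂˣ) {a : BrauerPairIdx G} (ha : a ∈ pairsAt M s) :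
    secTau θ s (pairE M a * cut (Subgroup.centralizer (Subgroup.zpowers s : Set G) : Set G)
      (redAlg (toAlg (linCoeff Y l) (linCoeff_mem_loc hpM hY l)))) =
      (Nat.card Y : ℂ)⁻¹ * ∑ y : Y, conj (l y : ℂ) * secVal a θ (s * (y : G)) := by
  haveI := charP_resField (M := M) (Fact.out (p := p.Prime)) hpM
  obtain ⟨Q, b⟩ := a
  obtain ⟨rfl, hb⟩ := mem_pairsAt.1 ha
  haveI := Fintype.ofFinite (Subgroup.centralizer (Subgroup.zpowers s : Set G))
  have hYC : ∀ y : Y, (y : G) ∈ Subgroup.centralizer (Subgroup.zpowers s : Set G) := fun y => by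
    rw [Subgroup.zpowers_eq_closure, Subgroup.centralizer_closure]
    exact Subgroup.mem_centralizer_singleton_iff.2 (hsY y).eq.symm
  have hbl : ∀ g, pairCoeff ⟨Subgroup.zpowers s, b⟩ g ∈ loc M := subgroupBlockCoeff_mem_loc hb
  have hll := linCoeff_mem_loc hpM hY l
  have hbfix : ∀ w ∈ Subgroup.centralizer (Subgroup.zpowers s : Set G), ∀ g,
      pairCoeff ⟨Subgroup.zpowers s, b⟩ (w * g * w⁻¹) = pairCoeff ⟨Subgroup.zpowers s, b⟩ g :=
    fun w hw g => subgroupBlockCoeff_conj_of_mem b hw g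
  have hcv : ∀ g, conv (pairCoeff ⟨Subgroup.zpowers s, b⟩) (linCoeff Y l) g ∈ loc M := fun g =>
    sum_mem fun w _ => mul_mem (hbl _) (hll _)
  have hlinv : ∀ w, linCoeff Y l w ≠ 0 → w ∈ Y := fun w hw => by
    by_contra h
    exact hw (by rw [linCoeff, extFun_of_notMem _ h])
  have hcomm : Commute (toAlg (pairCoeff ⟨Subgroup.zpowers s, b⟩) hbl) (toAlg (linCoeff Y l) hll) := by
    apply MonoidAlgebra.ext
    ext x
    rw [coeff_mul_eq_conv, coeff_mul_eq_conv]
    simp only [coeff_toAlg]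
    exact congrFun (conv_comm_of_invariant fun w hw g => hbfix w (hYC ⟨w, hlinv w hw⟩) g) x
  have hbb : toAlg (pairCoeff ⟨Subgroup.zpowers s, b⟩) hbl * toAlg (pairCoeff ⟨Subgroup.zpowers s, b⟩) hbl =
      toAlg (pairCoeff ⟨Subgroup.zpowers s, b⟩) hbl := by
    apply MonoidAlgebra.ext
    ext x
    rw [coeff_mul_eq_conv]
    simp only [coeff_toAlg, conv_pairCoeff_self]
  have hee : toAlg (linCoeff Y l) hll * toAlg (linCoeff Y l) hll = toAlg (linCoeff Y l) hll := by
    apply MonoidAlgebra.ext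
    ext x
    rw [coeff_mul_eq_conv]
    simp only [coeff_toAlg, conv_linCoeff_self]
  have hfix : ∀ {F : G → ℂ} (hF : ∀ g, F g ∈ loc M), (∀ g, F g ≠ 0 → Commute s g) →
      IsFixedBy (Subgroup.zpowers s) (toAlg F hF) := by
    intro F hF hcom
    refine isFixedBy_zpowers fun g => Subtype.ext ?_
    simp only [coeff_toAlg]
    by_cases h : Commute s g
    · rw [h.eq, mul_inv_cancel_right]
    · rw [show F g = 0 from not_not.1 (mt (hcom g) h)]
      by_contra h0
      have h1 := hcom _ h0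
      refine h ?_
      have h2 : s * (s * g * s⁻¹) = s * g := h1.trans (inv_mul_cancel_right _ _)
      exact mul_inv_eq_iff_eq_mul.1 (mul_left_cancel h2)
  have hbcom : ∀ g, pairCoeff ⟨Subgroup.zpowers s, b⟩ g ≠ 0 → Commute s g := fun g hg => by
    by_contra h
    refine hg (subgroupBlockCoeff_of_notMem b fun hC => h ?_)
    exact Subgroup.mem_centralizer_iff.1 hC s (Subgroup.mem_zpowers s)
  have hfl := hfix hll fun g hg => hsY ⟨g, hlinv g hg⟩
  have hfb := hfix hbl hbcom
  have hred : redAlg (toAlg (pairCoeff ⟨Subgroup.zpowers s, b⟩) hbl * toAlg (linCoeff Y l) hll) =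
      pairIdem hb * redAlg (toAlg (linCoeff Y l) hll) := by
    rw [map_mul]
    rfl
  have hcutl : cut (Subgroup.centralizer (Subgroup.zpowers s : Set G) : Set G)
      (redAlg (toAlg (linCoeff Y l) hll)) = redAlg (toAlg (linCoeff Y l) hll) := by
    rw [cut_eq_self_iff]
    intro g hg
    rw [coeff_redAlg_eq_zero_iff, coeff_toAlg]
    rw [linCoeff, extFun_of_notMem]
    · exact MemLocalIdeal.zero'
    · exact fun h => hg (hYC ⟨g, h⟩)
  rw [pairE_eq (a := ⟨Subgroup.zpowers s, b⟩) hb, hcutl,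
    secTau_eq hpM hθ hs (e := toAlg (pairCoeff ⟨Subgroup.zpowers s, b⟩) hbl * toAlg (linCoeff Y l) hll)
      (by rw [mul_assoc, ← mul_assoc (toAlg (linCoeff Y l) hll), ← hcomm.eq, mul_assoc, hee,
        ← mul_assoc, hbb]) (hfb.mul hfl) (by rw [hred])]
  rw [secTrace, Finset.sum_congr rfl fun g _ => by rw [coeff_mul_eq_conv]]
  simp only [coeff_toAlg, Blocks.conv, Finset.sum_mul]
  rw [Finset.sum_comm]
  have hkey : ∀ w, ∑ g, pairCoeff ⟨Subgroup.zpowers s, b⟩ w * linCoeff Y l (w⁻¹ * g) * θ (g * s) =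
      pairCoeff ⟨Subgroup.zpowers s, b⟩ w *
        ∑ y : Y, (Nat.card Y : ℂ)⁻¹ * conj (l y : ℂ) * θ (w * (s * (y : G))) := by
    intro w
    rw [Finset.mul_sum, ← Equiv.sum_comp (Equiv.mulLeft w)]
    simp only [Equiv.coe_mulLeft, inv_mul_cancel_left, mul_assoc (pairCoeff _ w)]
    rw [← Finset.mul_sum, ← Finset.mul_sum, linCoeff,
      sum_extFun_mul Y _ (fun g => θ (w * g * s))]
    refine congrArg _ (Finset.sum_congr rfl fun y _ => ?_)
    rw [mul_assoc w, ← (hsY y).eq]
  rw [Finset.sum_congr rfl fun w _ => hkey w]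
  simp only [secVal, Finset.mul_sum]
  rw [Finset.sum_comm]
  refine Finset.sum_congr rfl fun w _ => Finset.sum_congr rfl fun y _ => ?_
  ring

theorem starTau_linCoeff (hpM : (p : AlgInt) ∈ M) {θ : G → ℂ} (hθ : IsLocClassFun M θ) {s : G}
    (hs : ∃ k : ℕ, s ^ p ^ k = 1) {Y : Subgroup G} [Fintype Y] (hY : ¬ p ∣ Nat.card Y)
    (hsY : ∀ y : Y, Commute s (y : G)) (l : Y →* ℂˣ) :
    starTau p c η θ s (redAlg (toAlg (linCoeff Y l) (linCoeff_mem_loc hpM hY l))) =
      (Nat.card Y : ℂ)⁻¹ * ∑ y : Y, conj (l y : ℂ) * starFun M p c η θ (s * (y : G)) := by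
  have h : ∀ y : Y, starFun M p c η θ (s * (y : G)) =
      ∑ a ∈ pairsAt M s, pairWeight p M c η a s * secVal a θ (s * (y : G)) := fun y =>
    starFun_mul_regular (hsY y) hs fun hd => hY (hd.trans (Y.orderOf_dvd_natCard y.2))
  rw [starTau, Finset.sum_congr rfl fun a ha => by rw [secTau_linCoeff hpM hθ hs hY hsY l ha]]
  simp only [h, Finset.mul_sum]
  rw [Finset.sum_comm]
  refine Finset.sum_congr rfl fun a _ => Finset.sum_congr rfl fun y _ => ?_
  ring

variable {B : Set (IrrCharacter G)}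

/-- The product meets every linear character of a nilpotent subgroup in an integer. -/
theorem inner_starFun_linear (hpM : (p : AlgInt) ∈ M) (hc : IsMaximalBrauerPair p M B c.1 c.2)
    (hη : IsPairStable p M c η) (hgen : IsGeneralizedCharacter c.1 (fun u : c.1 => η u))
    (χ : IrrCharacter G) (E : Subgroup G) [Fintype E] (hE : Group.IsNilpotent E) (l : E →* ℂˣ) :
    ∃ m : ℤ, classInner (fun e : E => starFun M p c η (χ : G → ℂ) (e : G)) (fun e => (l e : ℂ)) =
      (m : ℂ) := by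
  classical
  haveI := charP_resField (M := M) (Fact.out (p := p.Prime)) hpM
  obtain ⟨S0, Y0, hSn, hYn, hS, hY, hSY⟩ := CharsMore.exists_direct_decomp hE p
  haveI := Fintype.ofFinite S0
  haveI := Fintype.ofFinite Y0
  have hcomm : ∀ (u : S0) (y : Y0), Commute ((u : E) : G) ((y : E) : G) := fun u y =>
    (Subgroup.commute_of_normal_of_disjoint _ _ hSn hYn hSY.disjoint _ _ u.2 y.2).map E.subtype
  let Y : Subgroup G := Y0.map E.subtype
  haveI := Fintype.ofFinite Y
  let eY : Y0 ≃* Y := Y0.equivMapOfInjective E.subtype E.subtype_injective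
  have hYcard : Nat.card Y = Nat.card Y0 := (Nat.card_congr eY.toEquiv).symm
  have hY' : ¬ p ∣ Nat.card Y := by rwa [hYcard]
  let S : Subgroup G := S0.map E.subtype
  haveI := Fintype.ofFinite S
  let eS : S0 ≃* S := S0.equivMapOfInjective E.subtype E.subtype_injective
  have hSp : IsPGroup p S := hS.map E.subtype
  let lY : Y →* ℂˣ := (l.comp Y0.subtype).comp eY.symm.toMonoidHom
  have hsY : ∀ u : S0, ∀ y : Y, Commute ((u : E) : G) (y : G) := by
    intro u y
    obtain ⟨w, hw, hwy⟩ := y.2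
    rw [← hwy]
    exact hcomm u ⟨w, hw⟩
  have hz : IsFixedBy S (redAlg (toAlg (linCoeff Y lY) (linCoeff_mem_loc hpM hY' lY))) := by
    refine isFixedBy_redAlg fun u hu g => Subtype.ext ?_
    simp only [coeff_toAlg]
    obtain ⟨u, hu0, rfl⟩ := hu
    by_cases hg : g ∈ Y
    · have h := (hsY ⟨u, hu0⟩ ⟨g, hg⟩).eq
      rw [show E.subtype u * g = g * E.subtype u from h, mul_inv_cancel_right]
    · rw [linCoeff, extFun_of_notMem _ hg, extFun_of_notMem]
      intro h'
      apply hg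
      have h := (hsY ⟨u, hu0⟩ ⟨_, h'⟩).eq
      have h2 : E.subtype u * (E.subtype u * g * (E.subtype u)⁻¹) = E.subtype u * g := by
        refine h.trans ?_
        show E.subtype u * g * (E.subtype u)⁻¹ * E.subtype u = _
        rw [inv_mul_cancel_right]
      rwa [mul_left_cancel h2] at h'
  obtain ⟨α, β, hα, hβ, hαβ⟩ := isGeneralized_starTau hpM hc hη hgen χ S hSp _ hz (by
    rw [← map_mul]
    congr 1
    apply MonoidAlgebra.ext
    ext x
    rw [coeff_mul_eq_conv]
    simp only [coeff_toAlg, conv_linCoeff_self])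
  have hlin := isCharacter_of_irr (isIrrCharacter_linear (l.comp S0.subtype))
  obtain ⟨m, hm⟩ := inner_char_nat (isCharacter_comp eS.toMonoidHom hα) hlin
  obtain ⟨m', hm'⟩ := inner_char_nat (isCharacter_comp eS.toMonoidHom hβ) hlin
  refine ⟨(m : ℤ) - m', ?_⟩
  rw [show (((m : ℤ) - m' : ℤ) : ℂ) = (m : ℂ) - m' by push_cast; rfl, ← hm, ← hm', inner_def,
    inner_def, inner_def, ← mul_sub, ← Finset.sum_sub_distrib,
    ← Equiv.sum_comp (Equiv.ofBijective _ hSY), Fintype.sum_prod_type,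
    show Nat.card E = Nat.card S0 * Nat.card Y0 from hSY.card_mul_card.symm, Nat.cast_mul, mul_inv,
    mul_assoc, Finset.mul_sum]
  refine congrArg _ (Finset.sum_congr rfl fun u _ => ?_)
  obtain ⟨k, hk⟩ := hS u
  have hu : ∃ k : ℕ, ((u : E) : G) ^ p ^ k = 1 :=
    ⟨k, congrArg (fun v : S0 => ((v : E) : G)) hk⟩
  have h1 := congrFun hαβ (eS u)
  simp only [Pi.sub_apply] at h1
  rw [← sub_mul]
  show _ = (α (eS u) - β (eS u)) * _
  rw [← h1, show ((eS u : S) : G) = ((u : E) : G) from rfl,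
    starTau_linCoeff hpM ⟨isClassFunction_irr χ, irr_mem_loc χ⟩ hu hY' (hsY u) lY, hYcard,
    ← Equiv.sum_comp eY.toEquiv, mul_assoc, Finset.sum_mul]
  refine congrArg _ (Finset.sum_congr rfl fun y _ => ?_)
  show starFun M p c η (χ : G → ℂ) (((u : E) * (y : E) : E) : G) *
    conj ((l ((u : E) * (y : E)) : ℂˣ) : ℂ) =
      conj ((l ((eY.symm (eY y) : Y0) : E) : ℂˣ) : ℂ) * starFun M p c η (χ : G → ℂ)
        (((u : E) : G) * ((eY y : Y) : G)) * conj ((l (u : E) : ℂˣ) : ℂ)
  rw [MulEquiv.symm_apply_apply, map_mul, Units.val_mul, map_mul, Subgroup.coe_mul,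
    show ((eY y : Y) : G) = ((y : E) : G) from rfl]
  ring

/-- **Broué–Puig**: the product of a character with a stable generalized character is a
generalized character. -/
theorem isGeneralized_starFun (hpM : (p : AlgInt) ∈ M) (hc : IsMaximalBrauerPair p M B c.1 c.2)
    (hη : IsPairStable p M c η) (hgen : IsGeneralizedCharacter c.1 (fun u : c.1 => η u))
    (χ : IrrCharacter G) : IsGeneralizedCharacter G (starFun M p c η (χ : G → ℂ)) := by
  classical
  have hcl := isClassFunction_starFun hη (isClassFunction_irr χ)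
  refine isGeneralized_iff_inner.2 ⟨hcl, fun ξ => ?_⟩
  obtain ⟨L, hL, hξ⟩ := brauer_induction (isCharacter_of_irr ξ.2)
  rw [hξ]
  clear hξ
  induction L with
  | nil => exact ⟨0, by simp [Chars.inner_zero_right]⟩
  | cons t L ih =>
    obtain ⟨E, l, n⟩ := t
    obtain ⟨q, hq, hE⟩ := hL ⟨E, l, n⟩ (List.mem_cons_self ..)
    haveI := Fintype.ofFinite E
    obtain ⟨m, hm⟩ := inner_starFun_linear hpM hc hη hgen χ E (isNilpotent_of_isElementary hq hE) l
    obtain ⟨m', hm'⟩ := ih fun t ht => hL t (List.mem_cons_of_mem _ ht)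
    refine ⟨n * m + m', ?_⟩
    rw [List.map_cons, List.sum_cons, Chars.inner_add_right, Chars.inner_smul_right, hm',
      show classInner (starFun M p c η (χ : G → ℂ)) (indFun E fun e => (l e : ℂ)) = (m : ℂ) from
        (inner_indFun_right E (fun e => (l e : ℂ)) hcl).trans hm]
    simp

end CfsgLib.Blocks
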