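import Cfsg.Agent.Lib.Blocks.ColSys
import Cfsg.Agent.Lib.Blocks.StdCols
import Cfsg.Agent.Lib.Chars.FrobGroup
import Mathlib.GroupTheory.SchurZassenhaus
import Mathlib.GroupTheory.SpecificGroups.Cyclic
import Mathlib.RingTheory.ZMod.UnitsCyclic

/-!
# The standard columns of a cyclic group extended by a semiregular group of automorphisms
-/

set_option autoImplicit false
set_option linter.unusedSectionVars false
set_option linter.style.haveILetI false

namespace CfsgLib.Blocks

open Cfsg Chars BlockOrth Finset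
open scoped ComplexConjugate

universe u w

variable {M : Ideal AlgInt} [M.IsPrime] {p : ℕ} [Fact p.Prime]
  {A : Type w} [Group A] [Fintype A]

/-- A subgroup of order dividing `p - 1` of the automorphisms of a cyclic `p`-group is determined
by its order. -/
theorem autSubgroup_eq [IsCyclic A] (hA : IsPGroup p A) {E E' : Subgroup (MulAut A)}
    (hdvd : Nat.card E ∣ p - 1) (h : Nat.card E' = Nat.card E) : E' = E := by
  classical
  have hp : p.Prime := Fact.out
  rcases eq_or_ne p 2 with rfl | hp2
  · have h1 : Nat.card E = 1 := Nat.dvd_one.1 hdvd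
    rw [Subgroup.card_eq_one.1 h1, Subgroup.card_eq_one.1 (h.trans h1)]
  · obtain ⟨n, hn⟩ := IsPGroup.iff_card.1 hA
    haveI : IsCyclic (ZMod (Nat.card A))ˣ := by
      rw [hn]; exact ZMod.isCyclic_units_of_prime_pow p hp hp2 n
    haveI : IsCyclic (MulAut A) :=
      isCyclic_of_surjective (IsCyclic.mulAutMulEquiv A).symm.toMonoidHom
        (IsCyclic.mulAutMulEquiv A).symm.surjective
    haveI := Fintype.ofFinite (MulAut A)
    have key : ∀ D : Subgroup (MulAut A), Nat.card D = Nat.card E →
        (univ.filter fun σ : MulAut A => σ ∈ D) = univ.filter fun σ : MulAut A => σ ^ Nat.card E = 1 := by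
      intro D hD
      refine Finset.eq_of_subset_of_card_le (fun σ hσ => ?_) ?_
      · refine mem_filter.2 ⟨mem_univ _, ?_⟩
        rw [← hD]
        exact congrArg Subtype.val (pow_card_eq_one' (x := (⟨σ, (mem_filter.1 hσ).2⟩ : D)))
      · refine (IsCyclic.card_pow_eq_one_le Nat.card_pos).trans (le_of_eq ?_)
        rw [← hD, Nat.card_eq_fintype_card, Fintype.card_subtype]
    ext σ
    have h1 := congrArg (σ ∈ ·) ((key E' h).trans (key E rfl).symm)
    simpa using h1

section Frobenius

variable {E : Subgroup (MulAut A)} {F : Type u} [Group F] [Fintype F] {Q : Subgroup F} [Q.Normal]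
  (φ : A ≃* Q)

/-- The action on the cyclic group. -/
noncomputable def actHom : F →* MulAut A :=
  (MulAut.congr φ.symm).toMonoidHom.comp MulAut.conjNormal

theorem actHom_apply (g : F) (a : A) :
    ((φ (actHom φ g a) : Q) : F) = g * (φ a : F) * g⁻¹ := by
  simp [actHom, MulAut.congr]

theorem ker_actHom (hQC : Subgroup.centralizer (Q : Set F) = Q) : (actHom φ).ker = Q := by
  have h : ∀ g : F, g ∈ (actHom φ).ker ↔ g ∈ Subgroup.centralizer (Q : Set F) := by
    intro g
    rw [MonoidHom.mem_ker, Subgroup.mem_centralizer_iff]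
    constructor
    · intro h q hq
      have h1 := actHom_apply φ g (φ.symm ⟨q, hq⟩)
      rw [h, MulAut.one_apply, φ.apply_symm_apply, eq_mul_inv_iff_mul_eq] at h1
      exact h1
    · intro h
      refine MulEquiv.ext fun a => φ.injective (Subtype.ext ?_)
      rw [actHom_apply, MulAut.one_apply, ← h _ (φ a).2, mul_inv_cancel_right]
  ext g
  rw [h, hQC]

include φ in
open scoped Classical in
/-- **The standard columns of the Frobenius group.** -/
theorem exists_frob_colSys (hpM : (p : AlgInt) ∈ M) [IsCyclic A] (hA : IsPGroup p A)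
    (hA1 : 1 < Nat.card A) (hfree : ∀ σ ∈ E, ∀ u : A, u ≠ 1 → σ u = u → σ = 1)
    (hdvd : Nat.card E ∣ p - 1) (hF : Nat.card F = Nat.card A * Nat.card E)
    (hQC : Subgroup.centralizer (Q : Set F) = Q) :
    ∃ (s : IrrCharacter F → {u : A // u ≠ 1} → ℂ) (Y : Set (IrrCharacter F))
      (y : IrrCharacter A → IrrCharacter F) (a : IrrCharacter F → ℤ) (δ : ℤ),
      ColSys p M (Set.univ : Set (IrrCharacter F)) s ∧ StdCols E Set.univ s Y y a δ ∧
      ∀ η η' : IrrCharacter F, (∃ x ∈ Q, (η : F → ℂ) x ≠ (η : F → ℂ) 1) →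
        (∃ x ∈ Q, (η' : F → ℂ) x ≠ (η' : F → ℂ) 1) → η = η' ∨ (η ∈ Y ∧ η' ∈ Y) := by
  haveI := irrFintype F
  haveI := irrFintype A
  haveI : Fintype Q := Fintype.ofFinite Q
  have hp : p.Prime := Fact.out
  have hAc : ∀ x y : A, x * y = y * x := (IsCyclic.commGroup (α := A)).mul_comm
  have hQ : Nat.card Q = Nat.card A := (Nat.card_congr φ.toEquiv).symm
  have hindex : Q.index = Nat.card E := by
    have h := Q.card_mul_index
    rw [hF, hQ] at h
    exact Nat.eq_of_mul_eq_mul_left Nat.card_pos h
  have hrange : (actHom φ).range = E := autSubgroup_eq hA hdvd (by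
    rw [← Subgroup.index_ker, ker_actHom φ hQC, hindex])
  have hact : ∀ g, actHom φ g ∈ E := fun g => hrange ▸ ⟨g, rfl⟩
  have hsurj : ∀ σ ∈ E, ∃ g, actHom φ g = σ := fun σ hσ => MonoidHom.mem_range.1 (hrange.symm ▸ hσ)
  have hepos : 0 < Nat.card E := Nat.card_pos
  have hep : Nat.card E < p := by
    have := Nat.le_of_dvd (by have := hp.two_le; omega) hdvd
    have := hp.two_le
    omega
  have hpA : p ≤ Nat.card A := by
    obtain ⟨n, hn⟩ := IsPGroup.iff_card.1 hA
    rw [hn]
    refine Nat.le_self_pow (fun h => ?_) p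
    rw [hn, h, pow_zero] at hA1
    omega
  have hone : ∀ u : A, u ≠ 1 → (φ u : F) ≠ 1 := fun u hu h =>
    hu (φ.injective (Subtype.ext (h.trans (by rw [map_one, Subgroup.coe_one]))))
  have hcent : ∀ u : A, u ≠ 1 → Subgroup.centralizer ({(φ u : F)} : Set F) = Q := fun u hu => by
    ext g
    rw [Subgroup.mem_centralizer_singleton_iff]
    constructor
    · intro h
      rw [← ker_actHom φ hQC, MonoidHom.mem_ker]
      refine hfree _ (hact g) u hu (φ.injective (Subtype.ext ?_))
      rw [actHom_apply, h, mul_inv_cancel_right]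
    · intro hg
      rw [← hQC] at hg
      exact (Subgroup.mem_centralizer_iff.1 hg _ (φ u).2).symm
  have hconj : ∀ u v : A, IsConj (φ v : F) (φ u : F) ↔ ∃ σ : E, (σ : MulAut A) u = v := by
    intro u v
    constructor
    · intro h
      obtain ⟨g, hg⟩ := isConj_iff.1 h.symm
      exact ⟨⟨_, hact g⟩, φ.injective (Subtype.ext (by rw [actHom_apply, hg]))⟩
    · rintro ⟨σ, rfl⟩
      obtain ⟨g, hg⟩ := hsurj σ σ.2
      refine (isConj_iff.2 ⟨g, ?_⟩).symm
      rw [← actHom_apply, hg]
  obtain ⟨s, hs⟩ : ∃ s : IrrCharacter F → {u : A // u ≠ 1} → ℂ,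
      ∀ η a, s η a = (η : F → ℂ) (φ a.1) := ⟨_, fun _ _ => rfl⟩
  -- the number of characters
  obtain ⟨Hc, hHc⟩ := Subgroup.exists_right_complement'_of_coprime (N := Q) (by
    rw [hQ, hindex]
    obtain ⟨n, hn⟩ := IsPGroup.iff_card.1 hA
    rw [hn]
    exact Nat.Coprime.pow_left n (hp.coprime_iff_not_dvd.2 fun h => by
      have := Nat.le_of_dvd hepos h
      omega))
  have hdisj : Q ⊓ Hc = ⊥ := disjoint_iff.1 hHc.disjoint
  have hinj : ∀ x ∈ Hc, actHom φ x = 1 → x = 1 := fun x hx h => by
    have h1 : x ∈ Q ⊓ Hc := ⟨by rw [← ker_actHom φ hQC]; exact h, hx⟩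
    rwa [hdisj, Subgroup.mem_bot] at h1
  have hclass : ∀ (K : Subgroup F), (∀ x ∈ K, ∀ y ∈ K, x * y = y * x) →
      Nat.card (ConjClasses K) = Nat.card K := fun K hK => by
    refine (Nat.card_congr (Equiv.ofBijective ConjClasses.mk ⟨fun x y h => ?_,
      ConjClasses.mk_surjective⟩)).symm
    obtain ⟨z, hz⟩ := isConj_iff.1 (ConjClasses.mk_eq_mk_iff_isConj.1 h)
    rw [← hz]
    refine Subtype.ext ?_
    push_cast
    rw [hK _ z.2 _ x.2, mul_inv_cancel_right]
  have hautc : ∀ σ τ : MulAut A, σ * τ = τ * σ := fun σ τ =>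
    (IsCyclic.mulAutMulEquiv A).injective (by rw [map_mul, map_mul, mul_comm])
  have hcount := card_classes_of_fpf (K := Q) (H := Hc) hdisj hHc.sup_eq_top fun x hx hx1 k hk hxk => by
    by_contra hk1
    have hk' : φ.symm ⟨k, hk⟩ ≠ 1 := fun h => hk1 (by
      have := congrArg φ h
      rw [φ.apply_symm_apply, map_one] at this
      exact congrArg Subtype.val this)
    have hxQ : x ∈ Q := by
      rw [← hcent _ hk']
      exact Subgroup.mem_centralizer_singleton_iff.2 (by rw [φ.apply_symm_apply]; exact hxk)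
    have h1 : x ∈ Q ⊓ Hc := ⟨hxQ, hx⟩
    rw [hdisj, Subgroup.mem_bot] at h1
    exact hx1 h1
  rw [hclass Hc (fun x hx y hy => by
      refine mul_inv_eq_one.1 (hinj _ (mul_mem (mul_mem hx hy) (inv_mem (mul_mem hy hx))) ?_)
      simp only [map_mul, map_inv, mul_inv_rev]
      rw [hautc (actHom φ x) (actHom φ y)]
      group),
    hclass Q (fun x hx y hy => by rw [← hQC] at hx; exact (Subgroup.mem_centralizer_iff.1 hx y hy).symm),
    hQ, show Nat.card Hc = Nat.card E by
      rw [← hindex, hHc.symm.index_eq_card]] at hcount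
  -- the normal form
  haveI := Fintype.ofFinite {η : IrrCharacter F // η ∈ (Set.univ : Set (IrrCharacter F))}
  have hsumU : ∀ f : IrrCharacter F → ℂ,
      ∑ i : {η : IrrCharacter F // η ∈ (Set.univ : Set (IrrCharacter F))}, f i.1 = ∑ η, f η :=
    fun f => (Finset.sum_subtype univ (by simp) f).symm
  have hdegle : ∀ S : Finset (IrrCharacter F),
      ∑ η ∈ S, charDegree (η : F → ℂ) ^ 2 ≤ Nat.card A * Nat.card E := by
    intro S
    rw [← hF]
    refine (Finset.sum_le_univ_sum_of_nonneg fun _ => Nat.zero_le _).trans (le_of_eq ?_)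
    apply Nat.cast_injective (R := ℂ)
    rw [← sum_degree_sq (G := F)]
    push_cast
    exact Finset.sum_congr rfl fun η _ => by rw [irr_apply_one]
  have hQsum : ∀ η : IrrCharacter F, ∃ n : ℕ, ∑ v : A, (η : F → ℂ) (φ v) = (Nat.card A : ℂ) * n := by
    intro η
    obtain ⟨n, hn⟩ := inner_irr_right_nat
      (isCharacter_comp (Q.subtype.comp φ.toMonoidHom) (isCharacter_of_irr η.2)) (principal A)
    refine ⟨n, ?_⟩
    rw [← hn, inner_def, mul_inv_cancel_left₀ (Chars.card_ne_zero _)]
    exact Finset.sum_congr rfl fun v _ => by rw [principal_apply, map_one, mul_one]; rfl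
  obtain ⟨Y, y, a, δ, hstd⟩ := exists_stdCols (E := E) (B := (Set.univ : Set (IrrCharacter F))) hAc hA1
    hfree (fun i u => (i.1 : F → ℂ) (φ u))
    (fun i => ⟨_, 0, isCharacter_comp (Q.subtype.comp φ.toMonoidHom) (isCharacter_of_irr i.1.2),
      isCharacter_zero, by funext u; simp⟩)
    (fun u v hu hv => by
      rw [hsumU fun η => (η : F → ℂ) (φ u) * conj ((η : F → ℂ) (φ v)), second_orthogonality,
        hcent u hu, hQ]
      by_cases h : ∃ σ : E, (σ : MulAut A) u = v
      · rw [if_pos ((hconj u v).2 h)]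
        obtain ⟨σ₀, hσ₀⟩ := h
        rw [show (univ.filter fun σ : E => (σ : MulAut A) u = v) = {σ₀} by
          ext σ
          simp only [mem_filter, mem_univ, true_and, mem_singleton]
          refine ⟨fun h => Subtype.ext ?_, fun h => h ▸ hσ₀⟩
          have h1 := hfree _ (E.mul_mem (E.inv_mem σ₀.2) σ.2) u hu (by
            rw [MulAut.mul_apply, h, ← hσ₀, MulAut.inv_apply_self])
          exact (inv_mul_eq_one.1 h1).symm, Finset.card_singleton, Nat.cast_one, mul_one]
      · rw [if_neg fun h' => h ((hconj u v).1 h'),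
          Finset.filter_false_of_mem fun σ _ hσ => h ⟨σ, hσ⟩]
        simp)
    (fun i => by
      by_contra hcon
      push Not at hcon
      obtain ⟨n, hn⟩ := hQsum i.1
      rw [Finset.sum_eq_single (1 : A) (fun v _ hv => hcon v hv)
        (fun h => absurd (mem_univ _) h), map_one, Subgroup.coe_one, irr_apply_one] at hn
      have hn' : charDegree (i.1 : F → ℂ) = Nat.card A * n := by exact_mod_cast hn
      have h1 := hdegle {i.1}
      rw [Finset.sum_singleton] at h1
      have h2 : Nat.card A ≤ charDegree (i.1 : F → ℂ) := hn' ▸ Nat.le_mul_of_pos_right _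
        (Nat.pos_of_ne_zero fun h => irr_charDegree_ne_zero i.1 (by rw [hn', h, mul_zero]))
      have h3 : Nat.card A * Nat.card E < Nat.card A * Nat.card A :=
        Nat.mul_lt_mul_of_pos_left (lt_of_lt_of_le hep hpA) (by omega)
      have h4 := Nat.pow_le_pow_left h2 2
      rw [sq] at h4
      omega)
    (fun u hu => by
      rw [hsumU fun η => (charDegree (η : F → ℂ) : ℂ) * (η : F → ℂ) (φ u)]
      simp only [← irr_apply_one]
      rw [sum_degree_mul, if_neg (hone u hu)])
    (by
      rw [Nat.card_coe_set_eq, Set.ncard_univ, card_irr_eq_card_classes]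
      obtain ⟨k, hk⟩ : ∃ k, k = Nat.card (ConjClasses F) := ⟨_, rfl⟩
      rw [← hk] at hcount ⊢
      have hek : Nat.card E ≤ k := Nat.le_of_mul_le_mul_left (by omega) hepos
      rw [show Nat.card A - 1 = Nat.card E * (k - Nat.card E) by rw [Nat.mul_sub]; omega,
        Nat.mul_div_cancel_left _ hepos]
      omega)
    s (fun i u => hs i.1 u)
  refine ⟨s, Y, y, a, δ, ⟨fun g hg u => ?_, fun g hg => ?_, fun g u => ?_⟩, hstd, ?_⟩
  · -- regular elements
    rw [finsum_mem_univ, finsum_eq_sum_of_fintype, Finset.sum_congr rfl fun η (_ : η ∈ univ) =>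
      show s η u * (η : F → ℂ) g = (η : F → ℂ) (φ u.1) * conj ((η : F → ℂ) g⁻¹) by
        rw [hs, irr_inv, Complex.conj_conj], second_orthogonality, if_neg]
    intro h
    obtain ⟨z, hz⟩ := isConj_iff.1 h
    have h1 : orderOf g = orderOf u.1 := by
      rw [← orderOf_inv g, (SemiconjBy.conj_mk z g⁻¹).orderOf_eq, hz, Subgroup.orderOf_coe,
        MulEquiv.orderOf_eq]
    obtain ⟨k, hk⟩ := IsPGroup.iff_orderOf.1 hA u.1
    refine hg (h1 ▸ hk ▸ dvd_pow_self p fun h0 => u.2 (orderOf_eq_one_iff.1 ?_))
    rw [hk, h0, pow_zero]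
  · -- singular elements
    have hgQ : g ∈ Q := by
      obtain ⟨hxy, hgeq⟩ := commute_pPartElt_pPrimePart (p := p) g
      obtain ⟨k, hk⟩ := exists_orderOf_pPartElt (p := p) g
      have hxQ : pPartElt p g ∈ Q := by
        rw [← ker_actHom φ hQC, MonoidHom.mem_ker]
        have h1 : orderOf (actHom φ (pPartElt p g)) ∣ p ^ k := hk ▸ orderOf_map_dvd _ _
        have h2 : orderOf (actHom φ (pPartElt p g)) ∣ Nat.card E := by
          rw [show actHom φ (pPartElt p g) = ((⟨_, hact (pPartElt p g)⟩ : E) : MulAut A) from rfl,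
            Subgroup.orderOf_coe]
          exact orderOf_dvd_natCard _
        exact orderOf_eq_one_iff.1 (Nat.eq_one_of_dvd_coprimes (Nat.Coprime.pow_left k
          (hp.coprime_iff_not_dvd.2 fun h => by have := Nat.le_of_dvd hepos h; omega)) h1 h2)
      have hne : φ.symm ⟨_, hxQ⟩ ≠ 1 := fun h => by
        have h1 : pPartElt p g = 1 := by
          have h2 := congrArg φ h
          rw [φ.apply_symm_apply, map_one] at h2
          exact congrArg Subtype.val h2
        rw [h1, one_mul] at hgeq
        exact not_dvd_orderOf_pPrimePart (p := p) g (by rwa [hgeq])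
      have hyQ : pPrimePart p g ∈ Q := by
        rw [← hcent _ hne, Subgroup.mem_centralizer_singleton_iff, φ.apply_symm_apply]
        exact hxy.eq.symm
      rw [← hgeq]
      exact mul_mem hxQ hyQ
    obtain ⟨u, hu⟩ : ∃ u : {u : A // u ≠ 1}, u.1 = φ.symm ⟨g, hgQ⟩ := ⟨⟨_, fun h => by
      have h2 := congrArg φ h
      rw [φ.apply_symm_apply, map_one] at h2
      have h3 : g = 1 := congrArg Subtype.val h2
      rw [h3, orderOf_one] at hg
      exact hp.not_dvd_one hg⟩, rfl⟩
    refine ⟨fun b => if b = u then 1 else 0, fun b => show _ ∈ loc M by dsimp only; split_ifs <;> simp, fun η _ => ?_⟩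
    simp only [ite_mul, one_mul, zero_mul, Finset.sum_ite_eq', mem_univ, if_true]
    rw [hs, hu, φ.apply_symm_apply]
  · -- divisibility
    rw [finsum_mem_univ, finsum_eq_sum_of_fintype, Finset.sum_congr rfl fun η (_ : η ∈ univ) =>
      show s η u * (η : F → ℂ) g = (η : F → ℂ) (φ u.1) * conj ((η : F → ℂ) g⁻¹) by
        rw [hs, irr_inv, Complex.conj_conj], second_orthogonality]
    split_ifs with h
    · show _ ∈ loc M
      rw [show Nat.card (Subgroup.centralizer ({g} : Set F)) =
          Nat.card (Subgroup.centralizer ({(φ u.1 : F)} : Set F)) by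
        obtain ⟨z, hz⟩ := isConj_iff.1 h
        rw [show Subgroup.centralizer ({g} : Set F) = Subgroup.centralizer ({g⁻¹} : Set F) by
          ext x
          simp only [Subgroup.mem_centralizer_singleton_iff]
          exact (Commute.inv_right_iff (a := x) (b := g)).symm]
        refine Nat.card_congr ((MulAut.conj z).toEquiv.subtypeEquiv fun x => ?_)
        simp only [Subgroup.mem_centralizer_singleton_iff, MulEquiv.toEquiv_eq_coe, EquivLike.coe_coe,
          MulAut.conj_apply]
        rw [← hz]
        exact (Commute.conj_iff (a := x) (b := g⁻¹) z).symm,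
        div_self (Nat.cast_ne_zero.2 Nat.card_pos.ne')]
      exact one_mem _
    · show _ ∈ loc M
      rw [zero_div]
      exact zero_mem _
  · -- the characters that are nontrivial on `Q`
    intro η η' hη hη'
    by_contra hcon
    simp only [not_or, not_and_or] at hcon
    obtain ⟨hne, hor⟩ := hcon
    have hlow : ∀ ψ : IrrCharacter F, (∃ x ∈ Q, (ψ : F → ℂ) x ≠ (ψ : F → ℂ) 1) → ∀ b : ℤ,
        (b = 1 ∨ b = -1) → (∀ v : A, v ≠ 1 → (ψ : F → ℂ) (φ v) = b) →
          Nat.card A - 1 ≤ charDegree (ψ : F → ℂ) := by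
      intro ψ hψ b hb hval
      obtain ⟨n, hn⟩ := hQsum ψ
      rw [← Finset.add_sum_erase _ _ (mem_univ (1 : A)), map_one, Subgroup.coe_one, irr_apply_one,
        Finset.sum_congr rfl fun v hv => hval v (Finset.ne_of_mem_erase hv), Finset.sum_const,
        Finset.card_erase_of_mem (mem_univ _), Finset.card_univ, ← Nat.card_eq_fintype_card,
        nsmul_eq_mul, Nat.cast_sub (by omega)] at hn
      have hn' : (charDegree (ψ : F → ℂ) : ℤ) - b = (Nat.card A : ℤ) * (n - b) := by
        apply Int.cast_injective (α := ℂ)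
        push_cast at hn ⊢
        linear_combination hn
      obtain ⟨x, hx, hxne⟩ := hψ
      have hne' : (charDegree (ψ : F → ℂ) : ℤ) ≠ b := fun h => hxne (by
        by_cases h1 : φ.symm ⟨x, hx⟩ = 1
        · have h2 := congrArg φ h1
          rw [φ.apply_symm_apply, map_one] at h2
          rw [show x = 1 from congrArg Subtype.val h2]
        · have h2 := hval _ h1
          rw [φ.apply_symm_apply] at h2
          rw [h2, irr_apply_one, ← h]
          push_cast
          rfl)
      have hpos : 1 ≤ charDegree (ψ : F → ℂ) := Nat.pos_of_ne_zero (irr_charDegree_ne_zero ψ)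
      have hm : 1 ≤ (n : ℤ) - b := by
        by_contra hm
        have h1 : (Nat.card A : ℤ) * (n - b) ≤ 0 :=
          mul_nonpos_of_nonneg_of_nonpos (Int.natCast_nonneg _) (by omega)
        rcases hb with rfl | rfl <;> omega
      have h1 : (Nat.card A : ℤ) ≤ (Nat.card A : ℤ) * (n - b) :=
        le_mul_of_one_le_right (Int.natCast_nonneg _) hm
      rcases hb with rfl | rfl <;> omega
    have hprin : ∀ ψ : IrrCharacter F, (∃ x ∈ Q, (ψ : F → ℂ) x ≠ (ψ : F → ℂ) 1) →
        ψ ≠ principal F := by
      rintro ψ ⟨x, -, hx⟩ rfl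
      exact hx (by simp [principal_apply])
    have hY : ∀ ψ : IrrCharacter F, ψ ∉ Y → (∃ x ∈ Q, (ψ : F → ℂ) x ≠ (ψ : F → ℂ) 1) →
        Nat.card E + 1 = Nat.card A := by
      intro ψ hψY hψ
      have h1 := hlow ψ hψ (a ψ) (hstd.sign' ψ ⟨Set.mem_univ _, hψY⟩) fun v hv => by
        rw [← hs ψ ⟨v, hv⟩]; exact hstd.val' ψ ⟨Set.mem_univ _, hψY⟩ ⟨v, hv⟩
      have h2 := hdegle {ψ, principal F}
      rw [Finset.sum_pair (hprin ψ hψ)] at h2
      have h3 : charDegree ((principal F : IrrCharacter F) : F → ℂ) = 1 := by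
        apply Nat.cast_injective (R := ℂ)
        rw [← irr_apply_one, principal_apply, Nat.cast_one]
      rw [h3, one_pow] at h2
      by_contra hne'
      have h4 : Nat.card A * Nat.card E ≤ Nat.card A * (Nat.card A - 2) :=
        Nat.mul_le_mul_left _ (by omega)
      have h5 := Nat.pow_le_pow_left h1 2
      obtain ⟨q, hq⟩ : ∃ q, Nat.card A = q + 2 := ⟨Nat.card A - 2, by omega⟩
      rw [hq, show q + 2 - 1 = q + 1 by omega] at h5
      rw [hq, show q + 2 - 2 = q by omega] at h4
      rw [hq] at h2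
      nlinarith
    have heA : Nat.card E + 1 = Nat.card A := by
      rcases hor with h | h
      exacts [hY η h hη, hY η' h hη']
    have hbig : ∀ ψ : IrrCharacter F, (∃ x ∈ Q, (ψ : F → ℂ) x ≠ (ψ : F → ℂ) 1) →
        Nat.card A - 1 ≤ charDegree (ψ : F → ℂ) := by
      intro ψ hψ
      by_cases hψY : ψ ∈ Y
      · obtain ⟨l, hl, rfl⟩ := hstd.surj ψ hψY
        refine hlow _ hψ (-δ) (by rcases hstd.sign with e | e <;> simp [e]) fun v hv => ?_
        rw [← hs (y l) ⟨v, hv⟩, hstd.val l hl ⟨v, hv⟩, finsum_eq_sum_of_fintype]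
        have hzero : ∑ w : A, (l : A → ℂ) w = 0 := by
          have h := inner_irr l (principal A)
          rw [if_neg hl, inner_def] at h
          refine ((mul_eq_zero.1 ?_).resolve_left (inv_ne_zero (Chars.card_ne_zero A)))
          convert h using 3 with w
          rw [principal_apply, map_one, mul_one]
        have himg : univ.image (fun σ : E => (σ : MulAut A) v) = univ.erase (1 : A) := by
          refine Finset.eq_of_subset_of_card_le (fun w hw => ?_) ?_
          · obtain ⟨σ, -, rfl⟩ := mem_image.1 hw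
            exact Finset.mem_erase.2 ⟨fun h => hv ((σ : MulAut A).injective (h.trans (map_one _).symm)),
              mem_univ _⟩
          · rw [Finset.card_image_of_injective _ fun σ τ h => Subtype.ext ?_,
              Finset.card_erase_of_mem (mem_univ _), Finset.card_univ, Finset.card_univ,
              ← Nat.card_eq_fintype_card, ← Nat.card_eq_fintype_card]
            · omega
            · have h1 := hfree _ (E.mul_mem (E.inv_mem τ.2) σ.2) v hv (by
                rw [MulAut.mul_apply, h, MulAut.inv_apply_self])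
              exact (inv_mul_eq_one.1 h1).symm
        have hsum : ∑ σ : E, (l : A → ℂ) ((σ : MulAut A) v) = -1 := by
          rw [← Finset.add_sum_erase _ _ (mem_univ (1 : A)), ← himg, irr_one_of_comm hAc,
            Finset.sum_image fun σ _ τ _ h => Subtype.ext ?_] at hzero
          · linear_combination hzero
          · have h1 := hfree _ (E.mul_mem (E.inv_mem τ.2) σ.2) v hv (by
              rw [MulAut.mul_apply, h, MulAut.inv_apply_self])
            exact (inv_mul_eq_one.1 h1).symm
        rw [hsum]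
        push_cast
        ring
      · exact hlow ψ hψ (a ψ) (hstd.sign' ψ ⟨Set.mem_univ _, hψY⟩) fun v hv => by
          rw [← hs ψ ⟨v, hv⟩]; exact hstd.val' ψ ⟨Set.mem_univ _, hψY⟩ ⟨v, hv⟩
    have h2 := hdegle {η, η', principal F}
    rw [Finset.sum_insert (by simp [hne, hprin η hη]), Finset.sum_pair (hprin η' hη'),
      ← heA] at h2
    have h3 := Nat.pow_le_pow_left (hbig η hη) 2
    have h4 := Nat.pow_le_pow_left (hbig η' hη') 2
    have h5 : 1 ≤ charDegree ((principal F : IrrCharacter F) : F → ℂ) ^ 2 :=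
      Nat.one_le_pow _ _ (Nat.pos_of_ne_zero (irr_charDegree_ne_zero _))
    rw [← heA, Nat.add_sub_cancel] at h3 h4
    nlinarith

end Frobenius

end CfsgLib.Blocks
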