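import Cfsg.Agent.Lib.Blocks.Counting
import Cfsg.Agent.Lib.Blocks.QuotientP
import Cfsg.Agent.Lib.Blocks.Correspondence

/-!
# Blocks of full defect
-/

set_option linter.unusedSectionVars false
set_option linter.style.haveILetI false

namespace CfsgLib.Blocks

open Cfsg Chars BlockOrth

variable {G : Type*} [Group G] [Fintype G] {M : Ideal AlgInt} [M.IsPrime] {p : ℕ} [Fact p.Prime]

/-- With a normal Sylow `p`-subgroup there are at least as many blocks as regular classes in its
centralizer. -/
theorem card_classes_le_card_blocks (hpM : (p : AlgInt) ∈ M) {P : Subgroup G} [P.Normal]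
    (hP : IsPGroup p P) (hidx : ¬ p ∣ P.index) :
    Nat.card {C : ConjClasses G // ∀ n : G, ConjClasses.mk n = C →
        ¬ p ∣ orderOf n ∧ n ∈ Subgroup.centralizer (P : Set G)} ≤
      Nat.card {B : Set (IrrCharacter G) // IsPBlock M B} := by
  classical
  haveI := irrFintype G
  haveI : Fintype (G ⧸ P) := Fintype.ofFinite _
  haveI := irrFintype (G ⧸ P)
  haveI := Fintype.ofFinite (ConjClasses G)
  set J := {C : ConjClasses G // ∀ n : G, ConjClasses.mk n = C →
    ¬ p ∣ orderOf n ∧ n ∈ Subgroup.centralizer (P : Set G)}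
  set I := {B : Set (IrrCharacter G) // IsPBlock M B}
  haveI := Fintype.ofFinite J
  haveI := Fintype.ofFinite I
  choose χ hχ using fun B : I => IsPBlock.nonempty B.2
  have hrep : ∀ C : J, ¬ p ∣ orderOf (classRep C.1) ∧
      classRep C.1 ∈ Subgroup.centralizer (P : Set G) := fun C => C.2 _ (mk_classRep C.1)
  let W : J → I → ResField M := fun C B =>
    red ⟨_, centralChar_mem_loc (M := M) (χ B) (classRep C.1)⟩
  have hW : LinearIndependent (ResField M) W := by
    rw [Fintype.linearIndependent_iff]
    intro c hc C₀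
    choose F hF using fun C : J => IsLocalRing.residue_surjective (R := loc M) (c C)
    -- the sum is congruent to zero at every character
    have hall : ∀ φ : IrrCharacter G, MemLocalIdeal M
        (∑ C : J, (F C : ℂ) * centralChar (φ : G → ℂ) (classRep C.1)) := by
      intro φ
      have h1 : red (∑ C : J, F C * ⟨_, centralChar_mem_loc (M := M)
          (χ ⟨_, isPBlock_blockOf φ⟩) (classRep C.1)⟩) = 0 := by
        have h2 := congrFun hc ⟨_, isPBlock_blockOf φ⟩
        rw [Finset.sum_apply, Pi.zero_apply] at h2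
        rw [map_sum, ← h2]
        exact Finset.sum_congr rfl fun C _ => by
          rw [map_mul, Pi.smul_apply, smul_eq_mul, ← hF C]
      rw [red_eq_zero_iff] at h1
      push_cast at h1
      have h3 : MemLocalIdeal M (∑ C : J, (F C : ℂ) * (centralChar (φ : G → ℂ) (classRep C.1) -
          centralChar (χ ⟨_, isPBlock_blockOf φ⟩ : G → ℂ) (classRep C.1))) :=
        MemLocalIdeal.sum' fun C _ => MemLocalIdeal.mul_left' (F C).2
          ((mem_blockOf.1 (hχ ⟨_, isPBlock_blockOf φ⟩)) _)
      have := MemLocalIdeal.add' h3 h1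
      simpa [mul_sub, Finset.sum_sub_distrib] using this
    obtain ⟨a, ha0⟩ : ∃ a : G ⧸ P → ℂ, a = ∑ C : J,
        (F C : ℂ) • classInd (QuotientGroup.mk (classRep C.1) : G ⧸ P) := ⟨_, rfl⟩
    have hacl : IsClassFunction (G ⧸ P) a :=
      ha0 ▸ isClassFunction_sum _ fun C _ => isClassFunction_smul _ (isClassFunction_classInd _)
    have hω : ∀ f : IrrCharacter (G ⧸ P), MemLocalIdeal M (omega (f : G ⧸ P → ℂ) a) := by
      intro f
      have h := hall ⟨_, isIrrCharacter_inflate P f.2⟩
      rw [ha0, omega_sum]
      simp only [omega_smul, omega_classInd]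
      refine (congrArg (MemLocalIdeal M) (Finset.sum_congr rfl fun C _ => ?_)).mp h
      exact congrArg ((F C : ℂ) * ·)
        (centralChar_inflate hP (f : G ⧸ P → ℂ) (hrep C).1 (hrep C).2)
    have hq : ¬ p ∣ Nat.card (G ⧸ P) := by rwa [← Subgroup.index_eq_card]
    have hval : MemLocalIdeal M (a (QuotientGroup.mk (classRep C₀.1))) := by
      rw [classFun_eq_sum_omega hacl]
      refine MemLocalIdeal.sum' fun f _ => MemLocalIdeal.mul_right' (hω f) ?_
      rw [idemCoeff]
      exact mul_mem (inv_natCast_mem_loc Fact.out hpM hq)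
        (mul_mem (irr_mem_loc f 1) (conj_irr_mem_loc f _))
    have hone : a (QuotientGroup.mk (classRep C₀.1)) = (F C₀ : ℂ) := by
      rw [ha0, Finset.sum_apply, Finset.sum_eq_single C₀]
      · rw [Pi.smul_apply, classInd_apply, if_pos (IsConj.refl _), smul_eq_mul, mul_one]
      · intro C _ hne
        rw [Pi.smul_apply, classInd_apply, if_neg, smul_zero]
        intro hcon
        obtain ⟨q, hq'⟩ := isConj_iff.1 hcon
        obtain ⟨g, rfl⟩ := QuotientGroup.mk_surjective q
        obtain ⟨hao, hac⟩ := C.2 (g * classRep C.1 * g⁻¹) (by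
          rw [← mk_classRep C.1]
          exact ConjClasses.mk_eq_mk_iff_isConj.2
            (isConj_iff.2 ⟨g, by rw [mk_classRep C.1]⟩).symm)
        obtain ⟨hbo, -⟩ := hrep C₀
        have hmem : (g * classRep C.1 * g⁻¹)⁻¹ * classRep C₀.1 ∈ P := QuotientGroup.eq.1 hq'
        obtain ⟨i, hi⟩ := IsPGroup.iff_orderOf.1 hP ⟨_, hmem⟩
        have hcomm := Subgroup.mem_centralizer_iff.1 hac _ hmem
        have e1 : IsPPrimePart p (classRep C₀.1) (g * classRep C.1 * g⁻¹) :=
          ⟨(g * classRep C.1 * g⁻¹)⁻¹ * classRep C₀.1,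
            by rw [hcomm, mul_inv_cancel_left], hcomm,
            ⟨i, by rw [← hi, ← Subgroup.orderOf_coe]⟩, hao⟩
        have e2 := e1.unique ⟨1, one_mul _, Commute.one_left _, ⟨0, by simp⟩, hbo⟩
        apply hne
        apply Subtype.ext
        rw [← mk_classRep C.1, ← mk_classRep C₀.1]
        exact ConjClasses.mk_eq_mk_iff_isConj.2 (isConj_iff.2 ⟨g, e2⟩)
      · simp
    rw [hone] at hval
    rw [← hF C₀]
    exact red_eq_zero_iff.2 hval
  have := hW.fintype_card_le_finrank
  rwa [Module.finrank_pi, ← Nat.card_eq_fintype_card, ← Nat.card_eq_fintype_card] at this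

/-- The number of blocks with Sylow defect group. -/
theorem card_blocks_sylow_defect (hpM : (p : AlgInt) ∈ M) (P : Sylow p G) :
    Nat.card {B : Set (IrrCharacter G) // IsPBlock M B ∧ IsDefectGroup p M B (P : Subgroup G)} =
      Nat.card {C : ConjClasses (Subgroup.normalizer ((P : Subgroup G) : Set G)) //
        ∀ n : Subgroup.normalizer ((P : Subgroup G) : Set G), ConjClasses.mk n = C →
          ¬ p ∣ orderOf n ∧ (n : G) ∈ Subgroup.centralizer ((P : Subgroup G) : Set G)} := by
  classical
  have hPp := P.isPGroup'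
  obtain ⟨Q, hQ⟩ : ∃ Q : Subgroup G, Q = (P : Subgroup G) := ⟨_, rfl⟩
  rw [← hQ] at hPp ⊢
  have hcardQ : Nat.card Q = p ^ (Nat.card G).factorization p := hQ ▸ P.card_eq_multiplicity
  set N := Subgroup.normalizer (Q : Set G) with hN
  haveI : Fintype N := Fintype.ofFinite N
  have hQN : Q ≤ N := Subgroup.le_normalizer
  haveI : (Q.subgroupOf N).Normal :=
    (Subgroup.normal_subgroupOf_iff_le_normalizer hQN).2 le_rfl
  have hQ' : IsPGroup p (Q.subgroupOf N) := hPp.of_equiv (Subgroup.subgroupOfEquivOfLe hQN).symm
  have hcardQ' : Nat.card (Q.subgroupOf N) = p ^ (Nat.card G).factorization p := by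
    rw [Base.card_subgroupOf hQN, hcardQ]
  have hfac : (Nat.card N).factorization p = (Nat.card G).factorization p := by
    refine le_antisymm ((Nat.factorization_le_iff_dvd Nat.card_pos.ne' Nat.card_pos.ne').2
      (Subgroup.card_subgroup_dvd_card N) p) ?_
    rw [← (Fact.out : p.Prime).pow_dvd_iff_le_factorization Nat.card_pos.ne', ← hcardQ']
    exact Subgroup.card_subgroup_dvd_card _
  have hidx : ¬ p ∣ (Q.subgroupOf N).index := by
    intro hd
    have h1 : p ^ ((Nat.card N).factorization p + 1) ∣ Nat.card N := by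
      rw [hfac]
      conv_rhs => rw [← (Q.subgroupOf N).card_mul_index, hcardQ']
      rw [pow_succ]
      exact mul_dvd_mul_left _ hd
    exact Nat.pow_succ_factorization_not_dvd Nat.card_pos.ne' Fact.out h1
  -- all blocks of the normalizer have full defect
  have hfull : ∀ b : Set (IrrCharacter N), IsPBlock M b →
      IsDefectGroup p M b (Q.subgroupOf N) := by
    intro b hb
    obtain ⟨E, hE⟩ := exists_isDefectGroup (p := p) hb
    have hle := IsDefectGroup.normal_le hpM hb hE hQ'
    obtain ⟨i, hi⟩ := (IsDefectGroup.isPGroup hE).exists_card_eq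
    have hcard : Nat.card E ≤ Nat.card (Q.subgroupOf N) := by
      rw [hi, hcardQ']
      refine Nat.pow_le_pow_right (Fact.out : p.Prime).pos ?_
      rw [← hfac, ← (Fact.out : p.Prime).pow_dvd_iff_le_factorization Nat.card_pos.ne', ← hi]
      exact Subgroup.card_subgroup_dvd_card E
    rwa [Subgroup.eq_of_le_of_card_ge hle hcard]
  -- blocks of `G` correspond to blocks of the normalizer
  have e1 : Nat.card {B : Set (IrrCharacter G) // IsPBlock M B ∧ IsDefectGroup p M B Q} =
      Nat.card {b : Set (IrrCharacter N) // IsPBlock M b} := by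
    choose Φ h1 h2 h3 using fun b : {b : Set (IrrCharacter N) // IsPBlock M b} =>
      first_main_induced hpM hPp b.2 (hfull _ b.2)
    refine (Nat.card_congr (Equiv.ofBijective (fun b => (⟨Φ b, h1 b, h2 b⟩ :
      {B : Set (IrrCharacter G) // IsPBlock M B ∧ IsDefectGroup p M B Q})) ⟨?_, ?_⟩)).symm
    · intro b b' h
      have h' : Φ b = Φ b' := congrArg Subtype.val h
      exact Subtype.ext (first_main_unique hpM hPp (h3 b) (h' ▸ h3 b') (hfull _ b.2))
    · rintro ⟨B, hB, hdef⟩
      obtain ⟨b, hb, -, hind⟩ := first_main_exists hpM hB hdef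
      exact ⟨⟨b, hb⟩, Subtype.ext (IsInducedBlock.unique (h3 ⟨b, hb⟩) hind)⟩
  rw [e1]
  have hCiff : ∀ n : N, (n : G) ∈ Subgroup.centralizer (Q : Set G) ↔
      n ∈ Subgroup.centralizer ((Q.subgroupOf N : Subgroup N) : Set N) := by
    intro n
    simp only [Subgroup.mem_centralizer_iff]
    constructor
    · intro h u hu
      exact Subtype.ext (h u (Subgroup.mem_subgroupOf.1 hu))
    · intro h u hu
      exact congrArg Subtype.val (h ⟨u, hQN hu⟩ (Subgroup.mem_subgroupOf.2 hu))
  refine le_antisymm ?_ ?_
  · have h := card_blocks_defect_le (G := N) (M := M) hpM ((Nat.card N).factorization p)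
    refine le_trans (le_trans (le_of_eq ?_) h) (le_of_eq ?_)
    · refine Nat.card_congr (Equiv.subtypeEquivRight fun b => ⟨fun hb => ⟨hb, ?_⟩, fun hb => hb.1⟩)
      have h1 := card_defectGroup hpM hb (hfull b hb)
      rw [hcardQ'] at h1
      rw [hfac, Nat.pow_right_injective (Fact.out : p.Prime).two_le h1]
    · refine Nat.card_congr (Equiv.subtypeEquivRight fun C => ⟨?_, fun hC => ?_⟩)
      · rintro ⟨g, rfl, hg, hd⟩ n hn
        obtain ⟨c, hc⟩ := isConj_iff.1 (ConjClasses.mk_eq_mk_iff_isConj.1 hn.symm)
        have hox : orderOf n = orderOf g := by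
          rw [← hc]
          have := orderOf_injective (MulAut.conj c).toMonoidHom (MulAut.conj c).injective g
          simpa using this
        refine ⟨by rw [hox]; exact hg, (hCiff n).2 ?_⟩
        -- a class of full defect centralizes the normal Sylow subgroup
        obtain ⟨S⟩ : Nonempty (Sylow p (Subgroup.centralizer ({g} : Set N))) := inferInstance
        obtain ⟨x, hx⟩ := exists_conj_le_sylow (isPGroup_sylow_map _ S)
          (le_top : _ ≤ (⊤ : Subgroup N)) (default : Sylow p (⊤ : Subgroup N))
        have hgC : g ∈ Subgroup.centralizer ((Q.subgroupOf N : Subgroup N) : Set N) := by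
          obtain ⟨T, hT⟩ := hQ'.exists_le_sylow
          have hTQ : (T : Subgroup N) = Q.subgroupOf N := (Subgroup.eq_of_le_of_card_ge hT (by
            rw [T.card_eq_multiplicity, hcardQ', hfac])).symm
          have hST : (S : Subgroup (Subgroup.centralizer ({g} : Set N))).map
              (Subgroup.centralizer ({g} : Set N)).subtype = Q.subgroupOf N := by
            refine Subgroup.eq_of_le_of_card_ge ?_ ?_
            · haveI : (T : Subgroup N).Normal := hTQ ▸ inferInstance
              refine le_trans (le_sup_left (b := (T : Subgroup N))) (le_of_eq ?_)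
              exact (T.is_maximal' ((isPGroup_sylow_map _ S).to_sup_of_normal_right T.isPGroup')
                le_sup_right).trans hTQ
            · rw [Subgroup.card_map_of_injective (Subgroup.subtype_injective _),
                S.card_eq_multiplicity, hcardQ', ← hfac]
              exact Nat.pow_le_pow_right (Fact.out : p.Prime).pos hd
          exact mem_centralizer_of_le (hST ▸ Subgroup.map_subtype_le _)
        haveI : (Subgroup.centralizer ((Q.subgroupOf N : Subgroup N) : Set N)).Normal :=
          ⟨fun c hc g => (conj_mem_centralizer_iff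
            (by rw [Subgroup.normalizer_eq_top]; exact Subgroup.mem_top g) c).2 hc⟩
        rw [← hc]
        exact Subgroup.Normal.conj_mem inferInstance g hgC c
      · obtain ⟨g, rfl⟩ := ConjClasses.exists_rep C
        obtain ⟨hg, hgC⟩ := hC g rfl
        refine ⟨g, rfl, hg, ?_⟩
        rw [← (Fact.out : p.Prime).pow_dvd_iff_le_factorization Nat.card_pos.ne', hfac, ← hcardQ']
        exact Subgroup.card_dvd_of_le (le_centralizer_singleton ((hCiff g).1 hgC))
  · refine le_trans (le_of_eq ?_) (card_classes_le_card_blocks hpM hQ' hidx)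
    exact Nat.card_congr (Equiv.subtypeEquivRight fun C =>
      forall_congr' fun n => imp_congr_right fun _ => and_congr_right fun _ => hCiff n)

end CfsgLib.Blocks
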