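import Cfsg.Agent.Lib.Blocks.RelPairs
import Cfsg.Agent.Lib.Blocks.FongDefect
import Cfsg.Agent.Lib.Fusion.Group
import Cfsg.Agent.Lib.Fusion.Criteria
import Cfsg.Prelude.Def_BlockFusion

/-!
# The fusion system of a block and its saturation
-/

set_option linter.unusedSectionVars false
set_option linter.style.haveILetI false

namespace CfsgLib.Blocks

open Cfsg Chars
open scoped Pointwise
open CfsgLib.Fusion (cj IsMor img)

variable {G : Type*} [Group G] [Fintype G] {M : Ideal AlgInt} [M.IsPrime] {p : ℕ} [Fact p.Prime]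

/-- Inclusion of pairs. -/
abbrev Below (p : ℕ) (M : Ideal AlgInt) (a b : BrauerPairIdx G) : Prop :=
  Relation.ReflTransGen (NormalSubpairRel p M) a b

/-! ## Clifford theory of the block of a stabilizer -/

section Fong

variable {Q H D : Subgroup G} {f : Set (IrrCharacter (Subgroup.centralizer (Q : Set G)))}
  {F : Set (IrrCharacter H)}

theorem fong_local (hpM : (p : AlgInt) ∈ M) (hQf : IsBrauerPair p M Q f)
    (hCH : Subgroup.centralizer (Q : Set G) ≤ H) (hH : H ≤ stabPair ⟨Q, f⟩) (hF : IsPBlock M F)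
    (hFf : subgroupBlockCoeff H F = subgroupBlockCoeff (Subgroup.centralizer (Q : Set G)) f)
    (hDH : D ≤ H) (hD : IsDefectGroup p M F (D.subgroupOf H)) :
    ¬ p ∣ (D.subgroupOf H ⊔ (Subgroup.centralizer (Q : Set G)).subgroupOf H).index ∧
      Nat.card (D ⊓ Subgroup.centralizer (Q : Set G) : Subgroup G) = p ^ blockDefect p f ∧
      blockDefect p F = blockDefect p f +
        ((Subgroup.centralizer (Q : Set G)).subgroupOf H).index.factorization p := by
  classical
  haveI := Fintype.ofFinite H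
  haveI := Fintype.ofFinite (Subgroup.centralizer (Q : Set G))
  haveI : ((Subgroup.centralizer (Q : Set G)).subgroupOf H).Normal :=
    (Subgroup.normal_subgroupOf_iff_le_normalizer hCH).2 fun u hu =>
      mem_normalizer_centralizer (stabPair_le_normalizer _ (hH hu))
  haveI := Fintype.ofFinite ((Subgroup.centralizer (Q : Set G)).subgroupOf H)
  set φ := Subgroup.subgroupOfEquivOfLe hCH with hφ
  set b := pullIrr φ '' f with hb'
  have hb : IsPBlock M b := isPBlock_image_pullIrr φ hQf.2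
  have hinv : ∀ (x : H) θ, θ ∈ b →
      conjIrr ((Subgroup.centralizer (Q : Set G)).subgroupOf H) x θ ∈ b := by
    rintro x _ ⟨ξ, hξ, rfl⟩
    have hst := ((mem_stabPair_iff hQf.2).1 (hH (inv_mem x.2))).2
    obtain ⟨ξ', hξ', hc⟩ := hst.2 ξ hξ
    refine ⟨ξ', hξ', Subtype.ext (funext fun n => ?_)⟩
    rw [coe_conjIrr, pullIrr_apply]
    refine hc (φ (CharsMore.conjBy _ x n)) (φ n) ?_
    simp [hφ, mul_assoc]
  have hst := conjIrr_mem_of_invariant _ hinv
  have hdb : blockDefect p b = blockDefect p f := by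
    rw [hb', blockDefect, blockDefect, Set.image_image, Nat.card_congr φ.toEquiv]
    simp only [charDegree, pullIrr_apply, map_one]
  have hlift : liftIdem ((Subgroup.centralizer (Q : Set G)).subgroupOf H) b = blockCoeff F := by
    funext u
    by_cases hu : u ∈ (Subgroup.centralizer (Q : Set G)).subgroupOf H
    · have e1 := congrFun (resFun_liftIdem ((Subgroup.centralizer (Q : Set G)).subgroupOf H) b)
        ⟨u, hu⟩
      simp only [resFun] at e1
      rw [e1, hb', blockCoeff_image_pullIrr, ← subgroupBlockCoeff_coe, ← subgroupBlockCoeff_coe F u,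
        hFf]
      rfl
    · rw [liftIdem_eq_zero _ _ hu, ← subgroupBlockCoeff_coe F u, hFf,
        subgroupBlockCoeff_of_notMem f fun h => hu (Subgroup.mem_subgroupOf.2 h)]
  have hval : ∀ (χ : IrrCharacter H) (θ : IrrCharacter ((Subgroup.centralizer (Q : Set G)).subgroupOf H)),
    classInner
      (fun n : (Subgroup.centralizer (Q : Set G)).subgroupOf H => (χ : H → ℂ) n)
        (θ : ((Subgroup.centralizer (Q : Set G)).subgroupOf H) → ℂ) ≠ 0 → (χ ∈ F ↔ θ ∈ b) := by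
    intro χ θ hθ
    have e := omega_liftIdem _ hst χ hθ
    rw [hlift, omega_blockCoeff] at e
    by_cases h1 : χ ∈ F <;> by_cases h2 : θ ∈ b <;> simp [h1, h2] at e ⊢
  obtain ⟨χ, hχ⟩ := IsPBlock.nonempty hF
  obtain ⟨θ, hθ⟩ := exists_constituent_restrict ((Subgroup.centralizer (Q : Set G)).subgroupOf H) χ
  obtain ⟨h1, h2, h3⟩ := fong_defect _ hpM hb hinv hF ⟨χ, hχ, θ, (hval χ θ hθ).1 hχ, hθ⟩
    (fun B' hB' ⟨χ', hχ', θ', hθ', hne⟩ => by
      rw [IsPBlock.eq_of_mem hB' hF hχ' ((hval χ' θ' hne).2 hθ')])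
    hD
  refine ⟨h1, ?_, hdb ▸ h3⟩
  have h4 := BlockOrth.card_defectGroup hpM hb h2
  rw [Base.card_subgroupOf inf_le_right, hdb] at h4
  rw [← h4, ← Base.card_subgroupOf (inf_le_left.trans hDH :
    D ⊓ Subgroup.centralizer (Q : Set G) ≤ H)]
  rfl

end Fong

/-! ## Pairs of a subgroup and of the group -/

theorem below_of_rel {L : Subgroup G} [Fintype L] (hpM : (p : AlgInt) ∈ M) {A : Subgroup G}
    (hA : A ≤ L) (hCA : Subgroup.centralizer (A : Set G) ≤ L)
    {g : Set (IrrCharacter (Subgroup.centralizer (A : Set G)))}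
    {a' : BrauerPairIdx L}
    (h : Relation.ReflTransGen (NormalSubpairRel p M) a'
      (⟨A.subgroupOf L, relBlock hA hCA g⟩ : BrauerPairIdx L)) :
    ∀ (R : Subgroup G) (hR : R ≤ L) (hCR : Subgroup.centralizer (R : Set G) ≤ L)
      (r : Set (IrrCharacter (Subgroup.centralizer (R : Set G)))), IsPBlock M r →
      a' = ⟨R.subgroupOf L, relBlock hR hCR r⟩ → Below p M ⟨R, r⟩ ⟨A, g⟩ := by
  induction h using Relation.ReflTransGen.head_induction_on with
  | refl =>
    intro R hR hCR r _ he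
    have h1 : conjPair ((1 : L) : G) ⟨R, r⟩ = ⟨A, g⟩ := by
      refine (conjPair_rel_iff hR hCR hA hCA r g 1).1 ?_
      rw [conjPair_one, he]
    rw [show ((1 : L) : G) = 1 from rfl, conjPair_one] at h1
    exact h1 ▸ Relation.ReflTransGen.refl
  | @head a' c' hs _ ih =>
    intro R hR hCR r hr he
    subst he
    obtain ⟨S', s'⟩ := c'
    have hS'' : S' = (S'.map L.subtype).subgroupOf L := by
      rw [Subgroup.subgroupOf, Subgroup.comap_map_eq_self_of_injective L.subtype_injective]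
    have hSL : S'.map L.subtype ≤ L := Subgroup.map_subtype_le S'
    generalize S'.map L.subtype = S at hS'' hSL
    subst hS''
    have hRS : R ≤ S := fun u hu =>
      (hs.2.2.1 (show (⟨u, hR hu⟩ : L) ∈ R.subgroupOf L from hu) :)
    have hCS : Subgroup.centralizer (S : Set G) ≤ L := (centralizer_antitone hRS).trans hCR
    have hSR : S ≤ Subgroup.normalizer (R : Set G) := by
      intro x hx
      have h1 := Subgroup.mem_normalizer_iff.1
        (hs.2.2.2.1 (show (⟨x, hSL hx⟩ : L) ∈ S.subgroupOf L from hx))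
      rw [Subgroup.mem_normalizer_iff]
      intro u
      constructor
      · intro hu
        exact ((h1 ⟨u, hR hu⟩).1 hu :)
      · intro hu
        have huH : u ∈ L := by
          have h2 := L.mul_mem (L.mul_mem (L.inv_mem (hSL hx)) (hR hu)) (hSL hx)
          simpa [mul_assoc] using h2
        exact ((h1 ⟨u, huH⟩).2 hu :)
    obtain ⟨s, hs', rfl⟩ := exists_relBlock hSL hCS hs.2.1.2
    have hSp : IsPGroup p S := hs.2.1.1.of_equiv (Subgroup.subgroupOfEquivOfLe hSL)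
    exact Relation.ReflTransGen.head (show NormalSubpairRel p M ⟨R, r⟩ ⟨S, s⟩ from
      (isNormalSubpair_rel_iff hpM hR hCR hSL hCS hSp hRS hSR hr hs').1 hs)
      (ih S hSL hCS s hs' rfl)

/-! ## The fusion system -/

section Fusion

variable {B : Set (IrrCharacter G)} {b : BrauerPairIdx G}

/-- `g` carries the pair on `Q` below `b` to a pair below `b`. -/
def BlockMor (p : ℕ) (M : Ideal AlgInt) (b : BrauerPairIdx G) (Q : Subgroup G) (g : G) : Prop :=
  ∃ f, Below p M ⟨Q, f⟩ b ∧ Below p M (conjPair g ⟨Q, f⟩) b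

theorem BlockMor.le {Q : Subgroup G} {g : G} (h : BlockMor p M b Q g) : Q ≤ b.1 :=
  below_le h.choose_spec.1

theorem BlockMor.map_le {Q : Subgroup G} {g : G} (h : BlockMor p M b Q g) :
    Q.map (MulAut.conj g).toMonoidHom ≤ b.1 :=
  below_le h.choose_spec.2

theorem blockMor_of_mem (hpM : (p : AlgInt) ∈ M) (hb : IsBrauerPair p M b.1 b.2) {Q : Subgroup G}
    (hQ : Q ≤ b.1) {g : G} (hg : g ∈ stabPair b) : BlockMor p M b Q g := by
  obtain ⟨f, hf⟩ := exists_below hpM hb Q hQ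
  refine ⟨f, hf, ?_⟩
  have := below_conj hf g
  rwa [show conjPair g b = b from hg] at this

theorem blockMor_comp (hpM : (p : AlgInt) ∈ M) (hb : IsBrauerPair p M b.1 b.2) {Q R : Subgroup G}
    {g k : G} (hg : BlockMor p M b Q g) (hk : BlockMor p M b R k)
    (h : Q.map (MulAut.conj g).toMonoidHom ≤ R) : BlockMor p M b Q (k * g) := by
  obtain ⟨f, hf, hgf⟩ := hg
  obtain ⟨r, hr, hkr⟩ := hk
  obtain ⟨f'', hf''⟩ := exists_below hpM (below_isBrauerPair hr hb) _ h
  obtain rfl := below_unique hpM hb (hf''.trans hr) hgf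
  refine ⟨f, hf, ?_⟩
  rw [← conjPair_mul]
  exact (below_conj hf'' k).trans hkr

theorem blockMor_inv {Q : Subgroup G} {g : G}
    (hg : BlockMor p M b Q g) : BlockMor p M b (Q.map (MulAut.conj g).toMonoidHom) g⁻¹ := by
  obtain ⟨f, hf, hgf⟩ := hg
  refine ⟨(conjPair g ⟨Q, f⟩).2, hgf, ?_⟩
  show Below p M (conjPair g⁻¹ (conjPair g ⟨Q, f⟩)) b
  rwa [conjPair_mul, inv_mul_cancel, conjPair_one]

/-- The fusion system of a block. -/
noncomputable def blockFusion (hpM : (p : AlgInt) ∈ M) (hb : IsBrauerPair p M b.1 b.2) :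
    FusionSystem b.1 :=
  CfsgLib.Fusion.ofPred b.1 (fun Q φ => ∃ g, BlockMor p M b Q g ∧ ∀ x ∈ Q, φ x = cj g x)
    (fun Q φ ⟨g, hg, e⟩ => ⟨hg.le, fun x hx => by
      rw [e x hx]; exact hg.map_le ⟨x, hx, rfl⟩⟩)
    (fun Q φ ⟨g, _, e⟩ x hx y hy h => by
      rw [e x hx, e y hy] at h
      simpa [cj] using h)
    (fun Q φ ψ ⟨g, hg, e⟩ h => ⟨g, hg, fun x hx => (h x hx).symm.trans (e x hx)⟩)
    (fun Q g hQ hg => ⟨g, blockMor_of_mem hpM hb hQ (subgroup_le_stabPair hpM hb hg),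
      fun _ _ => rfl⟩)
    (fun Q R φ ψ ⟨g, hg, e⟩ ⟨k, hk, e'⟩ h => ⟨k * g, blockMor_comp hpM hb hg hk (by
        rintro _ ⟨x, hx, rfl⟩
        exact (e x hx ▸ h x hx :)), fun x hx => by
      rw [Function.comp_apply, e' _ (h x hx), e x hx, CfsgLib.Fusion.cj_mul]⟩)
    (fun Q φ ⟨g, hg, e⟩ _ => ⟨cj g⁻¹, ⟨g⁻¹, by
        rw [CfsgLib.Fusion.img_congr e, CfsgLib.Fusion.img_cj]
        exact blockMor_inv hg, fun _ _ => rfl⟩, fun x hx => by
      rw [e x hx, CfsgLib.Fusion.cj_inv_cj]⟩)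

theorem isBlockFusionSystemOn_blockFusion {P : Subgroup G}
    {e : Set (IrrCharacter (Subgroup.centralizer (P : Set G)))} (hpM : (p : AlgInt) ∈ M)
    (hmax : IsMaximalBrauerPair p M B P e) :
    IsBlockFusionSystemOn p M B P e (blockFusion (b := ⟨P, e⟩) hpM hmax.1.1) := by
  refine ⟨hmax, fun Q φ => ?_⟩
  constructor
  · rintro ⟨g, hg, hφ⟩
    refine ⟨hg.le, g, fun u => ?_, hg.map_le, hg⟩
    rw [← CfsgLib.Fusion.toFun_coe φ u]
    exact hφ u u.2
  · rintro ⟨-, g, hφ, -, hg⟩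
    exact ⟨g, hg, fun x hx => by rw [CfsgLib.Fusion.toFun_of_mem φ hx]; exact hφ ⟨x, hx⟩⟩

variable {P : Subgroup G} {e : Set (IrrCharacter (Subgroup.centralizer (P : Set G)))}
  {F : FusionSystem P}

theorem isMor_block_iff (hF : IsBlockFusionSystemOn p M B P e F) {Q : Subgroup G} {φ : G → G} :
    IsMor F Q φ ↔ ∃ g, BlockMor p M ⟨P, e⟩ Q g ∧ ∀ x ∈ Q, φ x = cj g x := by
  constructor
  · rintro ⟨ψ, hψ, hψφ⟩
    obtain ⟨-, g, hg, -, hmor⟩ := (hF.2 Q ψ).1 hψ
    exact ⟨g, hmor, fun x hx => (hψφ ⟨x, hx⟩).symm.trans (hg ⟨x, hx⟩)⟩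
  · rintro ⟨g, hg, e'⟩
    exact ⟨conjHom Q g, (hF.2 Q _).2 ⟨hg.le, g, fun _ => rfl, hg.map_le, hg⟩,
      fun x => (e' x x.2).symm⟩

theorem isConj_block_iff (hF : IsBlockFusionSystemOn p M B P e F) {Q Q' : Subgroup G} :
    F.IsConj Q Q' ↔ ∃ g, BlockMor p M ⟨P, e⟩ Q g ∧ Q.map (MulAut.conj g).toMonoidHom = Q' := by
  rw [CfsgLib.Fusion.isConj_iff]
  constructor
  · rintro ⟨φ, hφ, hi⟩
    obtain ⟨g, hg, e'⟩ := (isMor_block_iff hF).1 hφ
    exact ⟨g, hg, by rw [← CfsgLib.Fusion.img_cj, ← CfsgLib.Fusion.img_congr e', hi]⟩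
  · rintro ⟨g, hg, h⟩
    exact ⟨cj g, (isMor_block_iff hF).2 ⟨g, hg, fun _ _ => rfl⟩,
      by rw [CfsgLib.Fusion.img_cj, h]⟩

/-! ## Centralized and normalized pairs -/

theorem blockDefect_conjBlock {Q : Subgroup G} (x : G)
    (f : Set (IrrCharacter (Subgroup.centralizer (Q : Set G)))) :
    blockDefect p (conjBlock Q x f) = blockDefect p f := by
  rw [conjBlock_eq, blockDefect_conjImage]

theorem card_inf_centralizer_le (hpM : (p : AlgInt) ∈ M) {Q : Subgroup G}
    {f : Set (IrrCharacter (Subgroup.centralizer (Q : Set G)))}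
    (hb : IsBrauerPair p M b.1 b.2) (hle : Below p M ⟨Q, f⟩ b) :
    Nat.card (b.1 ⊓ Subgroup.centralizer (Q : Set G) : Subgroup G) ≤ p ^ blockDefect p f := by
  haveI := Fintype.ofFinite (Subgroup.centralizer (Q : Set G))
  have hf := (below_isBrauerPair hle hb).2
  obtain ⟨D, hD, hD'⟩ := exists_defect_ge (S := b.1 ⊓ Subgroup.centralizer (Q : Set G)) hpM hb hle
    le_rfl (centralizer_le_stabPair hf) hf rfl inf_le_left inf_le_right
  have := Subgroup.card_le_of_le hD'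
  rwa [Base.card_subgroupOf inf_le_right, BlockOrth.card_defectGroup hpM hf hD] at this

theorem isDefectGroup_inf_centralizer_iff (hpM : (p : AlgInt) ∈ M) {Q : Subgroup G}
    {f : Set (IrrCharacter (Subgroup.centralizer (Q : Set G)))}
    (hb : IsBrauerPair p M b.1 b.2) (hle : Below p M ⟨Q, f⟩ b) {S : Subgroup G}
    (hS : S ≤ b.1 ⊓ Subgroup.centralizer (Q : Set G)) :
    IsDefectGroup p M f (S.subgroupOf (Subgroup.centralizer (Q : Set G))) ↔
      Nat.card S = p ^ blockDefect p f := by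
  haveI := Fintype.ofFinite (Subgroup.centralizer (Q : Set G))
  have hf := (below_isBrauerPair hle hb).2
  constructor
  · intro h
    have := BlockOrth.card_defectGroup hpM hf h
    rwa [Base.card_subgroupOf (hS.trans inf_le_right)] at this
  · intro h
    obtain ⟨D, hD, hD'⟩ := exists_defect_ge (S := S) hpM hb hle le_rfl (centralizer_le_stabPair hf)
      hf rfl (hS.trans inf_le_left) (hS.trans inf_le_right)
    rwa [Subgroup.eq_of_le_of_card_ge hD' (by
      rw [BlockOrth.card_defectGroup hpM hf hD, Base.card_subgroupOf (hS.trans inf_le_right), h])]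

theorem isFullyCentralized_iff (hpM : (p : AlgInt) ∈ M) (hF : IsBlockFusionSystemOn p M B P e F)
    {Q : Subgroup G} {f : Set (IrrCharacter (Subgroup.centralizer (Q : Set G)))}
    (hle : Below p M ⟨Q, f⟩ ⟨P, e⟩) :
    F.IsFullyCentralized Q ↔
      Nat.card (P ⊓ Subgroup.centralizer (Q : Set G) : Subgroup G) = p ^ blockDefect p f := by
  have hb : IsBrauerPair p M P e := hF.1.1.1
  have hQf := below_isBrauerPair hle hb
  constructor
  · rintro ⟨-, h⟩
    haveI := Fintype.ofFinite (Subgroup.centralizer (Q : Set G))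
    refine le_antisymm (card_inf_centralizer_le (b := ⟨P, e⟩) hpM hb hle) ?_
    obtain ⟨x, hx, hd⟩ := exists_conj_defect (b := ⟨P, e⟩) hpM hF.1 hle le_rfl
      (centralizer_le_stabPair hQf.2) hQf.2 rfl
    have h1 := hd _ (centralizer_conj_iff Q x) _ (isPBlock_conjBlock hQf.2 x) rfl
    have h2 := (isDefectGroup_inf_centralizer_iff (b := ⟨P, e⟩) hpM hb hx le_rfl).1 h1
    have h3 := h _ ((isConj_block_iff hF).2 ⟨x, ⟨f, hle, hx⟩, rfl⟩)
    change Nat.card (P ⊓ _ : Subgroup G) ≤ Nat.card (P ⊓ _ : Subgroup G) at h3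
    refine le_trans (le_of_eq ?_) h3
    rw [← blockDefect_conjBlock x f]
    exact h2.symm
  · intro h
    refine ⟨below_le hle, fun Q' hQ' => ?_⟩
    obtain ⟨g, ⟨f', hf', hgf⟩, rfl⟩ := (isConj_block_iff hF).1 hQ'
    obtain rfl := below_unique hpM (b := ⟨P, e⟩) hb hf' hle
    show Nat.card (P ⊓ _ : Subgroup G) ≤ Nat.card (P ⊓ _ : Subgroup G)
    rw [h, ← blockDefect_conjBlock g f']
    exact card_inf_centralizer_le (b := ⟨P, e⟩) hpM hb hgf

/-- The part of `b` in the stabilizer is a defect group of the block of the stabilizer. -/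
def IsGoodPair (p : ℕ) (M : Ideal AlgInt) (b a : BrauerPairIdx G) : Prop :=
  ∀ F' : Set (IrrCharacter (stabPair a)), IsPBlock M F' →
    subgroupBlockCoeff (stabPair a) F' = pairCoeff a →
      IsDefectGroup p M F' ((b.1 ⊓ stabPair a).subgroupOf (stabPair a))

theorem inf_stabPair_eq (hpM : (p : AlgInt) ∈ M) (hb : IsBrauerPair p M b.1 b.2)
    {a : BrauerPairIdx G} (ha : Below p M a b) :
    b.1 ⊓ stabPair a = b.1 ⊓ Subgroup.normalizer (a.1 : Set G) := by
  refine le_antisymm (inf_le_inf_left _ (stabPair_le_normalizer a)) (le_inf inf_le_left ?_)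
  intro y hy
  obtain ⟨g, hg⟩ := exists_below hpM hb (b.1 ⊓ Subgroup.normalizer (a.1 : Set G)) inf_le_left
  have hn := isNormalSubpair_of_below hpM hb ha hg
    (le_inf (below_le ha) Subgroup.le_normalizer) inf_le_right
  obtain ⟨Q, f⟩ := a
  exact (mem_stabPair_iff hn.1.2).2 ⟨hy.2, hn.2.2.2.2.1 y hy⟩

theorem exists_stab_block (hpM : (p : AlgInt) ∈ M) {a : BrauerPairIdx G}
    (ha : IsBrauerPair p M a.1 a.2) :
    ∃ F' : Set (IrrCharacter (stabPair a)), IsPBlock M F' ∧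
      subgroupBlockCoeff (stabPair a) F' = pairCoeff a := by
  obtain ⟨Q, f⟩ := a
  exact exists_block_eq_of_stable hpM ha.1 (subgroup_le_stabPair hpM ha)
    (centralizer_le_stabPair ha.2) (stabPair_le_normalizer _) ha.2
    (fun x hx => ((mem_stabPair_iff ha.2).1 hx).2)

theorem exists_good_conj (hpM : (p : AlgInt) ∈ M) (hmax : IsMaximalBrauerPair p M B b.1 b.2)
    {a : BrauerPairIdx G} (ha : Below p M a b) :
    ∃ x : G, Below p M (conjPair x a) b ∧ IsGoodPair p M b (conjPair x a) := by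
  have hQf := below_isBrauerPair ha hmax.1.1
  obtain ⟨F', hF', hFf⟩ := exists_stab_block hpM hQf
  obtain ⟨Q, f⟩ := a
  obtain ⟨x, hx, h⟩ := exists_conj_defect hpM hmax ha (centralizer_le_stabPair hQf.2) le_rfl hF' hFf
  exact ⟨x, hx, fun F'' hF'' hFf'' => h _ (conj_mem_stabPair_iff _ x) F'' hF'' hFf''⟩

theorem blockDefect_stab_conj (hpM : (p : AlgInt) ∈ M) (x : G) {a : BrauerPairIdx G}
    {F' : Set (IrrCharacter (stabPair a))} (hF' : IsPBlock M F')
    (hFf : subgroupBlockCoeff (stabPair a) F' = pairCoeff a)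
    {F'' : Set (IrrCharacter (stabPair (conjPair x a)))} (hF'' : IsPBlock M F'')
    (hFf' : subgroupBlockCoeff (stabPair (conjPair x a)) F'' = pairCoeff (conjPair x a)) :
    blockDefect p F'' = blockDefect p F' := by
  have : F'' = conjImage x (conj_mem_stabPair_iff a x) F' :=
    eq_of_subgroupBlockCoeff_eq (funext fun c => by
      rw [hFf', pairCoeff_conjPair]
      conv_rhs => rw [show c = x * (x⁻¹ * c * x) * x⁻¹ by group]
      rw [subgroupBlockCoeff_conjImage, hFf])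
  rw [this, blockDefect_conjImage]

theorem card_inf_stab_le (hpM : (p : AlgInt) ∈ M) (hb : IsBrauerPair p M b.1 b.2)
    {a : BrauerPairIdx G} (ha : Below p M a b) {F' : Set (IrrCharacter (stabPair a))}
    (hF' : IsPBlock M F') (hFf : subgroupBlockCoeff (stabPair a) F' = pairCoeff a) :
    Nat.card (b.1 ⊓ stabPair a : Subgroup G) ≤ p ^ blockDefect p F' ∧
      (Nat.card (b.1 ⊓ stabPair a : Subgroup G) = p ^ blockDefect p F' →
        IsDefectGroup p M F' ((b.1 ⊓ stabPair a).subgroupOf (stabPair a))) := by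
  haveI := Fintype.ofFinite (stabPair a)
  have hQf := below_isBrauerPair ha hb
  obtain ⟨Q, f⟩ := a
  obtain ⟨D, hD, hD'⟩ := exists_defect_ge (S := b.1 ⊓ stabPair ⟨Q, f⟩) hpM hb ha
    (centralizer_le_stabPair hQf.2) le_rfl hF' hFf inf_le_left inf_le_right
  have hc := BlockOrth.card_defectGroup hpM hF' hD
  refine ⟨?_, fun h => ?_⟩
  · have := Subgroup.card_le_of_le hD'
    rwa [Base.card_subgroupOf inf_le_right, hc] at this
  · rwa [Subgroup.eq_of_le_of_card_ge hD' (by rw [hc, Base.card_subgroupOf inf_le_right, h])]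

theorem isFullyNormalized_iff (hpM : (p : AlgInt) ∈ M) (hF : IsBlockFusionSystemOn p M B P e F)
    {a : BrauerPairIdx G} (hle : Below p M a ⟨P, e⟩)
    {F' : Set (IrrCharacter (stabPair a))} (hF' : IsPBlock M F')
    (hFf : subgroupBlockCoeff (stabPair a) F' = pairCoeff a) :
    F.IsFullyNormalized a.1 ↔
      Nat.card (P ⊓ stabPair a : Subgroup G) = p ^ blockDefect p F' := by
  have hb : IsBrauerPair p M P e := hF.1.1.1
  constructor
  · rintro ⟨-, h⟩
    refine le_antisymm (card_inf_stab_le (b := ⟨P, e⟩) hpM hb hle hF' hFf).1 ?_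
    obtain ⟨x, hx, hgood⟩ := exists_good_conj (b := ⟨P, e⟩) hpM hF.1 hle
    obtain ⟨F'', hF'', hFf''⟩ := exists_stab_block hpM (below_isBrauerPair hx hb)
    haveI := Fintype.ofFinite (stabPair (conjPair x a))
    have h2 := BlockOrth.card_defectGroup hpM hF'' (hgood F'' hF'' hFf'')
    rw [Base.card_subgroupOf inf_le_right, inf_stabPair_eq (b := ⟨P, e⟩) hpM hb hx,
      blockDefect_stab_conj hpM x hF' hFf hF'' hFf''] at h2
    rw [inf_stabPair_eq (b := ⟨P, e⟩) hpM hb hle, ← h2]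
    exact h _ ((isConj_block_iff hF).2 ⟨x, ⟨a.2, hle, hx⟩, rfl⟩)
  · intro h
    refine ⟨below_le hle, fun Q' hQ' => ?_⟩
    obtain ⟨Q, f⟩ := a
    change F.IsConj Q Q' at hQ'
    obtain ⟨g, ⟨f', hf', hgf⟩, rfl⟩ := (isConj_block_iff hF).1 hQ'
    obtain rfl := below_unique hpM (b := ⟨P, e⟩) hb hf' hle
    obtain ⟨F'', hF'', hFf''⟩ := exists_stab_block hpM (below_isBrauerPair hgf hb)
    have h1 := (card_inf_stab_le (b := ⟨P, e⟩) hpM hb hgf hF'' hFf'').1
    rw [inf_stabPair_eq (b := ⟨P, e⟩) hpM hb hgf,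
      blockDefect_stab_conj hpM g hF' hFf hF'' hFf'', ← h,
      inf_stabPair_eq (b := ⟨P, e⟩) hpM hb hle] at h1
    exact h1

theorem isCentric_iff (hpM : (p : AlgInt) ∈ M) (hF : IsBlockFusionSystemOn p M B P e F)
    {Q : Subgroup G} {f : Set (IrrCharacter (Subgroup.centralizer (Q : Set G)))}
    (hle : Below p M ⟨Q, f⟩ ⟨P, e⟩) :
    F.IsCentric Q ↔
      Nat.card (Q ⊓ Subgroup.centralizer (Q : Set G) : Subgroup G) = p ^ blockDefect p f := by
  have hb : IsBrauerPair p M P e := hF.1.1.1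
  have hQf := below_isBrauerPair hle hb
  have hQP : Q ≤ P := below_le hle
  have hZ : ∀ g : G, Nat.card (Q.map (MulAut.conj g).toMonoidHom ⊓ Subgroup.centralizer
      ((Q.map (MulAut.conj g).toMonoidHom : Subgroup G) : Set G) : Subgroup G) =
      Nat.card (Q ⊓ Subgroup.centralizer (Q : Set G) : Subgroup G) := by
    intro g
    rw [show Q.map (MulAut.conj g).toMonoidHom ⊓ Subgroup.centralizer
        ((Q.map (MulAut.conj g).toMonoidHom : Subgroup G) : Set G) =
        (Q ⊓ Subgroup.centralizer (Q : Set G)).map (MulAut.conj g).toMonoidHom from ?_]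
    · exact Base.card_map_conj g _
    ext u
    constructor
    · rintro ⟨⟨v, hv, rfl⟩, h2⟩
      exact ⟨v, ⟨hv, (centralizer_conj_iff Q g v).1 h2⟩, rfl⟩
    · rintro ⟨v, ⟨hv, hv'⟩, rfl⟩
      exact ⟨⟨v, hv, rfl⟩, (centralizer_conj_iff Q g v).2 hv'⟩
  constructor
  · rintro ⟨-, h⟩
    haveI := Fintype.ofFinite (Subgroup.centralizer (Q : Set G))
    refine le_antisymm ((Subgroup.card_le_of_le (inf_le_inf_right _ hQP)).trans
      (card_inf_centralizer_le (b := ⟨P, e⟩) hpM hb hle)) ?_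
    obtain ⟨x, hx, hd⟩ := exists_conj_defect (b := ⟨P, e⟩) hpM hF.1 hle le_rfl
      (centralizer_le_stabPair hQf.2) hQf.2 rfl
    have h2 := (isDefectGroup_inf_centralizer_iff (b := ⟨P, e⟩) hpM hb hx le_rfl).1
      (hd _ (centralizer_conj_iff Q x) _ (isPBlock_conjBlock hQf.2 x) rfl)
    have h3 := h _ ((isConj_block_iff hF).2 ⟨x, ⟨f, hle, hx⟩, rfl⟩)
    change P ⊓ _ ≤ _ at h3
    rw [← hZ x, ← blockDefect_conjBlock x f, ← h2]
    exact Subgroup.card_le_of_le (le_inf h3 inf_le_right)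
  · intro h
    refine ⟨hQP, fun Q' hQ' => ?_⟩
    obtain ⟨g, ⟨f', hf', hgf⟩, rfl⟩ := (isConj_block_iff hF).1 hQ'
    obtain rfl := below_unique hpM (b := ⟨P, e⟩) hb hf' hle
    show P ⊓ _ ≤ _
    intro u hu
    have heq := Subgroup.eq_of_le_of_card_ge
      (inf_le_inf_right (Subgroup.centralizer
        ((Q.map (MulAut.conj g).toMonoidHom : Subgroup G) : Set G))
        (below_le hgf : Q.map (MulAut.conj g).toMonoidHom ≤ P))
      (show Nat.card (P ⊓ Subgroup.centralizer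
          ((Q.map (MulAut.conj g).toMonoidHom : Subgroup G) : Set G) : Subgroup G) ≤
        Nat.card (Q.map (MulAut.conj g).toMonoidHom ⊓ Subgroup.centralizer
          ((Q.map (MulAut.conj g).toMonoidHom : Subgroup G) : Set G) : Subgroup G) by
          rw [hZ g, h, ← blockDefect_conjBlock g f']
          exact card_inf_centralizer_le (b := ⟨P, e⟩) hpM hb hgf)
    exact (heq.symm ▸ hu : u ∈ Q.map (MulAut.conj g).toMonoidHom ⊓ _).1

/-! ## Saturation -/

theorem index_and_centralized_of_good (hpM : (p : AlgInt) ∈ M) (hb : IsBrauerPair p M b.1 b.2)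
    {Q : Subgroup G} {f : Set (IrrCharacter (Subgroup.centralizer (Q : Set G)))}
    (hle : Below p M ⟨Q, f⟩ b) (hgood : IsGoodPair p M b ⟨Q, f⟩) :
    ¬ p ∣ ((b.1 ⊓ stabPair ⟨Q, f⟩).subgroupOf (stabPair ⟨Q, f⟩) ⊔
        (Subgroup.centralizer (Q : Set G)).subgroupOf (stabPair ⟨Q, f⟩)).index ∧
      Nat.card (b.1 ⊓ Subgroup.centralizer (Q : Set G) : Subgroup G) = p ^ blockDefect p f := by
  have hQf := below_isBrauerPair hle hb
  obtain ⟨F', hF', hFf⟩ := exists_stab_block hpM hQf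
  obtain ⟨h1, h2, -⟩ := fong_local hpM hQf (centralizer_le_stabPair hQf.2) le_rfl hF' hFf
    inf_le_right (hgood F' hF' hFf)
  refine ⟨h1, ?_⟩
  rwa [inf_assoc, inf_eq_right.2 (centralizer_le_stabPair hQf.2)] at h2

/-- The extension property at a good pair. -/
theorem exists_conj_into (hpM : (p : AlgInt) ∈ M) (hb : IsBrauerPair p M b.1 b.2)
    {Q : Subgroup G} {f : Set (IrrCharacter (Subgroup.centralizer (Q : Set G)))}
    (hle : Below p M ⟨Q, f⟩ b) (hgood : IsGoodPair p M b ⟨Q, f⟩) {R : Subgroup G}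
    {r : Set (IrrCharacter (Subgroup.centralizer (R : Set G)))}
    (hn : IsNormalSubpair p M Q f R r)
    (hRL : R ≤ (b.1 ⊓ stabPair ⟨Q, f⟩) ⊔ Subgroup.centralizer (Q : Set G)) :
    ∃ c ∈ Subgroup.centralizer (Q : Set G), Below p M (conjPair c ⟨R, r⟩) b := by
  classical
  have hQf := below_isBrauerPair hle hb
  have hQA : Q ≤ b.1 ⊓ stabPair ⟨Q, f⟩ := le_inf (below_le hle) (subgroup_le_stabPair hpM hQf)
  obtain ⟨g, hg⟩ := exists_below hpM hb (b.1 ⊓ stabPair ⟨Q, f⟩) inf_le_left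
  have hnA : IsNormalSubpair p M Q f (b.1 ⊓ stabPair ⟨Q, f⟩) g :=
    isNormalSubpair_of_below hpM hb hle hg hQA (inf_le_right.trans (stabPair_le_normalizer _))
  have hCeq := (index_and_centralized_of_good hpM hb hle hgood).2
  -- the group `L`
  generalize hAdef : b.1 ⊓ stabPair ⟨Q, f⟩ = A at hRL hQA g hg hnA
  have hAT : A ≤ stabPair ⟨Q, f⟩ := hAdef ▸ inf_le_right
  generalize hLdef : A ⊔ Subgroup.centralizer (Q : Set G) = L at hRL
  haveI := Fintype.ofFinite L
  have hCL : Subgroup.centralizer (Q : Set G) ≤ L := hLdef ▸ le_sup_right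
  have hAL : A ≤ L := hLdef ▸ le_sup_left
  have hLT : L ≤ stabPair ⟨Q, f⟩ := hLdef ▸ sup_le hAT (centralizer_le_stabPair hQf.2)
  have hCA : Subgroup.centralizer (A : Set G) ≤ L := (centralizer_antitone hQA).trans hCL
  have hCR : Subgroup.centralizer (R : Set G) ≤ L := (centralizer_antitone hn.2.2.1).trans hCL
  have hQL : Q ≤ L := hQA.trans hAL
  obtain ⟨FL, hFL, hFLf⟩ := exists_block_eq_of_stable hpM hQf.1 hQL hCL
    (hLT.trans (stabPair_le_normalizer _)) hQf.2
    (fun x hx => ((mem_stabPair_iff hQf.2).1 (hLT hx)).2)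
  have hidem : pairIdem hFL = pairIdem hQf.2 := by
    apply MonoidAlgebra.ext
    ext u
    rw [pairIdem, pairIdem, coeff_redFun, coeff_redFun]
    exact congrArg red (Subtype.ext (congrFun hFLf u))
  have hpA : IsBrauerPairOf p M FL (A.subgroupOf L) (relBlock hAL hCA g) :=
    (isBrauerPairOf_rel_iff hpM hAL hCA hnA.2.1.1 hnA.2.1.2 hFL).2
      (by rw [hidem]; exact IsNormalSubpair.mul_cut hpM hnA)
  have hpR : IsBrauerPairOf p M FL (R.subgroupOf L) (relBlock hRL hCR r) :=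
    (isBrauerPairOf_rel_iff hpM hRL hCR hn.2.1.1 hn.2.1.2 hFL).2
      (by rw [hidem]; exact IsNormalSubpair.mul_cut hpM hn)
  -- `A` is a defect group
  have hAdefect : IsDefectGroup p M FL (A.subgroupOf L) := by
    obtain ⟨D, hD, hD'⟩ := exists_defect_ge (S := A) hpM hb hle hCL hLT hFL hFLf
      (hAdef ▸ inf_le_left) hAL
    obtain ⟨-, -, hd⟩ := fong_local hpM hQf hCL hLT hFL hFLf (Subgroup.map_subtype_le D)
      (by rwa [Subgroup.subgroupOf, Subgroup.comap_map_eq_self_of_injective L.subtype_injective])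
    rwa [Subgroup.eq_of_le_of_card_ge hD' ?_]
    rw [BlockOrth.card_defectGroup hpM hFL hD, Base.card_subgroupOf hAL, hd]
    haveI : ((Subgroup.centralizer (Q : Set G)).subgroupOf L).Normal :=
      (Subgroup.normal_subgroupOf_iff_le_normalizer hCL).2 fun u hu =>
        mem_normalizer_centralizer (stabPair_le_normalizer _ (hLT hu))
    have htop : A.subgroupOf L ⊔ (Subgroup.centralizer (Q : Set G)).subgroupOf L = ⊤ := by
      rw [← Subgroup.subgroupOf_sup hAL hCL, hLdef, Subgroup.subgroupOf_self]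
    have h1 : ((Subgroup.centralizer (Q : Set G)).subgroupOf L).index *
        Nat.card (A ⊓ Subgroup.centralizer (Q : Set G) : Subgroup G) = Nat.card A := by
      rw [← Subgroup.relIndex_top_right, ← htop, Subgroup.relIndex_sup_right,
        Subgroup.relIndex_subgroupOf hAL, Subgroup.relIndex,
        ← (Subgroup.centralizer (Q : Set G)).subgroupOf A |>.index_mul_card]
      congr 1
      rw [inf_comm, ← Subgroup.subgroupOf_map_subtype,
        Subgroup.card_map_of_injective A.subtype_injective]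
    have h2 : A ⊓ Subgroup.centralizer (Q : Set G) = b.1 ⊓ Subgroup.centralizer (Q : Set G) := by
      rw [← hAdef, inf_assoc, inf_eq_right.2 (centralizer_le_stabPair hQf.2)]
    rw [h2, hCeq] at h1
    obtain ⟨i, hi⟩ := hnA.2.1.1.exists_card_eq
    rw [← h1]
    refine le_of_eq ?_
    rw [pow_add, mul_comm]
    congr 1
    have h4 : ((Subgroup.centralizer (Q : Set G)).subgroupOf L).index ∣ p ^ i :=
      ⟨_, (h1.trans hi).symm⟩
    obtain ⟨j, -, hj⟩ := (Nat.dvd_prime_pow Fact.out).1 h4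
    rw [hj, (Fact.out : p.Prime).factorization_pow, Finsupp.single_eq_same]
  have hmaxL := isMaximal_of_defectGroup hpM hAdefect hpA
  obtain ⟨x, hx⟩ := exists_conj_below hpM (a := ⟨R.subgroupOf L, relBlock hRL hCR r⟩)
    (b := ⟨A.subgroupOf L, relBlock hAL hCA g⟩) hmaxL hpR
  -- decompose `x`
  have hmem : (x : G) ∈ (A : Set G) * (Subgroup.centralizer (Q : Set G) : Set G) := by
    rw [← Subgroup.coe_mul_of_left_le_normalizer_right _ _ (fun u hu =>
      mem_normalizer_centralizer (stabPair_le_normalizer _ (hAT hu))), hLdef]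
    exact x.2
  obtain ⟨u, hu, c, hc, huc⟩ := hmem
  refine ⟨c, hc, ?_⟩
  have hu' : (⟨u, hAL hu⟩ : L)⁻¹ ∈ stabPair (⟨A.subgroupOf L, relBlock hAL hCA g⟩ : BrauerPairIdx L) :=
    inv_mem (subgroup_le_stabPair hpM hpA.1 (show (⟨u, hAL hu⟩ : L) ∈ A.subgroupOf L from hu))
  have hx' := below_conj hx (⟨u, hAL hu⟩ : L)⁻¹
  rw [show conjPair (⟨u, hAL hu⟩ : L)⁻¹ (⟨A.subgroupOf L, relBlock hAL hCA g⟩ : BrauerPairIdx L) =
    ⟨A.subgroupOf L, relBlock hAL hCA g⟩ from hu', conjPair_mul,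
    show (⟨u, hAL hu⟩ : L)⁻¹ * x = ⟨c, hCL hc⟩ from Subtype.ext (by simp [← huc])] at hx'
  have hcR : R.map (MulAut.conj c).toMonoidHom ≤ L := by
    rintro _ ⟨v, hv, rfl⟩
    exact L.mul_mem (L.mul_mem (hCL hc) (hRL hv)) (L.inv_mem (hCL hc))
  have hCcR : Subgroup.centralizer
      ((R.map (MulAut.conj c).toMonoidHom : Subgroup G) : Set G) ≤ L := fun v hv => by
    have h1 : c * (c⁻¹ * v * c) * c⁻¹ = v := by group
    rw [← h1]
    exact L.mul_mem (L.mul_mem (hCL hc)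
      (hCR ((centralizer_conj_iff R c _).1 (h1.symm ▸ hv)))) (L.inv_mem (hCL hc))
  have he := (conjPair_rel_iff hRL hCR hcR hCcR r (conjBlock R c r) ⟨c, hCL hc⟩).2 rfl
  rw [he] at hx'
  exact (below_of_rel hpM hAL hCA hx' _ hcR hCcR _ (isPBlock_conjBlock hn.2.1.2 c) rfl).trans hg

theorem autGroup_block (hpM : (p : AlgInt) ∈ M) (hF : IsBlockFusionSystemOn p M B P e F)
    {Q : Subgroup G} {f : Set (IrrCharacter (Subgroup.centralizer (Q : Set G)))}
    (hle : Below p M ⟨Q, f⟩ ⟨P, e⟩) :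
    F.autGroup Q = autInducedBy (stabPair ⟨Q, f⟩) Q := by
  have hb : IsBrauerPair p M P e := hF.1.1.1
  ext α
  rw [CfsgLib.Fusion.autGroup_eq_set (show Q ≤ P from below_le hle), isMor_block_iff hF,
    CfsgLib.Fusion.mem_autInducedBy]
  constructor
  · rintro ⟨g, ⟨f', hf', hgf⟩, hg⟩
    obtain rfl := below_unique hpM (b := ⟨P, e⟩) hb hf' hle
    have hQ : Q.map (MulAut.conj g).toMonoidHom = Q := by
      rw [← CfsgLib.Fusion.img_cj, ← CfsgLib.Fusion.img_congr hg, CfsgLib.Fusion.img_autFun]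
    have hst : g ∈ stabPair ⟨Q, f'⟩ := by
      show conjPair g ⟨Q, f'⟩ = ⟨Q, f'⟩
      have hQeq : (conjPair g ⟨Q, f'⟩).1 = Q := hQ
      generalize conjPair g ⟨Q, f'⟩ = a at hgf hQeq
      obtain ⟨Q', f''⟩ := a
      obtain rfl : Q' = Q := hQeq
      obtain rfl := below_unique hpM (b := ⟨P, e⟩) hb hgf hle
      rfl
    exact ⟨g, hst, stabPair_le_normalizer _ hst, hg⟩
  · rintro ⟨g, hst, -, hg⟩
    exact ⟨g, ⟨f, hle, by rw [show conjPair g ⟨Q, f⟩ = ⟨Q, f⟩ from hst]; exact hle⟩, hg⟩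

theorem isFullyAutomized_of_good (hpM : (p : AlgInt) ∈ M) (hF : IsBlockFusionSystemOn p M B P e F)
    {Q : Subgroup G} {f : Set (IrrCharacter (Subgroup.centralizer (Q : Set G)))}
    (hle : Below p M ⟨Q, f⟩ ⟨P, e⟩) (hgood : IsGoodPair p M ⟨P, e⟩ ⟨Q, f⟩) :
    F.IsFullyAutomized p Q := by
  have hb : IsBrauerPair p M P e := hF.1.1.1
  have hQf := below_isBrauerPair hle hb
  have hind := (index_and_centralized_of_good (b := ⟨P, e⟩) hpM hb hle hgood).1
  have hinf := inf_stabPair_eq (b := ⟨P, e⟩) hpM hb hle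
  rw [CfsgLib.Fusion.isFullyAutomized_iff]
  refine ⟨below_le hle, ?_⟩
  have hsub := CfsgLib.Fusion.autInducedBy_le F (below_le hle : Q ≤ P)
  rw [autGroup_block hpM hF hle] at hsub ⊢
  generalize hT : stabPair (⟨Q, f⟩ : BrauerPairIdx G) = T at hsub hind hinf ⊢
  have hTN : T ≤ Subgroup.normalizer (Q : Set G) := hT ▸ stabPair_le_normalizer _
  let ρ : T →* MulAut Q := Q.normalizerMonoidHom.comp (Subgroup.inclusion hTN)
  have hind' : autInducedBy T Q = ρ.range := by
    ext α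
    rw [CfsgLib.Fusion.mem_autInducedBy]
    constructor
    · rintro ⟨g, hg, hn, e'⟩
      refine ⟨⟨g, hg⟩, CfsgLib.Fusion.autFun_inj fun x hx => ?_⟩
      rw [e' x hx, CfsgLib.Fusion.autFun_of_mem _ hx]
      rfl
    · rintro ⟨g, rfl⟩
      exact ⟨g, g.2, hTN g.2, fun x hx => by rw [CfsgLib.Fusion.autFun_of_mem _ hx]; rfl⟩
  have hindP : autInducedBy P Q = ((P ⊓ T).subgroupOf T).map ρ := by
    ext α
    rw [CfsgLib.Fusion.mem_autInducedBy]
    constructor
    · rintro ⟨g, hg, hn, e'⟩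
      have hgT : g ∈ P ⊓ T := hinf.symm ▸ (⟨hg, hn⟩ : g ∈ P ⊓ Subgroup.normalizer (Q : Set G))
      refine ⟨⟨g, hgT.2⟩, Subgroup.mem_subgroupOf.2 hgT, CfsgLib.Fusion.autFun_inj fun x hx => ?_⟩
      rw [e' x hx, CfsgLib.Fusion.autFun_of_mem _ hx]
      rfl
    · rintro ⟨g, hg, rfl⟩
      exact ⟨g, (Subgroup.mem_subgroupOf.1 hg).1, hTN g.2,
        fun x hx => by rw [CfsgLib.Fusion.autFun_of_mem _ hx]; rfl⟩
  have hker : (Subgroup.centralizer (Q : Set G)).subgroupOf T ≤ ρ.ker := fun u hu => by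
    rw [MonoidHom.mem_ker]
    refine MulEquiv.ext fun x => Subtype.ext ?_
    show (u : G) * x * (u : G)⁻¹ = x
    rw [← Subgroup.mem_centralizer_iff.1 (Subgroup.mem_subgroupOf.1 hu) x x.2,
      mul_inv_cancel_right]
  refine ⟨hsub, ?_, fun C hC hle' hCT => ?_⟩
  · rw [hindP]
    exact (isPGroup_subgroupOf (hb.1.to_le inf_le_left) inf_le_right).map ρ
  have hrel : ¬ p ∣ (autInducedBy P Q).relIndex (autInducedBy T Q) := by
    intro hd
    apply hind
    refine hd.trans ?_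
    rw [hind', hindP, Subgroup.relIndex]
    have h1 : (((P ⊓ T).subgroupOf T).map ρ).subgroupOf ρ.range =
        ((P ⊓ T).subgroupOf T).map ρ.rangeRestrict := by
      ext ⟨y, hy⟩
      constructor
      · intro h
        obtain ⟨u, hu, huy⟩ := Subgroup.mem_subgroupOf.1 h
        exact ⟨u, hu, Subtype.ext huy⟩
      · rintro ⟨u, hu, huy⟩
        exact Subgroup.mem_subgroupOf.2 ⟨u, hu, congrArg Subtype.val huy⟩
    rw [h1, Subgroup.index_map, MonoidHom.range_eq_top.2 ρ.rangeRestrict_surjective,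
      Subgroup.index_top, mul_one, MonoidHom.ker_rangeRestrict]
    exact Subgroup.index_dvd_of_le (sup_le_sup_left hker _)
  haveI : Finite (MulAut Q) := CfsgLib.Fusion.finite_mulAut (S := P) (below_le hle)
  obtain ⟨i, hi⟩ := hC.exists_card_eq
  refine le_antisymm ?_ hle'
  rw [← Subgroup.relIndex_eq_one]
  have hdiv : (autInducedBy P Q).relIndex C ∣ (autInducedBy P Q).relIndex (autInducedBy T Q) :=
    Dvd.intro _ (Subgroup.relIndex_mul_relIndex _ C _ hle' hCT)
  have hdvd : (autInducedBy P Q).relIndex C ∣ p ^ i := hi ▸ Subgroup.relIndex_dvd_card _ _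
  obtain ⟨j, -, hj⟩ := (Nat.dvd_prime_pow Fact.out).1 hdvd
  rcases Nat.eq_zero_or_pos j with rfl | hj0
  · rw [hj, pow_zero]
  · exact absurd ((dvd_pow_self p hj0.ne').trans (hj ▸ hdiv)) hrel

theorem isReceptive_of_good (hpM : (p : AlgInt) ∈ M) (hF : IsBlockFusionSystemOn p M B P e F)
    {Q : Subgroup G} {f : Set (IrrCharacter (Subgroup.centralizer (Q : Set G)))}
    (hle : Below p M ⟨Q, f⟩ ⟨P, e⟩) (hgood : IsGoodPair p M ⟨P, e⟩ ⟨Q, f⟩) :
    F.IsReceptive Q := by
  have hb : IsBrauerPair p M P e := hF.1.1.1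
  refine CfsgLib.Fusion.isReceptive_iff.2 ⟨below_le hle, fun P₀ φ hφ hi => ?_⟩
  obtain ⟨g, ⟨f₀, hf₀, hgf₀⟩, hg⟩ := (isMor_block_iff hF).1 hφ
  have hQeq : (conjPair g ⟨P₀, f₀⟩).1 = Q := by
    show P₀.map (MulAut.conj g).toMonoidHom = Q
    rw [← CfsgLib.Fusion.img_cj, ← CfsgLib.Fusion.img_congr hg, hi]
  have hconj : conjPair g ⟨P₀, f₀⟩ = ⟨Q, f⟩ := by
    generalize conjPair g ⟨P₀, f₀⟩ = a at hgf₀ hQeq
    obtain ⟨Q', f''⟩ := a
    obtain rfl : Q' = Q := hQeq
    obtain rfl := below_unique hpM (b := ⟨P, e⟩) hb hgf₀ hle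
    rfl
  have hPN : P₀ ≤ CfsgLib.Fusion.nExt P P₀ φ := CfsgLib.Fusion.le_nExt hφ
  have hNP : CfsgLib.Fusion.nExt P P₀ φ ≤ P := fun u hu => hu.1
  have hNN : CfsgLib.Fusion.nExt P P₀ φ ≤ Subgroup.normalizer (P₀ : Set G) := fun u hu => hu.2.1
  obtain ⟨r, hr⟩ := exists_below (b := ⟨P, e⟩) hpM hb (CfsgLib.Fusion.nExt P P₀ φ) hNP
  have hn := isNormalSubpair_conj (a := ⟨P₀, f₀⟩) (b := ⟨_, r⟩)
    (isNormalSubpair_of_below (b := ⟨P, e⟩) hpM hb hf₀ hr hPN hNN) g
  rw [hconj] at hn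
  obtain ⟨c, hc, hcle⟩ := exists_conj_into (b := ⟨P, e⟩) hpM hb hle hgood
    (R := (conjPair g (⟨CfsgLib.Fusion.nExt P P₀ φ, r⟩ : BrauerPairIdx G)).1) hn (by
    rintro _ ⟨a, ha, rfl⟩
    obtain ⟨haS, han, k, hk, hke⟩ := ha
    rw [inf_stabPair_eq (b := ⟨P, e⟩) hpM hb hle]
    have hgi : img P₀ (cj g) = Q := (CfsgLib.Fusion.img_congr hg).symm.trans hi
    have hga : cj g a ∈ Subgroup.normalizer (Q : Set G) :=
      hgi ▸ CfsgLib.Fusion.cj_mem_normalizer_img han
    have hcomm : ∀ y ∈ Q, cj (cj g a) y = cj k y := by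
      intro y hy
      rw [← hgi, CfsgLib.Fusion.mem_img_cj] at hy
      have h1 := hke _ hy
      have hm : cj a (g⁻¹ * y * g) ∈ P₀ := (Subgroup.mem_normalizer_iff.mp han _).mp hy
      rw [hg _ hm, hg _ hy] at h1
      simpa [cj, mul_assoc] using h1
    have hkn : k ∈ Subgroup.normalizer (Q : Set G) := by
      rw [Subgroup.mem_normalizer_iff_map_conj_eq]
      refine (CfsgLib.Fusion.img_cj Q k).symm.trans
        ((CfsgLib.Fusion.img_congr fun y hy => (hcomm y hy).symm).trans ?_)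
      exact CfsgLib.Fusion.img_cj_of_normalizer hga
    have h3 : k⁻¹ * cj g a ∈ Subgroup.centralizer (Q : Set G) := by
      rw [Subgroup.mem_centralizer_iff]
      intro y hy
      refine (CfsgLib.Fusion.cj_fixed_iff.mp ?_).symm
      show cj (k⁻¹ * cj g a) y = y
      rw [CfsgLib.Fusion.cj_mul, hcomm y hy, CfsgLib.Fusion.cj_inv_cj]
    have h4 := Subgroup.mul_mem _ (Subgroup.mem_sup_left
      (T := Subgroup.centralizer (Q : Set G)) (show k ∈ P ⊓ Subgroup.normalizer (Q : Set G) from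
        ⟨hk, hkn⟩))
      (Subgroup.mem_sup_right (S := P ⊓ Subgroup.normalizer (Q : Set G)) h3)
    rwa [mul_inv_cancel_left] at h4)
  have hcle' : Below p M (conjPair (c * g) ⟨CfsgLib.Fusion.nExt P P₀ φ, r⟩) ⟨P, e⟩ := by
    rw [← conjPair_mul]; exact hcle
  refine ⟨cj (c * g), (isMor_block_iff hF).2 ⟨c * g, ⟨r, hr, hcle'⟩, fun _ _ => rfl⟩,
    fun x hx => ?_⟩
  rw [CfsgLib.Fusion.cj_mul, ← hg x hx]
  refine CfsgLib.Fusion.cj_fixed_iff.mpr ((Subgroup.mem_centralizer_iff.mp hc _ ?_).symm)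
  exact hi.le (CfsgLib.Fusion.mem_img_of_mem φ hx)

theorem isSaturated_block (hpM : (p : AlgInt) ∈ M) (hF : IsBlockFusionSystemOn p M B P e F) :
    F.IsSaturated p := by
  intro P₀ hP₀
  obtain ⟨f₀, hf₀⟩ := exists_below (b := ⟨P, e⟩) hpM hF.1.1.1 P₀ hP₀
  obtain ⟨x, hx, hgood⟩ := exists_good_conj (b := ⟨P, e⟩) hpM hF.1 hf₀
  exact ⟨_, (isConj_block_iff hF).2 ⟨x, ⟨f₀, hf₀, hx⟩, rfl⟩,
    isFullyAutomized_of_good hpM hF (f := (conjPair x ⟨P₀, f₀⟩).2) hx hgood,
    isReceptive_of_good hpM hF (f := (conjPair x ⟨P₀, f₀⟩).2) hx hgood⟩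

end Fusion

end CfsgLib.Blocks
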