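import Cfsg.Agent.Lib.Blocks.Osima
import Cfsg.Agent.Lib.Blocks.NormalPSubgroup
import Cfsg.Agent.Lib.Blocks.IdemLift

/-!
# Central idempotents supported on `p`-regular elements: basic notions

Group ring elements over `ℂ` with locally integral coefficients, the trace form at `1`, idempotents
living on `p'`-subgroups and the cone spanned by their `G`-traces.
-/

set_option linter.unusedSectionVars false
set_option linter.style.haveILetI false

noncomputable section

namespace CfsgLib.Blocks.GoodIdem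

open Cfsg CfsgLib.Blocks MonoidAlgebra

variable {G H : Type*} [Group G] [Group H] (M : Ideal AlgInt) [M.IsPrime] (p : ℕ)

/-- The basis element of `g`. -/
abbrev el (g : G) : MonoidAlgebra ℂ G := MonoidAlgebra.single g 1

theorem el_mul (g h : G) : el g * el h = el (g * h) := by simp [el]

theorem el_one : el (1 : G) = 1 := rfl

theorem el_mul_el_inv (g : G) : el g * el g⁻¹ = 1 := by rw [el_mul, mul_inv_cancel, el_one]

theorem el_inv_mul_el (g : G) : el g⁻¹ * el g = 1 := by rw [el_mul, inv_mul_cancel, el_one]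

theorem coeff_el_mul (g x : G) (a : MonoidAlgebra ℂ G) : (el g * a).coeff x = a.coeff (g⁻¹ * x) := by
  simp [el]

theorem coeff_mul_el (g x : G) (a : MonoidAlgebra ℂ G) : (a * el g).coeff x = a.coeff (x * g⁻¹) := by
  simp [el]

theorem coeff_mul_eq [Fintype G] (a b : MonoidAlgebra ℂ G) (x : G) :
    (a * b).coeff x = ∑ y, a.coeff y * b.coeff (y⁻¹ * x) := by
  rw [coeff_mul_apply_left, Finsupp.sum_fintype]
  intro i; simp

theorem eq_sum_el [Fintype G] (a : MonoidAlgebra ℂ G) : a = ∑ g, a.coeff g • el g := by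
  classical
  apply MonoidAlgebra.ext
  ext x
  simp [MonoidAlgebra.coeff_sum, Finsupp.finsetSum_apply, el, Finsupp.single_apply]

/-- Commuting with every group element. -/
def IsCentralElem (a : MonoidAlgebra ℂ G) : Prop := ∀ g : G, el g * a = a * el g

theorem IsCentralElem.conj_coeff {a : MonoidAlgebra ℂ G} (h : IsCentralElem a) (g x : G) :
    a.coeff (g * x * g⁻¹) = a.coeff x := by
  have := congrArg (fun b : MonoidAlgebra ℂ G => b.coeff (g * x)) (h g)
  simp only [coeff_el_mul, coeff_mul_el, inv_mul_cancel_left] at this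
  exact this.symm

theorem IsCentralElem.commute [Fintype G] {a : MonoidAlgebra ℂ G} (h : IsCentralElem a)
    (b : MonoidAlgebra ℂ G) : a * b = b * a := by
  rw [eq_sum_el b, Finset.mul_sum, Finset.sum_mul]
  exact Finset.sum_congr rfl fun g _ => by rw [mul_smul_comm, smul_mul_assoc, h]

/-- Vanishing at every `p`-singular element. -/
def PReg (a : MonoidAlgebra ℂ G) : Prop := ∀ x : G, p ∣ orderOf x → a.coeff x = 0

/-- Vanishing outside a set. -/
def SuppIn (a : MonoidAlgebra ℂ G) (X : Set G) : Prop := ∀ x, x ∉ X → a.coeff x = 0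

/-- A central idempotent supported on `p`-regular elements. -/
structure Good (z : MonoidAlgebra ℂ G) : Prop where
  idem : z * z = z
  central : IsCentralElem z
  preg : PReg p z

/-- The group ring over the local ring. -/
def intRing (G : Type*) [Group G] : Subring (MonoidAlgebra ℂ G) :=
  (mapRingHom G (loc M).subtype).range

variable {M} in
theorem mem_intRing [Finite G] {a : MonoidAlgebra ℂ G} : a ∈ intRing M G ↔ ∀ g, a.coeff g ∈ loc M := by
  constructor
  · rintro ⟨b, rfl⟩ g
    simp
  · intro h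
    refine ⟨MonoidAlgebra.ofCoeff (Finsupp.equivFunOnFinite.symm fun g => ⟨a.coeff g, h g⟩), ?_⟩
    apply MonoidAlgebra.ext
    ext g
    simp

variable {M} in
theorem el_mem_intRing [Finite G] (g : G) : el g ∈ intRing M G :=
  ⟨MonoidAlgebra.single g 1, by simp [el]⟩

variable {M} in
theorem mapDomain_mem_intRing [Finite G] [Finite H] (f : G →* H) {a : MonoidAlgebra ℂ G}
    (ha : a ∈ intRing M G) : mapDomainRingHom ℂ f a ∈ intRing M H := by
  obtain ⟨b, rfl⟩ := ha
  exact ⟨mapDomainRingHom (loc M) f b,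
    RingHom.congr_fun (mapRingHom_comp_mapDomainRingHom (loc M).subtype f) b⟩

/-- An integral idempotent living on a `p'`-subgroup. -/
structure Small (f : MonoidAlgebra ℂ G) : Prop where
  idem : f * f = f
  int : f ∈ intRing M G
  supp : ∃ X : Subgroup G, ¬ p ∣ Nat.card X ∧ SuppIn f (X : Set G)

/-- The trace from `1` to `G`. -/
def tr (G : Type*) [Group G] [Fintype G] (f : MonoidAlgebra ℂ G) : MonoidAlgebra ℂ G :=
  ∑ g, el g * f * el g⁻¹

/-- The two-sided integral ideal generated by a set. -/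
def gen (F : Set (MonoidAlgebra ℂ G)) : AddSubgroup (MonoidAlgebra ℂ G) :=
  AddSubgroup.closure {x | ∃ a ∈ intRing M G, ∃ b ∈ intRing M G, ∃ f ∈ F, x = a * f * b}

/-- A positive combination of traces of small idempotents generating `z` integrally. -/
def Str [Fintype G] (z : MonoidAlgebra ℂ G) : Prop :=
  ∃ (ι : Type) (_ : Fintype ι) (f : ι → MonoidAlgebra ℂ G) (c : ι → ℝ),
    (∀ i, Small M p (f i) ∧ 0 < c i) ∧ z = ∑ i, (c i : ℂ) • tr G (f i) ∧ z ∈ gen M (Set.range f)

variable {M p}

theorem gen_le_intRing {F : Set (MonoidAlgebra ℂ G)} (hF : ∀ f ∈ F, f ∈ intRing M G) :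
    gen M F ≤ (intRing M G).toAddSubgroup := by
  refine (AddSubgroup.closure_le _).2 ?_
  rintro _ ⟨a, ha, b, hb, f, hf, rfl⟩
  exact Subring.mul_mem _ (Subring.mul_mem _ ha (hF f hf)) hb

theorem gen_mono {F F' : Set (MonoidAlgebra ℂ G)} (h : F ⊆ F') : gen M F ≤ gen M F' :=
  AddSubgroup.closure_mono fun _ ⟨a, ha, b, hb, f, hf, e⟩ => ⟨a, ha, b, hb, f, h hf, e⟩

theorem mul_mem_gen {F : Set (MonoidAlgebra ℂ G)} {x a b : MonoidAlgebra ℂ G} (hx : x ∈ gen M F)
    (ha : a ∈ intRing M G) (hb : b ∈ intRing M G) : a * x * b ∈ gen M F := by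
  induction hx using AddSubgroup.closure_induction with
  | mem x hx =>
    obtain ⟨a', ha', b', hb', f, hf, rfl⟩ := hx
    exact AddSubgroup.subset_closure ⟨a * a', mul_mem ha ha', b' * b, mul_mem hb' hb, f, hf,
      by simp [mul_assoc]⟩
  | zero => rw [mul_zero, zero_mul]; exact zero_mem _
  | add u v _ _ hu hv => rw [mul_add, add_mul]; exact add_mem hu hv
  | neg u _ hu => rw [mul_neg, neg_mul]; exact neg_mem hu

theorem gen_absorb {F : Set (MonoidAlgebra ℂ G)} {z x : MonoidAlgebra ℂ G} [Fintype G]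
    (hz : IsCentralElem z) (hF : ∀ f ∈ F, f * z = f) (hx : x ∈ gen M F) : x * z = x := by
  induction hx using AddSubgroup.closure_induction with
  | mem x hx =>
    obtain ⟨a', ha', b', hb', f, hf, rfl⟩ := hx
    rw [mul_assoc, ← hz.commute b', ← mul_assoc, mul_assoc a' f z, hF f hf]
  | zero => rw [zero_mul]
  | add u v _ _ hu hv => rw [add_mul, hu, hv]
  | neg u _ hu => rw [neg_mul, hu]

theorem Str.mem_intRing' [Fintype G] {z : MonoidAlgebra ℂ G} (h : Str M p z) : z ∈ intRing M G := by
  obtain ⟨ι, _, f, c, hfc, -, hz⟩ := h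
  exact gen_le_intRing (by rintro _ ⟨i, rfl⟩; exact (hfc i).1.int) hz

/-! ## The trace of the regular representation -/

theorem trace_mulLeft [Fintype G] (a : MonoidAlgebra ℂ G) :
    LinearMap.trace ℂ _ (LinearMap.mulLeft ℂ a) = (Fintype.card G : ℂ) * a.coeff 1 := by
  classical
  rw [LinearMap.trace_eq_matrix_trace ℂ (MonoidAlgebra.basis G ℂ), Matrix.trace]
  have : ∀ g, (LinearMap.toMatrix (MonoidAlgebra.basis G ℂ) (MonoidAlgebra.basis G ℂ)
      (LinearMap.mulLeft ℂ a)).diag g = a.coeff 1 := fun g => by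
    rw [Matrix.diag_apply, LinearMap.toMatrix_apply, MonoidAlgebra.basis_apply,
      LinearMap.mulLeft_apply]
    show (a * MonoidAlgebra.single g 1).coeff g = a.coeff 1
    simp
  rw [Finset.sum_congr rfl fun g _ => this g, Finset.sum_const, nsmul_eq_mul, Finset.card_univ]

/-- The coefficient at `1` of a non-zero idempotent is positive. -/
theorem idem_coeff_one [Fintype G] {e : MonoidAlgebra ℂ G} (he : e * e = e) :
    ∃ r : ℕ, (Fintype.card G : ℂ) * e.coeff 1 = r ∧ (r = 0 → e = 0) := by
  classical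
  haveI : FiniteDimensional ℂ (MonoidAlgebra ℂ G) := .of_basis (MonoidAlgebra.basis G ℂ)
  have hidem : IsIdempotentElem (LinearMap.mulLeft ℂ e) :=
    LinearMap.ext fun x => by simp [Module.End.mul_apply, ← mul_assoc, he]
  refine ⟨Module.finrank ℂ (LinearMap.range (LinearMap.mulLeft ℂ e)), ?_, fun h => ?_⟩
  · rw [← trace_mulLeft, (LinearMap.IsIdempotentElem.isProj_range _ hidem).trace]
  · rw [Submodule.finrank_eq_zero, LinearMap.range_eq_bot] at h
    simpa using LinearMap.congr_fun h 1

theorem coeff_one_tr [Fintype G] (f : MonoidAlgebra ℂ G) :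
    (tr G f).coeff 1 = (Fintype.card G : ℂ) * f.coeff 1 := by
  simp [tr, MonoidAlgebra.coeff_sum, Finsupp.finsetSum_apply]

theorem tr_mul [Fintype G] {w : MonoidAlgebra ℂ G} (hw : IsCentralElem w) (f : MonoidAlgebra ℂ G) :
    tr G f * w = tr G (f * w) := by
  rw [tr, tr, Finset.sum_mul]
  refine Finset.sum_congr rfl fun g _ => ?_
  rw [mul_assoc, hw g⁻¹, ← mul_assoc, mul_assoc (el g) f w]

/-- If `z = ∑ cᵢ tr(fᵢ)` with `cᵢ > 0` and idempotents `fᵢ`, then `fᵢ z = fᵢ`. -/
theorem absorb [Fintype G] {z : MonoidAlgebra ℂ G} (hz : z * z = z) (hzc : IsCentralElem z)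
    {ι : Type*} [Fintype ι] {f : ι → MonoidAlgebra ℂ G} {c : ι → ℝ} (hc : ∀ i, 0 < c i)
    (hf : ∀ i, f i * f i = f i) (h : z = ∑ i, (c i : ℂ) • tr G (f i)) (i : ι) : f i * z = f i := by
  set w := 1 - z with hw
  have hwc : IsCentralElem w := fun g => by rw [hw, mul_sub, sub_mul, mul_one, one_mul, hzc g]
  have hzw : z * w = 0 := by rw [hw, mul_sub, mul_one, hz, sub_self]
  have hidem : ∀ j, (f j * w) * (f j * w) = f j * w := fun j => by
    have hww : w * w = w := by rw [hw, sub_mul, one_mul, mul_sub, mul_one, hz, sub_self, sub_zero]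
    rw [mul_assoc, ← mul_assoc w, hwc.commute (f j), mul_assoc (f j) w w, hww, ← mul_assoc, hf]
  choose r hr hr0 using fun j => idem_coeff_one (hidem j)
  have h0 : ∑ j, (c j) * (r j : ℝ) = 0 := by
    have := congrArg (fun a : MonoidAlgebra ℂ G => a.coeff 1) (h ▸ hzw :
      (∑ j, (c j : ℂ) • tr G (f j)) * w = 0)
    simp only [Finset.sum_mul, smul_mul_assoc, tr_mul hwc, MonoidAlgebra.coeff_sum,
      Finsupp.finsetSum_apply, MonoidAlgebra.coeff_smul, Finsupp.smul_apply, coeff_one_tr, hr,
      smul_eq_mul, MonoidAlgebra.coeff_zero, Finsupp.zero_apply] at this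
    exact_mod_cast this
  have hri : r i = 0 := by
    have := (Finset.sum_eq_zero_iff_of_nonneg fun j _ => mul_nonneg (hc j).le (Nat.cast_nonneg _)).1 h0 i
      (Finset.mem_univ i)
    exact_mod_cast (mul_eq_zero.1 this).resolve_left (hc i).ne'
  have := hr0 i hri
  rw [hw, mul_sub, mul_one, sub_eq_zero] at this
  exact this.symm

/-! ## Integrality -/

theorem isIntegral_trace_of_pow_eq_one {V : Type*} [AddCommGroup V] [Module ℂ V]
    [FiniteDimensional ℂ V] {T : Module.End ℂ V} {k : ℕ} (hk : 0 < k) (hT : T ^ k = 1) :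
    IsIntegral ℤ (LinearMap.trace ℂ V T) := by
  classical
  set b := Module.finBasis ℂ V
  set A := LinearMap.toMatrixAlgEquiv b T with hA
  have hAk : A ^ k = 1 := by rw [hA, ← map_pow, hT, map_one]
  rw [LinearMap.trace_eq_matrix_trace ℂ b, show LinearMap.toMatrix b b T = A from rfl,
    Matrix.trace_eq_sum_roots_charpoly]
  refine IsIntegral.multiset_sum fun μ hμ => ?_
  have hspec : μ ∈ spectrum ℂ A :=
    Matrix.mem_spectrum_iff_isRoot_charpoly.2 (Polynomial.isRoot_of_mem_roots hμ)
  have h1 := spectrum.pow_mem_pow A k hspec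
  rw [hAk] at h1
  refine IsIntegral.of_pow hk ?_
  rcases isEmpty_or_nonempty (Fin (Module.finrank ℂ V)) with he | he
  · simp [spectrum.of_subsingleton] at h1
  · rw [spectrum.one_eq, Set.mem_singleton_iff] at h1
    rw [h1]; exact isIntegral_one

/-- If `a` has finite order in the corner of the idempotent `e`, then `|G| a(1)` is an algebraic
integer. -/
theorem isIntegral_coeff_one [Fintype G] {a e : MonoidAlgebra ℂ G} (he : e * e = e) (hea : e * a = a)
    (hae : a * e = a) {k : ℕ} (hk : 0 < k) (hak : a ^ k = e) :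
    IsIntegral ℤ ((Fintype.card G : ℂ) * a.coeff 1) := by
  haveI : FiniteDimensional ℂ (MonoidAlgebra ℂ G) := .of_basis (MonoidAlgebra.basis G ℂ)
  set T := LinearMap.mulLeft ℂ (a + (1 - e)) with hT
  have hpow : ∀ j, 0 < j → (a + (1 - e)) ^ j = a ^ j + (1 - e) := by
    intro j hj
    induction j, hj using Nat.le_induction with
    | base => simp
    | succ j hj ih =>
      have h1 : (1 - e) * a = 0 := by rw [sub_mul, one_mul, hea, sub_self]
      have h2 : a ^ j * (1 - e) = 0 := by
        obtain ⟨m, rfl⟩ := Nat.exists_eq_add_of_le hj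
        rw [add_comm, pow_succ, mul_assoc, mul_sub, mul_one, hae, sub_self, mul_zero]
      have h3 : (1 - e) * (1 - e) = 1 - e := by
        rw [sub_mul, one_mul, mul_sub, mul_one, he, sub_self, sub_zero]
      rw [pow_succ, ih, add_mul, mul_add, mul_add, h1, h2, h3, ← pow_succ, add_zero, zero_add]
  have hTk : T ^ k = 1 := by
    rw [hT, LinearMap.pow_mulLeft, hpow k hk, hak, add_sub_cancel]
    exact LinearMap.ext fun x => by simp
  have h := isIntegral_trace_of_pow_eq_one hk hTk
  obtain ⟨r, hr, -⟩ := idem_coeff_one he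
  rw [hT, trace_mulLeft, MonoidAlgebra.coeff_add, Finsupp.add_apply, MonoidAlgebra.coeff_sub,
    Finsupp.sub_apply, coeff_one_one, mul_add, mul_sub, mul_one, hr] at h
  have h' := h.sub ((isIntegral_algebraMap (R := ℤ) (A := ℂ) (x := (Fintype.card G : ℤ))).sub
    (isIntegral_algebraMap (R := ℤ) (A := ℂ) (x := (r : ℤ))))
  simpa using h'

/-- Central idempotents of a `p'`-group have locally integral coefficients. -/
theorem mem_intRing_of_central_idem [Fintype G] (hp : p.Prime) (hpM : (p : AlgInt) ∈ M)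
    (hG : ¬ p ∣ Nat.card G) {z : MonoidAlgebra ℂ G} (hz : z * z = z) (hzc : IsCentralElem z) :
    z ∈ intRing M G := by
  rw [mem_intRing]
  intro x
  have hcx : Commute z (el x⁻¹) := (hzc x⁻¹).symm
  have hak : (z * el x⁻¹) ^ orderOf x = z := by
    rw [hcx.mul_pow, IsIdempotentElem.pow_eq hz (orderOf_pos x).ne', el, MonoidAlgebra.single_pow,
      inv_pow, pow_orderOf_eq_one, inv_one, one_pow]
    exact mul_one z
  have h := isIntegral_coeff_one hz (by rw [← mul_assoc, hz])
    (by rw [mul_assoc, ← hcx.eq, ← mul_assoc, hz]) (orderOf_pos x) hak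
  rw [coeff_mul_el, inv_inv, one_mul] at h
  have h2 := mul_mem (inv_natCast_mem_loc hp hpM hG) (isIntegral_mem_loc (M := M) h)
  rwa [Nat.card_eq_fintype_card, inv_mul_cancel_left₀ (Nat.cast_ne_zero.2 Fintype.card_ne_zero)] at h2

/-- For a homomorphism with `p'`-kernel, `p`-singular elements have singular fibres. -/
theorem dvd_orderOf_of_map [Finite G] (hp : p.Prime) {f : G →* H} (hf : ¬ p ∣ Nat.card f.ker)
    {x y : G} (hx : p ∣ orderOf x) (hxy : f y = f x) : p ∣ orderOf y := by
  have h1 : p ∣ orderOf (f x) := by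
    have hk : x ^ orderOf (f x) ∈ f.ker := by
      rw [MonoidHom.mem_ker, map_pow, pow_orderOf_eq_one]
    have h2 : orderOf x ∣ orderOf (f x) * Nat.card f.ker := by
      refine orderOf_dvd_of_pow_eq_one ?_
      rw [pow_mul]
      exact orderOf_dvd_iff_pow_eq_one.1
        ((orderOf_submonoid (⟨_, hk⟩ : f.ker)).symm ▸ orderOf_dvd_natCard _)
    exact (hp.dvd_mul.1 (hx.trans h2)).resolve_right hf
  exact h1.trans (hxy ▸ orderOf_map_dvd f y)

end CfsgLib.Blocks.GoodIdem
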