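import Cfsg.Agent.Lib.Blocks.GoodIdemBasic
import Mathlib.RingTheory.SimpleModule.IsAlgClosed

/-!
# Matrix components of the group algebra of a finite group

A component is a matrix algebra split off `ℂ[N]`; the coefficients of the embedded matrices are
`d / |N|` times traces, so they are integral for `p'`-groups and the degree is prime to `p`.
-/

set_option linter.unusedSectionVars false
set_option linter.style.haveILetI false

noncomputable section

namespace CfsgLib.Blocks.GoodIdem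

open Cfsg CfsgLib.Blocks MonoidAlgebra

/-- A matrix algebra split off the group algebra. -/
structure Comp (N : Type*) [Group N] where
  /-- The degree. -/
  d : ℕ
  pos : 0 < d
  /-- The projection. -/
  ρ : MonoidAlgebra ℂ N →ₐ[ℂ] Matrix (Fin d) (Fin d) ℂ
  /-- The embedding. -/
  ι : Matrix (Fin d) (Fin d) ℂ →ₗ[ℂ] MonoidAlgebra ℂ N
  ρ_ι : ∀ A, ρ (ι A) = A
  ι_mul_right : ∀ A x, ι A * x = ι (A * ρ x)
  ι_mul_left : ∀ A x, x * ι A = ι (ρ x * A)

variable {N : Type*} [Group N] (C : Comp N)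

/-- The central idempotent of a component. -/
def Comp.e : MonoidAlgebra ℂ N := C.ι 1

theorem Comp.ρ_e : C.ρ C.e = 1 := C.ρ_ι 1

theorem Comp.ι_ρ (x : MonoidAlgebra ℂ N) : C.ι (C.ρ x) = C.e * x := by
  rw [Comp.e, C.ι_mul_right, one_mul]

theorem Comp.e_comm (x : MonoidAlgebra ℂ N) : x * C.e = C.e * x := by
  rw [Comp.e, C.ι_mul_left, C.ι_mul_right, one_mul, mul_one]

theorem Comp.ι_mul (A B : Matrix (Fin C.d) (Fin C.d) ℂ) : C.ι A * C.ι B = C.ι (A * B) := by
  rw [C.ι_mul_right, C.ρ_ι]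

theorem Comp.e_idem : C.e * C.e = C.e := by rw [Comp.e, C.ι_mul, one_mul]

theorem Comp.e_central : IsCentralElem C.e := fun g => C.e_comm _

theorem Comp.ι_mul_e (A : Matrix (Fin C.d) (Fin C.d) ℂ) : C.ι A * C.e = C.ι A := by
  rw [Comp.e, C.ι_mul, mul_one]

theorem Comp.e_mul_ι (A : Matrix (Fin C.d) (Fin C.d) ℂ) : C.e * C.ι A = C.ι A := by
  rw [Comp.e, C.ι_mul, one_mul]

theorem Comp.ι_injective : Function.Injective C.ι := fun A B h => by
  rw [← C.ρ_ι A, h, C.ρ_ι]

/-- The idempotent of a component is primitive among central idempotents. -/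
theorem Comp.eq_zero_or_eq_e [Fintype N] {f : MonoidAlgebra ℂ N} (hf : f * f = f)
    (hfc : IsCentralElem f) (hfe : C.e * f = f) : f = 0 ∨ f = C.e := by
  classical
  have hcomm : ∀ A, Commute A (C.ρ f) := fun A => by
    rw [← C.ρ_ι A]
    exact (show Commute (C.ι A) f from (hfc.commute (C.ι A)).symm).map C.ρ
  obtain ⟨c, hc⟩ := Matrix.mem_range_scalar_of_commute_single (M := C.ρ f)
    fun i j _ => hcomm _
  haveI : Nonempty (Fin C.d) := ⟨⟨0, C.pos⟩⟩
  have hcc : c * c = c := by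
    have h := congrArg C.ρ hf
    rw [map_mul, ← hc, ← map_mul] at h
    exact Matrix.scalar_inj.1 h
  have hfι : f = C.ι (C.ρ f) := by rw [C.ι_ρ, hfe]
  rcases mul_left_eq_self₀.1 hcc with h | h
  · right; rw [hfι, ← hc, h, map_one]; rfl
  · left; rw [hfι, ← hc, h, map_zero, map_zero]

/-- The coefficient at `1` as a function on a component. -/
def Comp.tau : Matrix (Fin C.d) (Fin C.d) ℂ →ₗ[ℂ] ℂ where
  toFun A := (C.ι A).coeff 1
  map_add' A B := by simp
  map_smul' c A := by simp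

theorem coeff_one_mul_comm [Fintype N] (a b : MonoidAlgebra ℂ N) :
    (a * b).coeff 1 = (b * a).coeff 1 := by
  rw [coeff_mul_eq, coeff_mul_eq, ← Equiv.sum_comp (Equiv.inv N)]
  simp [mul_comm]

/-- A trace-like functional on matrices is a multiple of the trace. -/
theorem eq_mul_trace {d : ℕ} (τ : Matrix (Fin d) (Fin d) ℂ →ₗ[ℂ] ℂ)
    (hτ : ∀ A B, τ (A * B) = τ (B * A)) (i₀ : Fin d) (A : Matrix (Fin d) (Fin d) ℂ) :
    τ A = τ (Matrix.single i₀ i₀ 1) * A.trace := by
  classical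
  have h : ∀ i j, τ (Matrix.single i j 1) = if i = j then τ (Matrix.single i₀ i₀ 1) else 0 := by
    intro i j
    rw [show Matrix.single i j (1 : ℂ) = Matrix.single i i₀ 1 * Matrix.single i₀ j 1 by simp, hτ]
    split_ifs with hij
    · subst hij; simp
    · rw [Matrix.single_mul_single_of_ne _ _ _ _ (Ne.symm hij), map_zero]
  conv_lhs => rw [Matrix.matrix_eq_sum_single A]
  simp only [map_sum]
  rw [Matrix.trace, Finset.mul_sum]
  refine Finset.sum_congr rfl fun i _ => ?_
  rw [Finset.sum_eq_single i]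
  · rw [show Matrix.single i i (A i i) = A i i • Matrix.single i i (1 : ℂ) by
      rw [Matrix.smul_single, smul_eq_mul, mul_one], map_smul, h, if_pos rfl, smul_eq_mul, mul_comm]
    rfl
  · intro j _ hj
    rw [show Matrix.single i j (A i j) = A i j • Matrix.single i j (1 : ℂ) by
      rw [Matrix.smul_single, smul_eq_mul, mul_one], map_smul, h, if_neg (Ne.symm hj), smul_zero]
  · simp

/-- The coefficient formula: `|N| ι(A)(1) = d tr A`. -/
theorem Comp.card_mul_coeff_one [Fintype N] (A : Matrix (Fin C.d) (Fin C.d) ℂ) :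
    (Fintype.card N : ℂ) * (C.ι A).coeff 1 = (C.d : ℂ) * A.trace := by
  classical
  let i₀ : Fin C.d := ⟨0, C.pos⟩
  have hτ : ∀ A B, C.tau (A * B) = C.tau (B * A) := fun A B => by
    show (C.ι (A * B)).coeff 1 = (C.ι (B * A)).coeff 1
    rw [← C.ι_mul, ← C.ι_mul, coeff_one_mul_comm]
  rw [show (C.ι A).coeff 1 = C.tau A from rfl, eq_mul_trace C.tau hτ i₀ A, ← mul_assoc]
  congr 1
  set ε : Matrix (Fin C.d) (Fin C.d) ℂ := Matrix.single i₀ i₀ 1 with hε
  haveI : FiniteDimensional ℂ (MonoidAlgebra ℂ N) := .of_basis (MonoidAlgebra.basis N ℂ)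
  have hidem : IsIdempotentElem (LinearMap.mulLeft ℂ (C.ι ε)) := LinearMap.ext fun x => by
    simp [Module.End.mul_apply, ← mul_assoc, C.ι_mul, hε]
  let L : (Fin C.d → ℂ) →ₗ[ℂ] Matrix (Fin C.d) (Fin C.d) ℂ :=
    { toFun := fun v => Matrix.vecMulVec (Pi.single i₀ 1) v
      map_add' := fun v w => Matrix.vecMulVec_add _ _ _
      map_smul' := fun c v => Matrix.vecMulVec_smul _ _ _ }
  have hL : Function.Injective (C.ι.comp L) := C.ι_injective.comp fun v w h => funext fun j => by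
    simpa [L, Matrix.vecMulVec_apply] using congrFun (congrFun h i₀) j
  have hεB : ∀ B : Matrix (Fin C.d) (Fin C.d) ℂ, ε * B = L (B i₀) := fun B => by
    ext i j
    rcases eq_or_ne i i₀ with rfl | h
    · simp [hε, L, Matrix.vecMulVec_apply]
    · simp [hε, L, Matrix.vecMulVec_apply, h]
  have hrange : LinearMap.range (LinearMap.mulLeft ℂ (C.ι ε)) = LinearMap.range (C.ι.comp L) := by
    refine le_antisymm ?_ ?_
    · rintro _ ⟨x, rfl⟩
      refine ⟨(C.ρ x) i₀, ?_⟩
      rw [LinearMap.comp_apply, ← hεB, LinearMap.mulLeft_apply, C.ι_mul_right]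
    · rintro _ ⟨v, rfl⟩
      refine ⟨C.ι (L v), ?_⟩
      rw [LinearMap.mulLeft_apply, C.ι_mul, hεB, LinearMap.comp_apply]
      congr 1
      congr 1
      funext j
      simp [L, Matrix.vecMulVec_apply]
  rw [show C.tau ε = (C.ι ε).coeff 1 from rfl, ← trace_mulLeft,
    (LinearMap.IsIdempotentElem.isProj_range _ hidem).trace, hrange,
    LinearMap.finrank_range_of_inj hL, Module.finrank_fin_fun]

theorem Comp.card_mul_coeff [Fintype N] (A : Matrix (Fin C.d) (Fin C.d) ℂ) (v : N) :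
    (Fintype.card N : ℂ) * (C.ι A).coeff v = (C.d : ℂ) * (A * C.ρ (el v⁻¹)).trace := by
  rw [← C.card_mul_coeff_one, ← C.ι_mul_right, coeff_mul_el, inv_inv, one_mul]

theorem isIntegral_trace_matrix {d k : ℕ} {A : Matrix (Fin d) (Fin d) ℂ} (hk : 0 < k)
    (hA : A ^ k = 1) : IsIntegral ℤ A.trace := by
  rw [← Matrix.trace_toLin'_eq]
  refine isIntegral_trace_of_pow_eq_one hk ?_
  show (Matrix.toLinAlgEquiv' A : Module.End ℂ (Fin d → ℂ)) ^ k = 1
  rw [← map_pow, hA, map_one]

variable {M : Ideal AlgInt} [M.IsPrime] {p : ℕ}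

/-- Embedded matrices with finite-order twists are integral. -/
theorem Comp.mem_intRing [Fintype N] (hp : p.Prime) (hpM : (p : AlgInt) ∈ M)
    (hN : ¬ p ∣ Nat.card N) {A : Matrix (Fin C.d) (Fin C.d) ℂ}
    (hA : ∀ v : N, ∃ k, 0 < k ∧ (A * C.ρ (el v)) ^ k = 1) : C.ι A ∈ intRing M N := by
  rw [GoodIdem.mem_intRing]
  intro v
  obtain ⟨k, hk, hk1⟩ := hA v⁻¹
  have h := mul_mem (inv_natCast_mem_loc hp hpM hN) (mul_mem (natCast_mem_loc (M := M) C.d)
    (isIntegral_mem_loc (M := M) (isIntegral_trace_matrix hk hk1)))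
  rwa [← C.card_mul_coeff A v, Nat.card_eq_fintype_card,
    inv_mul_cancel_left₀ (Nat.cast_ne_zero.2 Fintype.card_ne_zero)] at h

/-- The degree is prime to `p`. -/
theorem Comp.not_dvd_d [Fintype N] (hp : p.Prime) (hpM : (p : AlgInt) ∈ M)
    (hN : ¬ p ∣ Nat.card N) : ¬ p ∣ C.d := by
  rintro ⟨m, hm⟩
  have hdvd : ∀ v, ∃ c ∈ loc M, C.e.coeff v = (p : ℂ) * c := by
    intro v
    have hfin : (1 * C.ρ (el v⁻¹)) ^ orderOf v⁻¹ = 1 := by
      rw [one_mul, ← map_pow, el, MonoidAlgebra.single_pow, pow_orderOf_eq_one, one_pow]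
      exact map_one _
    refine ⟨(Nat.card N : ℂ)⁻¹ * ((m : ℂ) * (1 * C.ρ (el v⁻¹)).trace),
      mul_mem (inv_natCast_mem_loc hp hpM hN) (mul_mem (natCast_mem_loc _)
        (isIntegral_mem_loc (isIntegral_trace_matrix (orderOf_pos _) hfin))), ?_⟩
    have h := C.card_mul_coeff 1 v
    have hd : (C.d : ℂ) = (p : ℂ) * (m : ℂ) := by exact_mod_cast hm
    rw [hd] at h
    rw [Nat.card_eq_fintype_card, Comp.e,
      ← inv_mul_cancel_left₀ (Nat.cast_ne_zero.2 (Fintype.card_ne_zero (α := N)) : (Fintype.card N : ℂ) ≠ 0)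
        ((C.ι 1).coeff v), h]
    ring
  have hpow : ∀ n v, ∃ c ∈ loc M, C.e.coeff v = (p : ℂ) ^ n * c := by
    intro n
    induction n with
    | zero =>
      intro v
      obtain ⟨c, hc, h⟩ := hdvd v
      exact ⟨_, mul_mem (natCast_mem_loc p) hc, by rw [pow_zero, one_mul, h]⟩
    | succ n ih =>
      intro v
      choose a ha ha' using ih
      choose b hb hb' using hdvd
      refine ⟨∑ y, a y * b (y⁻¹ * v), sum_mem fun y _ => mul_mem (ha _) (hb _), ?_⟩
      conv_lhs => rw [← C.e_idem, coeff_mul_eq]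
      rw [Finset.mul_sum]
      exact Finset.sum_congr rfl fun y _ => by rw [ha' y, hb']; ring
  have he : C.e = 0 := by
    apply MonoidAlgebra.ext
    ext v
    rw [eq_zero_of_forall_dvd hp hpM fun n => hpow n v, MonoidAlgebra.coeff_zero, Finsupp.zero_apply]
  have h1 := C.ρ_e
  rw [he, map_zero] at h1
  haveI : Nonempty (Fin C.d) := ⟨⟨0, C.pos⟩⟩
  exact zero_ne_one h1

/-- The group algebra is the sum of its components. -/
theorem exists_comps (N : Type*) [Group N] [Fintype N] :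
    ∃ (n : ℕ) (C : Fin n → Comp N), ∑ i, (C i).e = 1 := by
  classical
  haveI : NeZero (Nat.card N : ℂ) := ⟨Nat.cast_ne_zero.2 Nat.card_pos.ne'⟩
  haveI : FiniteDimensional ℂ (MonoidAlgebra ℂ N) := .of_basis (MonoidAlgebra.basis N ℂ)
  obtain ⟨n, d, hd, ⟨Φ⟩⟩ :=
    IsSemisimpleRing.exists_algEquiv_pi_matrix_of_isAlgClosed ℂ (MonoidAlgebra ℂ N)
  refine ⟨n, fun i =>
    { d := d i
      pos := Nat.pos_of_ne_zero (hd i).ne
      ρ := (Pi.evalAlgHom ℂ _ i).comp Φ.toAlgHom
      ι := Φ.symm.toLinearMap ∘ₗ LinearMap.single ℂ (fun j => Matrix (Fin (d j)) (Fin (d j)) ℂ) i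
      ρ_ι := fun A => by simp
      ι_mul_right := fun A x => Φ.injective ?_
      ι_mul_left := fun A x => Φ.injective ?_ }, ?_⟩
  · funext j
    rcases eq_or_ne j i with rfl | h <;> simp [*]
  · funext j
    rcases eq_or_ne j i with rfl | h <;> simp [*]
  · refine Φ.injective ?_
    simp only [Comp.e, map_sum, map_one, LinearMap.comp_apply, AlgEquiv.toLinearMap_apply,
      AlgEquiv.apply_symm_apply]
    exact Finset.univ_sum_single (fun _ => 1)

end CfsgLib.Blocks.GoodIdem
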