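import Cfsg.Agent.Lib.Blocks.GoodIdemBasic
import Cfsg.Agent.Lib.Coprime.SchurZassenhaus

/-!
# Good idempotents and a normal `p`-subgroup

If the good idempotents of `G ⧸ Q` are generated by small idempotents, so are those of `G`, for a
normal `p`-subgroup `Q`.
-/

set_option linter.unusedSectionVars false
set_option linter.style.haveILetI false

noncomputable section

namespace CfsgLib.Blocks.GoodIdem

open Cfsg CfsgLib.Blocks MonoidAlgebra Pointwise

variable {G H : Type*} [Group G] [Group H] [Fintype G] {M : Ideal AlgInt} [M.IsPrime] {p : ℕ}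

theorem coeff_mapDomain [DecidableEq H] (f : G →* H) (a : MonoidAlgebra ℂ G) (y : H) :
    (mapDomainRingHom ℂ f a).coeff y = ∑ x, if f x = y then a.coeff x else 0 := by
  classical
  conv_lhs => rw [eq_sum_el a]
  simp only [map_sum, MonoidAlgebra.coeff_sum, Finsupp.finsetSum_apply]
  refine Finset.sum_congr rfl fun x _ => ?_
  simp [el, MonoidAlgebra.smul_single, Finsupp.single_apply]

theorem mapDomain_el (f : G →* H) (g : G) : mapDomainRingHom ℂ f (el g) = el (f g) := by
  simp [el]

theorem mapDomain_injective' {f : G →* H} (hf : Function.Injective f) :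
    Function.Injective (mapDomainRingHom ℂ f : MonoidAlgebra ℂ G → MonoidAlgebra ℂ H) :=
  MonoidAlgebra.mapDomain_injective hf

theorem mapDomain_suppIn [Fintype H] (f : G →* H) (a : MonoidAlgebra ℂ G) :
    SuppIn (mapDomainRingHom ℂ f a) (f.range : Set H) := by
  classical
  intro y hy
  rw [coeff_mapDomain]
  exact Finset.sum_eq_zero fun x _ => if_neg fun h => hy ⟨x, h⟩

theorem coeff_mapDomain_apply [Fintype H] {f : G →* H} (hf : Function.Injective f)
    (a : MonoidAlgebra ℂ G) (x : G) : (mapDomainRingHom ℂ f a).coeff (f x) = a.coeff x := by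
  classical
  rw [coeff_mapDomain, Finset.sum_eq_single x (fun y _ hy => if_neg fun h => hy (hf h)) (by simp),
    if_pos rfl]

theorem exists_preimage_of_suppIn [Fintype H] (f : G →* H) (hf : Function.Injective f)
    {b : MonoidAlgebra ℂ H} (hb : SuppIn b (f.range : Set H)) :
    ∃ a : MonoidAlgebra ℂ G, mapDomainRingHom ℂ f a = b := by
  refine ⟨MonoidAlgebra.ofCoeff (Finsupp.equivFunOnFinite.symm fun x => b.coeff (f x)), ?_⟩
  apply MonoidAlgebra.ext
  ext y
  by_cases hy : y ∈ f.range
  · obtain ⟨x, rfl⟩ := hy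
    rw [coeff_mapDomain_apply hf]
    simp
  · rw [mapDomain_suppIn f _ y hy, hb y hy]

theorem sum_fibre_smul [Fintype H] {V : Type*} [AddCommGroup V] [Module ℂ V] {f : G →* H}
    (hf : Function.Surjective f) (F : H → V) :
    ∑ g, F (f g) = (Nat.card f.ker : ℂ) • ∑ h, F h := by
  classical
  rw [Finset.smul_sum, ← Finset.sum_fiberwise Finset.univ f fun g => F (f g)]
  refine Finset.sum_congr rfl fun h _ => ?_
  rw [Finset.sum_congr rfl (g := fun _ => F h) fun g hg => by rw [(Finset.mem_filter.1 hg).2],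
    Finset.sum_const, ← Nat.cast_smul_eq_nsmul ℂ]
  congr 2
  rw [Nat.card_eq_fintype_card]
  obtain ⟨g₀, rfl⟩ := hf h
  rw [← Finset.card_univ]
  refine Finset.card_bij' (fun g hg => ⟨g₀⁻¹ * g, ?_⟩) (fun k _ => g₀ * (k : G)) ?_ ?_ ?_ ?_
  · rw [MonoidHom.mem_ker, map_mul, map_inv, (Finset.mem_filter.1 hg).2, inv_mul_cancel]
  · intro g hg; exact Finset.mem_univ _
  · intro k _
    simp [MonoidHom.mem_ker.1 k.2]
  · intro g hg; simp
  · intro k _; ext; simp

theorem mapDomain_tr [Fintype H] {f : G →* H} (hf : Function.Surjective f) (a : MonoidAlgebra ℂ G) :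
    mapDomainRingHom ℂ f (tr G a) = (Nat.card f.ker : ℂ) • tr H (mapDomainRingHom ℂ f a) := by
  rw [tr, tr, map_sum,
    ← sum_fibre_smul hf fun h => el h * mapDomainRingHom ℂ f a * el h⁻¹]
  exact Finset.sum_congr rfl fun g _ => by simp only [map_mul, mapDomain_el, map_inv]

theorem preg_tr [Fact p.Prime] {f : MonoidAlgebra ℂ G} (hf : Small M p f) : PReg p (tr G f) := by
  obtain ⟨X, hX, hsupp⟩ := hf.supp
  intro x hx
  simp only [tr, MonoidAlgebra.coeff_sum, Finsupp.finsetSum_apply]
  refine Finset.sum_eq_zero fun g _ => ?_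
  rw [mul_assoc, coeff_el_mul, coeff_mul_el, inv_inv]
  refine hsupp _ fun hmem => hX ?_
  have h : orderOf (g⁻¹ * x * g) = orderOf x := by
    rw [← orderOf_injective (MulAut.conj g⁻¹).toMonoidHom (MulEquiv.injective _) x]
    simp
  rw [← h] at hx
  exact hx.trans (Subgroup.orderOf_coe (⟨_, hmem⟩ : X) ▸ orderOf_dvd_natCard _)

theorem isCentralElem_tr (a : MonoidAlgebra ℂ G) : IsCentralElem (tr G a) := by
  intro g
  rw [tr, Finset.mul_sum, Finset.sum_mul, ← Equiv.sum_comp (Equiv.mulLeft g) fun h => el h * a * el h⁻¹ * el g]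
  refine Finset.sum_congr rfl fun h _ => ?_
  simp only [Equiv.coe_mulLeft, mul_inv_rev, ← el_mul, mul_assoc]
  rw [el_inv_mul_el, mul_one]

/-- A central element supported on `p`-regular elements is determined by its image modulo a normal
`p`-subgroup. -/
theorem eq_zero_of_map_eq_zero [hp : Fact p.Prime] {Q : Subgroup G} [Q.Normal] (hQ : IsPGroup p Q)
    {a : MonoidAlgebra ℂ G} (hac : IsCentralElem a) (hap : PReg p a)
    (h : mapDomainRingHom ℂ (QuotientGroup.mk' Q) a = 0) : a = 0 := by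
  classical
  apply MonoidAlgebra.ext
  ext y
  by_cases hy : p ∣ orderOf y
  · simpa using hap y hy
  have h0 := congrArg (fun b : MonoidAlgebra ℂ (G ⧸ Q) => b.coeff (QuotientGroup.mk' Q y)) h
  rw [MonoidAlgebra.coeff_zero, Finsupp.zero_apply] at h0
  change (mapDomainRingHom ℂ (QuotientGroup.mk' Q) a).coeff (QuotientGroup.mk' Q y) = _ at h0
  rw [coeff_mapDomain, ← Finset.sum_filter] at h0
  -- elements of a regular coset: either singular or conjugate to `y`
  have hall : ∀ x, QuotientGroup.mk' Q x = QuotientGroup.mk' Q y → ¬ p ∣ orderOf x →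
      a.coeff x = a.coeff y := by
    intro x hxy hx
    obtain ⟨n, hn⟩ := IsPGroup.iff_card.1 hQ
    have hco : ∀ z : G, ¬ p ∣ orderOf z → (Nat.card Q).Coprime (Nat.card (Subgroup.zpowers z)) :=
      fun z hz => by rw [Nat.card_zpowers, hn]; exact ((hp.out.coprime_iff_not_dvd).2 hz).pow_left n
    have hord : ∀ z : G, ¬ p ∣ orderOf z → orderOf (QuotientGroup.mk' Q z) = orderOf z := by
      intro z hz
      refine Nat.dvd_antisymm (orderOf_map_dvd _ z) (orderOf_dvd_of_pow_eq_one ?_)
      have h1 : z ^ orderOf (QuotientGroup.mk' Q z) ∈ Q := (QuotientGroup.eq_one_iff _).1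
        ((map_pow (QuotientGroup.mk' Q) z _).trans (pow_orderOf_eq_one _))
      exact Subgroup.mem_bot.1 ((Subgroup.inf_eq_bot_of_coprime (hco z hz)).le
        ⟨h1, Subgroup.pow_mem _ (Subgroup.mem_zpowers z) _⟩)
    have hnorm : ∀ z : G, Subgroup.zpowers z ≤ Subgroup.normalizer (Q : Set G) := fun z => by
      rw [Subgroup.normalizer_eq_top]; exact le_top
    have hxQ : x ∈ Q ⊔ Subgroup.zpowers y := by
      have h1 : x * y⁻¹ ∈ Q := by
        rw [← QuotientGroup.ker_mk' Q, MonoidHom.mem_ker, map_mul, map_inv, hxy, mul_inv_cancel]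
      rw [show x = x * y⁻¹ * y by simp]
      exact mul_mem (Subgroup.mem_sup_left h1) (Subgroup.mem_sup_right (Subgroup.mem_zpowers y))
    obtain ⟨q, hq, he⟩ := CfsgLib.Coprime.sz_conj_rel (hnorm y) (hnorm x) (hco y hy)
      (by rw [Nat.card_zpowers, Nat.card_zpowers, ← hord x hx, ← hord y hy, hxy])
      (Subgroup.zpowers_le.2 hxQ) (Or.inl (by haveI := hQ.isNilpotent; infer_instance))
    have hxmem : x ∈ MulAut.conj q • Subgroup.zpowers y := he ▸ Subgroup.mem_zpowers x
    obtain ⟨u, hu, hux⟩ := hxmem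
    obtain ⟨i, rfl⟩ := hu
    have hmk : QuotientGroup.mk' Q (q * y ^ i * q⁻¹) = QuotientGroup.mk' Q y := by
      rw [← hxy, ← hux]; rfl
    have hq1 : QuotientGroup.mk' Q q = 1 := (QuotientGroup.eq_one_iff q).2 hq
    rw [map_mul, map_mul, map_inv, hq1, inv_one, mul_one, one_mul, map_zpow] at hmk
    have hyi : y ^ i = y := by
      conv_rhs => rw [← zpow_one y]
      rw [zpow_eq_zpow_iff_modEq, ← hord y hy, ← zpow_eq_zpow_iff_modEq, hmk, zpow_one]
    rw [← hux]
    show a.coeff (q * y ^ i * q⁻¹) = a.coeff y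
    rw [hyi, hac.conj_coeff]
  set S := (Finset.univ.filter fun x => QuotientGroup.mk' Q x = QuotientGroup.mk' Q y).filter
    fun x => ¬ p ∣ orderOf x with hS
  have h1 : ∑ x ∈ S, a.coeff x = 0 := by
    rw [← h0, hS, Finset.sum_filter]
    exact Finset.sum_congr rfl fun x _ => by
      by_cases hx : p ∣ orderOf x
      · rw [if_neg (by simpa using hx), hap x hx]
      · rw [if_pos hx]
  rw [Finset.sum_congr rfl fun x hx => hall x (Finset.mem_filter.1 (Finset.mem_filter.1 hx).1).2
    (Finset.mem_filter.1 hx).2, Finset.sum_const, nsmul_eq_mul, mul_eq_zero] at h1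
  rcases h1 with h1 | h1
  · exfalso
    rw [Nat.cast_eq_zero, Finset.card_eq_zero] at h1
    exact Finset.notMem_empty y ((Finset.ext_iff.1 h1 y).1
      (Finset.mem_filter.2 ⟨Finset.mem_filter.2 ⟨Finset.mem_univ y, rfl⟩, hy⟩))
  · simpa using h1

/-- Small idempotents lift modulo a normal `p`-subgroup. -/
theorem small_lift [hp : Fact p.Prime] (hpM : (p : AlgInt) ∈ M) {Q : Subgroup G} [Q.Normal]
    (hQ : IsPGroup p Q) {f : MonoidAlgebra ℂ (G ⧸ Q)} (hf : Small M p f) :
    ∃ f' : MonoidAlgebra ℂ G, Small M p f' ∧ mapDomainRingHom ℂ (QuotientGroup.mk' Q) f' = f := by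
  classical
  haveI : Fintype (G ⧸ Q) := Fintype.ofFinite _
  obtain ⟨X, hX, hsupp⟩ := hf.supp
  set K := X.comap (QuotientGroup.mk' Q) with hK
  set φ : K →* X := ((QuotientGroup.mk' Q).subgroupComap X) with hφ
  have hφs : Function.Surjective φ :=
    MonoidHom.subgroupComap_surjective_of_surjective _ _ (QuotientGroup.mk'_surjective Q)
  have hker : φ.ker = Q.subgroupOf K := by
    ext k
    rw [MonoidHom.mem_ker, Subgroup.mem_subgroupOf, ← QuotientGroup.eq_one_iff]
    exact Subtype.ext_iff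
  obtain ⟨n, hn⟩ := IsPGroup.iff_card.1 hQ
  have hQK : Q ≤ K := fun x hx => by
    show QuotientGroup.mk' Q x ∈ X
    rw [QuotientGroup.mk'_apply, (QuotientGroup.eq_one_iff x).2 hx]; exact one_mem X
  have hcard : Nat.card φ.ker = p ^ n := by
    rw [hker, Nat.card_congr (Subgroup.subgroupOfEquivOfLe hQK).toEquiv, hn]
  have hidx : φ.ker.index = Nat.card X := by
    rw [Subgroup.index_ker, MonoidHom.range_eq_top.2 hφs, Subgroup.card_top]
  obtain ⟨C, hC⟩ := Subgroup.exists_left_complement'_of_coprime (N := φ.ker)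
    (by rw [hcard, hidx]; exact ((hp.out.coprime_iff_not_dvd).2 hX).pow_left n)
  have hinj : Function.Injective (φ.comp C.subtype) := by
    rw [← MonoidHom.ker_eq_bot_iff, eq_bot_iff]
    intro c hc
    have : (c : K) ∈ C ⊓ φ.ker := ⟨c.2, hc⟩
    rw [hC.disjoint.eq_bot, Subgroup.mem_bot] at this
    exact Subgroup.mem_bot.2 (Subtype.ext this)
  have hsurj : Function.Surjective (φ.comp C.subtype) := by
    intro x
    obtain ⟨k, rfl⟩ := hφs x
    obtain ⟨⟨c, q⟩, hcq, -⟩ := hC.existsUnique k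
    exact ⟨c, by
      show φ c = φ k
      rw [← hcq, map_mul, MonoidHom.mem_ker.1 q.2, mul_one]⟩
  set σ := MulEquiv.ofBijective _ ⟨hinj, hsurj⟩
  set s : X →* G := (K.subtype.comp C.subtype).comp σ.symm.toMonoidHom with hs
  have hsinj : Function.Injective s :=
    (K.subtype_injective.comp C.subtype_injective).comp σ.symm.injective
  have hπs : (QuotientGroup.mk' Q).comp s = X.subtype := by
    refine MonoidHom.ext fun x => ?_
    have := σ.apply_symm_apply x
    exact congrArg Subtype.val this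
  obtain ⟨a, ha⟩ := exists_preimage_of_suppIn X.subtype X.subtype_injective
    (b := f) (by rwa [Subgroup.range_subtype])
  haveI : Fintype X := Fintype.ofFinite _
  have haint : a ∈ intRing M X := mem_intRing.2 fun x => by
    rw [← coeff_mapDomain_apply X.subtype_injective, ha]
    exact mem_intRing.1 hf.int _
  have haid : a * a = a := mapDomain_injective' X.subtype_injective (by rw [map_mul, ha, hf.idem])
  refine ⟨mapDomainRingHom ℂ s a, ⟨?_, mapDomain_mem_intRing s haint, s.range, ?_, mapDomain_suppIn s a⟩, ?_⟩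
  · rw [← map_mul, haid]
  · rwa [← Nat.card_congr (MonoidHom.ofInjective hsinj).toEquiv]
  · rw [← ha, ← RingHom.comp_apply, ← mapDomainRingHom_comp, hπs]

theorem exists_int_lift {f : G →* H} [Fintype H] (hf : Function.Surjective f) {b : MonoidAlgebra ℂ H}
    (hb : b ∈ intRing M H) : ∃ a ∈ intRing M G, mapDomainRingHom ℂ f a = b := by
  classical
  obtain ⟨s, hs⟩ := hf.hasRightInverse
  refine ⟨∑ h, b.coeff h • el (s h), sum_mem fun h _ => ?_, ?_⟩
  · rw [mem_intRing]
    intro g
    simp only [el, MonoidAlgebra.smul_single, smul_eq_mul, mul_one, MonoidAlgebra.coeff_single,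
      Finsupp.single_apply]
    split_ifs
    · exact mem_intRing.1 hb _
    · exact zero_mem _
  · rw [map_sum]
    conv_rhs => rw [eq_sum_el b]
    refine Finset.sum_congr rfl fun h _ => ?_
    simp [el, MonoidAlgebra.smul_single, hs h]

/-- An integral element congruent to `1` modulo the kernel of reduction by a normal `p`-subgroup has an
integral right inverse. -/
theorem exists_right_inverse [hp : Fact p.Prime] (hpM : (p : AlgInt) ∈ M) {Q : Subgroup G} [Q.Normal]
    (hQ : IsPGroup p Q) {u : MonoidAlgebra ℂ G} (hu : u ∈ intRing M G)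
    (h : mapDomainRingHom ℂ (QuotientGroup.mk' Q) u = 1) :
    ∃ v ∈ intRing M G, u * v = 1 := by
  classical
  haveI := charP_residueField (M := M) hp.out hpM
  haveI : Fintype Q := Fintype.ofFinite _
  obtain ⟨u₀, rfl⟩ := hu
  set κ : MonoidAlgebra (loc M) G := 1 - u₀ with hκ
  -- the coset sums of `1 - u` vanish
  have hcoset : ∀ g : G, ∑ x : Q, κ.coeff (g * x) = 0 := by
    intro g
    apply Subtype.ext
    have h0 : (mapDomainRingHom ℂ (QuotientGroup.mk' Q) (mapRingHom G (loc M).subtype κ)).coeff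
        (QuotientGroup.mk' Q g) = 0 := by
      rw [hκ, map_sub, map_one, map_sub, map_one, h, sub_self]; simp
    rw [coeff_mapDomain, ← Finset.sum_filter] at h0
    push_cast
    rw [← h0]
    refine Finset.sum_bij' (fun x _ => g * (x : G)) (fun y hy => ⟨g⁻¹ * y, ?_⟩) ?_ ?_ ?_ ?_ ?_
    · rw [← QuotientGroup.ker_mk' Q, MonoidHom.mem_ker, map_mul, map_inv,
        (Finset.mem_filter.1 hy).2, inv_mul_cancel]
    · intro x _
      exact Finset.mem_filter.2 ⟨Finset.mem_univ _, by
        simp [(QuotientGroup.eq_one_iff (x : G)).2 x.2]⟩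
    · intro y _; exact Finset.mem_univ _
    · intro x _; ext; simp
    · intro y _; simp
    · intro x _; simp
  have hnil : IsNilpotent (redAlg κ) := isNilpotent_of_coset_sums hQ fun g => by
    simp only [coeff_redAlg, ← map_sum, hcoset, map_zero]
  have hunit : IsUnit (redAlg u₀) := by
    have := hnil.isUnit_one_sub
    rwa [hκ, map_sub, map_one, sub_sub_cancel] at this
  obtain ⟨v', hv'⟩ := hunit.exists_right_inv
  -- Nakayama
  haveI : Module.Finite (loc M) (MonoidAlgebra (loc M) G) := .of_basis (MonoidAlgebra.basis G (loc M))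
  set N := LinearMap.range (LinearMap.mulLeft (loc M) u₀) with hN
  have htop : (⊤ : Submodule (loc M) (MonoidAlgebra (loc M) G)) ≤
      N ⊔ IsLocalRing.maximalIdeal (loc M) • ⊤ := by
    intro a _
    obtain ⟨σ, hσ⟩ := (IsLocalRing.residue_surjective (R := loc M)).hasRightInverse
    set b : MonoidAlgebra (loc M) G := MonoidAlgebra.ofCoeff (Finsupp.equivFunOnFinite.symm
      fun g => σ ((v' * redAlg a).coeff g)) with hb
    have hb' : redAlg b = v' * redAlg a := by
      apply MonoidAlgebra.ext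
      ext g
      rw [coeff_redAlg]
      simpa [hb] using hσ _
    rw [show a = u₀ * b + (a - u₀ * b) by abel]
    refine add_mem (Submodule.mem_sup_left ⟨b, rfl⟩) (Submodule.mem_sup_right ?_)
    have hzero : redAlg (a - u₀ * b) = 0 := by
      rw [map_sub, map_mul, hb', ← mul_assoc, hv', one_mul, sub_self]
    rw [sum_single_coeff (a - u₀ * b)]
    refine sum_mem fun g _ => ?_
    rw [show MonoidAlgebra.single g ((a - u₀ * b).coeff g) =
      (a - u₀ * b).coeff g • MonoidAlgebra.single g (1 : loc M) by simp]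
    refine Submodule.smul_mem_smul ?_ Submodule.mem_top
    rw [← IsLocalRing.residue_eq_zero_iff]
    show red ((a - u₀ * b).coeff g) = 0
    rw [← coeff_redAlg, hzero, MonoidAlgebra.coeff_zero, Finsupp.zero_apply]
  have hNtop : ⊤ ≤ N := Submodule.le_of_le_smul_of_le_jacobson_bot Module.Finite.fg_top
    (IsLocalRing.maximalIdeal_le_jacobson ⊥) htop
  obtain ⟨v, hv⟩ := hNtop (Submodule.mem_top (x := (1 : MonoidAlgebra (loc M) G)))
  exact ⟨mapRingHom G (loc M).subtype v, ⟨v, rfl⟩, by
    rw [← map_mul, show u₀ * v = 1 from hv, map_one]⟩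

theorem Good.map [Fintype H] (hp : p.Prime) {z : MonoidAlgebra ℂ G} (hz : Good p z) {f : G →* H}
    (hf : Function.Surjective f) : Good p (mapDomainRingHom ℂ f z) := by
  classical
  refine ⟨by rw [← map_mul, hz.idem], fun h => ?_, fun y hy => ?_⟩
  · obtain ⟨g, rfl⟩ := hf h
    rw [← mapDomain_el f g, ← map_mul, ← map_mul, hz.central g]
  · rw [coeff_mapDomain]
    refine Finset.sum_eq_zero fun x _ => ?_
    split_ifs with h
    · exact hz.preg x (hy.trans (h ▸ orderOf_map_dvd f x))
    · rfl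

theorem Good.compl (hp : p.Prime) {z : MonoidAlgebra ℂ G} (hz : Good p z) : Good p (1 - z) := by
  refine ⟨by rw [sub_mul, one_mul, mul_sub, mul_one, hz.idem, sub_self, sub_zero],
    fun g => by rw [mul_sub, sub_mul, mul_one, one_mul, hz.central g], fun x hx => ?_⟩
  rw [MonoidAlgebra.coeff_sub, Finsupp.sub_apply, hz.preg x hx, sub_zero]
  have : x ≠ 1 := by rintro rfl; rw [orderOf_one] at hx; exact hp.not_dvd_one hx
  show (MonoidAlgebra.single (1 : G) (1 : ℂ)).coeff x = 0
  simp [this.symm]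

theorem exists_lift_gen [Fintype H] {π : G →* H} (hπ : Function.Surjective π) {ι : Type*}
    (f' : ι → MonoidAlgebra ℂ G) {b : MonoidAlgebra ℂ H}
    (hb : b ∈ gen M (Set.range fun i => mapDomainRingHom ℂ π (f' i))) :
    ∃ a ∈ gen M (Set.range f'), mapDomainRingHom ℂ π a = b := by
  induction hb using AddSubgroup.closure_induction with
  | mem b hb =>
    obtain ⟨x, hx, y, hy, _, ⟨i, rfl⟩, rfl⟩ := hb
    obtain ⟨x', hx', rfl⟩ := exists_int_lift hπ hx
    obtain ⟨y', hy', rfl⟩ := exists_int_lift hπ hy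
    exact ⟨x' * f' i * y', AddSubgroup.subset_closure ⟨x', hx', y', hy', _, ⟨i, rfl⟩, rfl⟩,
      by rw [map_mul, map_mul]⟩
  | zero => exact ⟨0, zero_mem _, map_zero _⟩
  | add u v _ _ hu hv =>
    obtain ⟨u', hu', rfl⟩ := hu
    obtain ⟨v', hv', rfl⟩ := hv
    exact ⟨u' + v', add_mem hu' hv', map_add _ _ _⟩
  | neg u _ hu =>
    obtain ⟨u', hu', rfl⟩ := hu
    exact ⟨-u', neg_mem hu', map_neg _ _⟩

/-- Lifting the structure from `G ⧸ Q`. -/
theorem exists_lift_str [hp : Fact p.Prime] (hpM : (p : AlgInt) ∈ M) {Q : Subgroup G} [Q.Normal]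
    [Fintype (G ⧸ Q)] (hQ : IsPGroup p Q) {z : MonoidAlgebra ℂ G} (hz : Good p z)
    (h : Str M p (mapDomainRingHom ℂ (QuotientGroup.mk' Q) z)) :
    ∃ (ι : Type) (_ : Fintype ι) (f : ι → MonoidAlgebra ℂ G) (c : ι → ℝ),
      (∀ i, Small M p (f i) ∧ 0 < c i) ∧ z = ∑ i, (c i : ℂ) • tr G (f i) ∧
      (∀ i, f i * z = f i) ∧ ∃ a ∈ gen M (Set.range f),
        mapDomainRingHom ℂ (QuotientGroup.mk' Q) a = mapDomainRingHom ℂ (QuotientGroup.mk' Q) z := by
  obtain ⟨ι, _, fb, c, hfc, hzb, hgen⟩ := h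
  choose f hf hπf using fun i => small_lift hpM hQ (hfc i).1
  have hπ := QuotientGroup.mk'_surjective Q
  set π := QuotientGroup.mk' Q with hπdef
  have hk : (Nat.card π.ker : ℝ) ≠ 0 := Nat.cast_ne_zero.2 Nat.card_pos.ne'
  have heq : z = ∑ i, ((c i / Nat.card π.ker : ℝ) : ℂ) • tr G (f i) := by
    rw [← sub_eq_zero]
    refine eq_zero_of_map_eq_zero hQ ?_ ?_ ?_
    · intro g
      rw [mul_sub, sub_mul, hz.central g, Finset.mul_sum, Finset.sum_mul]
      congr 1
      exact Finset.sum_congr rfl fun i _ => by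
        rw [mul_smul_comm, smul_mul_assoc, isCentralElem_tr (f i) g]
    · intro x hx
      simp [MonoidAlgebra.coeff_sum, Finsupp.finsetSum_apply, hz.preg x hx,
        preg_tr (hf _) x hx]
    · rw [← hπdef, map_sub, map_sum, sub_eq_zero, hzb]
      refine Finset.sum_congr rfl fun i _ => ?_
      rw [show mapDomainRingHom ℂ π (((c i / Nat.card π.ker : ℝ) : ℂ) • tr G (f i)) =
        ((c i / Nat.card π.ker : ℝ) : ℂ) • mapDomainRingHom ℂ π (tr G (f i)) from
          map_smul (mapDomainAlgHom ℂ ℂ π) _ _, mapDomain_tr hπ, hπf, smul_smul]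
      congr 1
      rw [← Complex.ofReal_natCast, ← Complex.ofReal_mul, div_mul_cancel₀ _ hk]
  have hpos : ∀ i, 0 < c i / Nat.card π.ker := fun i =>
    div_pos (hfc i).2 (by exact_mod_cast Nat.card_pos)
  obtain ⟨a, ha, hπa⟩ := exists_lift_gen hπ f (b := mapDomainRingHom ℂ π z)
    (by rwa [show (fun i => mapDomainRingHom ℂ π (f i)) = fb from funext hπf])
  exact ⟨ι, inferInstance, f, _, fun i => ⟨hf i, hpos i⟩, heq,
    absorb hz.idem hz.central hpos (fun i => (hf i).idem) heq, a, ha, hπa⟩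

/-- The induction step through a normal `p`-subgroup. -/
theorem str_of_quotient [hp : Fact p.Prime] (hpM : (p : AlgInt) ∈ M) {Q : Subgroup G} [Q.Normal]
    [Fintype (G ⧸ Q)] (hQ : IsPGroup p Q)
    (IH : ∀ z : MonoidAlgebra ℂ (G ⧸ Q), Good p z → Str M p z) {z : MonoidAlgebra ℂ G}
    (hz : Good p z) : Str M p z := by
  have hπ := QuotientGroup.mk'_surjective Q
  obtain ⟨ι, _, f, c, hfc, heq, habs, a, ha, hπa⟩ :=
    exists_lift_str hpM hQ hz (IH _ (hz.map hp.out hπ))
  obtain ⟨ι', _, f', c', hfc', -, habs', a', ha', hπa'⟩ :=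
    exists_lift_str hpM hQ (hz.compl hp.out) (IH _ ((hz.compl hp.out).map hp.out hπ))
  have hint : a + a' ∈ intRing M G := add_mem
    (gen_le_intRing (by rintro _ ⟨i, rfl⟩; exact (hfc i).1.int) ha)
    (gen_le_intRing (by rintro _ ⟨i, rfl⟩; exact (hfc' i).1.int) ha')
  obtain ⟨v, hv, huv⟩ := exists_right_inverse hpM hQ hint
    (by rw [map_add, hπa, hπa', ← map_add, add_sub_cancel, map_one])
  refine ⟨ι, inferInstance, f, c, hfc, heq, ?_⟩
  have hza : z * a = a := by
    rw [hz.central.commute]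
    exact gen_absorb hz.central (by rintro _ ⟨i, rfl⟩; exact habs i) ha
  have hza' : z * a' = 0 := by
    have := gen_absorb (hz.compl hp.out).central (by rintro _ ⟨i, rfl⟩; exact habs' i) ha'
    rw [hz.central.commute, ← this, mul_assoc, sub_mul, one_mul, hz.idem, sub_self, mul_zero]
  have hzv : z = a * v := by
    calc z = z * ((a + a') * v) := by rw [huv, mul_one]
      _ = a * v := by rw [← mul_assoc, mul_add, hza, hza', add_zero]
  rw [hzv]
  simpa using mul_mem_gen ha (one_mem _) hv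

end CfsgLib.Blocks.GoodIdem
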