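import Cfsg.Agent.Lib.Blocks.GoodIdemBlock
import Cfsg.Agent.Lib.Blocks.GoodIdemDeflate
import Cfsg.Agent.Lib.Aschbacher.Units
import Cfsg.Agent.Lib.PLocal.PSolvable

/-!
# The covering group of an invariant component

For a component `C` of `ℂ[N]` invariant in `G` the pairs `(x, A)` with `A` inducing `x` on the component
and `det A ^ |N| = 1` form a finite group; modulo the copy of `N` it is a central extension of `G ⧸ N`.
-/

set_option linter.unusedSectionVars false
set_option linter.style.haveILetI false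

noncomputable section

namespace CfsgLib.Blocks.GoodIdem

open Cfsg CfsgLib.Blocks MonoidAlgebra
open scoped MatrixGroups

universe u

variable {G : Type u} [Group G] {N : Subgroup G} [N.Normal]

/-- The inclusion of the group algebra of a subgroup. -/
def emb (N : Subgroup G) : MonoidAlgebra ℂ N →ₐ[ℂ] MonoidAlgebra ℂ G :=
  mapDomainAlgHom ℂ ℂ N.subtype

theorem emb_apply (a : MonoidAlgebra ℂ N) : emb N a = mapDomainRingHom ℂ N.subtype a := rfl

theorem emb_el (n : N) : emb N (el n) = el (n : G) := by simp [emb, el]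

theorem emb_injective [Fintype G] : Function.Injective (emb N) := by
  haveI : Fintype N := Fintype.ofFinite _
  exact mapDomain_injective' (f := N.subtype) N.subtype_injective

/-- Conjugation on the group algebra of a normal subgroup. -/
def conjAlg (g : G) : MonoidAlgebra ℂ N →ₐ[ℂ] MonoidAlgebra ℂ N :=
  mapDomainAlgHom ℂ ℂ (MulAut.conjNormal g).toMonoidHom

theorem conjAlg_el (g : G) (n : N) : conjAlg g (el n) = el (MulAut.conjNormal g n) := by
  simp [conjAlg, el]

theorem conjAlg_one (a : MonoidAlgebra ℂ N) : conjAlg (1 : G) a = a := by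
  induction a using MonoidAlgebra.induction_linear with
  | zero => simp
  | add u v hu hv => simp [hu, hv]
  | single n c =>
    rw [show MonoidAlgebra.single n c = c • el n by simp [el], map_smul, conjAlg_el, map_one]
    rfl

theorem conjAlg_mul (g h : G) (a : MonoidAlgebra ℂ N) :
    conjAlg (g * h) a = conjAlg g (conjAlg h a) := by
  induction a using MonoidAlgebra.induction_linear with
  | zero => simp
  | add u v hu hv => simp [hu, hv]
  | single n c =>
    rw [show MonoidAlgebra.single n c = c • el n by simp [el], map_smul, map_smul, map_smul,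
      conjAlg_el, conjAlg_el, conjAlg_el, map_mul]
    rfl

theorem conjAlg_inv (g : G) (a : MonoidAlgebra ℂ N) : conjAlg g (conjAlg g⁻¹ a) = a := by
  rw [← conjAlg_mul, mul_inv_cancel, conjAlg_one]

theorem el_mul_emb (g : G) (a : MonoidAlgebra ℂ N) :
    el g * emb N a = emb N (conjAlg g a) * el g := by
  induction a using MonoidAlgebra.induction_linear with
  | zero => simp
  | add u v hu hv => simp [mul_add, add_mul, hu, hv]
  | single n c =>
    have h : MonoidAlgebra.single n c = c • el n := by simp [el]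
    rw [h, map_smul, map_smul, map_smul, mul_smul_comm, smul_mul_assoc, emb_el, conjAlg_el, emb_el,
      el_mul, el_mul, MulAut.conjNormal_apply, inv_mul_cancel_right]

theorem emb_mul_el (g : G) (a : MonoidAlgebra ℂ N) :
    emb N a * el g = el g * emb N (conjAlg g⁻¹ a) := by
  rw [el_mul_emb, conjAlg_inv]

theorem conjAlg_coe (n : N) (a : MonoidAlgebra ℂ N) :
    conjAlg (n : G) a = el n * a * el n⁻¹ := by
  induction a using MonoidAlgebra.induction_linear with
  | zero => simp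
  | add u v hu hv => simp [mul_add, add_mul, hu, hv]
  | single m c =>
    have h : MonoidAlgebra.single m c = c • el m := by simp [el]
    rw [h, map_smul, mul_smul_comm, smul_mul_assoc, conjAlg_el, el_mul, el_mul]
    congr 2

variable [Fintype N] (C : Comp N)

/-- The image of the idempotent of the component. -/
def Comp.ee : MonoidAlgebra ℂ G := emb N C.e

/-- The component is invariant. -/
def Inv : Prop := ∀ g : G, el g * C.ee = C.ee * el g

theorem Inv.conjAlg_e [Fintype G] {C : Comp N} (h : Inv C) (g : G) : conjAlg g C.e = C.e := by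
  refine emb_injective ?_
  have h1 := el_mul_emb g C.e
  rw [show el g * emb N C.e = C.ee * el g from h g, Comp.ee] at h1
  have h2 := congrArg (· * el g⁻¹) h1
  simpa only [mul_assoc, el_mul_el_inv, mul_one] using h2.symm

/-- Scalar matrices are the ones commuting with the component. -/
theorem Comp.exists_scalar {B : Matrix (Fin C.d) (Fin C.d) ℂ}
    (h : ∀ n : N, C.ρ (el n) * B = B * C.ρ (el n)) : ∃ c : ℂ, B = c • 1 := by
  have hall : ∀ a, C.ρ a * B = B * C.ρ a := by
    intro a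
    rw [eq_sum_el a, map_sum, Finset.sum_mul, Finset.mul_sum]
    refine Finset.sum_congr rfl fun n _ => ?_
    rw [map_smul, smul_mul_assoc, mul_smul_comm, h]
  obtain ⟨c, hc⟩ := Matrix.mem_range_scalar_of_commute_single (M := B) fun i j _ => by
    have := hall (C.ι (Matrix.single i j 1))
    rw [C.ρ_ι] at this
    exact this
  exact ⟨c, by rw [← hc, Matrix.scalar_apply, Matrix.smul_one_eq_diagonal]⟩

/-- Pairs inducing conjugation on the component, of bounded determinant. -/
def Gt : Subgroup (G × GL (Fin C.d) ℂ) where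
  carrier := {g | (g.2 : Matrix (Fin C.d) (Fin C.d) ℂ).det ^ Nat.card N = 1 ∧
    ∀ a, C.ρ (conjAlg g.1 a) * (g.2 : Matrix (Fin C.d) (Fin C.d) ℂ) = g.2 * C.ρ a}
  one_mem' := ⟨by simp, fun a => by simp [conjAlg_one]⟩
  mul_mem' := by
    rintro g h ⟨g1, g2⟩ ⟨h1, h2⟩
    refine ⟨by rw [Prod.snd_mul, Units.val_mul, Matrix.det_mul, mul_pow, g1, h1, one_mul], fun a => ?_⟩
    rw [Prod.fst_mul, Prod.snd_mul, Units.val_mul, conjAlg_mul, ← mul_assoc, g2, mul_assoc, h2,
      ← mul_assoc]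
  inv_mem' := by
    rintro g ⟨g1, g2⟩
    refine ⟨?_, fun a => ?_⟩
    · have h : ((g.2⁻¹ : GL (Fin C.d) ℂ) : Matrix (Fin C.d) (Fin C.d) ℂ).det *
          (g.2 : Matrix (Fin C.d) (Fin C.d) ℂ).det = 1 := by
        rw [← Matrix.det_mul, Units.inv_mul, Matrix.det_one]
      have h' := congrArg (· ^ Nat.card N) h
      rw [mul_pow, g1, mul_one, one_pow] at h'
      exact h'
    · have h := g2 (conjAlg g.1⁻¹ a)
      rw [conjAlg_inv] at h
      show C.ρ (conjAlg g.1⁻¹ a) * ((g.2⁻¹ : GL (Fin C.d) ℂ) : Matrix (Fin C.d) (Fin C.d) ℂ) = _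
      rw [Prod.snd_inv, Units.eq_inv_mul_iff_mul_eq, ← mul_assoc, ← h, mul_assoc, Units.mul_inv,
        mul_one]

/-- The units of the component given by group elements. -/
def Comp.ρG : N →* GL (Fin C.d) ℂ :=
  (C.ρ.toMonoidHom.comp (MonoidAlgebra.of ℂ N)).toHomUnits

theorem Comp.ρG_coe (n : N) : (C.ρG n : Matrix (Fin C.d) (Fin C.d) ℂ) = C.ρ (el n) := rfl

/-- The copy of `N`. -/
def jN : N →* Gt C where
  toFun n := ⟨((n : G), C.ρG n), by
    refine ⟨?_, fun a => ?_⟩
    · show (C.ρG n : Matrix (Fin C.d) (Fin C.d) ℂ).det ^ Nat.card N = 1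
      rw [← Matrix.det_pow, C.ρG_coe, ← map_pow, el, MonoidAlgebra.single_pow, pow_card_eq_one',
        one_pow]
      simp [← MonoidAlgebra.one_def]
    · show C.ρ (conjAlg (n : G) a) * (C.ρG n : Matrix (Fin C.d) (Fin C.d) ℂ) = _
      rw [C.ρG_coe, conjAlg_coe, ← map_mul, ← map_mul, mul_assoc, el_inv_mul_el, mul_one]⟩
  map_one' := Subtype.ext (Prod.ext rfl (map_one C.ρG))
  map_mul' m n := Subtype.ext (Prod.ext rfl (map_mul C.ρG m n))

theorem jN_injective : Function.Injective (jN C) := fun _ _ h =>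
  Subtype.ext (congrArg (fun g : Gt C => (g : G × GL (Fin C.d) ℂ).1) h)

/-- The copy of `N` as a subgroup. -/
abbrev Kt : Subgroup (Gt C) := (jN C).range

instance Kt_normal : (Kt C).Normal := by
  refine ⟨?_⟩
  rintro _ ⟨n, rfl⟩ g
  refine ⟨MulAut.conjNormal (g : G × GL (Fin C.d) ℂ).1 n, eq_mul_inv_of_mul_eq ?_⟩
  refine Subtype.ext (Prod.ext (by simp [jN, MulAut.conjNormal_apply]) (Units.ext ?_))
  have h := g.2.2 (el n)
  rw [conjAlg_el] at h
  exact h

/-- The covering group. -/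
abbrev Gs : Type u := Gt C ⧸ Kt C

/-- The projection to `G`. -/
def prG : Gt C →* G := (MonoidHom.fst G (GL (Fin C.d) ℂ)).comp (Gt C).subtype

theorem scalar_of_mem_ker {g : Gt C} (hg : g ∈ (prG C).ker) :
    ∃ c : ℂ, c ^ (C.d * Nat.card N) = 1 ∧
      ((g : G × GL (Fin C.d) ℂ).2 : Matrix (Fin C.d) (Fin C.d) ℂ) = c • 1 := by
  have h1 : (g : G × GL (Fin C.d) ℂ).1 = 1 := hg
  obtain ⟨c, hc⟩ := C.exists_scalar (B := (g : G × GL (Fin C.d) ℂ).2) fun n => by
    have := g.2.2 (el n)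
    rwa [h1, conjAlg_one] at this
  refine ⟨c, ?_, hc⟩
  have := g.2.1
  rwa [hc, Matrix.det_smul, Matrix.det_one, mul_one, Fintype.card_fin, ← pow_mul] at this

theorem prG_surjective [Fintype G] (hinv : Inv C) : Function.Surjective (prG C) := by
  classical
  intro x
  haveI : Nonempty (Fin C.d) := ⟨⟨0, C.pos⟩⟩
  set f : Matrix (Fin C.d) (Fin C.d) ℂ →ₗ[ℂ] Matrix (Fin C.d) (Fin C.d) ℂ :=
    (C.ρ.toLinearMap ∘ₗ (conjAlg x).toLinearMap) ∘ₗ C.ι with hf
  have hfapp : ∀ A, f A = C.ρ (conjAlg x (C.ι A)) := fun A => rfl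
  have hρ : ∀ a, C.ρ (conjAlg x a) = f (C.ρ a) := fun a => by
    rw [hfapp, C.ι_ρ, map_mul, hinv.conjAlg_e, map_mul, C.ρ_e, one_mul]
  obtain ⟨P, hP⟩ := CfsgLib.Aschbacher.skolem_noether (AlgHom.ofLinearMap f
    (by rw [hfapp, ← Comp.e, hinv.conjAlg_e, C.ρ_e])
    (fun A B => by rw [hfapp, hfapp, hfapp, ← map_mul, ← map_mul, C.ι_mul]))
  have hdet : (P : Matrix (Fin C.d) (Fin C.d) ℂ).det ≠ 0 :=
    ((Matrix.isUnit_iff_isUnit_det _).1 P.isUnit).ne_zero
  obtain ⟨c, hc⟩ := IsAlgClosed.exists_pow_nat_eq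
    ((P : Matrix (Fin C.d) (Fin C.d) ℂ).det)⁻¹ C.pos
  have hc0 : c ≠ 0 := by
    rintro rfl
    rw [zero_pow C.pos.ne'] at hc
    exact inv_ne_zero hdet hc.symm
  let Q : GL (Fin C.d) ℂ := ⟨c • (P : Matrix (Fin C.d) (Fin C.d) ℂ),
    c⁻¹ • ((P⁻¹ : GL (Fin C.d) ℂ) : Matrix (Fin C.d) (Fin C.d) ℂ),
    by rw [smul_mul_smul_comm, mul_inv_cancel₀ hc0, one_smul, Units.mul_inv],
    by rw [smul_mul_smul_comm, inv_mul_cancel₀ hc0, one_smul, Units.inv_mul]⟩
  refine ⟨⟨(x, Q), ?_, fun a => ?_⟩, rfl⟩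
  · show (c • (P : Matrix (Fin C.d) (Fin C.d) ℂ)).det ^ Nat.card N = 1
    rw [Matrix.det_smul, Fintype.card_fin, hc, inv_mul_cancel₀ hdet, one_pow]
  · show C.ρ (conjAlg x a) * (c • (P : Matrix (Fin C.d) (Fin C.d) ℂ)) = c • (P : Matrix _ _ ℂ) * C.ρ a
    have h := hP (C.ρ a)
    rw [AlgHom.ofLinearMap_apply, ← hρ, CfsgLib.Aschbacher.cj_apply] at h
    rw [h, mul_smul_comm, smul_mul_assoc, mul_assoc, Units.inv_mul, mul_one]

instance finite_Gt [Fintype G] : Finite (Gt C) := by
  classical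
  haveI : Nonempty (Fin C.d) := ⟨⟨0, C.pos⟩⟩
  let i₀ : Fin C.d := ⟨0, C.pos⟩
  set K := (prG C).ker
  choose c hc hg using fun g : K => scalar_of_mem_ker C g.2
  haveI : Finite K := by
    have hn : 0 < C.d * Nat.card N := Nat.mul_pos C.pos Nat.card_pos
    refine Finite.of_injective (fun g : K => (⟨c g, (Polynomial.mem_nthRootsFinset hn (1 : ℂ)).2 (hc g)⟩ :
      Polynomial.nthRootsFinset (C.d * Nat.card N) (1 : ℂ))) fun g h e => ?_
    have hgh : c g = c h := congrArg Subtype.val e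
    refine Subtype.ext (Subtype.ext (Prod.ext ?_ (Units.ext ?_)))
    · exact (g.2 : prG C g = 1).trans (h.2 : prG C h = 1).symm
    · rw [hg g, hg h, hgh]
  haveI : Finite (Gt C ⧸ K) := Finite.of_injective _ (QuotientGroup.kerLift_injective (prG C))
  exact Finite.of_equiv _ (Subgroup.groupEquivQuotientProdSubgroup (s := K)).symm

/-- The projection to `G ⧸ N`. -/
def prQ : Gs C →* G ⧸ N :=
  QuotientGroup.lift (Kt C) ((QuotientGroup.mk' N).comp (prG C)) (by
    rintro _ ⟨n, rfl⟩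
    exact (QuotientGroup.eq_one_iff (n : G)).2 n.2)

theorem prQ_mk (g : Gt C) : prQ C (QuotientGroup.mk g) = QuotientGroup.mk (prG C g) := rfl

theorem prQ_surjective [Fintype G] (hinv : Inv C) : Function.Surjective (prQ C) := by
  intro x
  obtain ⟨y, rfl⟩ := QuotientGroup.mk'_surjective N x
  obtain ⟨g, rfl⟩ := prG_surjective C hinv y
  exact ⟨QuotientGroup.mk g, rfl⟩

theorem exists_of_mem_ker_prQ {s : Gs C} (hs : s ∈ (prQ C).ker) :
    ∃ g ∈ (prG C).ker, QuotientGroup.mk g = s := by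
  obtain ⟨g, rfl⟩ := QuotientGroup.mk'_surjective (Kt C) s
  set n : N := ⟨prG C g, (QuotientGroup.eq_one_iff _).1 hs⟩
  refine ⟨g * (jN C n)⁻¹, ?_, ?_⟩
  · rw [MonoidHom.mem_ker, map_mul, map_inv]
    exact mul_inv_cancel _
  · exact QuotientGroup.eq.2 (by rw [mul_inv_rev, inv_inv, inv_mul_cancel_right]; exact ⟨n, rfl⟩)

theorem ker_prQ_le_center : (prQ C).ker ≤ Subgroup.center (Gs C) := by
  intro s hs
  obtain ⟨g, hg, rfl⟩ := exists_of_mem_ker_prQ C hs
  obtain ⟨c, -, hc⟩ := scalar_of_mem_ker C hg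
  refine Subgroup.mem_center_iff.2 fun t => ?_
  obtain ⟨h, rfl⟩ := QuotientGroup.mk'_surjective (Kt C) t
  show QuotientGroup.mk' (Kt C) h * QuotientGroup.mk' (Kt C) g = _
  rw [← map_mul, show h * g = g * h from ?_, map_mul]
  · rfl
  · refine Subtype.ext (Prod.ext ?_ (Units.ext ?_))
    · have h1 : (g : G × GL (Fin C.d) ℂ).1 = 1 := hg
      simp [h1]
    · simp [hc]

variable {M : Ideal AlgInt} [M.IsPrime] {p : ℕ}

theorem not_dvd_card_ker_prQ [Fintype G] [hp : Fact p.Prime] (hpM : (p : AlgInt) ∈ M)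
    (hN : ¬ p ∣ Nat.card N) : ¬ p ∣ Nat.card (prQ C).ker := by
  intro h
  obtain ⟨⟨s, hs⟩, hord⟩ := exists_prime_orderOf_dvd_card' p h
  rw [Subgroup.orderOf_mk] at hord
  obtain ⟨g, hg, rfl⟩ := exists_of_mem_ker_prQ C hs
  obtain ⟨c, hc, hgc⟩ := scalar_of_mem_ker C hg
  have hpow : g ^ (C.d * Nat.card N) = 1 := by
    refine Subtype.ext (Prod.ext ?_ (Units.ext ?_))
    · have h1 : (g : G × GL (Fin C.d) ℂ).1 = 1 := hg
      simp [h1]
    · show ((g : G × GL (Fin C.d) ℂ).2 : Matrix (Fin C.d) (Fin C.d) ℂ) ^ (C.d * Nat.card N) = 1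
      rw [hgc, smul_pow, hc, one_smul, one_pow]
  have h2 : p ∣ C.d * Nat.card N := hord ▸ orderOf_dvd_of_pow_eq_one (by
    rw [← QuotientGroup.mk'_apply, ← map_pow, hpow, map_one])
  exact (hp.out.dvd_mul.1 h2).elim (C.not_dvd_d hp.out hpM hN) hN

theorem card_ker_eq [Fintype G] (hinv : Inv C) :
    Nat.card (prQ C).ker = Nat.card (prG C).ker := by
  have h1 := Subgroup.card_mul_index (prG C).ker
  rw [Subgroup.index_ker, MonoidHom.range_eq_top.2 (prG_surjective C hinv), Subgroup.card_top] at h1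
  have h2 := Subgroup.card_mul_index (prQ C).ker
  rw [Subgroup.index_ker, MonoidHom.range_eq_top.2 (prQ_surjective C hinv), Subgroup.card_top] at h2
  have h3 := Subgroup.card_eq_card_quotient_mul_card_subgroup (Kt C)
  have h4 : Nat.card (Kt C) = Nat.card N :=
    (Nat.card_congr (MonoidHom.ofInjective (jN_injective C)).toEquiv).symm
  have h5 := Subgroup.card_eq_card_quotient_mul_card_subgroup N
  have h6 : Nat.card (Gt C) = Nat.card (prQ C).ker * Nat.card G := by
    rw [h3, ← h2, h4, h5, mul_assoc]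
  rw [← h1] at h6
  exact (Nat.eq_of_mul_eq_mul_right Nat.card_pos h6).symm

end CfsgLib.Blocks.GoodIdem
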