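import Cfsg.Agent.Lib.Blocks.GoodIdemProjective

/-!
# Central idempotents of `p`-solvable groups supported on `p`-regular elements

Such an idempotent is a positive combination of traces of idempotents living on `p'`-subgroups and
lies in the integral ideal generated by them; in particular its coefficients are locally integral.
-/

set_option linter.unusedSectionVars false
set_option linter.style.haveILetI false

noncomputable section

namespace CfsgLib.Blocks.GoodIdem

open Cfsg CfsgLib.Blocks MonoidAlgebra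

universe u

variable {M : Ideal AlgInt} [M.IsPrime] {p : ℕ} [hp : Fact p.Prime]

/-- A non-trivial normal `p`-subgroup in a central `p'`-extension. -/
theorem exists_normal_pGroup {H K : Type u} [Group H] [Group K] [Finite H] [Finite K] (f : H →* K)
    (hf : Function.Surjective f) (hfc : f.ker ≤ Subgroup.center H) (hK : pCore p K ≠ ⊥) :
    ∃ Q : Subgroup H, Q.Normal ∧ Q ≠ ⊥ ∧ IsPGroup p Q := by
  set L := (pCore p K).comap f with hL
  haveI : L.Normal := Subgroup.Normal.comap inferInstance f
  set g : L →* pCore p K := f.subgroupComap (pCore p K) with hg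
  have hgs : Function.Surjective g := MonoidHom.subgroupComap_surjective_of_surjective _ _ hf
  haveI : Group.IsNilpotent (pCore p K) := (CfsgLib.Base.isPGroup_pCore p K).isNilpotent
  haveI : Group.IsNilpotent L := Subgroup.isNilpotent_of_ker_le_center g fun x hx => by
    have h1 : (x : H) ∈ f.ker := by
      rw [MonoidHom.mem_ker]
      exact congrArg Subtype.val (hx : g x = 1)
    exact Subgroup.mem_center_iff.2 fun y =>
      Subtype.ext (Subgroup.mem_center_iff.1 (hfc h1) (y : H))
  haveI : Finite (Sylow p L) := inferInstance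
  let S : Sylow p L := default
  haveI : (S : Subgroup L).Normal :=
    Sylow.normal_of_normalizerCondition Group.normalizerCondition_of_isNilpotent S
  haveI : (S : Subgroup L).Characteristic := Sylow.characteristic_of_normal S ‹_›
  have hdvd : p ∣ Nat.card L := by
    obtain ⟨n, hn⟩ := CfsgLib.Base.pCore_eq_pow_card p K
    rcases n with _ | n
    · exact absurd (Subgroup.card_eq_one.1 (hn.trans (pow_zero p))) hK
    · exact ((dvd_pow_self p n.succ_ne_zero).trans (hn ▸ dvd_rfl)).trans
        (Subgroup.card_dvd_of_surjective g hgs)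
  refine ⟨(S : Subgroup L).map L.subtype, inferInstance, fun h => ?_, S.isPGroup'.map _⟩
  rw [Subgroup.map_eq_bot_iff_of_injective _ L.subtype_injective] at h
  exact S.ne_bot_of_dvd_card hdvd h

/-- Dividing out a normal `p`-subgroup lowers the index of the `p'`-core. -/
theorem index_pPrimeCore_quotient_lt {H : Type u} [Group H] [Finite H] (Q Z : Subgroup H) [Q.Normal]
    [Z.Normal] (hQ : IsPGroup p Q) (hQne : Q ≠ ⊥) (hZ : ¬ p ∣ Nat.card Z) :
    (pPrimeCore p (H ⧸ Q)).index < Z.index := by
  haveI : (Z.map (QuotientGroup.mk' Q)).Normal :=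
    Subgroup.Normal.map inferInstance _ (QuotientGroup.mk'_surjective Q)
  have hle : Z.map (QuotientGroup.mk' Q) ≤ pPrimeCore p (H ⧸ Q) :=
    CfsgLib.Base.le_pPrimeCore_of_not_dvd fun h => hZ (h.trans (Subgroup.card_map_dvd _ _))
  have h1 := Nat.le_of_dvd (Nat.pos_of_ne_zero Subgroup.index_ne_zero_of_finite)
    (Subgroup.index_dvd_of_le hle)
  refine h1.trans_lt ?_
  rw [Subgroup.index_map, QuotientGroup.ker_mk',
    MonoidHom.range_eq_top.2 (QuotientGroup.mk'_surjective Q), Subgroup.index_top, mul_one]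
  refine Subgroup.index_strictAnti (lt_of_le_of_ne le_sup_left fun h => hQne ?_)
  have hQZ : Q ≤ Z := h ▸ le_sup_right
  obtain ⟨n, hn⟩ := IsPGroup.iff_card.1 hQ
  rcases n with _ | n
  · exact Subgroup.card_eq_one.1 (hn.trans (pow_zero p))
  · exact absurd ((dvd_pow_self p n.succ_ne_zero).trans (hn ▸ Subgroup.card_dvd_of_le hQZ)) hZ

/-- A summand in the shape needed by the induction. -/
def Piece (M : Ideal AlgInt) [M.IsPrime] (p : ℕ) {G : Type u} [Group G] [Fintype G]
    (y : MonoidAlgebra ℂ G) : Prop :=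
  ∃ (ι : Type) (_ : Fintype ι) (f : ι → MonoidAlgebra ℂ G) (c : ι → ℝ),
    (∀ i, Small M p (f i) ∧ 0 < c i) ∧ tr G y = ∑ i, (c i : ℂ) • tr G (f i) ∧
      y ∈ gen M (Set.range f)

variable {G : Type u} [Group G] [Fintype G]

theorem tr_sum {ι : Type*} (s : Finset ι) (f : ι → MonoidAlgebra ℂ G) :
    tr G (∑ i ∈ s, f i) = ∑ i ∈ s, tr G (f i) := by
  simp only [tr, Finset.mul_sum, Finset.sum_mul]
  exact Finset.sum_comm

theorem tr_smul (c : ℂ) (f : MonoidAlgebra ℂ G) : tr G (c • f) = c • tr G f := by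
  simp only [tr, mul_smul_comm, smul_mul_assoc, Finset.smul_sum]

theorem tr_of_central {z : MonoidAlgebra ℂ G} (hz : IsCentralElem z) :
    tr G z = (Fintype.card G : ℂ) • z := by
  simp only [tr, hz _, mul_assoc, el_mul_el_inv, mul_one, Finset.sum_const, Finset.card_univ,
    Nat.cast_smul_eq_nsmul]

theorem str_of_pieces {z : MonoidAlgebra ℂ G} (hz : IsCentralElem z) {n : ℕ}
    (y : Fin n → MonoidAlgebra ℂ G) (hy : ∀ i, Piece M p (y i)) (h : z = ∑ i, y i) : Str M p z := by
  choose ι inst f c hfc htr hgen using hy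
  have hc : (0 : ℝ) < Fintype.card G := Nat.cast_pos.2 Fintype.card_pos
  refine ⟨Σ i, ι i, Sigma.instFintype, fun x => f x.1 x.2, fun x => c x.1 x.2 / Fintype.card G,
    fun x => ⟨(hfc x.1 x.2).1, div_pos (hfc x.1 x.2).2 hc⟩, ?_, ?_⟩
  · refine smul_right_injective _ (Nat.cast_ne_zero.2 Fintype.card_ne_zero :
      (Fintype.card G : ℂ) ≠ 0) ?_
    simp only
    rw [← tr_of_central hz, h, tr_sum, Fintype.sum_sigma, Finset.smul_sum]
    refine Finset.sum_congr rfl fun i _ => ?_
    rw [htr i, Finset.smul_sum]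
    refine Finset.sum_congr rfl fun j _ => ?_
    rw [smul_smul, ← Complex.ofReal_natCast, ← Complex.ofReal_mul, mul_div_cancel₀ _ hc.ne']
  · rw [h]
    exact sum_mem fun i _ => gen_mono (by rintro _ ⟨j, rfl⟩; exact ⟨⟨i, j⟩, rfl⟩) (hgen i)

theorem piece_of_str {y : MonoidAlgebra ℂ G} (hy : IsCentralElem y) (h : Str M p y) :
    Piece M p y := by
  obtain ⟨ι, _, f, c, hfc, hy', hgen⟩ := h
  have hc : (0 : ℝ) < Fintype.card G := Nat.cast_pos.2 Fintype.card_pos
  refine ⟨ι, inferInstance, f, fun i => Fintype.card G * c i,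
    fun i => ⟨(hfc i).1, mul_pos hc (hfc i).2⟩, ?_, hgen⟩
  rw [tr_of_central hy]
  conv_lhs => rw [hy', Finset.smul_sum]
  simp only [smul_smul, Complex.ofReal_mul, Complex.ofReal_natCast]

theorem Small.map {H : Type*} [Group H] [Fintype H] {f : H →* G} (hf : Function.Injective f)
    {a : MonoidAlgebra ℂ H} (ha : Small M p a) : Small M p (mapDomainRingHom ℂ f a) := by
  classical
  obtain ⟨X, hX, hsupp⟩ := ha.supp
  refine ⟨by rw [← map_mul, ha.idem], mapDomain_mem_intRing f ha.int, X.map f, ?_, fun y hy => ?_⟩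
  · rwa [Subgroup.card_map_of_injective hf]
  · rw [coeff_mapDomain]
    refine Finset.sum_eq_zero fun x _ => ?_
    split_ifs with h
    · exact hsupp x fun hx => hy (h ▸ Subgroup.mem_map_of_mem f hx)
    · rfl

theorem tr_mapDomain_tr (T : Subgroup G) [Fintype T] (f : MonoidAlgebra ℂ T) :
    tr G (mapDomainRingHom ℂ T.subtype (tr T f)) =
      (Fintype.card T : ℂ) • tr G (mapDomainRingHom ℂ T.subtype f) := by
  rw [show tr T f = ∑ t : T, el t * f * el t⁻¹ from rfl, map_sum, tr_sum,
    Nat.cast_smul_eq_nsmul, ← Finset.card_univ, ← Finset.sum_const]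
  refine Finset.sum_congr rfl fun t _ => ?_
  rw [map_mul, map_mul, mapDomain_el, mapDomain_el, tr, tr,
    ← Equiv.sum_comp (Equiv.mulRight (t : G)) fun g => el g * mapDomainRingHom ℂ T.subtype f * el g⁻¹]
  refine Finset.sum_congr rfl fun g _ => ?_
  simp only [Equiv.coe_mulRight, mul_inv_rev, ← el_mul, mul_assoc, Subgroup.coe_subtype,
    Subgroup.coe_inv]

theorem piece_of_map (T : Subgroup G) [Fintype T] {a : MonoidAlgebra ℂ T} (h : Str M p a) :
    Piece M p (mapDomainRingHom ℂ T.subtype a) := by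
  obtain ⟨ι, _, f, c, hfc, ha, hgen⟩ := h
  have hc : (0 : ℝ) < Fintype.card T := Nat.cast_pos.2 Fintype.card_pos
  refine ⟨ι, inferInstance, fun i => mapDomainRingHom ℂ T.subtype (f i),
    fun i => c i * Fintype.card T,
    fun i => ⟨(hfc i).1.map T.subtype_injective, mul_pos (hfc i).2 hc⟩, ?_, ?_⟩
  · rw [ha, map_sum, tr_sum]
    refine Finset.sum_congr rfl fun i _ => ?_
    rw [show mapDomainRingHom ℂ T.subtype ((c i : ℂ) • tr T (f i)) =
      (c i : ℂ) • mapDomainRingHom ℂ T.subtype (tr T (f i)) from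
        map_smul (mapDomainAlgHom ℂ ℂ T.subtype) _ _, tr_smul, tr_mapDomain_tr, smul_smul,
      Complex.ofReal_mul, Complex.ofReal_natCast]
  · clear ha hfc
    induction hgen using AddSubgroup.closure_induction with
    | mem x hx =>
      obtain ⟨u, hu, v, hv, _, ⟨i, rfl⟩, rfl⟩ := hx
      exact AddSubgroup.subset_closure ⟨_, mapDomain_mem_intRing T.subtype hu, _,
        mapDomain_mem_intRing T.subtype hv, _, ⟨i, rfl⟩, by rw [map_mul, map_mul]⟩
    | zero => rw [map_zero]; exact zero_mem _
    | add u v _ _ hu hv => rw [map_add]; exact add_mem hu hv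
    | neg u _ hu => rw [map_neg]; exact neg_mem hu

/-- Cutting by an idempotent of a normal `p'`-subgroup keeps `p`-regularity. -/
theorem preg_mul_emb {N : Subgroup G} [N.Normal] [Fintype N] (hN : ¬ p ∣ Nat.card N) {z : MonoidAlgebra ℂ G}
    (hz : PReg p z) (e : MonoidAlgebra ℂ N) : PReg p (z * emb N e) := by
  intro x hx
  rw [coeff_mul_eq]
  refine Finset.sum_eq_zero fun y _ => ?_
  by_cases hy : y⁻¹ * x ∈ N
  · rw [hz y (dvd_orderOf_of_map (f := QuotientGroup.mk' N) hp.out (by rwa [QuotientGroup.ker_mk'])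
      hx (QuotientGroup.eq.2 hy)), zero_mul]
  · rw [emb_apply, mapDomain_suppIn N.subtype e _ (by rwa [Subgroup.range_subtype]), mul_zero]

/-- The case of an invariant component. -/
theorem str_of_invariant (hpM : (p : AlgInt) ∈ M) (hG : IsPSolvable p G) {N : Subgroup G} [N.Normal]
    [Fintype N] (hN : ¬ p ∣ Nat.card N) (hN' : pPrimeCore p (G ⧸ N) = ⊥) (hNtop : N ≠ ⊤)
    (C : Comp N) (hinv : Inv C)
    (IH : ∀ (H : Type u) [Group H] [Fintype H], IsPSolvable p H → (pPrimeCore p H).index < N.index →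
      ∀ z : MonoidAlgebra ℂ H, Good p z → Str M p z)
    {y : MonoidAlgebra ℂ G} (hy : Good p y) (hye : y * C.ee = y) : Str M p y := by
  haveI : Nontrivial (G ⧸ N) := QuotientGroup.nontrivial_iff.2 hNtop
  have hGN := CfsgLib.PLocal.isPSolvable_quotient hG N
  have hK : pCore p (G ⧸ N) ≠ ⊥ :=
    (CfsgLib.PLocal.pCore_ne_bot_or_pPrimeCore_ne_bot hGN).resolve_right fun h => h hN'
  obtain ⟨Q, hQn, hQne, hQ⟩ :=
    exists_normal_pGroup (prQ C) (prQ_surjective C hinv) (ker_prQ_le_center C) hK
  have hZ := not_dvd_card_ker_prQ C hpM hN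
  have hidx : (prQ C).ker.index = N.index := by
    rw [Subgroup.index_ker, MonoidHom.range_eq_top.2 (prQ_surjective C hinv), Subgroup.card_top]
    rfl
  have hGs : IsPSolvable p (Gs C) :=
    CfsgLib.PLocal.isPSolvable_of_normal (prQ C).ker
      (CfsgLib.PLocal.isPSolvable_of_coprime ((hp.out.coprime_iff_not_dvd.2 hZ).symm))
      ((CfsgLib.PLocal.isPSolvable_congr
        (QuotientGroup.quotientKerEquivOfSurjective _ (prQ_surjective C hinv))).2 hGN)
  haveI : Fintype (Gs C ⧸ Q) := Fintype.ofFinite _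
  have hlt := hidx ▸ index_pPrimeCore_quotient_lt Q (prQ C).ker hQ hQne hZ
  obtain ⟨ι, _, f, c, hfc, hys, hgen⟩ := str_of_quotient hpM hQ
    (fun z hz => IH (Gs C ⧸ Q) (CfsgLib.PLocal.isPSolvable_quotient hGs Q) hlt z hz)
    (good_ystar C hinv hpM hN hy hye)
  have hN0 : (0 : ℝ) < Nat.card N := Nat.cast_pos.2 Nat.card_pos
  have hZ0 : (0 : ℝ) < Nat.card (prQ C).ker := Nat.cast_pos.2 Nat.card_pos
  have hφ := phat_ystar C hinv hy.central hye
  refine ⟨ι, inferInstance, fun i => phat C hinv (f i),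
    fun i => c i * (Nat.card (prQ C).ker / Nat.card N), fun i =>
      ⟨phat_small C hinv hpM hN (hfc i).1, mul_pos (hfc i).2 (div_pos hZ0 hN0)⟩, ?_, ?_⟩
  · conv_lhs => rw [← hφ, hys, phat_sum]
    refine Finset.sum_congr rfl fun i _ => ?_
    have hN0' : (Nat.card N : ℂ) ≠ 0 := Nat.cast_ne_zero.2 Nat.card_pos.ne'
    have h := congrArg ((Nat.card N : ℂ)⁻¹ • ·) (phat_tr C hinv (f i))
    simp only [smul_smul, inv_mul_cancel₀ hN0', one_smul] at h
    rw [phat_smul, h, smul_smul, Complex.ofReal_mul, Complex.ofReal_div, Complex.ofReal_natCast,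
      Complex.ofReal_natCast, div_eq_inv_mul]
  · rw [← hφ]
    exact phat_gen C hinv hp.out hpM hN f hgen

/-- A central idempotent of a normal subgroup cuts a good idempotent into pieces. -/
theorem piece_mul_ee (hpM : (p : AlgInt) ∈ M) (hG : IsPSolvable p G) {N : Subgroup G} [N.Normal]
    [Fintype N] (hN : ¬ p ∣ Nat.card N) (hN' : pPrimeCore p (G ⧸ N) = ⊥) (hNtop : N ≠ ⊤)
    (C : Comp N)
    (IH : ∀ (H : Type u) [Group H] [Fintype H], IsPSolvable p H → (pPrimeCore p H).index < N.index →
      ∀ z : MonoidAlgebra ℂ H, Good p z → Str M p z)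
    {z : MonoidAlgebra ℂ G} (hz : Good p z) : Piece M p (z * C.ee) := by
  classical
  have hyee : z * C.ee * C.ee = z * C.ee := by rw [mul_assoc, ee_idem]
  have hyid : z * C.ee * (z * C.ee) = z * C.ee := by
    rw [mul_assoc, ← mul_assoc C.ee, ← hz.central.commute C.ee, mul_assoc z C.ee C.ee, ee_idem,
      ← mul_assoc, hz.idem]
  have hypreg := preg_mul_emb hN hz.preg C.e
  let T : Subgroup G :=
    { carrier := {g | el g * C.ee = C.ee * el g}
      one_mem' := by simp [el_one]
      mul_mem' := fun {g h} (hg : el g * C.ee = C.ee * el g) (hh : el h * C.ee = C.ee * el h) => by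
        show el (g * h) * C.ee = C.ee * el (g * h)
        rw [← el_mul, mul_assoc, hh, ← mul_assoc, hg, mul_assoc]
      inv_mem' := fun {g} (hg : el g * C.ee = C.ee * el g) => by
        show el g⁻¹ * C.ee = C.ee * el g⁻¹
        calc el g⁻¹ * C.ee = el g⁻¹ * (C.ee * el g) * el g⁻¹ := by
              rw [mul_assoc, mul_assoc, el_mul_el_inv, mul_one]
          _ = C.ee * el g⁻¹ := by rw [← hg, ← mul_assoc, el_inv_mul_el, one_mul] }
  have hNT : N ≤ T := fun n hn => by
    show el n * C.ee = C.ee * el n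
    rw [show el n = emb N (el (⟨n, hn⟩ : N)) from (emb_el (⟨n, hn⟩ : N)).symm, Comp.ee, ← map_mul, ← map_mul,
      C.e_comm]
  by_cases hT : T = ⊤
  · have hinv : Inv C := fun g => (hT ▸ Subgroup.mem_top g : g ∈ T)
    have hyc : IsCentralElem (z * C.ee) := fun g => by
      rw [← mul_assoc, hz.central g, mul_assoc, hinv g, ← mul_assoc]
    exact piece_of_str hyc
      (str_of_invariant hpM hG hN hN' hNtop C hinv IH ⟨hyid, hyc, hypreg⟩ hyee)
  haveI : Fintype T := Fintype.ofFinite _
  -- outside `T` the corner vanishes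
  have hout : ∀ g, g ∉ T → C.ee * el g * C.ee = 0 := by
    intro g hg
    set e' := conjAlg g C.e with he'
    have hid : e' * e' = e' := by rw [he', ← map_mul, C.e_idem]
    have hcen : IsCentralElem e' := fun m => by
      rw [← conjAlg_inv g (el m), he', ← map_mul, ← map_mul, C.e_comm]
    have hkey : C.e * e' = 0 := by
      set h := C.e * e' with hh
      have hhid : h * h = h := by
        rw [hh, mul_assoc, ← mul_assoc e', C.e_comm e', mul_assoc C.e e' e', hid, ← mul_assoc,
          C.e_idem]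
      have hhc : IsCentralElem h := fun m => by
        rw [hh, ← mul_assoc, C.e_comm, mul_assoc, hcen, ← mul_assoc]
      have heh : C.e * h = h := by rw [hh, ← mul_assoc, C.e_idem]
      refine (C.eq_zero_or_eq_e hhid hhc heh).resolve_right fun h1 => hg ?_
      have hb1 : C.e * conjAlg g⁻¹ h = conjAlg g⁻¹ h := by
        rw [hh, map_mul, he', ← conjAlg_mul, inv_mul_cancel, conjAlg_one, C.e_comm, ← mul_assoc,
          C.e_idem]
      have hb2 : IsCentralElem (conjAlg g⁻¹ h) := fun m => by
        have e0 : el m = conjAlg g⁻¹ (conjAlg g (el m)) := by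
          rw [← conjAlg_mul, inv_mul_cancel, conjAlg_one]
        rw [e0, ← map_mul, ← map_mul, ← hhc.commute]
      rcases C.eq_zero_or_eq_e (f := conjAlg g⁻¹ h) (by rw [← map_mul, hhid]) hb2 hb1 with h2 | h2
      · have h3 : h = 0 := by rw [← conjAlg_inv g h, h2, map_zero]
        rw [h1] at h3
        haveI : Nonempty (Fin C.d) := ⟨⟨0, C.pos⟩⟩
        have h4 := C.ρ_e
        rw [h3, map_zero] at h4
        exact absurd h4 zero_ne_one
      · have h3 : h = e' := by rw [← conjAlg_inv g h, h2]
        show el g * C.ee = C.ee * el g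
        rw [Comp.ee, el_mul_emb, ← he', ← h3, h1]
    rw [Comp.ee, mul_assoc, el_mul_emb, ← mul_assoc, ← map_mul, ← he', hkey, map_zero, zero_mul]
  obtain ⟨a, ha⟩ : z * C.ee ∈ (mapDomainRingHom ℂ T.subtype).range := by
    have e1 : z * C.ee = C.ee * z * C.ee := by rw [← hz.central.commute, mul_assoc, ee_idem]
    rw [e1, eq_sum_el z, Finset.mul_sum, Finset.sum_mul]
    refine sum_mem fun g _ => ?_
    rw [mul_smul_comm, smul_mul_assoc]
    by_cases hg : g ∈ T
    · refine ⟨z.coeff g • (mapDomainRingHom ℂ (Subgroup.inclusion hNT) C.e * el ⟨g, hg⟩ *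
        mapDomainRingHom ℂ (Subgroup.inclusion hNT) C.e), ?_⟩
      rw [show mapDomainRingHom ℂ T.subtype (z.coeff g • _) = z.coeff g • _ from
        map_smul (mapDomainAlgHom ℂ ℂ T.subtype) _ _]
      congr 1
      show mapDomainRingHom ℂ T.subtype _ = _
      rw [map_mul, map_mul, mapDomain_el, ← RingHom.comp_apply, ← mapDomainRingHom_comp]
      rfl
    · rw [hout g hg, smul_zero]
      exact zero_mem _
  have hinj := mapDomain_injective' (f := T.subtype) T.subtype_injective
  have hgood : Good p a := by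
    refine ⟨hinj (by rw [map_mul, ha, hyid]), fun t => hinj ?_, fun t ht => ?_⟩
    · rw [map_mul, map_mul, mapDomain_el, ha]
      have ht : el (t : G) * C.ee = C.ee * el (t : G) := t.2
      show el (t : G) * (z * C.ee) = z * C.ee * el (t : G)
      rw [← mul_assoc, hz.central, mul_assoc, ht, ← mul_assoc]
    · rw [← coeff_mapDomain_apply T.subtype_injective a t, ha]
      exact hypreg _ (by rwa [Subgroup.coe_subtype, Subgroup.orderOf_coe])
  have hlt : (pPrimeCore p T).index < N.index := by
    have hle : N.subgroupOf T ≤ pPrimeCore p T :=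
      CfsgLib.Base.le_pPrimeCore_of_not_dvd (by
        rwa [Nat.card_congr (Subgroup.subgroupOfEquivOfLe hNT).toEquiv])
    have h1 := Nat.le_of_dvd (Nat.pos_of_ne_zero Subgroup.index_ne_zero_of_finite)
      (Subgroup.index_dvd_of_le hle)
    refine h1.trans_lt ?_
    show N.relIndex T < N.index
    have h2 := Subgroup.relIndex_mul_index hNT
    have h3 : 2 ≤ T.index := by
      have h4 : T.index ≠ 1 := fun h => hT (Subgroup.index_eq_one.1 h)
      have h5 : T.index ≠ 0 := Subgroup.index_ne_zero_of_finite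
      omega
    have h6 : 0 < N.relIndex T :=
      Nat.pos_of_ne_zero fun h => Subgroup.index_ne_zero_of_finite (H := N) (by rw [← h2, h, zero_mul])
    nlinarith
  have := piece_of_map T (IH T (CfsgLib.PLocal.isPSolvable_subgroup hG T) hlt a hgood)
  rwa [ha] at this

/-- The structure theorem. -/
theorem str_of_good (hpM : (p : AlgInt) ∈ M) : ∀ (n : ℕ) (G : Type u) [Group G] [Fintype G],
    IsPSolvable p G → (pPrimeCore p G).index ≤ n → ∀ z : MonoidAlgebra ℂ G, Good p z → Str M p z := by
  intro n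
  induction n using Nat.strong_induction_on with
  | _ n IH =>
  intro G _ _ hG hn z hz
  by_cases hN : pPrimeCore p G = ⊤
  · have hG' : ¬ p ∣ Nat.card G := hp.out.coprime_iff_not_dvd.1
      (CfsgLib.Base.pPrimeCore_eq_top_iff.1 hN).symm
    have hint := mem_intRing_of_central_idem hp.out hpM hG' hz.idem hz.central
    refine str_of_pieces hz.central (n := 1) (fun _ => z) (fun _ => ?_) (by simp)
    refine ⟨Unit, inferInstance, fun _ => z, fun _ => 1, fun _ =>
      ⟨⟨hz.idem, hint, ⊤, by rwa [Subgroup.card_top], fun x hx => absurd (Subgroup.mem_top x) hx⟩,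
        one_pos⟩, by simp, AddSubgroup.subset_closure
          ⟨1, one_mem _, 1, one_mem _, z, ⟨(), rfl⟩, by simp⟩⟩
  haveI : Fintype (pPrimeCore p G) := Fintype.ofFinite _
  obtain ⟨k, C, hC⟩ := exists_comps (pPrimeCore p G)
  refine str_of_pieces hz.central (fun i => z * (C i).ee) (fun i =>
    piece_mul_ee hpM hG (CfsgLib.Base.not_dvd_card_pPrimeCore p G)
      (CfsgLib.Base.pPrimeCore_quotient_pPrimeCore p G) hN (C i)
      (fun H _ _ hH hlt => IH _ (hlt.trans_le hn) H hH le_rfl) hz) ?_
  rw [← Finset.mul_sum]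
  simp only [Comp.ee]
  rw [← map_sum, hC, map_one, mul_one]

/-- Good idempotents of `p`-solvable groups are locally integral. -/
theorem Good.coeff_mem_loc {G : Type u} [Group G] [Fintype G] (hpM : (p : AlgInt) ∈ M)
    (hG : IsPSolvable p G) {z : MonoidAlgebra ℂ G} (hz : Good p z) (g : G) : z.coeff g ∈ loc M :=
  mem_intRing.1 (str_of_good hpM _ G hG le_rfl z hz).mem_intRing' g

end CfsgLib.Blocks.GoodIdem
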