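import Cfsg.Agent.Lib.Blocks.GoodIdemCover

/-!
# Moving good idempotents of an invariant component to the covering group

The map `φ̂` from the group algebra of the covering group to the invariant corner of `ℂ[G]`, and the
preimage of a good idempotent of that corner.
-/

set_option linter.unusedSectionVars false
set_option linter.style.haveILetI false

noncomputable section

namespace CfsgLib.Blocks.GoodIdem

open Cfsg CfsgLib.Blocks MonoidAlgebra
open scoped MatrixGroups

universe u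

variable {G : Type u} [Group G] [Fintype G] {N : Subgroup G} [N.Normal] [Fintype N] (C : Comp N)
  (hinv : Inv C)

instance finite_Gs : Finite (Gs C) := Quotient.finite _

/-- A fixed fintype instance on the covering group. -/
instance fintype_Gs : Fintype (Gs C) := Fintype.ofFinite _

/-- A fixed fintype instance on the pairs. -/
instance fintype_Gt : Fintype (Gt C) := Fintype.ofFinite _

include hinv in
theorem ee_comm (a : MonoidAlgebra ℂ G) : a * C.ee = C.ee * a := by
  rw [eq_sum_el a, Finset.mul_sum, Finset.sum_mul]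
  exact Finset.sum_congr rfl fun g _ => by rw [smul_mul_assoc, mul_smul_comm, hinv]

theorem ee_idem : C.ee * C.ee = C.ee := by rw [Comp.ee, ← map_mul, C.e_idem]

theorem ee_ne_zero : C.ee ≠ 0 := by
  intro h
  haveI : Nonempty (Fin C.d) := ⟨⟨0, C.pos⟩⟩
  have h1 := C.ρ_e
  rw [emb_injective (N := N) (h.trans (map_zero (emb N)).symm), map_zero] at h1
  exact zero_ne_one h1

/-- The element of a pair. -/
def phi (g : Gt C) : MonoidAlgebra ℂ G :=
  el (prG C g) * emb N (C.ι ((g⁻¹ : Gt C) : G × GL (Fin C.d) ℂ).2)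

theorem phi_mul (g h : Gt C) : phi C g * phi C h = phi C (g * h) := by
  set u := C.ι ((g⁻¹ : Gt C) : G × GL (Fin C.d) ℂ).2 with hu
  show el (prG C g) * emb N u * (el (prG C h) * emb N _) = _
  rw [mul_assoc, ← mul_assoc (emb N u), emb_mul_el, ← mul_assoc, ← mul_assoc, el_mul, mul_assoc,
    ← map_mul (emb N), C.ι_mul_left]
  have h2 : C.ρ (conjAlg (prG C h)⁻¹ u) * (((h⁻¹ : Gt C) : G × GL (Fin C.d) ℂ).2 : Matrix _ _ ℂ) =
      _ := (h⁻¹).2.2 u
  rw [h2, hu, C.ρ_ι, phi]
  simp [C.ι_mul]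

theorem phi_one : phi C 1 = C.ee := by
  simp [phi, Comp.ee, Comp.e, ← MonoidAlgebra.one_def]

include hinv in
theorem phi_ee (g : Gt C) : C.ee * phi C g = phi C g := by
  rw [← ee_comm C hinv, ← phi_one C, phi_mul, mul_one]

theorem phi_comm_emb (g : Gt C) (a : MonoidAlgebra ℂ N) :
    emb N a * phi C g = phi C g * emb N a := by
  rw [phi, ← mul_assoc, emb_mul_el, mul_assoc, mul_assoc, ← map_mul, ← map_mul, C.ι_mul_left,
    C.ι_mul_right]
  congr 3
  exact (g⁻¹).2.2 a

theorem phi_jN (n : N) : phi C (jN C n) = C.ee := by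
  have h : (((jN C n)⁻¹ : Gt C) : G × GL (Fin C.d) ℂ).2 = C.ρG n⁻¹ := by
    rw [map_inv]; rfl
  rw [phi, h, C.ρG_coe, C.ι_ρ, Comp.ee, show prG C (jN C n) = (n : G) from rfl, ← emb_el,
    ← map_mul, ← mul_assoc, C.e_comm, mul_assoc, el_mul, mul_inv_cancel, el_one, mul_one]

include hinv in
theorem phi_add_mul (g h : Gt C) :
    phi C (g * h) + (1 - C.ee) = (phi C g + (1 - C.ee)) * (phi C h + (1 - C.ee)) := by
  have h1 : (1 - C.ee) * phi C h = 0 := by rw [sub_mul, one_mul, phi_ee C hinv, sub_self]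
  have h2 : phi C g * (1 - C.ee) = 0 := by
    rw [mul_sub, mul_one, ee_comm C hinv, phi_ee C hinv, sub_self]
  have h3 : (1 - C.ee) * (1 - C.ee) = 1 - C.ee := by
    rw [sub_mul, one_mul, mul_sub, mul_one, ee_idem, sub_self, sub_zero]
  rw [add_mul, mul_add, mul_add, phi_mul, h1, h2, h3, add_zero, zero_add]

/-- The completed map on pairs. -/
def phiHom : Gt C →* MonoidAlgebra ℂ G where
  toFun g := phi C g + (1 - C.ee)
  map_one' := by rw [phi_one, add_sub_cancel]
  map_mul' := phi_add_mul C hinv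

/-- The map `φ̂`, a non-unital algebra map onto the invariant corner. -/
def phat (a : MonoidAlgebra ℂ (Gs C)) : MonoidAlgebra ℂ G :=
  MonoidAlgebra.lift ℂ (MonoidAlgebra ℂ G) (Gs C)
    (QuotientGroup.lift (Kt C) (phiHom C hinv) (by
      rintro _ ⟨n, rfl⟩
      show phi C (jN C n) + (1 - C.ee) = 1
      rw [phi_jN, add_sub_cancel])) a * C.ee

theorem phat_el (g : Gt C) : phat C hinv (el (QuotientGroup.mk g)) = phi C g := by
  rw [phat, el, MonoidAlgebra.lift_single, one_smul]
  show (phi C g + (1 - C.ee)) * C.ee = _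
  rw [add_mul, sub_mul, one_mul, ee_idem, sub_self, add_zero, ee_comm C hinv, phi_ee C hinv]

theorem phat_mul (a b : MonoidAlgebra ℂ (Gs C)) :
    phat C hinv (a * b) = phat C hinv a * phat C hinv b := by
  simp only [phat, map_mul, mul_assoc]
  rw [← mul_assoc C.ee, ← ee_comm C hinv, mul_assoc, ee_idem]

theorem phat_add (a b : MonoidAlgebra ℂ (Gs C)) :
    phat C hinv (a + b) = phat C hinv a + phat C hinv b := by
  simp only [phat, map_add, add_mul]

theorem phat_neg (a : MonoidAlgebra ℂ (Gs C)) : phat C hinv (-a) = -phat C hinv a := by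
  simp only [phat, map_neg, neg_mul]

theorem phat_sub (a b : MonoidAlgebra ℂ (Gs C)) :
    phat C hinv (a - b) = phat C hinv a - phat C hinv b := by
  rw [sub_eq_add_neg, phat_add, phat_neg, ← sub_eq_add_neg]

theorem phat_zero : phat C hinv 0 = 0 := by simp [phat]

theorem phat_smul (c : ℂ) (a : MonoidAlgebra ℂ (Gs C)) :
    phat C hinv (c • a) = c • phat C hinv a := by
  simp only [phat, map_smul, smul_mul_assoc]

theorem phat_sum {ι : Type*} (s : Finset ι) (f : ι → MonoidAlgebra ℂ (Gs C)) :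
    phat C hinv (∑ i ∈ s, f i) = ∑ i ∈ s, phat C hinv (f i) := by
  simp only [phat, map_sum, Finset.sum_mul]

theorem phat_eq_sum (a : MonoidAlgebra ℂ (Gs C)) :
    phat C hinv a = ∑ s, a.coeff s • phat C hinv (el s) := by
  conv_lhs => rw [eq_sum_el a, phat_sum]
  simp only [phat_smul]

theorem phat_comm_emb (a : MonoidAlgebra ℂ (Gs C)) (b : MonoidAlgebra ℂ N) :
    emb N b * phat C hinv a = phat C hinv a * emb N b := by
  rw [phat_eq_sum, Finset.mul_sum, Finset.sum_mul]
  refine Finset.sum_congr rfl fun s _ => ?_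
  obtain ⟨g, rfl⟩ := QuotientGroup.mk'_surjective (Kt C) s
  rw [QuotientGroup.mk'_apply, phat_el, mul_smul_comm, smul_mul_assoc, phi_comm_emb]

theorem phat_el_ne_zero (s : Gs C) : phat C hinv (el s) ≠ 0 := by
  intro h
  obtain ⟨g, rfl⟩ := QuotientGroup.mk'_surjective (Kt C) s
  rw [QuotientGroup.mk'_apply, phat_el] at h
  refine ee_ne_zero C ?_
  rw [← phi_one C, show (1 : Gt C) = g * g⁻¹ by group, ← phi_mul, h, zero_mul]

theorem phat_el_suppIn (s : Gs C) :
    SuppIn (phat C hinv (el s)) {v | QuotientGroup.mk' N v = prQ C s} := by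
  obtain ⟨g, rfl⟩ := QuotientGroup.mk'_surjective (Kt C) s
  intro v hv
  rw [QuotientGroup.mk'_apply, phat_el, phi, coeff_el_mul, emb_apply]
  refine mapDomain_suppIn N.subtype _ _ fun hm => hv ?_
  rw [Subgroup.range_subtype] at hm
  show QuotientGroup.mk' N v = prQ C (QuotientGroup.mk g)
  rw [prQ_mk]
  exact (QuotientGroup.eq.2 hm).symm

variable {M : Ideal AlgInt} [M.IsPrime] {p : ℕ}

theorem smul_mem_intRing {H : Type*} [Group H] [Finite H] {c : ℂ} (hc : c ∈ loc M)
    {a : MonoidAlgebra ℂ H} (ha : a ∈ intRing M H) : c • a ∈ intRing M H := by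
  rw [mem_intRing]
  intro g
  rw [MonoidAlgebra.coeff_smul, Finsupp.smul_apply, smul_eq_mul]
  exact mul_mem hc (mem_intRing.1 ha g)

theorem phi_mem_intRing (hp : p.Prime) (hpM : (p : AlgInt) ∈ M) (hN : ¬ p ∣ Nat.card N)
    (g : Gt C) : phi C g ∈ intRing M G := by
  refine mul_mem (el_mem_intRing _) (mapDomain_mem_intRing N.subtype
    (C.mem_intRing hp hpM hN fun v => ⟨orderOf (g⁻¹ * jN C v), orderOf_pos _, ?_⟩))
  have h := congrArg (fun t : Gt C => ((t : G × GL (Fin C.d) ℂ).2 : Matrix (Fin C.d) (Fin C.d) ℂ))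
    (pow_orderOf_eq_one (g⁻¹ * jN C v))
  exact h

theorem phat_mem_intRing (hp : p.Prime) (hpM : (p : AlgInt) ∈ M) (hN : ¬ p ∣ Nat.card N)
    {a : MonoidAlgebra ℂ (Gs C)} (ha : a ∈ intRing M (Gs C)) : phat C hinv a ∈ intRing M G := by
  rw [phat_eq_sum]
  refine sum_mem fun s _ => smul_mem_intRing (mem_intRing.1 ha s) ?_
  obtain ⟨g, rfl⟩ := QuotientGroup.mk'_surjective (Kt C) s
  rw [QuotientGroup.mk'_apply, phat_el]
  exact phi_mem_intRing C hp hpM hN g

theorem phat_gen (hp : p.Prime) (hpM : (p : AlgInt) ∈ M) (hN : ¬ p ∣ Nat.card N) {ι : Type*}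
    (f : ι → MonoidAlgebra ℂ (Gs C)) {a : MonoidAlgebra ℂ (Gs C)}
    (ha : a ∈ gen M (Set.range f)) :
    phat C hinv a ∈ gen M (Set.range fun i => phat C hinv (f i)) := by
  induction ha using AddSubgroup.closure_induction with
  | mem x hx =>
    obtain ⟨b, hb, c, hc, _, ⟨i, rfl⟩, rfl⟩ := hx
    exact AddSubgroup.subset_closure ⟨_, phat_mem_intRing C hinv hp hpM hN hb, _,
      phat_mem_intRing C hinv hp hpM hN hc, _, ⟨i, rfl⟩, by rw [phat_mul, phat_mul]⟩
  | zero => rw [phat_zero]; exact zero_mem _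
  | add u v _ _ hu hv => rw [phat_add]; exact add_mem hu hv
  | neg u _ hu => rw [phat_neg]; exact neg_mem hu

theorem phat_small [hp : Fact p.Prime] (hpM : (p : AlgInt) ∈ M) (hN : ¬ p ∣ Nat.card N)
    {f : MonoidAlgebra ℂ (Gs C)} (hf : Small M p f) : Small M p (phat C hinv f) := by
  obtain ⟨X, hX, hsupp⟩ := hf.supp
  refine ⟨by rw [← phat_mul, hf.idem], phat_mem_intRing C hinv hp.out hpM hN hf.int,
    (X.map (prQ C)).comap (QuotientGroup.mk' N), ?_, fun v hv => ?_⟩
  · rw [CfsgLib.Base.card_comap_mk']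
    exact fun h => (hp.out.dvd_mul.1 h).elim hN
      fun h' => hX (h'.trans (Subgroup.card_map_dvd _ _))
  · rw [phat_eq_sum, MonoidAlgebra.coeff_sum, Finsupp.finsetSum_apply]
    refine Finset.sum_eq_zero fun s _ => ?_
    rw [MonoidAlgebra.coeff_smul, Finsupp.smul_apply, smul_eq_mul]
    by_cases hs : s ∈ X
    · rw [phat_el_suppIn C hinv s v fun h => hv ⟨s, hs, h.symm⟩, mul_zero]
    · rw [hsupp s hs, zero_mul]

/-- The transport of a trace. -/
theorem phat_tr (f : MonoidAlgebra ℂ (Gs C)) :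
    (Nat.card N : ℂ) • phat C hinv (tr (Gs C) f) =
      (Nat.card (prQ C).ker : ℂ) • tr G (phat C hinv f) := by
  classical
  set F := phat C hinv f with hF
  have hker : Nat.card (QuotientGroup.mk' (Kt C)).ker = Nat.card N := by
    rw [QuotientGroup.ker_mk']
    exact (Nat.card_congr (MonoidHom.ofInjective (jN_injective C)).toEquiv).symm
  have h1 := sum_fibre_smul (QuotientGroup.mk'_surjective (Kt C))
    fun s => phat C hinv (el s) * F * phat C hinv (el s⁻¹)
  rw [hker] at h1
  have hee : F * C.ee = F := by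
    rw [hF, phat, mul_assoc, ee_idem]
  have h2 : ∀ g : Gt C, phi C g * F * phi C g⁻¹ = el (prG C g) * F * el (prG C g)⁻¹ := by
    intro g
    conv_lhs => arg 1; arg 1; rw [phi]
    rw [mul_assoc (el (prG C g)), phat_comm_emb, mul_assoc, mul_assoc F, phi_comm_emb, phi, inv_inv,
      map_inv, mul_assoc (el (prG C g)⁻¹), ← map_mul, C.ι_mul, ← Units.val_mul]
    rw [show (g : G × GL (Fin C.d) ℂ).2 * ((g⁻¹ : Gt C) : G × GL (Fin C.d) ℂ).2 = 1 by simp,
      Units.val_one, ← Comp.e, ← Comp.ee, ee_comm C hinv, ← mul_assoc F, hee, ← mul_assoc]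
  have h3 := sum_fibre_smul (prG_surjective C hinv) fun x => el x * F * el x⁻¹
  rw [← card_ker_eq C hinv] at h3
  rw [tr, phat_sum]
  simp only [phat_mul]
  rw [← h1, tr, ← h3]
  exact Finset.sum_congr rfl fun g _ => by
    rw [QuotientGroup.mk'_apply, phat_el, ← QuotientGroup.mk_inv, phat_el, h2]

/-- Functions compatible with the central kernel. -/
def Compat (a : MonoidAlgebra ℂ (Gs C)) : Prop :=
  ∀ t, ∀ s ∈ (prQ C).ker, a.coeff (t * s) • phat C hinv (el (t * s)) =
    a.coeff t • phat C hinv (el t)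

theorem Compat.sub {a b : MonoidAlgebra ℂ (Gs C)} (ha : Compat C hinv a) (hb : Compat C hinv b) :
    Compat C hinv (a - b) := fun t s hs => by
  simp only [MonoidAlgebra.coeff_sub, Finsupp.sub_apply, sub_smul, ha t s hs, hb t s hs]

theorem Compat.mul_left (b : MonoidAlgebra ℂ (Gs C)) {a : MonoidAlgebra ℂ (Gs C)}
    (ha : Compat C hinv a) : Compat C hinv (b * a) := by
  intro t s hs
  rw [coeff_mul_eq, coeff_mul_eq, Finset.sum_smul, Finset.sum_smul]
  refine Finset.sum_congr rfl fun u _ => ?_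
  rw [mul_smul, mul_smul]
  congr 1
  have h := ha (u⁻¹ * t) s hs
  have e1 : ∀ x : Gs C, phat C hinv (el x) = phat C hinv (el u) * phat C hinv (el (u⁻¹ * x)) :=
    fun x => by rw [← phat_mul, el_mul, mul_inv_cancel_left]
  rw [e1 (t * s), e1 t, ← mul_smul_comm, ← mul_smul_comm, ← mul_assoc u⁻¹, h]

theorem Compat.mul_el {a : MonoidAlgebra ℂ (Gs C)} (ha : Compat C hinv a) (h : Gs C) :
    Compat C hinv (a * el h) := by
  intro t s hs
  have hc : ∀ x, x * s = s * x := Subgroup.mem_center_iff.1 (ker_prQ_le_center C hs)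
  have h' := ha (t * h⁻¹) s hs
  have e : t * s * h⁻¹ = t * h⁻¹ * s := by rw [mul_assoc, ← hc, ← mul_assoc]
  have e1 : ∀ x : Gs C, phat C hinv (el x) = phat C hinv (el (x * h⁻¹)) * phat C hinv (el h) :=
    fun x => by rw [← phat_mul, el_mul, inv_mul_cancel_right]
  rw [coeff_mul_el, coeff_mul_el, e1 (t * s), e1 t, e, ← smul_mul_assoc, ← smul_mul_assoc, h']

theorem Compat.eq_zero {a : MonoidAlgebra ℂ (Gs C)} (ha : Compat C hinv a)
    (h0 : phat C hinv a = 0) : a = 0 := by
  classical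
  apply MonoidAlgebra.ext
  ext t
  rw [MonoidAlgebra.coeff_zero, Finsupp.zero_apply]
  refine (smul_eq_zero.1 (?_ : a.coeff t • phat C hinv (el t) = 0)).resolve_right
    (phat_el_ne_zero C hinv t)
  apply MonoidAlgebra.ext
  ext v
  rw [MonoidAlgebra.coeff_zero, Finsupp.zero_apply]
  by_cases hv : QuotientGroup.mk' N v = prQ C t
  · have h1 := congrArg (fun b : MonoidAlgebra ℂ G => b.coeff v) h0
    rw [phat_eq_sum] at h1
    simp only [MonoidAlgebra.coeff_sum, Finsupp.finsetSum_apply, MonoidAlgebra.coeff_zero,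
      Finsupp.zero_apply] at h1
    rw [← Finset.sum_subset (Finset.filter_subset (fun s => prQ C s = prQ C t) Finset.univ)
      (fun s _ hs => by
        have hne : prQ C s ≠ prQ C t := fun h => hs (Finset.mem_filter.2 ⟨Finset.mem_univ _, h⟩)
        rw [MonoidAlgebra.coeff_smul, Finsupp.smul_apply,
          phat_el_suppIn C hinv s v (fun h => hne (h.symm.trans hv)), smul_zero])] at h1
    rw [Finset.sum_congr rfl (g := fun _ => (a.coeff t • phat C hinv (el t)).coeff v) fun s hs => by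
      have hst : t⁻¹ * s ∈ (prQ C).ker := by
        rw [MonoidHom.mem_ker, map_mul, map_inv, (Finset.mem_filter.1 hs).2, inv_mul_cancel]
      have := ha t _ hst
      rw [mul_inv_cancel_left] at this
      rw [this], Finset.sum_const, nsmul_eq_mul, mul_eq_zero, Nat.cast_eq_zero,
      Finset.card_eq_zero] at h1
    exact h1.resolve_left fun h => Finset.notMem_empty t
      ((Finset.ext_iff.1 h t).1 (Finset.mem_filter.2 ⟨Finset.mem_univ _, rfl⟩))
  · rw [MonoidAlgebra.coeff_smul, Finsupp.smul_apply, phat_el_suppIn C hinv t v hv, smul_zero]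

/-- The matrix of a coset. -/
def cosetMat (y : MonoidAlgebra ℂ G) (x : G) : Matrix (Fin C.d) (Fin C.d) ℂ :=
  ∑ n : N, y.coeff (x * n) • C.ρ (el n)

theorem cosetMat_twist (y : MonoidAlgebra ℂ G) (x : G) (n : N) :
    C.ρ (el n) * cosetMat C y (x * n) = cosetMat C y x := by
  rw [cosetMat, cosetMat, Finset.mul_sum, ← Equiv.sum_comp (Equiv.mulLeft n)
    fun m : N => y.coeff (x * m) • C.ρ (el m)]
  refine Finset.sum_congr rfl fun m _ => ?_
  rw [mul_smul_comm, ← map_mul, el_mul, mul_assoc]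
  rfl

theorem exists_scalar_mul_cosetMat {y : MonoidAlgebra ℂ G} (hy : IsCentralElem y) (g : Gt C) :
    ∃ c : ℂ, ((g : G × GL (Fin C.d) ℂ).2 : Matrix (Fin C.d) (Fin C.d) ℂ) *
      cosetMat C y (prG C g) = c • 1 := by
  refine C.exists_scalar fun m => ?_
  set x := prG C g with hx
  set m' : N := MulAut.conjNormal x⁻¹ m with hm'
  have h1 : C.ρ (el m') * cosetMat C y x = cosetMat C y x * C.ρ (el m) := by
    rw [cosetMat, Finset.mul_sum, Finset.sum_mul,
      ← Equiv.sum_comp ((Equiv.mulLeft m').trans (Equiv.mulRight m⁻¹))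
        fun v : N => y.coeff (x * v) • C.ρ (el v) * C.ρ (el m)]
    refine Finset.sum_congr rfl fun v _ => ?_
    rw [mul_smul_comm, smul_mul_assoc, ← map_mul, ← map_mul, el_mul, el_mul]
    show y.coeff (x * v) • C.ρ (el (m' * v)) =
      y.coeff (x * ((m' * v * m⁻¹ : N) : G)) • C.ρ (el (m' * v * m⁻¹ * m))
    rw [inv_mul_cancel_right, ← hy.conj_coeff (m : G) (x * v)]
    congr 2
    simp [hm', MulAut.conjNormal_apply, mul_assoc]
  have h2 := g.2.2 (el m')
  rw [conjAlg_el, show MulAut.conjNormal (g : G × GL (Fin C.d) ℂ).1 m' = m by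
    show MulAut.conjNormal x (MulAut.conjNormal x⁻¹ m) = m
    rw [← MulAut.mul_apply, ← map_mul, mul_inv_cancel, map_one, MulAut.one_apply]] at h2
  rw [← mul_assoc, h2, mul_assoc, h1, mul_assoc]

/-- The value of the preimage at a pair. -/
def liftVal (y : MonoidAlgebra ℂ G) (g : Gt C) : ℂ :=
  (((g : G × GL (Fin C.d) ℂ).2 : Matrix (Fin C.d) (Fin C.d) ℂ) * cosetMat C y (prG C g)).trace /
    ((C.d : ℂ) * (Nat.card (prQ C).ker : ℂ))

theorem liftVal_jN (y : MonoidAlgebra ℂ G) (g : Gt C) (n : N) :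
    liftVal C y (g * jN C n) = liftVal C y g := by
  have h1 : ((((g * jN C n : Gt C)) : G × GL (Fin C.d) ℂ).2 : Matrix (Fin C.d) (Fin C.d) ℂ) =
      ((g : G × GL (Fin C.d) ℂ).2 : Matrix (Fin C.d) (Fin C.d) ℂ) * C.ρ (el n) := rfl
  rw [liftVal, liftVal, h1, show prG C (g * jN C n) = prG C g * n from rfl, mul_assoc,
    cosetMat_twist]

/-- The preimage of `y` in the group algebra of the covering group. -/
def ystar (y : MonoidAlgebra ℂ G) : MonoidAlgebra ℂ (Gs C) :=
  MonoidAlgebra.ofCoeff (Finsupp.equivFunOnFinite.symm fun s => liftVal C y (Quotient.out s))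

theorem ystar_coeff (y : MonoidAlgebra ℂ G) (g : Gt C) :
    (ystar C y).coeff (QuotientGroup.mk g) = liftVal C y g := by
  obtain ⟨⟨k, hk⟩, h⟩ := QuotientGroup.mk_out_eq_mul (Kt C) g
  obtain ⟨n, rfl⟩ := hk
  show liftVal C y (Quotient.out (QuotientGroup.mk g : Gs C)) = _
  rw [h, liftVal_jN]

theorem ystar_compat (y : MonoidAlgebra ℂ G) : Compat C hinv (ystar C y) := by
  intro t s hs
  obtain ⟨g, rfl⟩ := QuotientGroup.mk'_surjective (Kt C) t
  obtain ⟨k, hk, rfl⟩ := exists_of_mem_ker_prQ C hs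
  obtain ⟨c, hcp, hc⟩ := scalar_of_mem_ker C hk
  have hc0 : c ≠ 0 := by
    rintro rfl
    rw [zero_pow (Nat.mul_pos C.pos Nat.card_pos).ne'] at hcp
    exact zero_ne_one hcp
  have hk1 : prG C k = 1 := hk
  have hkinv : (((k⁻¹ : Gt C) : G × GL (Fin C.d) ℂ).2 : Matrix (Fin C.d) (Fin C.d) ℂ) = c⁻¹ • 1 := by
    have h : (((k⁻¹ : Gt C) : G × GL (Fin C.d) ℂ).2 : Matrix (Fin C.d) (Fin C.d) ℂ) *
        ((k : G × GL (Fin C.d) ℂ).2 : Matrix (Fin C.d) (Fin C.d) ℂ) = 1 := by simp
    rw [hc, mul_smul_comm, mul_one] at h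
    rw [← h, smul_smul, inv_mul_cancel₀ hc0, one_smul]
  rw [QuotientGroup.mk'_apply, ← QuotientGroup.mk_mul, ystar_coeff, ystar_coeff, phat_el, phat_el,
    ← phi_mul]
  have hphi : phi C k = c⁻¹ • C.ee := by
    rw [phi, hk1, el_one, one_mul, hkinv, map_smul, map_smul]; rfl
  have hval : liftVal C y (g * k) = c * liftVal C y g := by
    rw [liftVal, liftVal, map_mul, hk1, mul_one]
    simp [hc, Matrix.trace_smul, mul_div_assoc]
  rw [hval, hphi, mul_smul_comm, ee_comm C hinv, phi_ee C hinv, smul_smul, mul_comm c,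
    mul_assoc, mul_inv_cancel₀ hc0, mul_one]

/-- The preimage maps to `y`. -/
theorem phat_ystar {y : MonoidAlgebra ℂ G} (hy : IsCentralElem y) (hye : y * C.ee = y) :
    phat C hinv (ystar C y) = y := by
  classical
  have hker : Nat.card (QuotientGroup.mk' (Kt C)).ker = Nat.card N := by
    rw [QuotientGroup.ker_mk']
    exact (Nat.card_congr (MonoidHom.ofInjective (jN_injective C)).toEquiv).symm
  have hN0 : (Nat.card N : ℂ) ≠ 0 := Nat.cast_ne_zero.2 Nat.card_pos.ne'
  have h1 := sum_fibre_smul (QuotientGroup.mk'_surjective (Kt C))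
    fun s => (ystar C y).coeff s • phat C hinv (el s)
  rw [hker, ← phat_eq_sum] at h1
  set Z : ℂ := (Nat.card (prQ C).ker : ℂ) with hZ
  have hZ0 : Z ≠ 0 := Nat.cast_ne_zero.2 Nat.card_pos.ne'
  have h2 : ∀ g : Gt C, liftVal C y g • phi C g =
      Z⁻¹ • (el (prG C g) * emb N (C.ι (cosetMat C y (prG C g)))) := by
    intro g
    obtain ⟨c, hc⟩ := exists_scalar_mul_cosetMat C hy g
    have hval : liftVal C y g = Z⁻¹ * c := by
      rw [liftVal, hc, Matrix.trace_smul, Matrix.trace_one, Fintype.card_fin, smul_eq_mul, ← hZ]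
      field_simp [Nat.cast_ne_zero.2 C.pos.ne']
    have hA : c • (((g⁻¹ : Gt C) : G × GL (Fin C.d) ℂ).2 : Matrix (Fin C.d) (Fin C.d) ℂ) =
        cosetMat C y (prG C g) := by
      have h : (((g⁻¹ : Gt C) : G × GL (Fin C.d) ℂ).2 : Matrix (Fin C.d) (Fin C.d) ℂ) *
          ((g : G × GL (Fin C.d) ℂ).2 : Matrix (Fin C.d) (Fin C.d) ℂ) = 1 := by simp
      rw [← one_mul (cosetMat C y (prG C g)), ← h, mul_assoc, hc, mul_smul_comm, mul_one]
    rw [hval, mul_smul, phi, ← hA, map_smul, map_smul, mul_smul_comm]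
  have h3 := sum_fibre_smul (prG_surjective C hinv)
    fun x => el x * emb N (C.ι (cosetMat C y x))
  rw [← card_ker_eq C hinv, ← hZ] at h3
  have h4 : ∀ x, el x * emb N (C.ι (cosetMat C y x)) =
      ∑ n : N, y.coeff (x * n) • (el (x * (n : G)) * C.ee) := by
    intro x
    simp only [cosetMat, map_sum, map_smul, C.ι_ρ, Finset.mul_sum, mul_smul_comm, map_mul, emb_el]
    refine Finset.sum_congr rfl fun n _ => ?_
    rw [← Comp.ee, ← ee_comm C hinv, ← mul_assoc, el_mul]
  have h5 : ∑ x, el x * emb N (C.ι (cosetMat C y x)) = (Nat.card N : ℂ) • y := by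
    simp only [h4]
    rw [Finset.sum_comm]
    have : ∀ n : N, ∑ x : G, y.coeff (x * n) • (el (x * (n : G)) * C.ee) = y := fun n => by
      refine (Equiv.sum_comp (Equiv.mulRight (n : G)) fun x => y.coeff x • (el x * C.ee)).trans ?_
      conv_rhs => rw [← hye, eq_sum_el y, Finset.sum_mul]
      simp only [smul_mul_assoc]
    rw [Finset.sum_congr rfl fun n _ => this n, Finset.sum_const, Finset.card_univ,
      Nat.card_eq_fintype_card, Nat.cast_smul_eq_nsmul]
  simp only [QuotientGroup.mk'_apply, ystar_coeff, phat_el, h2] at h1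
  rw [← Finset.smul_sum, h3, smul_smul, inv_mul_cancel₀ hZ0, one_smul, h5] at h1
  exact (smul_right_injective _ hN0 h1).symm

include hinv in
/-- The preimage of a good idempotent is good. -/
theorem good_ystar [hp : Fact p.Prime] (hpM : (p : AlgInt) ∈ M) (hN : ¬ p ∣ Nat.card N)
    {y : MonoidAlgebra ℂ G} (hy : Good p y) (hye : y * C.ee = y) : Good p (ystar C y) := by
  have hc := ystar_compat C hinv y
  have hφ := phat_ystar C hinv hy.central hye
  refine ⟨?_, fun h => ?_, fun s hs => ?_⟩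
  · rw [← sub_eq_zero]
    refine Compat.eq_zero C hinv ((hc.mul_left C hinv _).sub C hinv hc) ?_
    rw [phat_sub, phat_mul, hφ, hy.idem, sub_self]
  · rw [← sub_eq_zero]
    refine Compat.eq_zero C hinv ((hc.mul_left C hinv _).sub C hinv (hc.mul_el C hinv h)) ?_
    rw [phat_sub, phat_mul, phat_mul, hφ, ← hy.central.commute, sub_self]
  · have h1 : p ∣ orderOf (prQ C s) := by
      obtain ⟨k, hk⟩ : ∃ k : (prQ C).ker, (k : Gs C) = s ^ orderOf (prQ C s) :=
        ⟨⟨_, by rw [MonoidHom.mem_ker, map_pow, pow_orderOf_eq_one]⟩, rfl⟩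
      have h2 : orderOf s ∣ orderOf (prQ C s) * Nat.card (prQ C).ker := by
        refine orderOf_dvd_of_pow_eq_one ?_
        rw [pow_mul, ← hk, ← SubmonoidClass.coe_pow, pow_card_eq_one', OneMemClass.coe_one]
      exact (hp.out.dvd_mul.1 (hs.trans h2)).resolve_right (not_dvd_card_ker_prQ C hpM hN)
    obtain ⟨g, rfl⟩ := QuotientGroup.mk'_surjective (Kt C) s
    rw [QuotientGroup.mk'_apply, ystar_coeff, liftVal]
    have h0 : cosetMat C y (prG C g) = 0 := Finset.sum_eq_zero fun n _ => by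
      rw [hy.preg _ (h1.trans ?_), zero_smul]
      rw [QuotientGroup.mk'_apply, prQ_mk,
        show (QuotientGroup.mk (prG C g) : G ⧸ N) = QuotientGroup.mk' N (prG C g * n) from
          QuotientGroup.eq.2 (by simp)]
      exact orderOf_map_dvd _ _
    rw [h0, mul_zero, Matrix.trace_zero, zero_div]

end CfsgLib.Blocks.GoodIdem
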