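import Cfsg.Agent.Lib.Blocks.Correspondence
import Cfsg.Agent.Lib.BlockOrth.DefectOrder

/-!
# Green's theorem: defect groups are Sylow intersections
-/

set_option linter.unusedSectionVars false
set_option linter.style.haveILetI false

namespace CfsgLib.Blocks

open Cfsg Chars

variable {k G : Type*} [Field k] [Group G] [Fintype G] {p : ℕ} [Fact p.Prime] [CharP k p]

/-- A sum of singles over a subgroup. -/
noncomputable def sumSubgroup (Z : Subgroup G) [Fintype Z] : MonoidAlgebra k G :=
  ∑ u : Z, MonoidAlgebra.single (u : G) 1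

theorem coeff_mul_sumSubgroup (Z : Subgroup G) [Fintype Z] (f : MonoidAlgebra k G) (g : G) :
    (f * sumSubgroup Z).coeff g = ∑ u : Z, f.coeff (g * u) := by
  classical
  rw [sumSubgroup, Finset.mul_sum]
  simp only [MonoidAlgebra.coeff_sum, Finsupp.finsetSum_apply]
  rw [← Equiv.sum_comp (Equiv.inv Z)]
  refine Finset.sum_congr rfl fun u _ => ?_
  simp

/-- An idempotent of `k[C]` commuting with `C` is not killed by the sum over a `p`-subgroup. -/
theorem mul_sumSubgroup_ne_zero {C Z : Subgroup G} [Fintype Z] (hZ : IsPGroup p Z) (hZC : Z ≤ C)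
    {b : MonoidAlgebra k G} (hb : b * b = b) (hb0 : b ≠ 0) (hsupp : ∀ g ∉ C, b.coeff g = 0)
    (hfix : IsFixedBy C b) : b * sumSubgroup Z ≠ 0 := by
  classical
  intro h0
  let V : Submodule k (MonoidAlgebra k G) :=
    { carrier := {m | b * m = m ∧ ∀ g ∉ C, m.coeff g = 0}
      zero_mem' := ⟨mul_zero b, fun g _ => by simp⟩
      add_mem' := fun {m n} hm hn => ⟨by rw [mul_add, hm.1, hn.1], fun g hg => by
        simp [hm.2 g hg, hn.2 g hg]⟩
      smul_mem' := fun c m hm => ⟨by rw [mul_smul_comm, hm.1], fun g hg => by simp [hm.2 g hg]⟩ }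
  haveI : Nontrivial V := ⟨⟨⟨b, hb, hsupp⟩, 0, fun h => hb0 (congrArg Subtype.val h)⟩⟩
  let ρ : Z →* Module.End k V :=
    { toFun := fun u =>
        { toFun := fun m => ⟨(m : MonoidAlgebra k G) * MonoidAlgebra.single ((u : G)⁻¹) 1,
            by rw [← mul_assoc, m.2.1], fun g hg => by
              have : g * (u : G) ∉ C := fun h => hg (by
                simpa using C.mul_mem h (C.inv_mem (hZC u.2)))
              simp [m.2.2 _ this]⟩
          map_add' := fun m n => Subtype.ext (add_mul _ _ _)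
          map_smul' := fun c m => Subtype.ext (smul_mul_assoc _ _ _) }
      map_one' := LinearMap.ext fun m => Subtype.ext (by
        simp [← MonoidAlgebra.one_def])
      map_mul' := fun u v => LinearMap.ext fun m => Subtype.ext (by
        show (m : MonoidAlgebra k G) * _ = (m : MonoidAlgebra k G) * _ * _
        rw [mul_assoc, MonoidAlgebra.single_mul_single, one_mul, Subgroup.coe_mul, mul_inv_rev]) }
  obtain ⟨m, hm0, hm⟩ := exists_fixed_ne_zero hZ ρ
  have hinv : ∀ (u : Z) (g : G), (m : MonoidAlgebra k G).coeff (g * u) =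
      (m : MonoidAlgebra k G).coeff g := by
    intro u g
    have h1 := congrArg (fun w : V => ((w : MonoidAlgebra k G)).coeff g) (hm u)
    simpa [ρ] using h1
  -- a transversal
  let rep : G → G := fun g => Quotient.out (QuotientGroup.mk g : G ⧸ Z)
  let h : MonoidAlgebra k G := MonoidAlgebra.ofCoeff (Finsupp.equivFunOnFinite.symm fun g =>
    if rep g = g then (m : MonoidAlgebra k G).coeff g else 0)
  have hh : ∀ g, h.coeff g = if rep g = g then (m : MonoidAlgebra k G).coeff g else 0 := fun g => by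
    simp [h]
  have hmul : h * sumSubgroup Z = (m : MonoidAlgebra k G) := by
    apply MonoidAlgebra.ext
    ext g
    rw [coeff_mul_sumSubgroup]
    obtain ⟨u₀, hu₀⟩ : ∃ u₀ : Z, g * u₀ = rep g := by
      have h1 : (QuotientGroup.mk g : G ⧸ Z) = QuotientGroup.mk (rep g) := (Quotient.out_eq _).symm
      exact ⟨⟨g⁻¹ * rep g, QuotientGroup.eq.1 h1⟩, mul_inv_cancel_left g _⟩
    have hrep : ∀ u : Z, rep (g * u) = rep g := fun u => by
      simp only [rep]
      rw [show (QuotientGroup.mk (g * (u : G)) : G ⧸ Z) = QuotientGroup.mk g from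
        QuotientGroup.eq.2 (by simp [mul_assoc, Z.inv_mem_iff])]
    rw [Finset.sum_eq_single u₀]
    · rw [hh, if_pos (by rw [hrep, hu₀]), hinv]
    · intro u _ hu
      rw [hh, if_neg]
      intro h1
      rw [hrep, ← hu₀] at h1
      exact hu (Subtype.ext (mul_left_cancel h1).symm)
    · simp
  have hhC : ∀ g ∉ C, h.coeff g = 0 := fun g hg => by
    rw [hh, m.2.2 g hg, ite_self]
  have hcomm : b * h = h * b := by
    have hsum : h = ∑ g, MonoidAlgebra.single g (h.coeff g) := by
      apply MonoidAlgebra.ext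
      ext g
      simp
    rw [hsum, Finset.mul_sum, Finset.sum_mul]
    refine Finset.sum_congr rfl fun g _ => ?_
    by_cases hg : g ∈ C
    · rw [show MonoidAlgebra.single g (h.coeff g) = h.coeff g • MonoidAlgebra.single g (1 : k) by
        simp, mul_smul_comm, smul_mul_assoc, ((isFixedBy_iff_commute.1 hfix) g hg).eq]
    · rw [hhC g hg]; simp
  apply hm0
  apply Subtype.ext
  show (m : MonoidAlgebra k G) = 0
  rw [← m.2.1, ← hmul, ← mul_assoc, hcomm, mul_assoc, h0, mul_zero]

end CfsgLib.Blocks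

namespace CfsgLib.Blocks

open Cfsg Chars BlockOrth

variable {G : Type*} [Group G] [Fintype G] {M : Ideal AlgInt} [M.IsPrime] {p : ℕ} [Fact p.Prime]

/-- Green's theorem. -/
theorem green_sylow_intersection (hpM : (p : AlgInt) ∈ M) {B : Set (IrrCharacter G)}
    (hB : IsPBlock M B) {D : Subgroup G} (hD : IsDefectGroup p M B D) (P : Sylow p G)
    (hDP : D ≤ P) :
    ∃ x : G, ¬ p ∣ orderOf x ∧ (∃ S : Sylow p (Subgroup.centralizer ({x} : Set G)),
      (S : Subgroup (Subgroup.centralizer ({x} : Set G))).map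
        (Subgroup.centralizer ({x} : Set G)).subtype = D) ∧
      (P : Subgroup G) ⊓ (P : Subgroup G).map (MulAut.conj x).toMonoidHom = D := by
  classical
  haveI := charP_resField (M := M) (Fact.out (p := p.Prime)) hpM
  have hDp : IsPGroup p D := IsDefectGroup.isPGroup hD
  set C := Subgroup.centralizer (D : Set G) with hC
  obtain ⟨g₀, hg₀, S₀, hS₀⟩ := id hD
  set E := blockIdem hB with hE
  set b := cut (C : Set G) E with hbdef
  have hg₀C : g₀ ∈ C := by rw [hC, hS₀]; exact mem_centralizer_sylow g₀ S₀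
  have hbb : b * b = b := by
    rw [hbdef, ← cut_mul p hDp (isFixedBy_blockIdem hB D) (isFixedBy_blockIdem hB D),
      blockIdem_mul_self]
  have hb0 : b ≠ 0 := fun h => hg₀.2.1 ((coeff_blockIdem_eq_zero_iff hB g₀).1 (by
    rw [← coeff_cut_of_mem (S := (C : Set G)) (blockIdem hB) hg₀C, ← hE, ← hbdef, h]; simp))
  have hsupp : ∀ g ∉ C, b.coeff g = 0 := fun g hg => coeff_cut_of_notMem _ hg
  -- invariance under the normalizer
  have hinv : ∀ q ∈ Subgroup.normalizer (D : Set G), ∀ g,
      b.coeff (q * g * q⁻¹) = b.coeff g := by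
    intro q hq g
    by_cases hg : g ∈ C
    · rw [coeff_cut_of_mem _ hg, coeff_cut_of_mem _ ((conj_mem_centralizer_iff hq g).2 hg)]
      exact isFixedBy_blockIdem hB ⊤ q (Subgroup.mem_top q) g
    · rw [hsupp g hg, hsupp _ (mt (conj_mem_centralizer_iff hq g).1 hg)]
  have hfix : IsFixedBy C b := fun u hu g =>
    hinv u (Subgroup.centralizer_le_normalizer _ hu) g
  -- coefficients of large centralizers vanish
  have hbig : ∀ (Q : Subgroup G), IsPGroup p Q → D < Q → ∀ c ∈ Subgroup.centralizer (Q : Set G),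
      E.coeff c = 0 := by
    intro Q hQ hlt c hc
    rw [hE, coeff_blockIdem_eq_zero_iff]
    by_contra hne
    obtain ⟨x, hx⟩ := IsDefectGroup.exists_map_conj_le hpM hB hD hQ hc hne
    exact absurd (card_le_of_map_conj_le hx)
      (not_le.2 (lt_of_le_of_ne (Subgroup.card_le_of_le hlt.le) fun h =>
        hlt.ne (Subgroup.eq_of_le_of_card_ge hlt.le h.ge)))
  -- it suffices to find a good element in the support
  suffices ∃ x ∈ C, E.coeff x ≠ 0 ∧
      (P : Subgroup G) ⊓ (P : Subgroup G).map (MulAut.conj x).toMonoidHom = D by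
    obtain ⟨x, hxC, hx, hPx⟩ := this
    refine ⟨x, ?_, ?_, hPx⟩
    · intro hd
      exact hx ((coeff_blockIdem_eq_zero_iff hB x).2 (by
        rw [blockCoeff_eq_zero_of_dvd Fact.out hpM hB hd]; exact MemLocalIdeal.zero'))
    · have hDx := le_centralizer_singleton hxC
      have hDp' : IsPGroup p (D.subgroupOf (Subgroup.centralizer ({x} : Set G))) :=
        hDp.of_equiv (Subgroup.subgroupOfEquivOfLe hDx).symm
      obtain ⟨S, hS⟩ := hDp'.exists_le_sylow
      refine ⟨S, ?_⟩
      have hle : D ≤ (S : Subgroup (Subgroup.centralizer ({x} : Set G))).map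
          (Subgroup.centralizer ({x} : Set G)).subtype := fun d hd =>
        ⟨⟨d, hDx hd⟩, hS (Subgroup.mem_subgroupOf.2 hd), rfl⟩
      by_contra hne
      exact hx (hbig _ (isPGroup_sylow_map _ S) (lt_of_le_of_ne hle (Ne.symm hne)) x
        (mem_centralizer_sylow x S))
  by_contra hcon
  push Not at hcon
  have hDQ : ∀ x ∈ C, D ≤ (P : Subgroup G) ⊓ (P : Subgroup G).map (MulAut.conj x).toMonoidHom :=
    fun x hx d hd => ⟨hDP hd, ⟨d, hDP hd, by
      rw [MulEquiv.coe_toMonoidHom, MulAut.conj_apply, ← Subgroup.mem_centralizer_iff.1 hx d hd,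
        mul_inv_cancel_right]⟩⟩
  set Z : Subgroup G := (P : Subgroup G) ⊓ C with hZdef
  haveI : Fintype Z := Fintype.ofFinite Z
  obtain ⟨v, hv⟩ : ∃ v, v = b * sumSubgroup (k := ResField M) Z := ⟨_, rfl⟩
  refine mul_sumSubgroup_ne_zero (P.isPGroup'.to_le inf_le_left) inf_le_right hbb hb0 hsupp hfix ?_
  rw [← hv]
  have hvsum : ∀ g, v.coeff g = ∑ u : Z, b.coeff (g * u) := fun g => by
    rw [hv, coeff_mul_sumSubgroup]
  have hvC : ∀ g ∉ C, v.coeff g = 0 := fun g hg => by
    rw [hvsum]
    refine Finset.sum_eq_zero fun u _ => hsupp _ fun h => hg ?_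
    simpa using C.mul_mem h (C.inv_mem u.2.2)
  apply MonoidAlgebra.ext
  ext x
  simp only [MonoidAlgebra.coeff_zero, Finsupp.coe_zero, Pi.zero_apply]
  by_cases hxC : x ∈ C
  swap
  · exact hvC x hxC
  set Q := (P : Subgroup G) ⊓ (P : Subgroup G).map (MulAut.conj x).toMonoidHom with hQ
  by_cases hQD : Q = D
  · -- all coefficients of the coset vanish
    rw [hvsum]
    refine Finset.sum_eq_zero fun u _ => ?_
    have hxu : x * u ∈ C := C.mul_mem hxC u.2.2
    rw [hbdef, coeff_cut_of_mem _ hxu]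
    by_contra hne
    refine hcon (x * u) hxu hne (Eq.trans ?_ hQD)
    rw [hQ]
    congr 1
    have hu : (P : Subgroup G).map (MulAut.conj (u : G)).toMonoidHom = P :=
      map_conj_eq_of_mem_normalizer (Subgroup.le_normalizer u.2.1)
    rw [← map_conj_map_conj, hu]
  · have hlt : D < Q := lt_of_le_of_ne (hDQ x hxC) (Ne.symm hQD)
    have hQp : IsPGroup p Q := P.isPGroup'.to_le inf_le_left
    obtain ⟨q, hqQ, hqN, hqD⟩ : ∃ q ∈ Q, q ∈ Subgroup.normalizer (D : Set G) ∧ q ∉ D := by
      haveI : Group.IsNilpotent Q := hQp.isNilpotent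
      have hlt' : D.subgroupOf Q < ⊤ := lt_top_iff_ne_top.2 fun h =>
        hlt.not_ge (Subgroup.subgroupOf_eq_top.1 h)
      obtain ⟨q, hq, hq'⟩ := SetLike.exists_of_lt (Group.normalizerCondition_of_isNilpotent _ hlt')
      refine ⟨q, q.2, ?_, fun h => hq' (Subgroup.mem_subgroupOf.2 h)⟩
      rw [Subgroup.mem_normalizer_iff] at hq ⊢
      intro d
      constructor
      · intro hd
        exact Subgroup.mem_subgroupOf.1 ((hq ⟨d, hlt.le hd⟩).1 (Subgroup.mem_subgroupOf.2 hd))
      · intro hd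
        have hdQ : d ∈ Q := by
          have := Q.mul_mem (Q.mul_mem (Q.inv_mem q.2) (hlt.le hd)) q.2
          simpa [mul_assoc] using this
        exact Subgroup.mem_subgroupOf.1 ((hq ⟨d, hdQ⟩).2 (Subgroup.mem_subgroupOf.2 hd))
    set R := Subgroup.zpowers q with hR
    have hRp : IsPGroup p R := hQp.to_le (Subgroup.zpowers_le.2 hqQ)
    have hRN : R ≤ Subgroup.normalizer (D : Set G) := Subgroup.zpowers_le.2 hqN
    have hRP : ∀ w ∈ R, w ∈ (P : Subgroup G) ∧ x⁻¹ * w * x ∈ (P : Subgroup G) := by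
      intro w hw
      have hwQ := (Subgroup.zpowers_le.2 hqQ) hw
      obtain ⟨t, ht, rfl⟩ := hwQ.2
      refine ⟨hwQ.1, ?_⟩
      rw [show x⁻¹ * (MulAut.conj x).toMonoidHom t * x = t by simp [mul_assoc]]
      exact ht
    -- `v` is invariant
    have hvinv : ∀ w ∈ R, ∀ g, v.coeff (w * g * (x⁻¹ * w⁻¹ * x)) = v.coeff g := by
      intro w hw g
      have hz : x⁻¹ * w⁻¹ * x * w ∈ Z := by
        refine ⟨mul_mem ?_ (hRP w hw).1, ?_⟩
        · have := (P : Subgroup G).inv_mem (hRP w hw).2
          simpa [mul_assoc] using this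
        · have h1 : w⁻¹ * x * w ∈ C := by
            have := (conj_mem_centralizer_iff (inv_mem (hRN hw)) x).2 hxC
            rwa [inv_inv] at this
          have := C.mul_mem (C.inv_mem hxC) h1
          simpa [mul_assoc] using this
      rw [hvsum, hvsum]
      let σ : Z ≃ Z :=
        { toFun := fun u => ⟨w⁻¹ * u * w, (P : Subgroup G).mul_mem ((P : Subgroup G).mul_mem ((P : Subgroup G).inv_mem (hRP w hw).1) u.2.1) (hRP w hw).1,
            by
              have := (conj_mem_centralizer_iff (inv_mem (hRN hw)) (u : G)).2 u.2.2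
              rwa [inv_inv] at this⟩
          invFun := fun u => ⟨w * u * w⁻¹, (P : Subgroup G).mul_mem ((P : Subgroup G).mul_mem (hRP w hw).1 u.2.1) ((P : Subgroup G).inv_mem (hRP w hw).1),
            (conj_mem_centralizer_iff (hRN hw) (u : G)).2 u.2.2⟩
          left_inv := fun u => Subtype.ext (by simp [mul_assoc])
          right_inv := fun u => Subtype.ext (by simp [mul_assoc]) }
      rw [← Equiv.sum_comp (σ.trans (Equiv.mulLeft ⟨_, hz⟩)) (fun u : Z => b.coeff (g * u))]
      refine Finset.sum_congr rfl fun u _ => ?_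
      rw [← hinv w (hRN hw) (g * ((σ.trans (Equiv.mulLeft ⟨_, hz⟩)) u : G))]
      congr 1
      simp [σ, mul_assoc]
    -- `v = b * v`
    have hbv : b * v = v := by rw [hv, ← mul_assoc, hbb]
    letI : MulAction R G :=
      { smul := fun w g => (w : G) * g * (x⁻¹ * (w : G)⁻¹ * x)
        one_smul := fun g => show (1 : G) * g * (x⁻¹ * (1 : G)⁻¹ * x) = g by group
        mul_smul := fun a c g => show ((a : G) * c) * g * (x⁻¹ * ((a : G) * c)⁻¹ * x) =
          (a : G) * ((c : G) * g * (x⁻¹ * (c : G)⁻¹ * x)) * (x⁻¹ * (a : G)⁻¹ * x) by group }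
    have hsum : v.coeff x = ∑ g, b.coeff (x * g⁻¹) * v.coeff g := by
      conv_lhs => rw [← hbv, coeff_mul_eq_sum]
      rw [← Equiv.sum_comp ((Equiv.inv G).trans (Equiv.mulLeft x))]
      refine Finset.sum_congr rfl fun g _ => ?_
      simp [mul_assoc]
    rw [hsum, sum_eq_sum_fixedPoints p hRp (fun g => b.coeff (x * g⁻¹) * v.coeff g)]
    · refine Finset.sum_eq_zero fun g hg => ?_
      by_cases hgC : g ∈ C
      · refine mul_eq_zero_of_left ?_ _
        have hc : x * g⁻¹ ∈ C := C.mul_mem hxC (C.inv_mem hgC)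
        rw [hbdef, coeff_cut_of_mem _ hc]
        refine hbig (D ⊔ R) (hQp.to_le (sup_le hlt.le (Subgroup.zpowers_le.2 hqQ))) ?_ _ ?_
        · refine lt_of_le_of_ne le_sup_left fun h => hqD ?_
          rw [h]
          exact Subgroup.mem_sup_right (Subgroup.mem_zpowers q)
        · rw [Subgroup.mem_centralizer_iff]
          intro d hd
          refine Subgroup.mem_centralizer_singleton_iff.1 ?_
          refine (sup_le (le_centralizer_singleton hc) ?_) hd
          rw [hR, Subgroup.zpowers_le, Subgroup.mem_centralizer_singleton_iff]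
          have h1 : (⟨q, Subgroup.mem_zpowers q⟩ : R) • g = g := (Finset.mem_filter.1 hg).2 _
          have h2 : q * g * (x⁻¹ * q⁻¹ * x) = g := h1
          symm
          calc x * g⁻¹ * q = x * (q * g * (x⁻¹ * q⁻¹ * x))⁻¹ * q := by rw [h2]
            _ = q * (x * g⁻¹) := by group
      · rw [hvC g hgC, mul_zero]
    · intro w g
      show b.coeff (x * ((w : G) * g * (x⁻¹ * (w : G)⁻¹ * x))⁻¹) * v.coeff _ = _
      rw [show x * ((w : G) * g * (x⁻¹ * (w : G)⁻¹ * x))⁻¹ = (w : G) * (x * g⁻¹) * (w : G)⁻¹ by group,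
        hinv _ (hRN w.2)]
      exact congrArg _ (hvinv w w.2 g)

end CfsgLib.Blocks
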