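import Cfsg.Agent.Lib.Blocks.CoveringUnique
import Cfsg.Agent.Lib.Blocks.DefectTransport
import Cfsg.Agent.Lib.Blocks.ExtendedFirstMain
import Cfsg.Agent.Lib.Blocks.FongPairs

/-!
# The correspondence of covering blocks at a defect group of the covered block
-/

set_option linter.unusedSectionVars false
set_option linter.style.haveILetI false

namespace CfsgLib.Blocks

open Cfsg Chars

variable {G : Type*} [Group G] [Fintype G] {M : Ideal AlgInt} [M.IsPrime] {p : ℕ} [Fact p.Prime]

/-- The Brauer map sends a block to its first main theorem correspondent. -/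
theorem cut_blockIdem_eq_local (hpM : (p : AlgInt) ∈ M) {D : Subgroup G} (hD : IsPGroup p D)
    {b : Set (IrrCharacter (Subgroup.normalizer (D : Set G)))} (hb : IsPBlock M b)
    (hdef : IsDefectGroup p M b (D.subgroupOf (Subgroup.normalizer (D : Set G))))
    {B : Set (IrrCharacter G)} (hind : IsInducedBlock M (Subgroup.normalizer (D : Set G)) b B) :
    cut (Subgroup.centralizer (D : Set G) : Set G) (blockIdem hind.2.1) = pairIdem hb := by
  classical
  haveI := charP_resField (M := M) (Fact.out (p := p.Prime)) hpM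
  have hCN : Subgroup.centralizer (D : Set G) ≤ Subgroup.normalizer (D : Set G) :=
    Subgroup.centralizer_le_normalizer _
  have hkey : ∀ (f : Set (IrrCharacter (Subgroup.centralizer (D : Set G)))) (hf : IsPBlock M f),
      pairIdem hf * cut (Subgroup.centralizer (D : Set G) : Set G) (blockIdem hind.2.1) =
        pairIdem hf * pairIdem hb := by
    intro f hf
    have hDf : IsBrauerPair p M D f := ⟨hD, hf⟩
    rcases (isBrauerPairOf_iff hpM hDf hind.2.1).2 with h | h
    · rw [h]
      have hp := (isBrauerPairOf_iff hpM hDf hind.2.1).1.2 h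
      obtain ⟨b2, hb2, hmul⟩ := exists_local_block hpM hD Subgroup.le_normalizer hCN le_rfl hf
      obtain rfl := first_main_unique hpM hD hind
        (isInducedBlock_of_pair hpM hD Subgroup.le_normalizer hCN le_rfl hp hb2 hmul) hdef
      exact hmul.symm
    · rw [h]
      refine ((pairIdem_mul_local hpM hD Subgroup.le_normalizer hCN le_rfl hf hb).resolve_left
        fun h2 => ?_).symm
      obtain ⟨B', hB', -⟩ := existsUnique_block_of_pair hpM hDf
      obtain rfl := IsInducedBlock.unique hind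
        (isInducedBlock_of_pair hpM hD Subgroup.le_normalizer hCN le_rfl hB' hb h2)
      exact pairIdem_ne_zero hf (((isBrauerPairOf_iff hpM hDf hind.2.1).1.1 hB').symm.trans h)
  rw [← one_mul (cut _ (blockIdem hind.2.1)), ← sum_pairIdem (M := M)
      (blockFinset M (Subgroup.centralizer (D : Set G))) rfl
      (fun e => if he : IsPBlock M e then pairIdem he else 0) (fun e he => dif_pos he),
    Finset.sum_mul]
  conv_rhs => rw [← one_mul (pairIdem hb), ← sum_pairIdem (M := M)
      (blockFinset M (Subgroup.centralizer (D : Set G))) rfl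
      (fun e => if he : IsPBlock M e then pairIdem he else 0) (fun e he => dif_pos he),
    Finset.sum_mul]
  refine Finset.sum_congr rfl fun f hf => ?_
  simp only [dif_pos (mem_blockFinset.1 hf)]
  exact hkey f _

/-- Induction inside `K` from a subgroup contained in it. -/
theorem isInducedBlock_of_In {K : Subgroup G} [Fintype K] {U : Subgroup K} {V : Subgroup G}
    (hV : V ≤ K) (hUV : ∀ h : K, h ∈ U ↔ (h : G) ∈ V) {c : Set (IrrCharacter V)}
    {f : Set (IrrCharacter K)} (h : IsInducedBlockIn M K V c f) :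
    IsInducedBlock M U (pullIrr (transIso hV hUV) '' c) f := by
  haveI := Fintype.ofFinite U
  haveI := Fintype.ofFinite V
  refine ⟨isPBlock_image_pullIrr _ h.1, h.2.1, ?_⟩
  rintro _ ⟨ξ, hξ, rfl⟩ χ hχ g
  have key : inducedCentralCharIn K V (ξ : V → ℂ) (g : G) =
      inducedCentralChar U (pullIrr (transIso hV hUV) ξ : U → ℂ) g := by
    unfold inducedCentralCharIn inducedCentralChar
    refine (finsum_mem_eq_of_bijOn (transIso hV hUV) ?_ fun v _ => ?_).symm
    · refine ⟨fun v hv => ?_, (transIso hV hUV).injective.injOn, fun k hk => ?_⟩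
      · obtain ⟨c, hc⟩ := isConj_iff.1 (IsConj.symm hv)
        exact ⟨c, congrArg Subtype.val hc⟩
      · obtain ⟨c, hc⟩ := hk
        refine ⟨(transIso hV hUV).symm k, IsConj.symm (isConj_iff.2 ⟨c, Subtype.ext ?_⟩),
          (transIso hV hUV).apply_symm_apply k⟩
        exact hc
    · simp only [pullIrr_apply, map_one]
  rw [← key]
  exact h.2.2 ξ hξ χ hχ g

variable {N : Subgroup G} [N.Normal] [Fintype N] {Q : Subgroup G}

/-- The truncation of the covered block is its correspondent. -/
theorem cut_pairIdem_eq_correspondent (hpM : (p : AlgInt) ∈ M) (hQ : IsPGroup p Q) (hQN : Q ≤ N)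
    {d : Set (IrrCharacter N)} (hd : IsPBlock M d)
    {e : Set (IrrCharacter (Subgroup.normalizer (Q : Set G) ⊓ N : Subgroup G))} (he : IsPBlock M e)
    (heQ : IsDefectGroup p M e (Q.subgroupOf (Subgroup.normalizer (Q : Set G) ⊓ N)))
    (hed : IsInducedBlockIn M N (Subgroup.normalizer (Q : Set G) ⊓ N) e d) :
    cut (Subgroup.centralizer (Q : Set G) : Set G) (pairIdem hd) = pairIdem he := by
  classical
  set U := Subgroup.normalizer ((Q.subgroupOf N : Subgroup N) : Set N) with hU
  have hUV : ∀ u : N, u ∈ U ↔ (u : G) ∈ Subgroup.normalizer (Q : Set G) ⊓ N := by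
    intro u
    rw [Subgroup.mem_inf, hU, Subgroup.mem_normalizer_iff, Subgroup.mem_normalizer_iff]
    refine ⟨fun h => ⟨fun y => ?_, u.2⟩, fun h y => ?_⟩
    · by_cases hy : y ∈ N
      · exact h ⟨y, hy⟩
      · refine ⟨fun hm => absurd (hQN hm) hy, fun hm => absurd ?_ hy⟩
        have := N.mul_mem (N.mul_mem (N.inv_mem u.2) (hQN hm)) u.2
        simpa [mul_assoc] using this
    · exact h.1 (y : G)
  haveI := Fintype.ofFinite U
  haveI := Fintype.ofFinite (Subgroup.normalizer (Q : Set G) ⊓ N : Subgroup G)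
  obtain ⟨he₁, hid⟩ := exists_transBlock_inv inf_le_right hUV he
  have hdef := isDefectGroup_pullIrr (transIso inf_le_right hUV) heQ
  rw [show (Q.subgroupOf (Subgroup.normalizer (Q : Set G) ⊓ N)).map
      (transIso inf_le_right hUV).symm.toMonoidHom = (Q.subgroupOf N).subgroupOf U by
    ext u
    constructor
    · rintro ⟨v, hv, rfl⟩
      exact hv
    · intro hu
      exact ⟨transIso inf_le_right hUV u, hu, (transIso inf_le_right hUV).symm_apply_apply u⟩] at hdef
  have key := cut_blockIdem_eq_local hpM (isPGroup_subgroupOf hQ hQN) he₁ hdef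
    (isInducedBlock_of_In inf_le_right hUV hed)
  have hUV' : ∀ u : N, u ∈ Subgroup.centralizer ((Q.subgroupOf N : Subgroup N) : Set N) ↔
      (u : G) ∈ Subgroup.centralizer (Q : Set G) ⊓ N := fun u =>
    (mem_centralizer_subgroupOf_iff hQN u).trans ⟨fun h => ⟨h, u.2⟩, And.left⟩
  rw [← cut_centralizer_pairIdem hd, pairIdem_eq_incl hd, ← incl_cut_trans inf_le_right hUV', hid]
  exact congrArg (incl M N) key

/-- Covering `d`, read at `Q`. -/
theorem covers_iff_cut (hpM : (p : AlgInt) ∈ M) (hQ : IsPGroup p Q) (hQN : Q ≤ N)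
    {d : Set (IrrCharacter N)} (hd : IsPBlock M d)
    {e : Set (IrrCharacter (Subgroup.normalizer (Q : Set G) ⊓ N : Subgroup G))} (he : IsPBlock M e)
    (heQ : IsDefectGroup p M e (Q.subgroupOf (Subgroup.normalizer (Q : Set G) ⊓ N)))
    (hed : IsInducedBlockIn M N (Subgroup.normalizer (Q : Set G) ⊓ N) e d)
    {B : Set (IrrCharacter G)} (hB : IsPBlock M B) :
    (∃ χ ∈ B, ∃ θ ∈ d, classInner (fun n : N => (χ : G → ℂ) n) (θ : N → ℂ) ≠ 0) ↔
      cut (Subgroup.centralizer (Q : Set G) : Set G) (blockIdem hB) * pairIdem he ≠ 0 := by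
  haveI := charP_resField (M := M) (Fact.out (p := p.Prime)) hpM
  have hid := cut_pairIdem_eq_correspondent hpM hQ hQN hd he heQ hed
  have hm : cut (Subgroup.centralizer (Q : Set G) : Set G) (blockIdem hB * pairIdem hd) =
      cut (Subgroup.centralizer (Q : Set G) : Set G) (blockIdem hB) * pairIdem he := by
    rw [cut_mul p hQ (isFixedBy_blockIdem hB Q) ((isFixedBy_pairIdem_self hd).mono hQN), hid]
  rw [← hm]
  constructor
  · intro h
    refine cut_mul_ne_zero_of_covered hpM hd hB (mul_ne_zero_of_covers hd hB h) hQ hQN ?_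
    rw [hid]
    exact pairIdem_ne_zero he
  · intro h
    exact covers_of_mul_ne_zero hd hB fun h0 => h (by rw [h0, cut_zero])

variable {c : Set (IrrCharacter (Subgroup.normalizer (Q : Set G)))}
  {e : Set (IrrCharacter (Subgroup.normalizer (Q : Set G) ⊓ N : Subgroup G))}

/-- Covering inside `N_G(Q)`, in the two languages. -/
theorem covers_local_iff [Fintype (Subgroup.normalizer (Q : Set G))]
    [Fintype (Subgroup.normalizer (Q : Set G) ⊓ N : Subgroup G)]
    [Fintype (N.subgroupOf (Subgroup.normalizer (Q : Set G)))]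
    (hUV : ∀ u : Subgroup.normalizer (Q : Set G), u ∈ N.subgroupOf (Subgroup.normalizer (Q : Set G)) ↔
      (u : G) ∈ Subgroup.normalizer (Q : Set G) ⊓ N) :
    (∃ ψ ∈ c, ∃ ξ ∈ e, classInner (fun l : ↥(Subgroup.normalizer (Q : Set G) ⊓ N) =>
      (ψ : ↥(Subgroup.normalizer (Q : Set G)) → ℂ) (Subgroup.inclusion inf_le_left l))
        (ξ : ↥(Subgroup.normalizer (Q : Set G) ⊓ N) → ℂ) ≠ 0) ↔
    ∃ ψ ∈ c, ∃ θ ∈ pullIrr (transIso inf_le_left hUV) '' e,
      classInner (fun n : N.subgroupOf (Subgroup.normalizer (Q : Set G)) =>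
        (ψ : ↥(Subgroup.normalizer (Q : Set G)) → ℂ) n) (θ : _ → ℂ) ≠ 0 := by
  have key : ∀ (ψ : IrrCharacter (Subgroup.normalizer (Q : Set G)))
      (ξ : IrrCharacter (Subgroup.normalizer (Q : Set G) ⊓ N : Subgroup G)),
      classInner (fun n : N.subgroupOf (Subgroup.normalizer (Q : Set G)) =>
        (ψ : ↥(Subgroup.normalizer (Q : Set G)) → ℂ) n)
          (pullIrr (transIso inf_le_left hUV) ξ : _ → ℂ) =
      classInner (fun l : ↥(Subgroup.normalizer (Q : Set G) ⊓ N) =>
        (ψ : ↥(Subgroup.normalizer (Q : Set G)) → ℂ) (Subgroup.inclusion inf_le_left l))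
          (ξ : ↥(Subgroup.normalizer (Q : Set G) ⊓ N) → ℂ) := by
    intro ψ ξ
    rw [Chars.inner_def, Chars.inner_def, Nat.card_congr (transIso inf_le_left hUV).toEquiv,
      ← Equiv.sum_comp (transIso inf_le_left hUV).toEquiv
        (fun l : ↥(Subgroup.normalizer (Q : Set G) ⊓ N) =>
          (ψ : ↥(Subgroup.normalizer (Q : Set G)) → ℂ) (Subgroup.inclusion inf_le_left l) *
            (starRingEnd ℂ) ((ξ : ↥(Subgroup.normalizer (Q : Set G) ⊓ N) → ℂ) l))]
    rfl
  constructor
  · rintro ⟨ψ, hψ, ξ, hξ, h⟩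
    exact ⟨ψ, hψ, _, ⟨ξ, hξ, rfl⟩, by rw [key]; exact h⟩
  · rintro ⟨ψ, hψ, _, ⟨ξ, hξ, rfl⟩, h⟩
    exact ⟨ψ, hψ, ξ, hξ, by rw [← key]; exact h⟩

/-- A block of `N_G(Q)` covering `e` has a defect group meeting `N` in `Q`, with a local block over
it. -/
theorem exists_local_of_covering (hpM : (p : AlgInt) ∈ M) (hQ : IsPGroup p Q) (hQN : Q ≤ N)
    [Fintype (Subgroup.normalizer (Q : Set G))]
    [Fintype (Subgroup.normalizer (Q : Set G) ⊓ N : Subgroup G)]
    (he : IsPBlock M e)
    (heQ : IsDefectGroup p M e (Q.subgroupOf (Subgroup.normalizer (Q : Set G) ⊓ N)))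
    (hc : IsPBlock M c)
    (hcov : ∃ ψ ∈ c, ∃ ξ ∈ e, classInner (fun l : ↥(Subgroup.normalizer (Q : Set G) ⊓ N) =>
      (ψ : ↥(Subgroup.normalizer (Q : Set G)) → ℂ) (Subgroup.inclusion inf_le_left l))
        (ξ : ↥(Subgroup.normalizer (Q : Set G) ⊓ N) → ℂ) ≠ 0) :
    ∃ D : Subgroup (Subgroup.normalizer (Q : Set G)), IsDefectGroup p M c D ∧
      D.map (Subgroup.normalizer (Q : Set G)).subtype ⊓ N = Q ∧
      Subgroup.normalizer (D.map (Subgroup.normalizer (Q : Set G)).subtype : Set G) ≤
        Subgroup.normalizer (Q : Set G) := by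
  classical
  haveI := Fintype.ofFinite (N.subgroupOf (Subgroup.normalizer (Q : Set G)))
  have hUV : ∀ u : Subgroup.normalizer (Q : Set G),
      u ∈ N.subgroupOf (Subgroup.normalizer (Q : Set G)) ↔
        (u : G) ∈ Subgroup.normalizer (Q : Set G) ⊓ N := fun u => ⟨fun h => ⟨u.2, h⟩, And.right⟩
  have hb := isPBlock_image_pullIrr (M := M) (transIso inf_le_left hUV) he
  have hdef := isDefectGroup_pullIrr (transIso inf_le_left hUV) heQ
  rw [show (Q.subgroupOf (Subgroup.normalizer (Q : Set G) ⊓ N)).map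
      (transIso inf_le_left hUV).symm.toMonoidHom =
        (Q.subgroupOf (Subgroup.normalizer (Q : Set G))).subgroupOf
          (N.subgroupOf (Subgroup.normalizer (Q : Set G))) by
    ext u
    constructor
    · rintro ⟨v, hv, rfl⟩
      exact hv
    · intro hu
      exact ⟨transIso inf_le_left hUV u, hu, (transIso inf_le_left hUV).symm_apply_apply u⟩] at hdef
  obtain ⟨D, hD, hDQ⟩ := exists_defect_inf_eq (N.subgroupOf (Subgroup.normalizer (Q : Set G))) hpM hb
    (fun u hu => hQN hu) hdef hc ((covers_local_iff hUV).1 hcov)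
  have hinf : D.map (Subgroup.normalizer (Q : Set G)).subtype ⊓ N = Q := by
    ext g
    constructor
    · rintro ⟨⟨u, hu, rfl⟩, hgN⟩
      exact hDQ.le ⟨hu, hgN⟩
    · intro hg
      have hgH : g ∈ Subgroup.normalizer (Q : Set G) := Subgroup.le_normalizer hg
      have := hDQ.ge (show (⟨g, hgH⟩ : Subgroup.normalizer (Q : Set G)) ∈
        Q.subgroupOf (Subgroup.normalizer (Q : Set G)) from hg)
      exact ⟨⟨_, this.1, rfl⟩, this.2⟩
  refine ⟨D, hD, hinf, fun x hx => ?_⟩
  rw [Subgroup.mem_normalizer_iff] at hx ⊢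
  intro g
  rw [← hinf, Subgroup.mem_inf, Subgroup.mem_inf]
  refine and_congr (hx g) ⟨fun h => ‹N.Normal›.conj_mem g h x, fun h => ?_⟩
  simpa [mul_assoc] using ‹N.Normal›.conj_mem _ h x⁻¹

/-- The Harris-Knörr correspondence. -/
theorem harris_knorr (hpM : (p : AlgInt) ∈ M) (hQ : IsPGroup p Q) (hQN : Q ≤ N)
    {d : Set (IrrCharacter N)} (hd : IsPBlock M d) [Fintype (Subgroup.normalizer (Q : Set G))]
    [Fintype (Subgroup.normalizer (Q : Set G) ⊓ N : Subgroup G)]
    (he : IsPBlock M e)
    (heQ : IsDefectGroup p M e (Q.subgroupOf (Subgroup.normalizer (Q : Set G) ⊓ N)))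
    (hed : IsInducedBlockIn M N (Subgroup.normalizer (Q : Set G) ⊓ N) e d) :
    (∀ c : Set (IrrCharacter (Subgroup.normalizer (Q : Set G))), IsPBlock M c →
      (∃ ψ ∈ c, ∃ ξ ∈ e, classInner (fun l : ↥(Subgroup.normalizer (Q : Set G) ⊓ N) =>
        (ψ : ↥(Subgroup.normalizer (Q : Set G)) → ℂ) (Subgroup.inclusion inf_le_left l))
          (ξ : ↥(Subgroup.normalizer (Q : Set G) ⊓ N) → ℂ) ≠ 0) →
      ∃! B : Set (IrrCharacter G), IsInducedBlock M (Subgroup.normalizer (Q : Set G)) c B ∧
        (∃ χ ∈ B, ∃ θ ∈ d, classInner (fun n : N => (χ : G → ℂ) n) (θ : N → ℂ) ≠ 0)) ∧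
    (∀ B : Set (IrrCharacter G), IsPBlock M B →
      (∃ χ ∈ B, ∃ θ ∈ d, classInner (fun n : N => (χ : G → ℂ) n) (θ : N → ℂ) ≠ 0) →
      ∃! c : Set (IrrCharacter (Subgroup.normalizer (Q : Set G))), (IsPBlock M c ∧
        ∃ ψ ∈ c, ∃ ξ ∈ e, classInner (fun l : ↥(Subgroup.normalizer (Q : Set G) ⊓ N) =>
          (ψ : ↥(Subgroup.normalizer (Q : Set G)) → ℂ) (Subgroup.inclusion inf_le_left l))
            (ξ : ↥(Subgroup.normalizer (Q : Set G) ⊓ N) → ℂ) ≠ 0) ∧
        IsInducedBlock M (Subgroup.normalizer (Q : Set G)) c B) := by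
  classical
  haveI := charP_resField (M := M) (Fact.out (p := p.Prime)) hpM
  haveI := Fintype.ofFinite (N.subgroupOf (Subgroup.normalizer (Q : Set G)))
  have hCH : Subgroup.centralizer (Q : Set G) ≤ Subgroup.normalizer (Q : Set G) :=
    Subgroup.centralizer_le_normalizer _
  have hUV : ∀ u : Subgroup.normalizer (Q : Set G),
      u ∈ N.subgroupOf (Subgroup.normalizer (Q : Set G)) ↔
        (u : G) ∈ Subgroup.normalizer (Q : Set G) ⊓ N := fun u => ⟨fun h => ⟨u.2, h⟩, And.right⟩
  obtain ⟨he', hid⟩ := exists_transBlock_inv inf_le_left hUV he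
  have hcovmul : ∀ {c : Set (IrrCharacter (Subgroup.normalizer (Q : Set G)))} (hc : IsPBlock M c),
      (∃ ψ ∈ c, ∃ ξ ∈ e, classInner (fun l : ↥(Subgroup.normalizer (Q : Set G) ⊓ N) =>
        (ψ : ↥(Subgroup.normalizer (Q : Set G)) → ℂ) (Subgroup.inclusion inf_le_left l))
          (ξ : ↥(Subgroup.normalizer (Q : Set G) ⊓ N) → ℂ) ≠ 0) ↔
        pairIdem hc * pairIdem he ≠ 0 := by
    intro c hc
    rw [covers_local_iff hUV, hid, pairIdem_eq_incl hc, ← map_mul, Ne,
      map_eq_zero_iff _ incl_injective]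
    exact ⟨mul_ne_zero_of_covers he' hc, covers_of_mul_ne_zero he' hc⟩
  have hexists : ∀ {X : MonoidAlgebra (ResField M) G}, X ≠ 0 →
      ∃ (f : Set (IrrCharacter (Subgroup.centralizer (Q : Set G)))) (hf : IsPBlock M f),
        pairIdem hf * X ≠ 0 := by
    intro X hX
    by_contra hcon
    push Not at hcon
    apply hX
    rw [← one_mul X, ← sum_pairIdem (M := M) (blockFinset M (Subgroup.centralizer (Q : Set G))) rfl
      (fun e => if he : IsPBlock M e then pairIdem he else 0) (fun e he => dif_pos he),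
      Finset.sum_mul]
    refine Finset.sum_eq_zero fun f hf => ?_
    rw [dif_pos (mem_blockFinset.1 hf)]
    exact hcon f _
  refine ⟨fun c hc hcov => ?_, fun B hB hcov => ?_⟩
  · obtain ⟨B, hind⟩ := exists_isInducedBlock hpM hQ Subgroup.le_normalizer hCH le_rfl hc
    refine ⟨B, ⟨hind, ?_⟩, fun B' hB' => IsInducedBlock.unique hB'.1 hind⟩
    rw [covers_iff_cut hpM hQ hQN hd he heQ hed hind.2.1]
    obtain ⟨f, hf, hne⟩ := hexists ((hcovmul hc).1 hcov)
    rw [← mul_assoc] at hne
    have h1 := (pairIdem_mul_local hpM hQ Subgroup.le_normalizer hCH le_rfl hf hc).resolve_right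
      fun h0 => hne (by rw [h0, zero_mul])
    rw [h1] at hne
    obtain ⟨B', hB', -⟩ := existsUnique_block_of_pair hpM (⟨hQ, hf⟩ : IsBrauerPair p M Q f)
    obtain rfl := IsInducedBlock.unique hind
      (isInducedBlock_of_pair hpM hQ Subgroup.le_normalizer hCH le_rfl hB' hc h1)
    intro h0
    apply hne
    rw [← (isBrauerPairOf_iff hpM hB'.1 hind.2.1).1.1 hB', mul_assoc, h0, mul_zero]
  · have hcut := (covers_iff_cut hpM hQ hQN hd he heQ hed hB).1 hcov
    obtain ⟨f, hf, hne⟩ := hexists hcut
    rw [← mul_assoc] at hne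
    have hiff := isBrauerPairOf_iff hpM (⟨hQ, hf⟩ : IsBrauerPair p M Q f) hB
    have h2 := hiff.2.resolve_right fun h0 => hne (by rw [h0, zero_mul])
    rw [h2] at hne
    obtain ⟨c, hc, h1⟩ := exists_local_block hpM hQ Subgroup.le_normalizer hCH le_rfl hf
    have hind := isInducedBlock_of_pair hpM hQ Subgroup.le_normalizer hCH le_rfl (hiff.1.2 h2) hc h1
    have hcv := (hcovmul hc).2 fun h0 => hne (by
      rw [← h1, mul_assoc, h0, mul_zero])
    refine ⟨c, ⟨⟨hc, hcv⟩, hind⟩, ?_⟩
    rintro c' ⟨⟨hc', hcv'⟩, hind'⟩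
    obtain ⟨D, hD, hDN, hDH⟩ := exists_local_of_covering hpM hQ hQN he heQ hc hcv
    obtain ⟨D', hD', hDN', hDH'⟩ := exists_local_of_covering hpM hQ hQN he heQ hc' hcv'
    have step : ∀ (c : Set (IrrCharacter (Subgroup.normalizer (Q : Set G)))) (D : Subgroup (Subgroup.normalizer (Q : Set G))), IsDefectGroup p M c D →
        IsPBlock M c → IsInducedBlock M (Subgroup.normalizer (Q : Set G)) c B →
        ∀ (hDH : Subgroup.normalizer (D.map (Subgroup.normalizer (Q : Set G)).subtype : Set G) ≤ (Subgroup.normalizer (Q : Set G))),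
        ∃ α : Set (IrrCharacter (Subgroup.normalizer (D.map (Subgroup.normalizer (Q : Set G)).subtype : Set G))),
          IsDefectGroup p M α ((D.map (Subgroup.normalizer (Q : Set G)).subtype).subgroupOf
            (Subgroup.normalizer (D.map (Subgroup.normalizer (Q : Set G)).subtype : Set G))) ∧
          IsInducedBlock M ((Subgroup.normalizer (D.map (Subgroup.normalizer (Q : Set G)).subtype : Set G)).subgroupOf (Subgroup.normalizer (Q : Set G)))
            (pullIrr (Subgroup.subgroupOfEquivOfLe hDH) '' α) c ∧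
          IsInducedBlock M (Subgroup.normalizer (D.map (Subgroup.normalizer (Q : Set G)).subtype : Set G)) α B := by
      intro c D hD hc hind hDH
      haveI := Fintype.ofFinite (Subgroup.normalizer (D.map (Subgroup.normalizer (Q : Set G)).subtype : Set G))
      haveI := Fintype.ofFinite ((Subgroup.normalizer (D.map (Subgroup.normalizer (Q : Set G)).subtype : Set G)).subgroupOf (Subgroup.normalizer (Q : Set G)))
      have hle : D ≤ (Subgroup.normalizer (D.map (Subgroup.normalizer (Q : Set G)).subtype : Set G)).subgroupOf (Subgroup.normalizer (Q : Set G)) := fun u hu =>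
        Subgroup.mem_subgroupOf.2 (Subgroup.le_normalizer ⟨u, hu, rfl⟩)
      have hCle : Subgroup.centralizer (D : Set (Subgroup.normalizer (Q : Set G))) ≤
          (Subgroup.normalizer (D.map (Subgroup.normalizer (Q : Set G)).subtype : Set G)).subgroupOf (Subgroup.normalizer (Q : Set G)) := fun u hu => by
        refine Subgroup.mem_subgroupOf.2 (Subgroup.centralizer_le_normalizer _ ?_)
        rw [Subgroup.mem_centralizer_iff]
        rintro _ ⟨v, hv, rfl⟩
        exact congrArg Subtype.val (Subgroup.mem_centralizer_iff.1 hu v hv)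
      have hNle : (Subgroup.normalizer (D.map (Subgroup.normalizer (Q : Set G)).subtype : Set G)).subgroupOf (Subgroup.normalizer (Q : Set G)) ≤
          Subgroup.normalizer (D : Set (Subgroup.normalizer (Q : Set G))) := by
        intro u hu
        rw [Subgroup.mem_normalizer_iff]
        intro v
        have := (Subgroup.mem_normalizer_iff.1 (Subgroup.mem_subgroupOf.1 hu)) (v : G)
        constructor
        · intro hv
          obtain ⟨w, hw, hwe⟩ := this.1 ⟨v, hv, rfl⟩
          rwa [show u * v * u⁻¹ = w from Subtype.ext (by simpa using hwe.symm)]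
        · intro hv
          obtain ⟨w, hw, hwe⟩ := this.2 ⟨_, hv, by simp⟩
          rwa [show v = w from Subtype.ext (by simpa using hwe.symm)]
      obtain ⟨b', hb'D, hb'⟩ := extended_first_main_exists hpM hc hD hle hCle hNle
      refine ⟨pullIrr (Subgroup.subgroupOfEquivOfLe hDH).symm '' b', ?_, ?_, ?_⟩
      · have h := isDefectGroup_pullIrr (Subgroup.subgroupOfEquivOfLe hDH).symm hb'D
        rw [MulEquiv.symm_symm] at h
        convert h using 1
        ext u
        constructor
        · intro hu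
          obtain ⟨v, hv, hve⟩ := Subgroup.mem_subgroupOf.1 hu
          refine ⟨(Subgroup.subgroupOfEquivOfLe hDH).symm u, ?_,
            (Subgroup.subgroupOfEquivOfLe hDH).apply_symm_apply u⟩
          refine Subgroup.mem_subgroupOf.2 ?_
          rwa [show (((Subgroup.subgroupOfEquivOfLe hDH).symm u : _) : (Subgroup.normalizer (Q : Set G))) = v from
            Subtype.ext hve.symm]
        · rintro ⟨v, hv, rfl⟩
          exact Subgroup.mem_subgroupOf.2 ⟨_, Subgroup.mem_subgroupOf.1 hv, rfl⟩
      · rw [Set.image_image]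
        simp only [pullIrr_symm, Set.image_id']
        exact hb'
      · refine IsInducedBlock.trans' hDH ?_ hind (isPBlock_image_pullIrr _ hb'.1)
        rw [Set.image_image]
        simp only [pullIrr_symm, Set.image_id']
        exact hb'
    obtain ⟨α, hαD, hαc, hαB⟩ := step c D hD hc hind hDH
    obtain ⟨α', hαD', -, hαB'⟩ := step c' D' hD' hc' hind' hDH'
    have hDp : IsPGroup p (D.map (Subgroup.normalizer (Q : Set G)).subtype : Subgroup G) :=
      (IsDefectGroup.isPGroup hD).map _
    have hDp' : IsPGroup p (D'.map (Subgroup.normalizer (Q : Set G)).subtype : Subgroup G) :=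
      (IsDefectGroup.isPGroup hD').map _
    have hBD : IsDefectGroup p M B (D.map (Subgroup.normalizer (Q : Set G)).subtype) := by
      obtain ⟨B', -, h', hi⟩ := first_main_induced hpM hDp hαB.1 hαD
      rwa [IsInducedBlock.unique hαB hi]
    have hBD' : IsDefectGroup p M B (D'.map (Subgroup.normalizer (Q : Set G)).subtype) := by
      obtain ⟨B', -, h', hi⟩ := first_main_induced hpM hDp' hαB'.1 hαD'
      rwa [IsInducedBlock.unique hαB' hi]
    obtain ⟨x, hx⟩ := IsDefectGroup.exists_conj_eq hpM hB hBD hBD'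
    have hxH : x ∈ (Subgroup.normalizer (Q : Set G)) := by
      rw [Subgroup.mem_normalizer_iff]
      intro g
      conv_rhs => rw [← hDN', ← hx]
      conv_lhs => rw [← hDN]
      rw [Subgroup.mem_inf, Subgroup.mem_inf]
      refine and_congr ⟨fun h => ⟨g, h, rfl⟩, ?_⟩ ⟨fun h => ‹N.Normal›.conj_mem g h x, fun h => ?_⟩
      · rintro ⟨y, hy, hye⟩
        have : y = g := by simpa using hye
        rwa [← this]
      · simpa [mul_assoc] using ‹N.Normal›.conj_mem _ h x⁻¹
    have hDD : D.map (MulAut.conj (⟨x, hxH⟩ : (Subgroup.normalizer (Q : Set G)))).toMonoidHom = D' := by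
      apply Subgroup.map_injective (Subgroup.normalizer (Q : Set G)).subtype_injective
      rw [← hx, Subgroup.map_map, Subgroup.map_map]
      rfl
    have hDc' : IsDefectGroup p M c' D := by
      have h := IsDefectGroup.map_conj hD' (⟨x, hxH⟩ : (Subgroup.normalizer (Q : Set G)))⁻¹ hc'
      rwa [← hDD, map_conj_map_conj, inv_mul_cancel, map_conj_one] at h
    obtain ⟨α'', hαD'', hαc'', hαB''⟩ := step c' D hDc' hc' hind' hDH
    obtain rfl := first_main_unique hpM hDp hαB hαB'' hαD
    exact IsInducedBlock.unique hαc'' hαc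

end CfsgLib.Blocks
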