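import Cfsg.Agent.Lib.Blocks.NilpotentPairs
import Cfsg.Agent.Lib.BlockOrth.ContribAverage
import Mathlib.Analysis.SpecialFunctions.Log.Basic

/-!
# The local norms of a character of height zero of a nilpotent block are all one
-/

set_option linter.unusedSectionVars false
set_option linter.style.haveILetI false

namespace CfsgLib.Blocks

open Cfsg Chars BlockOrth
open scoped ComplexConjugate

variable {G : Type*} [Group G] [Fintype G] {M : Ideal AlgInt} [M.IsPrime] {p : ℕ} [Fact p.Prime]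
variable {B : Set (IrrCharacter G)} {P : Subgroup G}
  {e : Set (IrrCharacter (Subgroup.centralizer (P : Set G)))}

open scoped Classical in
theorem secPair_eq_contrib (hpM : (p : AlgInt) ∈ M) {x : G} {Q : Subgroup G}
    (hQ : Q = Subgroup.zpowers x) [Fintype (Subgroup.centralizer (Q : Set G))]
    [Fintype (IrrCharacter (Subgroup.centralizer (Q : Set G)))]
    {b : Set (IrrCharacter (Subgroup.centralizer (Q : Set G)))} [DecidablePred (· ∈ b)]
    (hb : IsPBlock M b) (χ : IrrCharacter G) :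
    ((p ^ blockDefect p b : ℕ) : ℂ) * secPair p x ⟨Q, b⟩ (χ : G → ℂ) (χ : G → ℂ) =
      (Nat.card (Subgroup.centralizer (Q : Set G)) : ℂ) * contrib p b x χ χ := by
  subst hQ
  have hcl := isClassFunction_secFun_zpowers (isClassFunction_irr χ) x
  rw [contrib_eq_inner hpM (mem_centralizer_zpowers_iff x) hb,
    ← inner_self_pRegularPart_blockPart hpM hb hcl, mul_left_comm]
  congr 1
  rw [inner_def, ← mul_assoc, mul_inv_cancel₀ (card_ne_zero _), one_mul]
  have hmem : ∀ y : G, y ∈ Subgroup.centralizer (Subgroup.zpowers x : Set G) ↔ Commute x y :=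
    fun y => (mem_centralizer_zpowers_iff x y).trans eq_comm
  rw [secPair]
  refine Finset.sum_bij_ne_zero (fun y hy _ => (⟨y, (hmem y).2 (Finset.mem_filter.1 hy).2.1⟩ :
      Subgroup.centralizer (Subgroup.zpowers x : Set G))) (fun _ _ _ => Finset.mem_univ _)
    (fun y _ _ z _ _ h => congrArg Subtype.val h) (fun k _ hk => ?_) (fun y hy _ => ?_)
  · have hkr : ¬ p ∣ orderOf k := fun h => hk (by
      rw [pRegularPart_apply, if_neg (not_not.2 h), zero_mul])
    refine ⟨k, Finset.mem_filter.2 ⟨Finset.mem_univ _, (hmem k).1 k.2,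
      by rwa [Subgroup.orderOf_coe]⟩, ?_, rfl⟩
    rw [pRegularPart_apply, if_pos hkr, ← secVal_eq_blockPart (isClassFunction_irr χ)] at hk
    exact hk
  · have hr : ¬ p ∣ orderOf (⟨y, (hmem y).2 (Finset.mem_filter.1 hy).2.1⟩ :
        Subgroup.centralizer (Subgroup.zpowers x : Set G)) := by
      rw [← Subgroup.orderOf_coe]
      exact (Finset.mem_filter.1 hy).2.2
    rw [pRegularPart_apply, if_pos hr, ← secVal_eq_blockPart (isClassFunction_irr χ)]

variable (M) in
/-- The norm of the part of `θ` at the pair of an element of the defect group. -/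
noncomputable def localNorm (p : ℕ) [Fact p.Prime] (c : BrauerPairIdx G) (θ : G → ℂ) (u : G) : ℂ :=
  (Nat.card (c.1 ⊓ Subgroup.centralizer (Subgroup.zpowers u : Set G) : Subgroup G) : ℂ) /
    (Nat.card (Subgroup.centralizer (Subgroup.zpowers u : Set G)) : ℂ) *
      secPair p u (pairBelow p M c u) θ θ

open scoped Classical in
theorem localNorm_eq_contrib (hpM : (p : AlgInt) ∈ M) (hnil : IsNilpotentBlock p M B)
    (hmax : IsMaximalBrauerPair p M B P e) {x : G} (hx : x ∈ P) {Q : Subgroup G}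
    [Fintype (Subgroup.centralizer (Q : Set G))]
    [Fintype (IrrCharacter (Subgroup.centralizer (Q : Set G)))]
    {b : Set (IrrCharacter (Subgroup.centralizer (Q : Set G)))} [DecidablePred (· ∈ b)]
    (hQ : Q = Subgroup.zpowers x) (hpair : pairBelow p M ⟨P, e⟩ x = ⟨Q, b⟩) (χ : IrrCharacter G) :
    localNorm M p ⟨P, e⟩ (χ : G → ℂ) x = contrib p b x χ χ := by
  have hle : Below p M ⟨Q, b⟩ ⟨P, e⟩ := hpair ▸ pairBelow_below (c := ⟨P, e⟩) hpM hmax.1.1 hx
  have hb := (below_isBrauerPair hle hmax.1.1).2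
  have hd := card_defectGroup hpM hb (isDefectGroup_of_nilpotent hpM hnil hmax hle)
  rw [Base.card_subgroupOf inf_le_right] at hd
  have h := secPair_eq_contrib hpM hQ hb χ
  subst hQ
  rw [localNorm, hpair, div_mul_eq_mul_div, hd, h,
    mul_div_cancel_left₀ _ (Nat.cast_ne_zero.2 Nat.card_pos.ne')]

open scoped Classical in
/-- The properties of the local norms of a character of height zero. -/
theorem localNorm_props (hpM : (p : AlgInt) ∈ M) (hnil : IsNilpotentBlock p M B)
    (hmax : IsMaximalBrauerPair p M B P e) {χ : IrrCharacter G} (hχ : χ ∈ B)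
    (h0 : blockHeight p B (χ : G → ℂ) = 0) {x : G} (hx : x ∈ P) {N : ℕ} [NeZero N]
    (hN : x ^ N = 1) :
    IsIntegral ℤ (localNorm M p ⟨P, e⟩ (χ : G → ℂ) x) ∧
    (∃ r : ℝ, 0 < r ∧ localNorm M p ⟨P, e⟩ (χ : G → ℂ) x = (r : ℂ)) ∧
    localNorm M p ⟨P, e⟩ (χ : G → ℂ) x ∈
      IntermediateField.adjoin ℚ ({CharApps.rootN N} : Set ℂ) ∧
    ∀ (k : ℕ) (σ : ℂ ≃+* ℂ), k.Coprime N → (∀ z : ℂ, z ^ N = 1 → σ z = z ^ k) →
      σ (localNorm M p ⟨P, e⟩ (χ : G → ℂ) x) = localNorm M p ⟨P, e⟩ (χ : G → ℂ) (x ^ k) := by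
  have hc : IsBrauerPair p M (⟨P, e⟩ : BrauerPairIdx G).1 (⟨P, e⟩ : BrauerPairIdx G).2 := hmax.1.1
  obtain ⟨b, hb⟩ : ∃ b, pairBelow p M ⟨P, e⟩ x = ⟨Subgroup.zpowers x, b⟩ := by
    unfold pairBelow
    split_ifs <;> exact ⟨_, rfl⟩
  haveI := Fintype.ofFinite (Subgroup.centralizer (Subgroup.zpowers x : Set G))
  haveI := irrFintype (Subgroup.centralizer (Subgroup.zpowers x : Set G))
  have hle : Below p M ⟨Subgroup.zpowers x, b⟩ ⟨P, e⟩ := hb ▸ pairBelow_below hpM hc hx
  have hH := mem_centralizer_zpowers_iff x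
  have hN' := localNorm_eq_contrib hpM hnil hmax hx rfl hb χ
  refine ⟨?_, ?_, ?_, fun k σ hk hσ => ?_⟩
  · rw [hN']; exact isIntegral_contrib hH χ χ
  · obtain ⟨r, hr, hr'⟩ := contrib_self_eq_ofReal hpM hH (below_isBrauerPair hle hc).2 χ
    refine ⟨r, lt_of_le_of_ne hr fun hr0 => ?_, hN'.trans hr'⟩
    have hd := (blockHeight_eq_zero_iff hχ).1 h0
    refine not_memLocalIdeal_contrib hpM hH (exists_pow_orderOf_of_mem hc.1 hx)
      (isInducedBlock_zpowers hpM ((isBrauerPairOf_iff_of_below hpM hle B).2 hmax.1)) hχ hχ hd hd ?_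
    rw [hr', ← hr0, Complex.ofReal_zero]
    exact MemLocalIdeal.zero'
  · rw [hN']; exact contrib_mem_field hH hN χ χ
  · have hk' : k.Coprime (orderOf x) := Nat.Coprime.coprime_dvd_right (orderOf_dvd_of_pow_eq_one hN) hk
    have hz : Subgroup.zpowers x = Subgroup.zpowers (x ^ k) := by
      refine le_antisymm (Subgroup.zpowers_le.2 ?_) (Subgroup.zpowers_le.2
        (Subgroup.npow_mem_zpowers x k))
      obtain ⟨j, hj⟩ := exists_pow_eq_self_of_coprime hk'
      have := Subgroup.npow_mem_zpowers (x ^ k) j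
      rwa [hj] at this
    rw [hN', contrib_galois hH hN hk' hσ,
      localNorm_eq_contrib hpM hnil hmax (P.pow_mem hx k) hz
        ((pairBelow_congr hz hpM hc hx).symm.trans hb) χ]

open scoped Classical in
/-- **Broué–Puig**: the local norms of a character of height zero of a nilpotent block are one. -/
theorem localNorm_eq_one (hpM : (p : AlgInt) ∈ M) (hnil : IsNilpotentBlock p M B)
    (hmax : IsMaximalBrauerPair p M B P e) {χ : IrrCharacter G} (hχ : χ ∈ B)
    (h0 : blockHeight p B (χ : G → ℂ) = 0) [Fintype P]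
    (hsum : ∑ u : P, localNorm M p ⟨P, e⟩ (χ : G → ℂ) (u : G) = (Nat.card P : ℂ)) (u : P) :
    localNorm M p ⟨P, e⟩ (χ : G → ℂ) (u : G) = 1 := by
  haveI : NeZero (Nat.card P) := ⟨Nat.card_pos.ne'⟩
  have hpow : ∀ v : P, (v : G) ^ Nat.card P = 1 := fun v =>
    congrArg Subtype.val (pow_card_eq_one' (x := v))
  have hp := fun v : P => localNorm_props hpM hnil hmax hχ h0 v.2 (hpow v)
  choose r hr hrv using fun v : P => (hp v).2.1
  obtain ⟨m, hm⟩ := CharApps.exists_int_of_rat
    (x := ∏ v : P, localNorm M p ⟨P, e⟩ (χ : G → ℂ) (v : G))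
    (IsIntegral.prod _ fun v _ => (hp v).1)
    (CharApps.exists_rat_of_fixed (N := Nat.card P) (prod_mem fun v _ => (hp v).2.2.1)
      fun k σ hk hσ => by
        rw [map_prod, Finset.prod_congr rfl fun v _ => (hp v).2.2.2 k σ hk hσ]
        exact Fintype.prod_equiv (powCoprime hk.symm) _ _ fun v => by
          rw [powCoprime_apply, SubgroupClass.coe_pow])
  have hprod : ((∏ v : P, r v : ℝ) : ℂ) = (m : ℂ) := by
    rw [hm, Complex.ofReal_prod]
    exact Finset.prod_congr rfl fun v _ => (hrv v).symm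
  have hprod' : (∏ v : P, r v) = (m : ℝ) := by exact_mod_cast hprod
  have hm1 : 1 ≤ ∏ v : P, r v := by
    have : (0 : ℝ) < (m : ℝ) := hprod' ▸ Finset.prod_pos fun v _ => hr v
    rw [hprod']
    exact_mod_cast (by exact_mod_cast this : (0 : ℤ) < m)
  have hs : ∑ v : P, r v = (Nat.card P : ℝ) := by
    have : ((∑ v : P, r v : ℝ) : ℂ) = ((Nat.card P : ℝ) : ℂ) := by
      rw [Complex.ofReal_sum, Finset.sum_congr rfl fun v _ => (hrv v).symm, hsum]
      simp
    exact_mod_cast this
  have hlog : 0 ≤ ∑ v : P, Real.log (r v) := by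
    rw [← Real.log_prod fun v _ => (hr v).ne']
    exact Real.log_nonneg hm1
  have hru : r u = 1 := by
    by_contra hne
    have hlt : ∑ v : P, Real.log (r v) < ∑ v : P, (r v - 1) := by
      refine Finset.sum_lt_sum (fun v _ => ?_)
        ⟨u, Finset.mem_univ _, Real.log_lt_sub_one_of_pos (hr u) hne⟩
      exact Real.log_le_sub_one_of_pos (hr v)
    rw [Finset.sum_sub_distrib, hs, Finset.sum_const, Finset.card_univ,
      ← Nat.card_eq_fintype_card, nsmul_eq_mul, mul_one, sub_self] at hlt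
    exact absurd hlt (not_lt.2 hlog)
  rw [hrv u, hru, Complex.ofReal_one]

end CfsgLib.Blocks
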