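import Cfsg.Agent.Lib.Blocks.InertialQuotient
import Cfsg.Agent.Lib.Blocks.MaximalCriterion
import Cfsg.Agent.Lib.Blocks.NilpotentNorm
import Cfsg.Agent.Lib.Blocks.NilpotentStar

/-!
# Heights of characters against the inertial index and the centre of the defect group
-/

set_option linter.unusedSectionVars false
set_option linter.style.haveILetI false

namespace CfsgLib.Blocks

open Cfsg Chars BlockOrth
open scoped ComplexConjugate

variable {G : Type*} [Group G] [Fintype G] {M : Ideal AlgInt} [M.IsPrime] {p : ℕ} [Fact p.Prime]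
  {B : Set (IrrCharacter G)} {P : Subgroup G}
  {e : Set (IrrCharacter (Subgroup.centralizer (P : Set G)))}

/-- Two maximal pairs over the same pair are conjugate by its centralizer, if that centralizer
contains both of them. -/
theorem exists_centralizer_conj_of_le (hpM : (p : AlgInt) ∈ M)
    (hmax : IsMaximalBrauerPair p M B P e) {Q : Subgroup G}
    (hPC : P ≤ Subgroup.centralizer (Q : Set G))
    {f : Set (IrrCharacter (Subgroup.centralizer (Q : Set G)))}
    (hle : Relation.ReflTransGen (NormalSubpairRel p M) (⟨Q, f⟩ : BrauerPairIdx G) ⟨P, e⟩)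
    {x : G} (hle' : Relation.ReflTransGen (NormalSubpairRel p M) (⟨Q, f⟩ : BrauerPairIdx G)
      (conjPair x ⟨P, e⟩))
    (hPC' : P.map (MulAut.conj x).toMonoidHom ≤ Subgroup.centralizer (Q : Set G)) :
    ∃ c ∈ Subgroup.centralizer (Q : Set G), c * x ∈ stabPair ⟨P, e⟩ := by
  haveI := Fintype.ofFinite (Subgroup.centralizer (Q : Set G))
  have hQP : Q ≤ P := below_le hle
  have hQf := below_isBrauerPair hle hmax.1.1
  have hCP : Subgroup.centralizer (P : Set G) ≤ (Subgroup.centralizer (Q : Set G)) := centralizer_antitone hQP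
  have hpair' : IsBrauerPairOf p M B (conjPair x ⟨P, e⟩).1 (conjPair x ⟨P, e⟩).2 :=
    isBrauerPairOf_conj (a := ⟨P, e⟩) hmax.1 x
  have hQP' : Q ≤ P.map (MulAut.conj x).toMonoidHom := below_le hle'
  have hCP' : Subgroup.centralizer
      ((P.map (MulAut.conj x).toMonoidHom : Subgroup G) : Set G) ≤ (Subgroup.centralizer (Q : Set G)) :=
    centralizer_antitone hQP'
  -- the defect of `f`
  have hsub : (Subgroup.centralizer (Q : Set G)) ≤ stabPair ⟨Q, f⟩ := centralizer_le_stabPair hQf.2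
  obtain ⟨y, -, hy⟩ := exists_conj_defect (b := ⟨P, e⟩) hpM hmax hle le_rfl hsub hQf.2 rfl
  have hd : p ^ blockDefect p f ≤ Nat.card P := by
    haveI := Fintype.ofFinite
      (Subgroup.centralizer ((Q.map (MulAut.conj y).toMonoidHom : Subgroup G) : Set G))
    have h1 := hy _ (centralizer_conj_iff Q y) _ (isPBlock_conjBlock hQf.2 y) rfl
    have h2 := BlockOrth.card_defectGroup hpM (isPBlock_conjBlock hQf.2 y) h1
    rw [Base.card_subgroupOf inf_le_right, conjBlock_eq, blockDefect_conjImage] at h2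
    rw [← h2]
    exact Subgroup.card_le_of_le inf_le_left
  have hdef : ∀ (b : BrauerPairIdx G), IsBrauerPair p M b.1 b.2 →
      Relation.ReflTransGen (NormalSubpairRel p M) ⟨Q, f⟩ b → ∀ hbC : b.1 ≤ (Subgroup.centralizer (Q : Set G)),
        Nat.card P ≤ Nat.card b.1 → IsDefectGroup p M f (b.1.subgroupOf (Subgroup.centralizer (Q : Set G))) := by
    intro b hb hbl hbC hcard
    obtain ⟨D, hD, hle₁⟩ := exists_defect_ge hpM hb hbl le_rfl hsub hQf.2 rfl (S := b.1) le_rfl hbC
    rwa [Subgroup.eq_of_le_of_card_ge hle₁ (by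
      rw [BlockOrth.card_defectGroup hpM hQf.2 hD, Base.card_subgroupOf hbC]
      exact hd.trans hcard)]
  have hd1 := hdef ⟨P, e⟩ hmax.1.1 hle hPC le_rfl
  have hd2 := hdef _ hpair'.1 hle' hPC' (Base.card_map_conj x P).symm.le
  -- both pairs are pairs of `f` in `(Subgroup.centralizer (Q : Set G))`
  have hp1 : IsBrauerPairOf p M f (P.subgroupOf (Subgroup.centralizer (Q : Set G))) (relBlock hPC hCP e) :=
    (isBrauerPairOf_rel_iff hpM hPC hCP hmax.1.1.1 hmax.1.1.2 hQf.2).2
      (IsNormalSubpair.mul_cut hpM (isNormalSubpair_of_below (b := ⟨P, e⟩) hpM hmax.1.1 hle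
        Relation.ReflTransGen.refl hQP (hPC.trans (centralizer_le_normalizer' Q))))
  have hp2 : IsBrauerPairOf p M f ((P.map (MulAut.conj x).toMonoidHom).subgroupOf (Subgroup.centralizer (Q : Set G)))
      (relBlock hPC' hCP' (conjBlock P x e)) :=
    (isBrauerPairOf_rel_iff hpM hPC' hCP' hpair'.1.1 hpair'.1.2 hQf.2).2
      (IsNormalSubpair.mul_cut hpM (isNormalSubpair_of_below (b := conjPair x ⟨P, e⟩) hpM hpair'.1
        hle' Relation.ReflTransGen.refl hQP' (hPC'.trans (centralizer_le_normalizer' Q))))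
  obtain ⟨c, hc⟩ := exists_conj_maximal (G := (Subgroup.centralizer (Q : Set G))) hpM (a := ⟨_, relBlock hPC hCP e⟩)
    (c := ⟨_, relBlock hPC' hCP' (conjBlock P x e)⟩) (isMaximal_of_defectGroup hpM hd1 hp1)
    (isMaximal_of_defectGroup hpM hd2 hp2)
  refine ⟨(c : G), c.2, ?_⟩
  have h1 := (conjPair_rel_iff hPC' hCP' hPC hCP (conjBlock P x e) e c).1 hc
  show conjPair ((c : G) * x) ⟨P, e⟩ = ⟨P, e⟩
  rw [← conjPair_mul]
  exact h1

/-- A block of `D C(D)` inducing `B` lies below a pair of `B`, whose stabilizer fixes it. -/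
theorem exists_pair_stab_le (hpM : (p : AlgInt) ∈ M) {D : Subgroup G}
    (hBD : IsDefectGroup p M B D) {H : Subgroup G} (hH : H = D ⊔ Subgroup.centralizer (D : Set G))
    {b : Set (IrrCharacter H)} (hind : IsInducedBlock M H b B) :
    ∃ f, IsMaximalBrauerPair p M B D f ∧ ∀ g ∈ stabPair (⟨D, f⟩ : BrauerPairIdx G),
      g ∈ Subgroup.normalizer (D : Set G) ∧ ∀ θ ∈ b, ∀ θ' : IrrCharacter H,
        (∀ h h' : H, (h' : G) = g * h * g⁻¹ → (θ' : H → ℂ) h' = (θ : H → ℂ) h) → θ' ∈ b := by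
  classical
  subst hH
  have hD : IsPGroup p D := IsDefectGroup.isPGroup hBD
  have hb : IsPBlock M b := hind.1
  have hCN := centralizer_le_normalizer' D
  have hHN : D ⊔ Subgroup.centralizer (D : Set G) ≤ Subgroup.normalizer (D : Set G) :=
    sup_le Subgroup.le_normalizer hCN
  obtain ⟨f, hf, hne⟩ : ∃ (f : Set (IrrCharacter (Subgroup.centralizer (D : Set G))))
      (hf : IsPBlock M f), pairIdem hf * pairIdem hb ≠ 0 := by
    by_contra hcon
    apply pairIdem_ne_zero hb
    rw [← one_mul (pairIdem hb), ← sum_pairIdem (M := M)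
      (blockFinset M (Subgroup.centralizer (D : Set G))) rfl
      (fun f => if hf : IsPBlock M f then pairIdem hf else 0) (fun f hf => dif_pos hf),
      Finset.sum_mul, Finset.sum_eq_zero]
    intro f hf
    rw [dif_pos (mem_blockFinset.1 hf)]
    by_contra h
    exact hcon ⟨f, _, h⟩
  obtain ⟨b', hb', hcoef⟩ := exists_block_sup hpM (⟨hD, hf⟩ : IsBrauerPair p M D f)
  have heq : pairIdem hf = pairIdem hb' := by
    apply MonoidAlgebra.ext
    ext g
    rw [pairIdem, pairIdem, coeff_redFun, coeff_redFun]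
    exact congrArg red (Subtype.ext (congrFun hcoef g).symm)
  have hbb : b' = b := by
    by_contra h
    exact hne (by rw [heq, pairIdem_mul_of_ne hb' hb h])
  subst hbb
  obtain ⟨B', hB', -⟩ := existsUnique_block_of_pair hpM (⟨hD, hf⟩ : IsBrauerPair p M D f)
  have hind' := isInducedBlock_of_pair hpM hD le_sup_left le_sup_right hHN hB' hb
    (by rw [← heq]; exact pairIdem_mul_self hf)
  obtain rfl := IsInducedBlock.unique hind hind'
  refine ⟨f, isMaximal_of_defectGroup hpM hBD hB', fun g hg => ?_⟩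
  obtain ⟨hgN, hst⟩ := (mem_stabPair_iff hf).1 hg
  have hgH : g ∈ Subgroup.normalizer ((D ⊔ Subgroup.centralizer (D : Set G) : Subgroup G) : Set G) := by
    rw [Subgroup.mem_normalizer_iff]
    have key : ∀ u ∈ Subgroup.normalizer (D : Set G), ∀ x ∈ D ⊔ Subgroup.centralizer (D : Set G),
        u * x * u⁻¹ ∈ D ⊔ Subgroup.centralizer (D : Set G) := fun u hu x hx => by
      have h1 : D ⊔ Subgroup.centralizer (D : Set G) ≤
          (D ⊔ Subgroup.centralizer (D : Set G)).comap (MulAut.conj u).toMonoidHom :=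
        sup_le (fun y hy => Subgroup.mem_sup_left ((Subgroup.mem_normalizer_iff.1 hu y).1 hy))
          fun y hy => Subgroup.mem_sup_right
            ((Subgroup.mem_normalizer_iff.1 (mem_normalizer_centralizer hu) y).1 hy)
      exact h1 hx
    refine fun x => ⟨key g hgN x, fun hx => ?_⟩
    have := key g⁻¹ (inv_mem hgN) _ hx
    rwa [show g⁻¹ * (g * x * g⁻¹) * g⁻¹⁻¹ = x by group] at this
  obtain ⟨-, hst'⟩ : StabilizesBlock (D ⊔ Subgroup.centralizer (D : Set G)) b' g :=
    (stabilizesBlock_iff hb).2 ⟨hgH, fun x => by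
      rw [hcoef]; exact ((stabilizesBlock_iff hf).1 hst).2 x⟩
  refine ⟨hgN, fun θ hθ θ' hθ' => ?_⟩
  obtain ⟨ξ, hξ, hc⟩ := hst' θ hθ
  suffices hh : θ' = ξ by exact hh ▸ hξ
  refine Subtype.ext (funext fun k => ?_)
  have hk : g⁻¹ * (k : G) * g ∈ D ⊔ Subgroup.centralizer (D : Set G) := by
    have := (Subgroup.mem_normalizer_iff.1 (inv_mem hgH) k).1 k.2
    rwa [inv_inv] at this
  rw [hθ' ⟨_, hk⟩ k (by show (k : G) = g * (g⁻¹ * k * g) * g⁻¹; group),
    hc ⟨_, hk⟩ k (by show (k : G) = g * (g⁻¹ * k * g) * g⁻¹; group)]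

variable (M) in
/-- The norm of the part of `θ` at the pair below `c` of a central element, against the scale
`q`. -/
noncomputable def centralNorm (p : ℕ) [Fact p.Prime] (c : BrauerPairIdx G) (θ : G → ℂ) (q : ℕ)
    (u : G) : ℂ :=
  (q : ℂ) * secPair p u (pairBelow p M c u) θ θ /
    (Nat.card (Subgroup.centralizer (Subgroup.zpowers u : Set G)) : ℂ)

open scoped Classical in
theorem centralNorm_eq_contrib (hpM : (p : AlgInt) ∈ M) (hmax : IsMaximalBrauerPair p M B P e)
    {x : G} (hxP : x ∈ P) (hxC : x ∈ Subgroup.centralizer (P : Set G)) {Q : Subgroup G}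
    [Fintype (Subgroup.centralizer (Q : Set G))]
    [Fintype (IrrCharacter (Subgroup.centralizer (Q : Set G)))]
    {b : Set (IrrCharacter (Subgroup.centralizer (Q : Set G)))} [DecidablePred (· ∈ b)]
    (hQ : Q = Subgroup.zpowers x) (hpair : pairBelow p M ⟨P, e⟩ x = ⟨Q, b⟩) (χ : IrrCharacter G) :
    centralNorm M p ⟨P, e⟩ (χ : G → ℂ) (p ^ blockDefect p B) x = contrib p b x χ χ := by
  have hle : Below p M ⟨Q, b⟩ ⟨P, e⟩ := hpair ▸ pairBelow_below (c := ⟨P, e⟩) hpM hmax.1.1 hxP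
  have hb := (below_isBrauerPair hle hmax.1.1).2
  have h := secPair_eq_contrib hpM hQ hb χ
  subst hQ
  rw [blockDefect_eq_of_central hpM hmax hxC hle] at h
  rw [centralNorm, hpair, h, mul_div_cancel_left₀ _ (Nat.cast_ne_zero.2 Nat.card_pos.ne')]

open scoped Classical in
/-- The properties of the norm at a central element, divided by the height. -/
theorem centralNorm_props (hM : IsPModular p M) (hpM : (p : AlgInt) ∈ M)
    (hmax : IsMaximalBrauerPair p M B P e) {χ : IrrCharacter G} (hχ : χ ∈ B) {x : G}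
    (hxP : x ∈ P) (hxC : x ∈ Subgroup.centralizer (P : Set G)) {N : ℕ} [NeZero N]
    (hN : x ^ N = 1) :
    (IsIntegral ℤ (centralNorm M p ⟨P, e⟩ (χ : G → ℂ) (p ^ blockDefect p B) x /
      (p : ℂ) ^ blockHeight p B (χ : G → ℂ))) ∧
    (∃ r : ℝ, 0 < r ∧ centralNorm M p ⟨P, e⟩ (χ : G → ℂ) (p ^ blockDefect p B) x /
      (p : ℂ) ^ blockHeight p B (χ : G → ℂ) = (r : ℂ)) ∧
    centralNorm M p ⟨P, e⟩ (χ : G → ℂ) (p ^ blockDefect p B) x /
      (p : ℂ) ^ blockHeight p B (χ : G → ℂ) ∈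
        IntermediateField.adjoin ℚ ({CharApps.rootN N} : Set ℂ) ∧
    ∀ (k : ℕ) (σ : ℂ ≃+* ℂ), k.Coprime N → (∀ z : ℂ, z ^ N = 1 → σ z = z ^ k) →
      σ (centralNorm M p ⟨P, e⟩ (χ : G → ℂ) (p ^ blockDefect p B) x /
        (p : ℂ) ^ blockHeight p B (χ : G → ℂ)) =
      centralNorm M p ⟨P, e⟩ (χ : G → ℂ) (p ^ blockDefect p B) (x ^ k) /
        (p : ℂ) ^ blockHeight p B (χ : G → ℂ) := by
  have hc : IsBrauerPair p M (⟨P, e⟩ : BrauerPairIdx G).1 (⟨P, e⟩ : BrauerPairIdx G).2 := hmax.1.1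
  obtain ⟨b, hb⟩ : ∃ b, pairBelow p M ⟨P, e⟩ x = ⟨Subgroup.zpowers x, b⟩ := by
    unfold pairBelow
    split_ifs <;> exact ⟨_, rfl⟩
  haveI := Fintype.ofFinite (Subgroup.centralizer (Subgroup.zpowers x : Set G))
  haveI := irrFintype (Subgroup.centralizer (Subgroup.zpowers x : Set G))
  haveI := irrFintype G
  have hle : Below p M ⟨Subgroup.zpowers x, b⟩ ⟨P, e⟩ := hb ▸ pairBelow_below hpM hc hxP
  have hH := mem_centralizer_zpowers_iff x
  have hbB : IsInducedBlock M (Subgroup.centralizer (Subgroup.zpowers x : Set G)) b B :=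
    isInducedBlock_zpowers hpM ((isBrauerPairOf_iff_of_below hpM hle B).2 hmax.1)
  have hord : ∃ k, orderOf x = p ^ k := exists_pow_orderOf_of_mem hc.1 hxP
  have hmaj : blockDefect p b = blockDefect p B := blockDefect_eq_of_central hpM hmax hxC hle
  rw [centralNorm_eq_contrib hpM hmax hxP hxC rfl hb χ]
  refine ⟨isIntegral_contrib_div hpM hH hbB.1 hmaj hχ χ, ?_, ?_, fun k σ hk hσ => ?_⟩
  · obtain ⟨r, hr, hr'⟩ := contrib_self_eq_ofReal hpM hH hbB.1 χ
    have hr0 : r ≠ 0 := fun hr0 => by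
      obtain ⟨ψ, hψ, h0⟩ := exists_blockHeight_eq_zero (p := p) hbB.2.1
      have h1 := sum_norm_sq_contrib_row hM hH hord hbB χ
      rw [hr', Complex.ofReal_re, hr0, mul_zero,
        Finset.sum_eq_zero_iff_of_nonneg fun _ _ => sq_nonneg _] at h1
      exact contrib_ne_zero_of_height_zero hpM hH hord hbB hmaj hχ hψ h0
        (norm_eq_zero.1 (pow_eq_zero_iff (n := 2) two_ne_zero |>.1
          (h1 ψ (Finset.mem_filter.2 ⟨Finset.mem_univ _, hψ⟩))))
    refine ⟨r / (p : ℝ) ^ blockHeight p B (χ : G → ℂ), div_pos (lt_of_le_of_ne hr (Ne.symm hr0))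
      (pow_pos (Nat.cast_pos.2 (Fact.out : p.Prime).pos) _), ?_⟩
    rw [hr']
    push_cast
    rfl
  · exact div_mem (contrib_mem_field hH hN χ χ) (pow_mem (natCast_mem _ _) _)
  · have hk' : k.Coprime (orderOf x) := Nat.Coprime.coprime_dvd_right (orderOf_dvd_of_pow_eq_one hN) hk
    have hz : Subgroup.zpowers x = Subgroup.zpowers (x ^ k) := by
      refine le_antisymm (Subgroup.zpowers_le.2 ?_) (Subgroup.zpowers_le.2
        (Subgroup.npow_mem_zpowers x k))
      obtain ⟨j, hj⟩ := exists_pow_eq_self_of_coprime hk'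
      have := Subgroup.npow_mem_zpowers (x ^ k) j
      rwa [hj] at this
    rw [map_div₀, map_pow, map_natCast, contrib_galois hH hN hk' hσ,
      centralNorm_eq_contrib hpM hmax (P.pow_mem hxP k)
        ((Subgroup.centralizer (P : Set G)).pow_mem hxC k) hz
        ((pairBelow_congr hz hpM hc hxP).symm.trans hb) χ]

open scoped Classical in
/-- The norms at the central elements add up to at most the number of their fusion. -/
theorem sum_centralNorm_le (hpM : (p : AlgInt) ∈ M) (hmax : IsMaximalBrauerPair p M B P e)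
    {T H : Subgroup G} (hT : stabPair (⟨P, e⟩ : BrauerPairIdx G) ≤ T)
    (hH : H ≤ P ⊔ Subgroup.centralizer (P : Set G))
    (Z : Finset G) (hZP : ∀ z ∈ Z, z ∈ P) (hZC : ∀ z ∈ Z, z ∈ Subgroup.centralizer (P : Set G))
    (χ : IrrCharacter G) (q : ℕ) :
    ∑ z ∈ Z, (centralNorm M p ⟨P, e⟩ (χ : G → ℂ) q z).re ≤ (q : ℝ) * (H.relIndex T : ℕ) := by
  have hc : IsBrauerPair p M (⟨P, e⟩ : BrauerPairIdx G).1 (⟨P, e⟩ : BrauerPairIdx G).2 := hmax.1.1
  have hcl := isClassFunction_irr χ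
  -- all the sections together give the norm of `χ`
  set S : Finset (Σ _ : G, BrauerPairIdx G) :=
    (Finset.univ.filter fun x : G => ∃ k : ℕ, x ^ p ^ k = 1).sigma (fun x => pairsAt M x) with hS
  set F : (Σ _ : G, BrauerPairIdx G) → ℝ :=
    fun s => (secPair p s.1 s.2 (χ : G → ℂ) (χ : G → ℂ)).re with hF
  have htot : ∑ s ∈ S, F s = (Nat.card G : ℝ) := by
    have h1 := inner_weighted (p := p) hpM hcl hcl (f := (χ : G → ℂ)) (f' := (χ : G → ℂ))
      (w := fun _ _ => 1) (w' := fun _ _ => 1)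
      (fun g => by simp [sum_secVal]) (fun g => by simp [sum_secVal])
    rw [inner_irr, if_pos rfl] at h1
    simp only [map_one, one_mul, Finset.sum_sigma'] at h1
    rw [hF, ← Complex.re_sum, hS]
    have h2 := congrArg (fun t : ℂ => ((Nat.card G : ℂ) * t).re) h1
    simp only [← mul_assoc, mul_inv_cancel₀ (Chars.card_ne_zero G), one_mul, mul_one,
      Complex.natCast_re] at h2
    exact h2.symm
  have hnn : ∀ x a, 0 ≤ (secPair p x a (χ : G → ℂ) (χ : G → ℂ)).re := fun x a => by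
    rw [secPair, Complex.re_sum]
    exact Finset.sum_nonneg fun y _ => by rw [Complex.mul_conj, Complex.ofReal_re]; exact Complex.normSq_nonneg _
  let C : G → ℝ := fun z => (Nat.card (Subgroup.centralizer (Subgroup.zpowers z : Set G)) : ℝ)
  have hC : ∀ z, 0 < C z := fun z => Nat.cast_pos.2 Nat.card_pos
  let φ : G × G → Σ _ : G, BrauerPairIdx G := fun w =>
    ⟨w.2 * w.1 * w.2⁻¹, conjPair w.2 (pairBelow p M ⟨P, e⟩ w.1)⟩
  have hφ : ∀ w ∈ Z ×ˢ (Finset.univ : Finset G), φ w ∈ S := by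
    rintro ⟨z, g⟩ hw
    obtain ⟨k, hk⟩ := hc.1 ⟨z, hZP z (Finset.mem_product.1 hw).1⟩
    have hz := pairBelow_mem (c := ⟨P, e⟩) hpM hc (hZP z (Finset.mem_product.1 hw).1)
    refine Finset.mem_sigma.2 ⟨Finset.mem_filter.2 ⟨Finset.mem_univ _, k, ?_⟩,
      mem_pairsAt.2 ⟨?_, isPBlock_conjBlock (mem_pairsAt.1 hz).2 _⟩⟩
    · show (g * z * g⁻¹) ^ p ^ k = 1
      rw [conj_pow, show z ^ p ^ k = 1 from congrArg Subtype.val hk, mul_one, mul_inv_cancel]
    · show (pairBelow p M ⟨P, e⟩ z).1.map _ = _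
      rw [pairBelow_fst, map_zpowers_conj]
  -- the two ways of counting
  have hL : ∑ w ∈ Z ×ˢ (Finset.univ : Finset G), F (φ w) * (C w.1)⁻¹ * q =
      (Nat.card G : ℝ) * ∑ z ∈ Z, (centralNorm M p ⟨P, e⟩ (χ : G → ℂ) q z).re := by
    rw [Finset.sum_product, Finset.mul_sum]
    refine Finset.sum_congr rfl fun z hz => ?_
    have hv : ∀ g, F (φ (z, g)) = (secPair p z (pairBelow p M ⟨P, e⟩ z) (χ : G → ℂ) (χ : G → ℂ)).re :=
      fun g => congrArg Complex.re (secPair_conj hcl g z _)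
    rw [Finset.sum_congr rfl (g := fun _ => (secPair p z (pairBelow p M ⟨P, e⟩ z) (χ : G → ℂ)
      (χ : G → ℂ)).re * (C z)⁻¹ * q) fun g _ => by rw [hv g], Finset.sum_const, Finset.card_univ,
      nsmul_eq_mul, ← Nat.card_eq_fintype_card]
    congr 1
    rw [centralNorm, ← Complex.ofReal_natCast (Nat.card _), Complex.div_ofReal_re, Complex.mul_re,
      Complex.natCast_re, Complex.natCast_im, zero_mul, sub_zero]
    simp only [C]
    field_simp
  have hfib : ∀ s ∈ S, ∑ w ∈ (Z ×ˢ (Finset.univ : Finset G)).filter (fun w => φ w = s),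
      (C w.1)⁻¹ ≤ (H.relIndex T : ℝ) := by
    intro s hs
    set W := (Z ×ˢ (Finset.univ : Finset G)).filter (fun w => φ w = s) with hW
    rcases W.eq_empty_or_nonempty with h0 | ⟨⟨z₀, g₀⟩, hw₀⟩
    · rw [h0, Finset.sum_empty]; positivity
    obtain ⟨hz₀, he₀⟩ := Finset.mem_filter.1 hw₀
    replace hz₀ := (Finset.mem_product.1 hz₀).1
    rw [← Finset.sum_fiberwise_of_maps_to (g := Prod.fst) (t := W.image Prod.fst)
      fun w hw => Finset.mem_image_of_mem _ hw]
    have h1 : ∀ z ∈ W.image Prod.fst, ∑ w ∈ W.filter (fun w => w.1 = z), (C w.1)⁻¹ ≤ 1 := by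
      intro z hz
      obtain ⟨⟨z', g'⟩, hw', hzz⟩ := Finset.mem_image.1 hz
      obtain rfl : z' = z := hzz
      rw [Finset.sum_congr rfl fun w hw => by rw [(Finset.mem_filter.1 hw).2], Finset.sum_const,
        nsmul_eq_mul, mul_inv_le_iff₀ (hC z'), one_mul, Nat.cast_le]
      haveI := Fintype.ofFinite (Subgroup.centralizer (Subgroup.zpowers z' : Set G))
      rw [Nat.card_eq_fintype_card, ← Finset.card_univ]
      have hg : ∀ w ∈ W.filter (fun w => w.1 = z'),
          g'⁻¹ * w.2 ∈ Subgroup.centralizer (Subgroup.zpowers z' : Set G) := by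
        intro w hw
        obtain ⟨hwW, hw1⟩ := Finset.mem_filter.1 hw
        have he : w.2 * w.1 * w.2⁻¹ = g' * z' * g'⁻¹ :=
          congrArg Sigma.fst ((Finset.mem_filter.1 hwW).2.trans (Finset.mem_filter.1 hw').2.symm)
        rw [hw1] at he
        rw [mem_centralizer_zpowers_iff, ← mul_inv_eq_iff_eq_mul]
        calc _ = g'⁻¹ * (w.2 * z' * w.2⁻¹) * g' := by group
          _ = _ := by rw [he]; group
      refine Finset.card_le_card_of_injOn
        (fun w => if h : w ∈ W.filter (fun w => w.1 = z') then ⟨_, hg w h⟩ else 1)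
        (fun _ _ => Finset.mem_univ _) fun w hw w' hw'' h => ?_
      rw [Finset.mem_coe] at hw hw''
      simp only [dif_pos hw, dif_pos hw''] at h
      exact Prod.ext ((Finset.mem_filter.1 hw).2.trans (Finset.mem_filter.1 hw'').2.symm)
        (mul_left_cancel (congrArg Subtype.val h))
    refine (Finset.sum_le_card_nsmul _ _ 1 h1).trans ?_
    rw [nsmul_eq_mul, mul_one, Nat.cast_le]
    -- the elements of one fibre are conjugate under `T`
    haveI := Fintype.ofFinite T
    have hcomm : ∀ v ∈ H, v * z₀ = z₀ * v := by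
      intro v hv
      refine Subgroup.mem_centralizer_singleton_iff.1 ((sup_le ?_ ?_ :
        P ⊔ Subgroup.centralizer (P : Set G) ≤ Subgroup.centralizer ({z₀} : Set G)) (hH hv))
      · exact fun u hu => Subgroup.mem_centralizer_singleton_iff.2
          (Subgroup.mem_centralizer_iff.1 (hZC z₀ hz₀) u hu)
      · exact fun u hu => Subgroup.mem_centralizer_singleton_iff.2
          (Subgroup.mem_centralizer_iff.1 hu z₀ (hZP z₀ hz₀)).symm
    let f : T ⧸ H.subgroupOf T → G := Quotient.lift (fun t : T => (t : G) * z₀ * (t : G)⁻¹)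
      fun t t' htt => by
        have hv := hcomm _ (Subgroup.mem_subgroupOf.1 (QuotientGroup.leftRel_apply.1 htt))
        simp only [Subgroup.coe_mul, Subgroup.coe_inv] at hv
        calc (t : G) * z₀ * (t : G)⁻¹ = (t : G) * (z₀ * ((t : G)⁻¹ * t')) * ((t' : G))⁻¹ := by group
          _ = _ := by rw [← hv]; group
    haveI := Fintype.ofFinite (T ⧸ H.subgroupOf T)
    have hsub : W.image Prod.fst ⊆ Finset.univ.image f := by
      intro z hz
      obtain ⟨⟨z', g⟩, hw, hzz⟩ := Finset.mem_image.1 hz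
      obtain rfl : z' = z := hzz
      obtain ⟨hz', he⟩ := Finset.mem_filter.1 hw
      replace hz' := (Finset.mem_product.1 hz').1
      have he' := he.trans he₀.symm
      have hk1 : (g₀⁻¹ * g) * z' * (g₀⁻¹ * g)⁻¹ = z₀ := by
        have : g * z' * g⁻¹ = g₀ * z₀ * g₀⁻¹ := congrArg Sigma.fst he'
        calc _ = g₀⁻¹ * (g * z' * g⁻¹) * g₀ := by group
          _ = _ := by rw [this]; group
      have hk2 : conjPair (g₀⁻¹ * g) (pairBelow p M ⟨P, e⟩ z') = pairBelow p M ⟨P, e⟩ z₀ := by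
        obtain ⟨-, h2⟩ := Sigma.mk.inj_iff.1 he'
        rw [← conjPair_mul, eq_of_heq h2, conjPair_mul, inv_mul_cancel, conjPair_one]
      obtain ⟨b, hb⟩ : ∃ b, pairBelow p M ⟨P, e⟩ z₀ = ⟨Subgroup.zpowers z₀, b⟩ := by
        unfold pairBelow
        split_ifs <;> exact ⟨_, rfl⟩
      have hbl := pairBelow_below hpM hc (hZP z₀ hz₀)
      rw [hb] at hbl
      have hbl' := below_conj (pairBelow_below hpM hc (hZP z' hz')) (g₀⁻¹ * g)
      rw [hk2, hb] at hbl'
      have hPC : P ≤ Subgroup.centralizer (Subgroup.zpowers z₀ : Set G) := fun u hu =>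
        (mem_centralizer_zpowers_iff z₀ u).2 (Subgroup.mem_centralizer_iff.1 (hZC z₀ hz₀) u hu)
      obtain ⟨v, hv, hvT⟩ := exists_centralizer_conj_of_le hpM hmax hPC hbl hbl' (by
        rintro _ ⟨u, hu, rfl⟩
        refine (mem_centralizer_zpowers_iff z₀ _).2 ?_
        rw [← hk1]
        show (g₀⁻¹ * g * u * (g₀⁻¹ * g)⁻¹) * _ = _ * (g₀⁻¹ * g * u * (g₀⁻¹ * g)⁻¹)
        have h3 := Subgroup.mem_centralizer_iff.1 (hZC z' hz') u hu
        calc _ = g₀⁻¹ * g * (u * z') * (g₀⁻¹ * g)⁻¹ := by group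
          _ = _ := by rw [h3]; group)
      refine Finset.mem_image.2 ⟨QuotientGroup.mk ⟨(v * (g₀⁻¹ * g))⁻¹, T.inv_mem (hT hvT)⟩,
        Finset.mem_univ _, ?_⟩
      show (v * (g₀⁻¹ * g))⁻¹ * z₀ * ((v * (g₀⁻¹ * g))⁻¹)⁻¹ = z'
      have hv' : v⁻¹ * z₀ * v = z₀ := by
        rw [mul_assoc, ← (mem_centralizer_zpowers_iff z₀ v).1 hv, inv_mul_cancel_left]
      calc _ = (g₀⁻¹ * g)⁻¹ * (v⁻¹ * z₀ * v) * (g₀⁻¹ * g) := by group
        _ = _ := by rw [hv', ← hk1]; group
    refine (Finset.card_le_card hsub).trans (Finset.card_image_le.trans (le_of_eq ?_))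
    rw [Finset.card_univ, ← Nat.card_eq_fintype_card]
    rfl
  have hR : ∑ w ∈ Z ×ˢ (Finset.univ : Finset G), F (φ w) * (C w.1)⁻¹ * q ≤
      (Nat.card G : ℝ) * ((q : ℝ) * (H.relIndex T : ℕ)) := by
    rw [← Finset.sum_fiberwise_of_maps_to (g := φ) (t := S) hφ]
    calc _ ≤ ∑ s ∈ S, F s * ((q : ℝ) * (H.relIndex T : ℕ)) := by
          refine Finset.sum_le_sum fun s hs => ?_
          rw [Finset.sum_congr rfl (g := fun w => F s * ((q : ℝ) * (C w.1)⁻¹))
            fun w hw => by rw [(Finset.mem_filter.1 hw).2]; ring, ← Finset.mul_sum, ← Finset.mul_sum]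
          exact mul_le_mul_of_nonneg_left
            (mul_le_mul_of_nonneg_left (hfib s hs) q.cast_nonneg) (hnn s.1 s.2)
      _ = _ := by rw [← Finset.sum_mul, htot]
  exact le_of_mul_le_mul_left (hL ▸ hR) (Nat.cast_pos.2 Nat.card_pos)

open scoped Classical in
/-- **The height inequality with the inertial index and the centre.** -/
theorem pow_height_mul_card_center_le (hM : IsPModular p M) (hpM : (p : AlgInt) ∈ M)
    (hmax : IsMaximalBrauerPair p M B P e) {T H : Subgroup G}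
    (hT : stabPair (⟨P, e⟩ : BrauerPairIdx G) ≤ T)
    (hH : H ≤ P ⊔ Subgroup.centralizer (P : Set G)) {χ : IrrCharacter G} (hχ : χ ∈ B) :
    p ^ blockHeight p B (χ : G → ℂ) * Nat.card (P ⊓ Subgroup.centralizer (P : Set G) : Subgroup G) ≤
      p ^ blockDefect p B * H.relIndex T := by
  obtain ⟨Z, hZ⟩ : ∃ Z, Z = P ⊓ Subgroup.centralizer (P : Set G) := ⟨_, rfl⟩
  rw [← hZ]
  haveI := Fintype.ofFinite Z
  haveI : NeZero (Nat.card Z) := ⟨Nat.card_pos.ne'⟩
  have hmem : ∀ v : Z, (v : G) ∈ P ∧ (v : G) ∈ Subgroup.centralizer (P : Set G) := fun v =>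
    Subgroup.mem_inf.1 (hZ.le v.2)
  have hpow : ∀ v : Z, (v : G) ^ Nat.card Z = 1 := fun v =>
    congrArg Subtype.val (pow_card_eq_one' (x := v))
  have hp := fun v : Z => centralNorm_props hM hpM hmax hχ (hmem v).1 (hmem v).2 (hpow v)
  choose r hr hrv using fun v : Z => (hp v).2.1
  obtain ⟨m, hm⟩ := CharApps.exists_int_of_rat
    (x := ∏ v : Z, centralNorm M p ⟨P, e⟩ (χ : G → ℂ) (p ^ blockDefect p B) (v : G) /
      (p : ℂ) ^ blockHeight p B (χ : G → ℂ)) (IsIntegral.prod _ fun v _ => (hp v).1)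
    (CharApps.exists_rat_of_fixed (N := Nat.card Z) (prod_mem fun v _ => (hp v).2.2.1)
      fun k σ hk hσ => by
        rw [map_prod, Finset.prod_congr rfl fun v _ => (hp v).2.2.2 k σ hk hσ]
        exact Fintype.prod_equiv (powCoprime hk.symm) _ _ fun v => by
          rw [powCoprime_apply, SubgroupClass.coe_pow])
  have hprod : (∏ v : Z, r v) = (m : ℝ) := by
    have : ((∏ v : Z, r v : ℝ) : ℂ) = (m : ℂ) := by
      rw [hm, Complex.ofReal_prod]
      exact Finset.prod_congr rfl fun v _ => (hrv v).symm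
    exact_mod_cast this
  have hm1 : 1 ≤ ∏ v : Z, r v := by
    have : (0 : ℝ) < (m : ℝ) := hprod ▸ Finset.prod_pos fun v _ => hr v
    rw [hprod]
    exact_mod_cast (by exact_mod_cast this : (0 : ℤ) < m)
  have h1 := CharApps.card_le_sum_of_one_le_prod Finset.univ (fun v _ => (hr v).le) hm1
  have h2 := sum_centralNorm_le hpM hmax hT hH (Finset.univ.map ⟨((↑) : Z → G), Subtype.val_injective⟩)
    (fun z hz => by obtain ⟨v, -, rfl⟩ := Finset.mem_map.1 hz; exact (hmem v).1)
    (fun z hz => by obtain ⟨v, -, rfl⟩ := Finset.mem_map.1 hz; exact (hmem v).2)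
    χ (p ^ blockDefect p B)
  rw [Finset.sum_map] at h2
  simp only [Function.Embedding.coeFn_mk] at h2
  set h := blockHeight p B (χ : G → ℂ) with hh
  have hre : ∀ v : Z, (centralNorm M p ⟨P, e⟩ (χ : G → ℂ) (p ^ blockDefect p B) (v : G)).re =
      (p : ℝ) ^ h * r v := fun v => by
    have h3 := hrv v
    rw [div_eq_iff (pow_ne_zero _ (Nat.cast_ne_zero.2 (Fact.out : p.Prime).ne_zero))] at h3
    rw [h3, show ((p : ℂ)) ^ h = (((p : ℝ) ^ h : ℝ) : ℂ) by push_cast; rfl, ← Complex.ofReal_mul,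
      Complex.ofReal_re, mul_comm]
  rw [Finset.sum_congr rfl fun v _ => hre v, ← Finset.mul_sum] at h2
  rw [Finset.card_univ, ← Nat.card_eq_fintype_card] at h1
  have h4 : ((p ^ h * Nat.card Z : ℕ) : ℝ) ≤ ((p ^ blockDefect p B * H.relIndex T : ℕ) : ℝ) := by
    refine le_trans ?_ (h2.trans_eq (by push_cast; ring))
    push_cast
    exact mul_le_mul_of_nonneg_left h1 (by positivity)
  exact_mod_cast h4

end CfsgLib.Blocks
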