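import Cfsg.Agent.Lib.Blocks.StarOrbit
import Cfsg.Agent.Lib.Blocks.FusionBlock
import Cfsg.Agent.Lib.Blocks.MaximalPairs
import Cfsg.Agent.Lib.BlockOrth.BrauerFeit
import Cfsg.Agent.Lib.BlockOrth.DefectOrder
import Cfsg.Agent.Lib.Chars.Misc
import Cfsg.Agent.Lib.Fusion.FocalProper
import Mathlib.NumberTheory.LegendreSymbol.Basic

/-!
# Degree congruences for the characters of height zero
-/

set_option linter.unusedSectionVars false
set_option linter.style.haveILetI false

namespace CfsgLib.Blocks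

open Cfsg Chars BlockOrth
open scoped BigOperators

universe u

variable {G : Type u} [Group G] [Fintype G] {M : Ideal AlgInt} [M.IsPrime] {p : ℕ} [Fact p.Prime]
variable {B : Set (IrrCharacter G)} {P : Subgroup G}
  {e : Set (IrrCharacter (Subgroup.centralizer (P : Set G)))} {F : FusionSystem P}

/-- The characters of given height and degree fall into orbits of size divisible by the index in `Z`
of the focal subgroup. -/
theorem relIndex_focal_dvd_card_degree (hpM : (p : AlgInt) ∈ M)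
    (hF : IsBlockFusionSystemOn p M B P e F)
    (h d : ℕ) (Z : Subgroup P)
    (hne : ∀ χ : IrrCharacter G, χ ∈ B → blockHeight p B (χ : G → ℂ) = h → ∀ u ∈ Z, ∀ b,
      Below p M ⟨Subgroup.zpowers ((u : P) : G), b⟩ ⟨P, e⟩ → ∃ y : G, Commute ((u : P) : G) y ∧
        ¬ p ∣ orderOf y ∧
          secVal ⟨Subgroup.zpowers ((u : P) : G), b⟩ (χ : G → ℂ) (((u : P) : G) * y) ≠ 0) :
    (F.focalSubgroup.subgroupOf P).relIndex Z ∣
      Nat.card {χ : IrrCharacter G //
        χ ∈ B ∧ blockHeight p B (χ : G → ℂ) = h ∧ charDegree (χ : G → ℂ) = d} := by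
  classical
  haveI : Finite (IrrCharacter G) := @Finite.of_fintype _ (irrFintype G)
  set N := F.focalSubgroup.subgroupOf P with hN
  haveI : N.Normal := normal_focal
  letI : CommGroup (P ⧸ N) :=
    { QuotientGroup.Quotient.group N with
      mul_comm := fun a b => by
        induction a using QuotientGroup.induction_on with
        | H g =>
          induction b using QuotientGroup.induction_on with
          | H k =>
            rw [← QuotientGroup.mk_mul, ← QuotientGroup.mk_mul, QuotientGroup.eq]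
            have := commutator_mem_focal (F := F) k⁻¹ g⁻¹
            simpa [mul_assoc, hN] using this }
  haveI : HasEnoughRootsOfUnity ℂ (Monoid.exponent (P ⧸ N)) := by
    haveI : NeZero (Monoid.exponent (P ⧸ N) : ℂ) :=
      ⟨Nat.cast_ne_zero.2 Monoid.exponent_ne_zero_of_finite⟩
    infer_instance
  have hker : ∀ (l : P ⧸ N →* ℂˣ) (u : P), (u : G) ∈ F.focalSubgroup →
      l.comp (QuotientGroup.mk' N) u = 1 := fun l u hu => by
    rw [MonoidHom.comp_apply, QuotientGroup.mk'_apply, (QuotientGroup.eq_one_iff u).2 hu, map_one]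
  have hmax : IsMaximalBrauerPair p M B (⟨P, e⟩ : BrauerPairIdx G).1 (⟨P, e⟩ : BrauerPairIdx G).2 :=
    hF.1
  choose ψ hψB hψval hψ1 using fun (l : P ⧸ N →* ℂˣ)
    (χ : {χ : IrrCharacter G //
      χ ∈ B ∧ blockHeight p B (χ : G → ℂ) = h ∧ charDegree (χ : G → ℂ) = d}) =>
    exists_irr_starFun_linear hpM hF (l.comp (QuotientGroup.mk' N)) (hker l) χ.2.1
  have hht : ∀ l χ, blockHeight p B (ψ l χ : G → ℂ) = h := fun l χ => by
    conv_rhs => rw [← χ.2.2.1]
    unfold blockHeight charDegree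
    rw [hψ1 l χ]
  have hdeg : ∀ l χ, charDegree (ψ l χ : G → ℂ) = d := fun l χ => by
    conv_rhs => rw [← χ.2.2.2]
    unfold charDegree
    rw [hψ1 l χ]
  letI : MulAction (P ⧸ N →* ℂˣ) {χ : IrrCharacter G //
      χ ∈ B ∧ blockHeight p B (χ : G → ℂ) = h ∧ charDegree (χ : G → ℂ) = d} :=
    { smul := fun l χ => ⟨ψ l χ, hψB l χ, hht l χ, hdeg l χ⟩
      one_smul := fun χ => Subtype.ext (Subtype.ext (by
        show (ψ 1 χ : G → ℂ) = _
        rw [hψval, starFun_congr (η' := fun _ => 1) fun u hu => ?_, starFun_one hpM hmax χ.2.1]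
        rw [show u = ((⟨u, hu⟩ : P) : G) from rfl, linExt_coe]
        simp))
      mul_smul := fun l l' χ => Subtype.ext (Subtype.ext (by
        show (ψ (l * l') χ : G → ℂ) =
          (ψ l ⟨ψ l' χ, hψB l' χ, hht l' χ, hdeg l' χ⟩ : G → ℂ)
        rw [hψval, hψval l ⟨ψ l' χ, hψB l' χ, hht l' χ, hdeg l' χ⟩]
        show _ = starFun M p ⟨P, e⟩ (linExt P (l.comp (QuotientGroup.mk' N))) (ψ l' χ : G → ℂ)
        rw [hψval l' χ, starFun_starFun hpM (isPairStable_linExt hF _ (hker l'))
          (isPairStable_linExt hF _ (hker l)) (isClassFunction_irr χ.1)]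
        refine starFun_congr fun u hu => ?_
        show linExt P _ u = linExt P _ u * linExt P _ u
        rw [show u = ((⟨u, hu⟩ : P) : G) from rfl, linExt_coe, linExt_coe, linExt_coe]
        simp)) }
  have hsurj := MonoidHom.domRestrict_surjective (G := P ⧸ N) (M := ℂ) (Z.map (QuotientGroup.mk' N))
  refine exists_dvd_orbit (K := (MonoidHom.domRestrictHom (Z.map (QuotientGroup.mk' N)) ℂˣ).ker)
    ?_ fun χ l hl => ?_
  · rw [Subgroup.index_ker, MonoidHom.range_eq_top.2 hsurj, Nat.card_congr Subgroup.topEquiv.toEquiv]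
    haveI : HasEnoughRootsOfUnity ℂ (Monoid.exponent (Z.map (QuotientGroup.mk' N))) :=
      HasEnoughRootsOfUnity.of_dvd ℂ
        (Monoid.exponent_submonoid_dvd (Z.map (QuotientGroup.mk' N)).toSubmonoid)
    rw [CommGroup.card_monoidHom_of_hasEnoughRootsOfUnity]
    conv_lhs => rw [← QuotientGroup.ker_mk' N, Subgroup.relIndex_ker]
  · rw [MonoidHom.mem_ker]
    refine MonoidHom.ext fun z => ?_
    obtain ⟨u, hu, huz⟩ := z.2
    show l z.1 = 1
    rw [← huz]
    have hfix : (ψ l χ : G → ℂ) = (χ.1 : G → ℂ) := by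
      have := congrArg (fun w : {χ : IrrCharacter G //
          χ ∈ B ∧ blockHeight p B (χ : G → ℂ) = h ∧ charDegree (χ : G → ℂ) = d} =>
        (w.1 : G → ℂ)) (MulAction.mem_stabilizer_iff.1 hl)
      exact this
    rw [hψval] at hfix
    exact linear_eq_one_of_fixed hpM hF (hker l) hfix u (hne χ.1 χ.2.1 χ.2.2.1 u hu)

/-- The sum of a character over a subgroup is a multiple of its order. -/
theorem exists_sum_subgroup (H : Subgroup G) [Fintype H] {χ : G → ℂ} (hχ : IsCharacter G χ) :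
    ∃ n : ℕ, ∑ u : H, χ u = (Nat.card H : ℂ) * n := by
  obtain ⟨k, ρ, hρ⟩ := isCharacter_restrict H hχ
  refine ⟨Module.finrank ℂ ρ.invariants, ?_⟩
  rw [← inner_one_eq_finrank_invariants ρ, classInner]
  simp only [map_one, mul_one]
  rw [← mul_assoc, mul_inv_cancel₀ (card_ne_zero H), one_mul, hρ]

/-- The squares of the degrees in a block, divided by their common power of `p`. -/
theorem pow_defect_dvd_sum_sq [Fintype (IrrCharacter G)] [DecidablePred (· ∈ B)]
    (hpM : (p : AlgInt) ∈ M) (hB : IsPBlock M B) :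
    p ^ blockDefect p B ∣ ∑ χ ∈ Finset.univ.filter (· ∈ B),
      (charDegree (χ : G → ℂ) / p ^ blockMin p B) ^ 2 := by
  classical
  have hp : p.Prime := Fact.out
  obtain ⟨S⟩ : Nonempty (Sylow p G) := inferInstance
  haveI : Fintype (S : Subgroup G) := Fintype.ofFinite _
  set T := Finset.univ.filter (fun χ : IrrCharacter G => χ ∈ B) with hT
  choose n hn using fun χ : IrrCharacter G =>
    exists_sum_subgroup (S : Subgroup G) (isCharacter_of_irr χ.2)
  have hfin : ∀ f : IrrCharacter G → ℂ, ∑ᶠ χ ∈ B, f χ = ∑ χ ∈ T, f χ := fun f => by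
    rw [finsum_mem_eq_finite_toFinset_sum _ (Set.toFinite B)]
    exact Finset.sum_congr (by ext; simp [hT]) fun _ _ => rfl
  have hz : ∀ u : (S : Subgroup G), u ≠ 1 →
      ∑ χ ∈ T, ((charDegree (χ : G → ℂ) : ℕ) : ℂ) * starRingEnd ℂ ((χ : G → ℂ) u) = 0 := by
    intro u hu
    have hdvd : p ∣ orderOf (u : G) := by
      obtain ⟨k, hk⟩ := IsPGroup.iff_orderOf.1 S.isPGroup' u
      rw [Subgroup.orderOf_coe, hk]
      refine dvd_pow_self p fun h0 => hu ?_
      rw [h0, pow_zero] at hk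
      exact orderOf_eq_one_iff.1 hk
    have h := blockCoeff_eq_zero_of_dvd hp hpM hB hdvd
    rw [blockCoeff, mul_eq_zero, inv_eq_zero, hfin] at h
    simpa only [irr_apply_one] using h.resolve_left (card_ne_zero G)
  have key : ∑ χ ∈ T, charDegree (χ : G → ℂ) ^ 2 =
      Nat.card (S : Subgroup G) * ∑ χ ∈ T, charDegree (χ : G → ℂ) * n χ := by
    apply Nat.cast_injective (R := ℂ)
    push_cast
    calc ∑ χ ∈ T, (charDegree (χ : G → ℂ) : ℂ) ^ 2
        = ∑ u : (S : Subgroup G), ∑ χ ∈ T,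
            ((charDegree (χ : G → ℂ) : ℕ) : ℂ) * starRingEnd ℂ ((χ : G → ℂ) u) := by
          rw [Finset.sum_eq_single_of_mem (1 : (S : Subgroup G)) (Finset.mem_univ _)
            fun u _ hu => hz u hu]
          refine Finset.sum_congr rfl fun χ _ => ?_
          rw [OneMemClass.coe_one, irr_apply_one, map_natCast, sq]
      _ = _ := by
          rw [Finset.sum_comm, Finset.mul_sum]
          refine Finset.sum_congr rfl fun χ _ => ?_
          rw [← Finset.mul_sum, ← map_sum, hn χ, map_mul, map_natCast, map_natCast]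
          ring
  set m := blockMin p B with hm
  have hd : ∀ χ ∈ T, p ^ m ∣ charDegree (χ : G → ℂ) := fun χ hχ =>
    (pow_dvd_pow p (blockMin_le (Finset.mem_filter.1 hχ).2)).trans (Nat.ordProj_dvd _ _)
  have key2 : p ^ m * (p ^ m * ∑ χ ∈ T, (charDegree (χ : G → ℂ) / p ^ m) ^ 2) =
      p ^ m * (p ^ blockDefect p B * (p ^ m * ∑ χ ∈ T, charDegree (χ : G → ℂ) / p ^ m * n χ)) := by
    rw [Sylow.card_eq_multiplicity, ← blockMin_add_blockDefect (p := p) (IsPBlock.nonempty hB),
      ← hm, pow_add] at key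
    calc p ^ m * (p ^ m * ∑ χ ∈ T, (charDegree (χ : G → ℂ) / p ^ m) ^ 2)
        = ∑ χ ∈ T, charDegree (χ : G → ℂ) ^ 2 := by
          rw [← mul_assoc, Finset.mul_sum]
          refine Finset.sum_congr rfl fun χ hχ => ?_
          conv_rhs => rw [← Nat.mul_div_cancel' (hd χ hχ)]
          ring
      _ = _ := by
          rw [key, mul_assoc]
          congr 1
          congr 1
          rw [Finset.mul_sum]
          refine Finset.sum_congr rfl fun χ hχ => ?_
          conv_lhs => rw [← Nat.mul_div_cancel' (hd χ hχ)]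
          ring
  have hpos : 0 < p ^ m := pow_pos hp.pos m
  have h1 := Nat.eq_of_mul_eq_mul_left hpos key2
  have h2 : p ^ m * ∑ χ ∈ T, (charDegree (χ : G → ℂ) / p ^ m) ^ 2 =
      p ^ m * (p ^ blockDefect p B * ∑ χ ∈ T, charDegree (χ : G → ℂ) / p ^ m * n χ) := by
    rw [h1]; ring
  exact ⟨_, Nat.eq_of_mul_eq_mul_left hpos h2⟩

omit [Fintype G] in
/-- Fibres of size divisible by `p` with squares summing to a multiple of `p ^ 2`. -/
theorem two_mul_le_card_of_fibres {ι : Type*} (s : Finset ι) (f : ι → ℕ)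
    (hfib : ∀ x ∈ s, p ∣ (s.filter fun y => f y = f x).card) (hun : ∀ x ∈ s, ¬ p ∣ f x)
    (hsum : p ^ 2 ∣ ∑ x ∈ s, f x ^ 2) (hcard : p ∣ s.card) (hp2 : p ≠ 2) (hs : s.Nonempty) :
    2 * p ≤ s.card ∧ (p % 4 = 3 → 3 * p ≤ s.card) := by
  classical
  have hp : p.Prime := Fact.out
  obtain ⟨t, ht⟩ := hcard
  have ht0 : t ≠ 0 := fun h => by
    rw [h, mul_zero, Finset.card_eq_zero] at ht; exact hs.ne_empty ht
  obtain ⟨x, hx⟩ := hs
  obtain ⟨a, ha⟩ := hfib x hx
  set A := s.filter fun y => f y = f x with hA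
  have hAs : A ⊆ s := Finset.filter_subset _ _
  have hsumA : ∑ y ∈ A, f y ^ 2 = A.card * f x ^ 2 := by
    rw [Finset.sum_congr rfl fun y hy => by rw [(Finset.mem_filter.1 hy).2], Finset.sum_const,
      smul_eq_mul]
  have ha0 : a ≠ 0 := fun h => by
    rw [h, mul_zero, Finset.card_eq_zero] at ha
    exact Finset.notMem_empty x (ha ▸ Finset.mem_filter.2 ⟨hx, rfl⟩)
  have hsingle : ∀ c : ℕ, ¬ p ∣ c → ¬ p ^ 2 ∣ p * c * f x ^ 2 := fun c hc hd => by
    rw [sq p, mul_assoc] at hd
    rcases (hp.dvd_mul).1 (Nat.dvd_of_mul_dvd_mul_left hp.pos hd) with h | h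
    · exact hc h
    · exact hun x hx (hp.dvd_of_dvd_pow h)
  have ha_le : a ≤ t := Nat.le_of_mul_le_mul_left
    (by rw [← ha, ← ht]; exact Finset.card_le_card hAs) hp.pos
  have hfull : a = t → t ≤ 2 → False := fun hat htt => by
    have hAeq : A = s := Finset.eq_of_subset_of_card_le hAs (by rw [ha, ht, hat])
    refine hsingle a ?_ ?_
    · intro hd
      have := Nat.le_of_dvd (Nat.pos_of_ne_zero ha0) hd
      have := hp.two_le
      omega
    · rw [← ha, ← hsumA, hAeq]; exact hsum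
  refine ⟨?_, fun hp4 => ?_⟩
  · rw [ht, mul_comm 2 p]
    refine Nat.mul_le_mul_left p ?_
    by_contra hlt
    exact hfull (by omega) (by omega)
  · rw [ht, mul_comm 3 p]
    refine Nat.mul_le_mul_left p ?_
    by_contra hlt
    have hne : a ≠ t := fun h => hfull h (by omega)
    have ha1 : a = 1 := by omega
    have ht2 : t = 2 := by omega
    subst ha1 ht2
    have hC : (s \ A).card = p := by
      rw [Finset.card_sdiff_of_subset hAs, ha, ht]; omega
    obtain ⟨y, hy⟩ : (s \ A).Nonempty := Finset.card_pos.1 (hC ▸ hp.pos)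
    have hys : y ∈ s := (Finset.mem_sdiff.1 hy).1
    obtain ⟨b, hb⟩ := hfib y hys
    have hsub : (s.filter fun z => f z = f y) ⊆ s \ A := fun z hz => by
      refine Finset.mem_sdiff.2 ⟨(Finset.mem_filter.1 hz).1, fun hzA => (Finset.mem_sdiff.1 hy).2 ?_⟩
      exact Finset.mem_filter.2 ⟨hys, (Finset.mem_filter.1 hz).2.symm.trans (Finset.mem_filter.1 hzA).2⟩
    have hb0 : b ≠ 0 := fun h => by
      rw [h, mul_zero, Finset.card_eq_zero] at hb
      exact Finset.notMem_empty y (hb ▸ Finset.mem_filter.2 ⟨hys, rfl⟩)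
    have hBeq : (s.filter fun z => f z = f y) = s \ A := Finset.eq_of_subset_of_card_le hsub (by
      rw [hC, hb]; exact Nat.le_mul_of_pos_right p (Nat.pos_of_ne_zero hb0))
    rw [← Finset.sum_sdiff hAs, hsumA, ha, mul_one, ← hBeq,
      Finset.sum_congr rfl fun z hz => by rw [(Finset.mem_filter.1 hz).2], Finset.sum_const, hBeq, hC,
      smul_eq_mul, ← mul_add, sq p] at hsum
    have hdvd := Nat.dvd_of_mul_dvd_mul_left hp.pos hsum
    have h0 : ((f y : ZMod p)) ^ 2 + (f x : ZMod p) ^ 2 = 0 := by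
      have := ((ZMod.natCast_eq_zero_iff _ p).2 hdvd : ((f y ^ 2 + f x ^ 2 : ℕ) : ZMod p) = 0)
      exact_mod_cast this
    have hx0 : (f x : ZMod p) ≠ 0 := fun h => hun x hx ((ZMod.natCast_eq_zero_iff _ _).1 h)
    have hsq : ((f y : ZMod p) / f x) ^ 2 = -1 := by
      rw [div_pow, eq_neg_of_add_eq_zero_left h0, neg_div, div_self (pow_ne_zero 2 hx0)]
    exact ZMod.mod_four_ne_three_of_sq_eq_neg_one hsq hp4

theorem card_height_zero_of_aut_pGroup (hpM : (p : AlgInt) ∈ M) (hB : IsPBlock M B) {D : Subgroup G}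
    (hD : IsDefectGroup p M B D) (hD1 : D ≠ ⊥) (hAut : IsPGroup p (MulAut D)) :
    p ∣ Nat.card {χ : IrrCharacter G // χ ∈ B ∧ blockHeight p B (χ : G → ℂ) = 0} ∧
    (3 < p → 2 * p ≤ Nat.card {χ : IrrCharacter G // χ ∈ B ∧ blockHeight p B (χ : G → ℂ) = 0}) ∧
    (3 < p → p % 4 = 3 →
      3 * p ≤ Nat.card {χ : IrrCharacter G // χ ∈ B ∧ blockHeight p B (χ : G → ℂ) = 0}) := by
  classical
  have hp : p.Prime := Fact.out
  letI := irrFintype G
  set m := blockMin p B with hm
  set T := Finset.univ.filter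
    (fun χ : IrrCharacter G => χ ∈ B ∧ blockHeight p B (χ : G → ℂ) = 0) with hT
  have hcardT : Nat.card {χ : IrrCharacter G // χ ∈ B ∧ blockHeight p B (χ : G → ℂ) = 0} = T.card := by
    rw [Nat.card_eq_fintype_card, Fintype.card_subtype]
  set f : IrrCharacter G → ℕ := fun χ => charDegree (χ : G → ℂ) / p ^ m with hf
  have hcardD := card_defectGroup hpM hB hD
  have hd0 : blockDefect p B ≠ 0 := fun h => by
    rw [h, pow_zero] at hcardD
    exact hD1 (Subgroup.card_eq_one.1 hcardD)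
  have hdvd : ∀ χ ∈ B, p ^ m ∣ charDegree ((χ : IrrCharacter G) : G → ℂ) := fun χ hχ =>
    (pow_dvd_pow p (blockMin_le hχ)).trans (Nat.ordProj_dvd _ _)
  have hun : ∀ χ ∈ T, ¬ p ∣ f χ := by
    intro χ hχ hd
    obtain ⟨hχB, h0⟩ := (Finset.mem_filter.1 hχ).2
    have hv := (blockHeight_eq_zero_iff hχB).1 h0
    have : p * p ^ m ∣ charDegree (χ : G → ℂ) := by
      conv_rhs => rw [← Nat.div_mul_cancel (hdvd χ hχB)]
      exact Nat.mul_dvd_mul_right hd _
    rw [← pow_succ', hp.pow_dvd_iff_le_factorization (irr_charDegree_ne_zero χ)] at this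
    rw [degVal] at hv
    omega
  have hrest : ∀ k, k ≤ 2 → ∀ χ ∈ Finset.univ.filter (fun χ : IrrCharacter G => χ ∈ B), χ ∉ T →
      p ^ k ∣ f χ ^ 2 := by
    intro k hk χ hχ hnT
    have hχB := (Finset.mem_filter.1 hχ).2
    have hne : blockHeight p B (χ : G → ℂ) ≠ 0 := fun h =>
      hnT (Finset.mem_filter.2 ⟨Finset.mem_univ _, hχB, h⟩)
    have h1 : p ∣ f χ := by
      refine Nat.dvd_div_of_mul_dvd ?_
      rw [← pow_succ, hp.pow_dvd_iff_le_factorization (irr_charDegree_ne_zero χ)]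
      have := blockHeight_eq (p := p) (B := B) χ
      rw [degVal] at this
      omega
    exact (pow_dvd_pow p hk).trans (pow_dvd_pow_of_dvd h1 2)
  have hsumB := pow_defect_dvd_sum_sq (p := p) hpM hB
  have hsumT : ∀ k, k ≤ 2 → k ≤ blockDefect p B → p ^ k ∣ ∑ χ ∈ T, f χ ^ 2 := by
    intro k hk hkd
    have hall := (pow_dvd_pow p hkd).trans hsumB
    rw [← Finset.sum_filter_add_sum_filter_not (Finset.univ.filter fun χ : IrrCharacter G => χ ∈ B)
      (fun χ => χ ∈ T)] at hall
    refine (Nat.dvd_add_iff_left ?_).2 (by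
      refine dvd_trans hall (dvd_of_eq ?_)
      congr 1
      refine Finset.sum_congr ?_ fun _ _ => rfl
      ext χ
      simp [hT])
    exact Finset.dvd_sum fun χ hχ =>
      hrest k hk χ (Finset.mem_filter.1 hχ).1 (Finset.mem_filter.1 hχ).2
  rw [hcardT]
  rcases Nat.lt_or_ge 3 p with hp3 | hp3
  swap
  · refine ⟨?_, fun h => absurd h (by omega), fun h => absurd h (by omega)⟩
    have h1 := hsumT 1 (by norm_num) (by omega)
    rw [pow_one] at h1
    rw [← ZMod.natCast_eq_zero_iff, Nat.cast_sum] at h1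
    rw [← ZMod.natCast_eq_zero_iff, ← h1, Finset.card_eq_sum_ones, Nat.cast_sum]
    refine Finset.sum_congr rfl fun χ hχ => ?_
    have h2 : (f χ : ZMod p) ≠ 0 := fun h => hun χ hχ ((ZMod.natCast_eq_zero_iff _ _).1 h)
    have h3 := ZMod.pow_card_sub_one_eq_one h2
    rcases (show p = 2 ∨ p = 3 by have := hp.two_le; omega) with rfl | rfl
    · rw [pow_one] at h3
      push_cast
      rw [h3, one_pow]
    · push_cast
      exact h3.symm
  -- `p ≥ 5`
  have hp5 : 5 ≤ p := by
    rcases Nat.lt_or_ge p 5 with h | h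
    · interval_cases p
      exact absurd hp (by norm_num)
    · exact h
  have hd2 : 2 ≤ blockDefect p B := by
    by_contra hlt
    have h1 : blockDefect p B = 1 := by omega
    rw [h1, pow_one] at hcardD
    haveI : IsCyclic D := isCyclic_of_prime_card hcardD
    obtain ⟨k, hk⟩ := IsPGroup.iff_card.1 hAut
    rw [IsCyclic.card_mulAut, hcardD, Nat.totient_prime hp] at hk
    rcases k with _ | k
    · rw [pow_zero] at hk; omega
    · have : p ∣ p - 1 := hk ▸ dvd_pow_self p (Nat.succ_ne_zero k)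
      have := Nat.le_of_dvd (by omega) this
      omega
  obtain ⟨e, he⟩ := exists_pair_on_defectGroup hpM hB hD
  have hmax := isMaximal_of_defectGroup hpM hD he
  have hF := isBlockFusionSystemOn_blockFusion hpM hmax
  set F := blockFusion (b := (⟨D, e⟩ : BrauerPairIdx G)) hpM hmax.1.1 with hFdef
  have hDp : IsPGroup p D := IsDefectGroup.isPGroup hD
  have hlt : F.focalSubgroup < D := CfsgLib.Fusion.focal_lt_of_autGroup_pGroup hp5 _ G D F rfl hDp
    (isSaturated_block hpM hF) hD1 (hAut.to_subgroup _)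
  have hidx : p ∣ (F.focalSubgroup.subgroupOf D).index := by
    obtain ⟨k, hk⟩ := hDp.index (F.focalSubgroup.subgroupOf D)
    rw [hk]
    refine dvd_pow_self p fun h0 => hlt.not_ge ?_
    rw [h0, pow_zero, Subgroup.index_eq_one, Subgroup.subgroupOf_eq_top] at hk
    exact hk
  have hcard : p ∣ T.card := by
    refine hidx.trans ?_
    have h := relIndex_focal_dvd_card hpM hF 0 ⊤ fun χ hχ h0 u _ b hb =>
      exists_secVal_ne_zero_of_height_zero hpM hmax u.2 hb hχ h0
    rwa [Subgroup.relIndex_top_right, hcardT] at h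
  have hfib : ∀ χ ∈ T, p ∣ (T.filter fun ψ => f ψ = f χ).card := by
    intro χ hχ
    have h := relIndex_focal_dvd_card_degree hpM hF 0 (charDegree (χ : G → ℂ)) ⊤
      fun ξ hξ h0 u _ b hb => exists_secVal_ne_zero_of_height_zero hpM hmax u.2 hb hξ h0
    rw [Subgroup.relIndex_top_right, Nat.card_eq_fintype_card, Fintype.card_subtype] at h
    refine (hidx.trans h).trans (dvd_of_eq (congrArg Finset.card ?_))
    ext ψ
    obtain ⟨hχB, -⟩ := (Finset.mem_filter.1 hχ).2
    simp only [hT, Finset.mem_filter, Finset.mem_univ, true_and, hf]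
    constructor
    · rintro ⟨h1, h2, h3⟩
      exact ⟨⟨h1, h2⟩, by rw [h3]⟩
    · rintro ⟨⟨h1, h2⟩, h3⟩
      exact ⟨h1, h2, by rw [← Nat.div_mul_cancel (hdvd ψ h1), h3, Nat.div_mul_cancel (hdvd χ hχB)]⟩
  have hne : T.Nonempty := by
    obtain ⟨χ, hχ, h0⟩ := exists_blockHeight_eq_zero (p := p) hB
    exact ⟨χ, Finset.mem_filter.2 ⟨Finset.mem_univ _, hχ, h0⟩⟩
  have h := two_mul_le_card_of_fibres T f hfib hun (hsumT 2 le_rfl hd2) hcard (by omega) hne
  exact ⟨hcard, fun _ => h.1, fun _ => h.2⟩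

end CfsgLib.Blocks
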