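import Cfsg.Agent.Lib.Blocks.HomocyclicAutomizer
import Cfsg.Agent.Lib.CharApps.InertialThreeSigns
import Cfsg.Agent.Lib.Base.Cores

/-!
# Abelian Sylow `2`-subgroups of rank two and order more than four are normal modulo the odd core
-/

set_option autoImplicit false
set_option linter.style.haveILetI false
set_option linter.unusedSectionVars false

namespace CfsgLib.Blocks

open Cfsg Subgroup

universe u

variable {G : Type u} [Group G] [Finite G]

/-- There are no nontrivial normal subgroups of odd order. -/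
def NoOddNormal (G : Type u) [Group G] : Prop :=
  ∀ N : Subgroup G, N.Normal → Odd (Nat.card N) → N = ⊥

theorem NoOddNormal.of_normal (hO : NoOddNormal G) (N : Subgroup G) [N.Normal] : NoOddNormal N := by
  intro K hK hodd
  haveI := hK
  haveI : Fact (Nat.Prime 2) := ⟨Nat.prime_two⟩
  have h1 : K ≤ oddCore N := Base.le_oddCore hodd
  haveI : (oddCore N).Characteristic := inferInstanceAs (pPrimeCore 2 N).Characteristic
  have h2 : (oddCore N).map N.subtype = ⊥ := hO _ inferInstance (by
    rw [Subgroup.card_map_of_injective N.subtype_injective]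
    exact Base.odd_card_oddCore N)
  rw [Subgroup.map_eq_bot_iff_of_injective _ N.subtype_injective] at h2
  exact le_bot_iff.1 (h2 ▸ h1)

theorem eq_top_of_transfer (hO : NoOddNormal G) (T : Sylow 2 G)
    (hT : normalizer ((T : Subgroup G) : Set G) ≤ centralizer ((T : Subgroup G) : Set G)) :
    (T : Subgroup G) = ⊤ := by
  haveI : Fact (Nat.Prime 2) := ⟨Nat.prime_two⟩
  have hc := MonoidHom.ker_transferSylow_isComplement' T hT
  have hb : (MonoidHom.transferSylow T hT).ker = ⊥ := hO _ inferInstance (by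
    rw [← hc.index_eq_card]
    exact Nat.odd_iff.2 (Nat.two_dvd_ne_zero.1 T.not_dvd_index))
  rw [hb] at hc
  exact Subgroup.isComplement'_bot_left.1 hc

theorem centralizer_eq_of_normal (hO : NoOddNormal G) {P : Sylow 2 G} (h : FewInvolutions P)
    [(P : Subgroup G).Normal] : centralizer ((P : Subgroup G) : Set G) = (P : Subgroup G) := by
  set C := centralizer ((P : Subgroup G) : Set G) with hC
  haveI : C.Normal := ⟨fun c hc g => mem_centralizer_iff.2 fun u hu => by
    have h1 := mem_centralizer_iff.1 hc (g⁻¹ * u * g) (by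
      have := (‹(P : Subgroup G).Normal›).conj_mem u hu g⁻¹
      rwa [inv_inv] at this)
    calc u * (g * c * g⁻¹) = g * (g⁻¹ * u * g * c) * g⁻¹ := by group
      _ = g * (c * (g⁻¹ * u * g)) * g⁻¹ := by rw [h1]
      _ = g * c * g⁻¹ * u := by group⟩
  haveI : Fact (Nat.Prime 2) := ⟨Nat.prime_two⟩
  have h1 := eq_top_of_transfer (hO.of_normal C) (P.subtype h.le_centralizer) fun n _ =>
    mem_centralizer_iff.2 fun y hy => Subtype.ext (mem_centralizer_iff.1 n.2 (y : G) hy)
  refine le_antisymm (fun c hc => ?_) h.le_centralizer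
  have h2 : (⟨c, hc⟩ : C) ∈ ((P.subtype h.le_centralizer : Sylow 2 C) : Subgroup C) := by
    rw [h1]; exact Subgroup.mem_top _
  exact h2

theorem FewInvolutions.transfer {P : Sylow 2 G} (h : FewInvolutions P) {H : Type u} [Group H]
    [Finite H] (T : Sylow 2 H) (f : H →* G) (hf : Function.Injective f) : FewInvolutions T := by
  obtain ⟨R, hR⟩ := ((T.2).map f).exists_le_sylow
  haveI : Fact (Nat.Prime 2) := ⟨Nat.prime_two⟩
  obtain ⟨c, hc⟩ := MulAction.exists_smul_eq G R P
  have hmem : ∀ w : (T : Subgroup H), c * f w * c⁻¹ ∈ (P : Subgroup G) := fun w => by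
    rw [← hc, Sylow.coe_subgroup_smul]
    exact ⟨_, hR ⟨w, w.2, rfl⟩, rfl⟩
  let i : (T : Subgroup H) →* (P : Subgroup G) :=
    { toFun := fun w => ⟨_, hmem w⟩
      map_one' := Subtype.ext (by simp)
      map_mul' := fun a b => Subtype.ext (by simp [mul_assoc]) }
  have hi : Function.Injective i := fun a b e => Subtype.ext (hf
    (mul_left_cancel (mul_right_cancel (congrArg Subtype.val e))))
  refine ⟨fun a b => hi (by rw [map_mul, map_mul, h.comm]), ?_⟩
  refine (Nat.card_le_card_of_injective
    (fun x : {x : (T : Subgroup H) // x * x = 1} =>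
      (⟨i x, by rw [← map_mul, x.2, map_one]⟩ : {y : (P : Subgroup G) // y * y = 1}))
    fun a b e => Subtype.ext (hi (congrArg Subtype.val e) :)).trans h.few

/-- A normal subgroup missing an element `x` with `x² ∈ N` is a `2`-group. -/
theorem isPGroup_of_sq_mem (hO : NoOddNormal G) {P : Sylow 2 G} (h : FewInvolutions P)
    (N : Subgroup G) [N.Normal] {x : G} (hxP : x ∈ (P : Subgroup G)) (hx : x ∉ N)
    (hx2 : x * x ∈ N) : IsPGroup 2 N := by
  haveI : Fact (Nat.Prime 2) := ⟨Nat.prime_two⟩
  set H := N ⊔ zpowers x with hH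
  have hmodN : ∀ u ∈ H, (u : G ⧸ N) = 1 ∨ (u : G ⧸ N) = (x : G ⧸ N) := by
    intro u hu
    have h1 : (u : G ⧸ N) ∈ H.map (QuotientGroup.mk' N) := ⟨u, hu, rfl⟩
    rw [hH, Subgroup.map_sup, MonoidHom.map_zpowers, QuotientGroup.map_mk'_self, bot_sup_eq] at h1
    obtain ⟨k, hk⟩ := h1
    have hxx : (x : G ⧸ N) ^ (2 : ℤ) = 1 := by
      rw [zpow_two, ← QuotientGroup.mk_mul]
      exact (QuotientGroup.eq_one_iff _).2 hx2
    simp only [QuotientGroup.mk'_apply] at hk
    rcases Int.even_or_odd' k with ⟨j, rfl | rfl⟩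
    · left; rw [← hk, zpow_mul, hxx, one_zpow]
    · right; rw [← hk, zpow_add, zpow_mul, hxx, one_zpow, one_mul, zpow_one]
  have hxH : x ∈ H := mem_sup_right (mem_zpowers x)
  obtain ⟨T, hT⟩ := ((P.2).comap_subtype (K := H)).exists_le_sylow
  have hxT : (⟨x, hxH⟩ : H) ∈ (T : Subgroup H) := hT hxP
  have hFT := h.transfer T H.subtype H.subtype_injective
  have hNC : normalizer ((T : Subgroup H) : Set H) ≤ centralizer ((T : Subgroup H) : Set H) := by
    intro n hn
    set N' := normalizer ((T : Subgroup H) : Set H)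
    set C' := centralizer ((T : Subgroup H) : Set H)
    rcases hFT.relIndex_eq with h1 | h3
    · exact Subgroup.relIndex_eq_one.1 h1 hn
    haveI : (C'.subgroupOf N').Normal := by
      rw [← Subgroup.normalizerMonoidHom_ker]
      exact MonoidHom.normal_ker _
    have hm := Subgroup.pow_index_mem (C'.subgroupOf N') (⟨n, hn⟩ : N')
    rw [mem_subgroupOf, Subgroup.coe_pow] at hm
    change n ^ C'.relIndex N' ∈ C' at hm
    rw [h3] at hm
    let f : ↥(T : Subgroup H) → ↥(T : Subgroup H) := fun w =>
      ⟨n * w * n⁻¹, (mem_normalizer_iff.1 hn w).1 w.2⟩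
    set w : (T : Subgroup H) := ⟨⟨x, hxH⟩, hxT⟩ with hw
    set z := w * f w * f (f w) with hz
    have hz1 : z ≠ 1 := by
      intro e
      have e2 := congrArg (fun u : (T : Subgroup H) => (((u : H) : G) : G ⧸ N)) e
      simp only [hz, f, hw, Subgroup.coe_mul, Subgroup.coe_inv, Subgroup.coe_one,
        QuotientGroup.mk_mul, QuotientGroup.mk_inv, QuotientGroup.mk_one] at e2
      have hxne : (x : G ⧸ N) ≠ 1 := fun e3 => hx ((QuotientGroup.eq_one_iff _).1 e3)
      have hxx : (x : G ⧸ N) * x = 1 := by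
        rw [← QuotientGroup.mk_mul]; exact (QuotientGroup.eq_one_iff _).2 hx2
      rcases hmodN _ n.2 with e1 | e1 <;> rw [e1] at e2
      · simp only [inv_one, one_mul, mul_one, hxx] at e2
        exact hxne e2
      · simp only [hxx, one_mul, mul_inv_cancel, mul_one] at e2
        exact hxne (inv_eq_one.1 e2)
    have hfix : n * z * n⁻¹ = (z : H) := by
      have h3' : f (f (f w)) = w := Subtype.ext (by
        show n * (n * (n * w * n⁻¹) * n⁻¹) * n⁻¹ = (w : H)
        calc n * (n * (n * w * n⁻¹) * n⁻¹) * n⁻¹ = n ^ 3 * w * (n ^ 3)⁻¹ := by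
              rw [show n ^ 3 = n * n * n by rw [pow_succ, pow_two]]; group
          _ = w := by rw [← mem_centralizer_iff.1 hm w w.2, mul_inv_cancel_right])
      have e : (⟨n * z * n⁻¹, (mem_normalizer_iff.1 hn z).1 z.2⟩ : (T : Subgroup H)) =
          f w * f (f w) * f (f (f w)) := Subtype.ext (by
        simp only [hz, f, Subgroup.coe_mul]; group)
      rw [h3', hFT.comm _ w, ← mul_assoc] at e
      exact congrArg Subtype.val e
    exact hFT.mem_centralizer_of_fix hn hz1 hfix
  -- the complement lies in `N`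
  have hc := MonoidHom.ker_transferSylow_isComplement' T hNC
  set K := (MonoidHom.transferSylow T hNC).ker with hK
  have hKodd : Odd (Nat.card K) := by
    rw [← hc.index_eq_card]
    exact Nat.odd_iff.2 (Nat.two_dvd_ne_zero.1 T.not_dvd_index)
  have hKN : ∀ k ∈ K, (k : G) ∈ N := by
    intro k hk
    rcases hmodN _ k.2 with e | e
    · exact (QuotientGroup.eq_one_iff _).1 e
    · exfalso
      obtain ⟨j, hj⟩ := hKodd
      have h1 : k ^ Nat.card K = 1 :=
        orderOf_dvd_iff_pow_eq_one.1 (Subgroup.orderOf_dvd_natCard K hk)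
      have h2 : ((k : G) : G ⧸ N) ^ Nat.card K = 1 := by
        rw [← QuotientGroup.mk_pow, ← Subgroup.coe_pow, h1]; rfl
      rw [e, hj, pow_succ, pow_mul, sq, ← QuotientGroup.mk_mul,
        (QuotientGroup.eq_one_iff _).2 hx2, one_pow, one_mul] at h2
      exact hx ((QuotientGroup.eq_one_iff _).1 h2)
  have hNH : N ≤ H := le_sup_left
  have hK' : K.comap (inclusion hNH) = ⊥ := by
    refine hO.of_normal N _ inferInstance (Odd.of_dvd_nat hKodd ?_)
    rw [← Subgroup.card_map_of_injective (inclusion_injective hNH)]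
    exact Subgroup.card_dvd_of_le (Subgroup.map_comap_le _ _)
  have hKbot : K = ⊥ := by
    rw [eq_bot_iff]
    intro k hk
    have h1 : (⟨(k : G), hKN k hk⟩ : N) ∈ K.comap (inclusion hNH) := hk
    rw [hK', Subgroup.mem_bot] at h1
    rw [Subgroup.mem_bot]
    exact Subtype.ext (congrArg Subtype.val h1 :)
  rw [hKbot] at hc
  have htop : (T : Subgroup H) = ⊤ := Subgroup.isComplement'_bot_left.1 hc
  have hHp : IsPGroup 2 H := fun u => by
    obtain ⟨k, hk⟩ := T.2 ⟨u, htop ▸ Subgroup.mem_top u⟩
    exact ⟨k, congrArg Subtype.val hk⟩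
  exact hHp.to_le hNH

theorem normal_of_normal_twoSubgroup (hO : NoOddNormal G) {P : Sylow 2 G} (h : FewInvolutions P)
    (N : Subgroup G) [N.Normal] (hN : IsPGroup 2 N)
    (hinv : ∀ u : G, orderOf u = 2 → u ∈ N) : (P : Subgroup G).Normal := by
  haveI : Fact (Nat.Prime 2) := ⟨Nat.prime_two⟩
  have hNP : N ≤ (P : Subgroup G) := hN.le_sylow_of_normal P
  set C := centralizer (N : Set G) with hC
  haveI : C.Normal := hC ▸ inferInstance
  have hPC : (P : Subgroup G) ≤ C := fun u hu => mem_centralizer_iff.2 fun v hv =>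
    congrArg Subtype.val (h.comm ⟨v, hNP hv⟩ ⟨u, hu⟩)
  set T := P.subtype hPC
  have h1 := eq_top_of_transfer (hO.of_normal C) T fun n hn => by
    refine (h.transfer T C.subtype C.subtype_injective).mem_centralizer_of_fix_all hn
      fun u hu => ?_
    by_cases hu1 : u = 1
    · simp [hu1]
    refine Subtype.ext ?_
    have huN : ((u : C) : G) ∈ N := hinv _ (by
      rw [Subgroup.orderOf_coe, Subgroup.orderOf_coe]
      exact orderOf_eq_prime (by rw [sq, hu]) hu1)
    show (n : G) * ((u : C) : G) * (n : G)⁻¹ = _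
    rw [← mem_centralizer_iff.1 n.2 _ huN, mul_inv_cancel_right]
  have hPe : (P : Subgroup G) = C := le_antisymm hPC fun c hc => by
    have h2 : (⟨c, hc⟩ : C) ∈ (T : Subgroup C) := by rw [h1]; exact Subgroup.mem_top _
    exact h2
  rw [hPe]
  infer_instance

theorem sylow_normal_of_fewInvolutions {M : Ideal AlgInt} (hM : IsPModular 2 M) :
    ∀ (k : ℕ) (G : Type u) [Group G] [Finite G], Nat.card G ≤ k → NoOddNormal G →
      ∀ P : Sylow 2 G, FewInvolutions P → 4 < Nat.card P → (P : Subgroup G).Normal := by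
  intro k
  induction k with
  | zero => intro G _ _ hk; exact absurd hk (Nat.not_le.2 Nat.card_pos)
  | succ k ih =>
    intro G _ _ hk hO P h h4
    classical
    haveI : Fact (Nat.Prime 2) := ⟨Nat.prime_two⟩
    by_cases hNC : normalizer ((P : Subgroup G) : Set G) ≤ centralizer ((P : Subgroup G) : Set G)
    · rw [eq_top_of_transfer hO P hNC]; infer_instance
    have h3 := h.relIndex_eq.resolve_left fun e => hNC (Subgroup.relIndex_eq_one.1 e)
    have hone : ∀ s t : G, orderOf s = 2 → orderOf t = 2 → IsConj s t :=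
      h.complement_or_isConj.resolve_left fun ⟨K, hK, hc⟩ => by
        have hb : K = ⊥ := hO K hK (by
          rw [← hc.index_eq_card]
          exact Nat.odd_iff.2 (Nat.two_dvd_ne_zero.1 P.not_dvd_index))
        rw [hb] at hc
        apply hNC
        intro n _
        refine h.le_centralizer ?_
        rw [Subgroup.isComplement'_bot_left.1 hc]; exact Subgroup.mem_top n
    obtain ⟨t, ht⟩ : ∃ t : (P : Subgroup G), orderOf t = 2 := by
      refine exists_prime_orderOf_dvd_card' 2 ?_
      obtain ⟨j, hj⟩ := P.2.exists_card_eq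
      rcases j with _ | j
      · rw [pow_zero] at hj; omega
      · exact ⟨2 ^ j, hj.trans (pow_succ' 2 j)⟩
    have ht' : orderOf (t : G) = 2 := by rw [Subgroup.orderOf_coe, ht]
    by_cases hsimp : ∀ K : Subgroup G, K.Normal → (t : G) ∈ K → K = ⊤
    · exfalso
      haveI := Fintype.ofFinite G
      haveI : M.IsPrime := hM.2.1.isPrime
      have hfrob : ∀ y : G, y ∈ (P : Subgroup G) → y ≠ 1 →
          centralizer ({y} : Set G) ⊓ normalizer ((P : Subgroup G) : Set G) =
            centralizer ((P : Subgroup G) : Set G) :=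
        fun y hy hy1 => h.centralizer_inf_normalizer hy hy1
      have hab : IsMulCommutative P := ⟨⟨h.comm⟩⟩
      obtain ⟨D⟩ := CharApps.exists_inertialAut h3 hfrob
      obtain ⟨T⟩ := CharApps.exists_threeBlock hM hab D hfrob h4
      exact T.false_of_two hM rfl hab hfrob h4 ht' hsimp
    push Not at hsimp
    obtain ⟨N, hN, htN, hNtop⟩ := hsimp
    haveI := hN
    have hinv : ∀ u : G, orderOf u = 2 → u ∈ N := fun u hu => by
      obtain ⟨c, rfl⟩ := isConj_iff.1 (hone t u ht' hu)
      exact hN.conj_mem _ htN c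
    by_cases hPN : (P : Subgroup G) ≤ N
    · have hlt : Nat.card N < Nat.card G := by
        refine lt_of_le_of_ne (Subgroup.card_le_card_group N) fun e => hNtop ?_
        exact Subgroup.eq_top_of_card_eq N e
      haveI := ih N (by omega) (hO.of_normal N) (P.subtype hPN)
        (h.transfer (P.subtype hPN) N.subtype N.subtype_injective)
        (h4.trans_le (Nat.card_congr (Subgroup.subgroupOfEquivOfLe hPN).toEquiv).ge)
      haveI := (P.subtype hPN).characteristic_of_normal inferInstance
      have e : (((P.subtype hPN : Sylow 2 N) : Subgroup N)).map N.subtype = (P : Subgroup G) :=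
        Subgroup.map_subgroupOf_eq_of_le hPN
      rw [← e]
      infer_instance
    obtain ⟨y, hyP, hyN⟩ := SetLike.not_le_iff_exists.1 hPN
    have hex : ∃ j, y ^ 2 ^ j ∈ N := by
      obtain ⟨j, hj⟩ := P.2 ⟨y, hyP⟩
      exact ⟨j, by rw [show y ^ 2 ^ j = 1 from congrArg Subtype.val hj]; exact one_mem N⟩
    set j := Nat.find hex with hj
    have hj0 : j ≠ 0 := fun e => hyN (by
      have := Nat.find_spec hex
      rwa [← hj, e, pow_zero, pow_one] at this)
    refine normal_of_normal_twoSubgroup hO h N (isPGroup_of_sq_mem hO h N (x := y ^ 2 ^ (j - 1))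
      (pow_mem hyP _) (Nat.find_min hex (show j - 1 < j by omega)) ?_) hinv
    rw [← pow_add, ← two_mul, ← pow_succ', show j - 1 + 1 = j by omega]
    exact Nat.find_spec hex

end CfsgLib.Blocks
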