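import Mathlib.GroupTheory.Transfer
import Mathlib.Data.ZMod.Basic

/-!
# The automizer of an abelian Sylow `2`-subgroup with at most three involutions
-/

set_option linter.style.haveILetI false

namespace CfsgLib.Blocks

open Subgroup

variable {G : Type*} [Group G] [Finite G]

theorem zmod_two_torsion (m : ℕ) (hm : 1 ≤ m) (a : ZMod (2 ^ m)) (h : a + a = 0) :
    a = 0 ∨ a = ((2 ^ (m - 1) : ℕ) : ZMod (2 ^ m)) := by
  haveI : NeZero (2 ^ m) := ⟨(Nat.two_pow_pos m).ne'⟩
  obtain ⟨j, rfl⟩ : ∃ j, m = j + 1 := ⟨m - 1, by omega⟩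
  rw [← two_mul, ← ZMod.natCast_zmod_val a, ← Nat.cast_ofNat (R := ZMod (2 ^ (j + 1))),
    ← Nat.cast_mul, ZMod.natCast_eq_zero_iff] at h
  have h' : 2 * 2 ^ j ∣ 2 * a.val := by rwa [← pow_succ']
  obtain ⟨c, hc⟩ : 2 ^ j ∣ a.val := (Nat.mul_dvd_mul_iff_left two_pos).1 h'
  have hlt := ZMod.val_lt a
  have hc2 : c < 2 := Nat.lt_of_mul_lt_mul_left (a := 2 ^ j) (by
    rw [← hc]; calc a.val < 2 ^ (j + 1) := hlt
      _ = 2 ^ j * 2 := pow_succ 2 j)
  rw [Nat.add_sub_cancel]
  rcases c with _ | _ | c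
  · exact Or.inl (by rw [← ZMod.natCast_zmod_val a, hc, mul_zero, Nat.cast_zero])
  · exact Or.inr (by rw [← ZMod.natCast_zmod_val a, hc, zero_add, mul_one])
  · omega

theorem card_two_torsion_le (P : Subgroup G) (m : ℕ) (hm : 1 ≤ m)
    (e : P ≃* Multiplicative (ZMod (2 ^ m) × ZMod (2 ^ m))) :
    Nat.card {x : P // x * x = 1} ≤ 4 := by
  classical
  haveI : NeZero (2 ^ m) := ⟨(Nat.two_pow_pos m).ne'⟩
  haveI := Fintype.ofFinite {x : P // x * x = 1}
  rw [Nat.card_eq_fintype_card, ← Finset.card_univ]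
  set S : Finset (ZMod (2 ^ m)) := {0, ((2 ^ (m - 1) : ℕ) : ZMod (2 ^ m))}
  have hinj : Function.Injective fun x : {x : P // x * x = 1} => (e x).toAdd :=
    fun a b h => Subtype.ext (e.injective (Multiplicative.toAdd.injective h))
  refine (Finset.card_le_card_of_injOn (fun x : {x : P // x * x = 1} => (e x).toAdd)
    (t := S ×ˢ S) (fun x _ => ?_) hinj.injOn).trans ?_
  · have h : (e x).toAdd + (e x).toAdd = 0 := by
      rw [← toAdd_mul, ← map_mul, x.2, map_one, toAdd_one]
    refine Finset.mem_product.2 ⟨?_, ?_⟩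
    · rcases zmod_two_torsion m hm _ (congrArg Prod.fst h) with h1 | h1 <;> simp [S, h1]
    · rcases zmod_two_torsion m hm _ (congrArg Prod.snd h) with h1 | h1 <;> simp [S, h1]
  · rw [Finset.card_product]
    exact Nat.mul_le_mul Finset.card_le_two Finset.card_le_two

variable {P : Sylow 2 G}

/-- Hypotheses: `P` is commutative with at most three involutions. -/
structure FewInvolutions (P : Sylow 2 G) : Prop where
  comm : ∀ a b : (P : Subgroup G), a * b = b * a
  few : Nat.card {x : (P : Subgroup G) // x * x = 1} ≤ 4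

namespace FewInvolutions

variable (h : FewInvolutions P)

include h

theorem le_centralizer : (P : Subgroup G) ≤ centralizer ((P : Subgroup G) : Set G) := fun x hx =>
  mem_centralizer_iff.2 fun y hy => congrArg Subtype.val (h.comm ⟨y, hy⟩ ⟨x, hx⟩)

theorem odd_index : Odd ((centralizer ((P : Subgroup G) : Set G)).relIndex
    (normalizer ((P : Subgroup G) : Set G))) := by
  haveI : Fact (Nat.Prime 2) := ⟨Nat.prime_two⟩
  refine Nat.odd_iff.2 (Nat.two_dvd_ne_zero.1 fun hd => P.not_dvd_index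
    (hd.trans ((Dvd.intro _ (relIndex_mul_index (centralizer_le_normalizer _))).trans
      (index_dvd_of_le h.le_centralizer))))

theorem mem_centralizer_of_fix_all {n : G} (hn : n ∈ normalizer ((P : Subgroup G) : Set G))
    (hfix : ∀ x : (P : Subgroup G), x * x = 1 → n * x * n⁻¹ = (x : G)) :
    n ∈ centralizer ((P : Subgroup G) : Set G) := by
  set N := normalizer ((P : Subgroup G) : Set G)
  set C := centralizer ((P : Subgroup G) : Set G)
  haveI : (C.subgroupOf N).Normal := by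
    rw [← Subgroup.normalizerMonoidHom_ker]
    exact MonoidHom.normal_ker _
  obtain ⟨j, hj⟩ := h.odd_index
  have hm := Subgroup.pow_index_mem (C.subgroupOf N) (⟨n, hn⟩ : N)
  rw [mem_subgroupOf, Subgroup.coe_pow] at hm
  change n ^ C.relIndex N ∈ C at hm
  rw [hj] at hm
  suffices hall : ∀ k, ∀ x : (P : Subgroup G), x ^ 2 ^ k = 1 → n * x * n⁻¹ = (x : G) by
    refine mem_centralizer_iff.2 fun y hy => ?_
    obtain ⟨k, hk⟩ := P.2 ⟨y, hy⟩
    exact (mul_inv_eq_iff_eq_mul.1 (hall k _ hk)).symm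
  intro k
  induction k with
  | zero => intro x hx; exact hfix x (by rw [pow_zero, pow_one] at hx; rw [hx, mul_one])
  | succ k ih =>
    intro x hx
    have h2 := ih (x * x) (by rw [← sq, ← pow_mul, ← pow_succ']; exact hx)
    have hy : n * x * n⁻¹ ∈ (P : Subgroup G) := (mem_normalizer_iff.1 hn x).1 x.2
    obtain ⟨d, hd⟩ : ∃ d : (P : Subgroup G), d = x⁻¹ * ⟨_, hy⟩ := ⟨_, rfl⟩
    have hxd : n * x * n⁻¹ = (x : G) * d := by rw [hd]; simp
    have hd2 : d * d = 1 := by
      have e1 : (⟨_, hy⟩ : (P : Subgroup G)) * ⟨_, hy⟩ = x * x := Subtype.ext (by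
        show n * x * n⁻¹ * (n * x * n⁻¹) = x * x
        rw [← Subgroup.coe_mul, ← h2, Subgroup.coe_mul]; group)
      rw [hd, show x⁻¹ * (⟨_, hy⟩ : (P : Subgroup G)) * (x⁻¹ * ⟨_, hy⟩) =
        x⁻¹ * x⁻¹ * (⟨_, hy⟩ * ⟨_, hy⟩) by
          rw [mul_assoc, ← mul_assoc _ x⁻¹, h.comm _ x⁻¹]; group, e1]
      group
    have hpow : ∀ i : ℕ, n ^ i * x * (n ^ i)⁻¹ = (x : G) * (d : G) ^ i := by
      intro i
      induction i with
      | zero => simp
      | succ i ihi =>
        rw [pow_succ', show n * n ^ i * x * (n * n ^ i)⁻¹ = n * (n ^ i * x * (n ^ i)⁻¹) * n⁻¹ by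
          group, ihi, show n * (x * (d : G) ^ i) * n⁻¹ = n * x * n⁻¹ * (n * (d : G) * n⁻¹) ^ i by
            rw [conj_pow]; group, hxd, hfix d hd2, mul_assoc, ← pow_succ']
    have e2 := hpow (2 * j + 1)
    rw [← mem_centralizer_iff.1 hm x x.2, mul_inv_cancel_right, pow_succ, pow_mul,
      show (d : G) ^ 2 = 1 by rw [sq]; exact congrArg Subtype.val hd2, one_pow, one_mul,
      eq_comm, mul_eq_left] at e2
    rw [hxd, e2, mul_one]

theorem mem_centralizer_of_fix_involution {n : G}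
    (hn : n ∈ normalizer ((P : Subgroup G) : Set G)) {u : (P : Subgroup G)} (hu : u * u = 1)
    (hu1 : u ≠ 1) (hfix : n * u * n⁻¹ = (u : G)) :
    n ∈ centralizer ((P : Subgroup G) : Set G) := by
  classical
  set N := normalizer ((P : Subgroup G) : Set G)
  set C := centralizer ((P : Subgroup G) : Set G)
  let f : ↥(P : Subgroup G) → ↥(P : Subgroup G) := fun w =>
    ⟨n * w * n⁻¹, (mem_normalizer_iff.1 hn w).1 w.2⟩
  have hfinj : Function.Injective f := fun a b e =>
    Subtype.ext (mul_left_cancel (mul_right_cancel (congrArg Subtype.val e)))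
  have hf1 : f 1 = 1 := Subtype.ext (by simp [f])
  have hfu : f u = u := Subtype.ext hfix
  have hfsq : ∀ w, w * w = 1 → f w * f w = 1 := fun w hw => Subtype.ext (by
    show n * w * n⁻¹ * (n * w * n⁻¹) = 1
    rw [show n * w * n⁻¹ * (n * w * n⁻¹) = n * (w * w : (P : Subgroup G)) * n⁻¹ by
      rw [Subgroup.coe_mul]; group, hw]
    simp)
  have h2 : ∀ x, x * x = 1 → f (f x) = x := by
    intro x hx
    by_contra hne
    have hx1 : x ≠ 1 := fun e => hne (by rw [e, hf1, hf1])
    have hxu : x ≠ u := fun e => hne (by rw [e, hfu, hfu])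
    have ha1 : f x ≠ 1 := fun e => hx1 (hfinj (e.trans hf1.symm))
    have hau : f x ≠ u := fun e => hxu (hfinj (e.trans hfu.symm))
    have hax : f x ≠ x := fun e => hne (by rw [e, e])
    have hb1 : f (f x) ≠ 1 := fun e => ha1 (hfinj (e.trans hf1.symm))
    have hbu : f (f x) ≠ u := fun e => hau (hfinj (e.trans hfu.symm))
    have hba : f (f x) ≠ f x := fun e => hax (hfinj e)
    haveI := Fintype.ofFinite {x : (P : Subgroup G) // x * x = 1}
    have h6 := Nat.card_eq_fintype_card (α := {x : (P : Subgroup G) // x * x = 1})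
    have h5 := Finset.card_le_univ ({⟨1, one_mul 1⟩, ⟨u, hu⟩, ⟨x, hx⟩, ⟨f x, hfsq x hx⟩,
      ⟨f (f x), hfsq _ (hfsq x hx)⟩} : Finset {x : (P : Subgroup G) // x * x = 1})
    have h4 := h.few
    simp [Finset.card_insert_of_notMem, hu1.symm, hx1.symm, hxu.symm, ha1.symm, hau.symm,
      hax.symm, hb1.symm, hbu.symm, Ne.symm hne, hba.symm] at h5
    omega
  have hsq : n * n ∈ C := by
    refine h.mem_centralizer_of_fix_all (mul_mem hn hn) fun x hx => ?_
    calc n * n * x * (n * n)⁻¹ = n * (n * x * n⁻¹) * n⁻¹ := by group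
      _ = _ := congrArg Subtype.val (h2 x hx)
  haveI : (C.subgroupOf N).Normal := by
    rw [← Subgroup.normalizerMonoidHom_ker]
    exact MonoidHom.normal_ker _
  obtain ⟨j, hj⟩ := h.odd_index
  have hm := Subgroup.pow_index_mem (C.subgroupOf N) (⟨n, hn⟩ : N)
  rw [mem_subgroupOf, Subgroup.coe_pow] at hm
  change n ^ C.relIndex N ∈ C at hm
  rw [hj, pow_succ, pow_mul, sq] at hm
  exact (mul_mem_cancel_left (pow_mem hsq j)).1 hm

theorem mem_centralizer_of_fix {n : G} (hn : n ∈ normalizer ((P : Subgroup G) : Set G))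
    {z : (P : Subgroup G)} (hz1 : z ≠ 1) (hfix : n * z * n⁻¹ = (z : G)) :
    n ∈ centralizer ((P : Subgroup G) : Set G) := by
  classical
  have hex : ∃ k, z ^ 2 ^ k = 1 := P.2 z
  set k := Nat.find hex with hk
  have hk0 : k ≠ 0 := fun e => hz1 (by
    have := Nat.find_spec hex
    rw [← hk, e, pow_zero, pow_one] at this
    exact this)
  refine h.mem_centralizer_of_fix_involution hn (u := z ^ 2 ^ (k - 1)) ?_
    (Nat.find_min hex (show k - 1 < k by omega)) ?_
  · rw [← pow_add, ← two_mul, ← pow_succ', show k - 1 + 1 = k by omega]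
    exact Nat.find_spec hex
  · rw [Subgroup.coe_pow, ← conj_pow, hfix]

theorem relIndex_eq : (centralizer ((P : Subgroup G) : Set G)).relIndex
    (normalizer ((P : Subgroup G) : Set G)) = 1 ∨
    (centralizer ((P : Subgroup G) : Set G)).relIndex
    (normalizer ((P : Subgroup G) : Set G)) = 3 := by
  classical
  let res : MulAut (P : Subgroup G) →* Equiv.Perm {x : (P : Subgroup G) // x * x = 1} :=
    { toFun := fun a => a.toEquiv.subtypeEquiv fun x => by
        show x * x = 1 ↔ a x * a x = 1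
        rw [← map_mul, MulEquiv.map_eq_one_iff]
      map_one' := rfl
      map_mul' := fun a b => rfl }
  let ρ := res.comp (normalizerMonoidHom (P : Subgroup G))
  have hker : ρ.ker = (centralizer ((P : Subgroup G) : Set G)).subgroupOf
      (normalizer ((P : Subgroup G) : Set G)) := by
    refine le_antisymm (fun n hn => ?_) (fun n hn => ?_)
    · rw [mem_subgroupOf]
      refine h.mem_centralizer_of_fix_all n.2 fun x hx => ?_
      have h1 := congrArg Subtype.val (Equiv.ext_iff.1 (MonoidHom.mem_ker.1 hn) ⟨x, hx⟩)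
      exact congrArg Subtype.val h1
    · rw [← Subgroup.normalizerMonoidHom_ker, MonoidHom.mem_ker] at hn
      rw [MonoidHom.mem_ker, MonoidHom.comp_apply, hn, map_one]
  have hdvd : ρ.ker.index ∣ 24 := by
    rw [Subgroup.index_ker]
    refine (Subgroup.card_subgroup_dvd_card _).trans ?_
    haveI := Fintype.ofFinite {x : (P : Subgroup G) // x * x = 1}
    rw [Nat.card_eq_fintype_card, Fintype.card_perm, ← Nat.card_eq_fintype_card]
    exact Nat.factorial_dvd_factorial h.few
  rw [hker] at hdvd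
  change (centralizer ((P : Subgroup G) : Set G)).relIndex
    (normalizer ((P : Subgroup G) : Set G)) ∣ 24 at hdvd
  obtain ⟨j, hj⟩ := h.odd_index
  have hd3 : (centralizer ((P : Subgroup G) : Set G)).relIndex
      (normalizer ((P : Subgroup G) : Set G)) ∣ 3 :=
    (Nat.Coprime.pow_right 3 (by rw [Nat.coprime_two_right]; exact ⟨j, hj⟩)).dvd_of_dvd_mul_left
      (show _ ∣ 2 ^ 3 * 3 from hdvd)
  exact (Nat.dvd_prime Nat.prime_three).1 hd3

theorem centralizer_inf_normalizer {z : G} (hz : z ∈ (P : Subgroup G)) (hz1 : z ≠ 1) :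
    centralizer ({z} : Set G) ⊓ normalizer ((P : Subgroup G) : Set G) =
      centralizer ((P : Subgroup G) : Set G) := by
  refine le_antisymm (fun n hn => ?_) (le_inf ?_ (centralizer_le_normalizer _))
  · exact h.mem_centralizer_of_fix hn.2 (z := ⟨z, hz⟩)
      (fun e => hz1 (congrArg Subtype.val e))
      (mul_inv_eq_iff_eq_mul.2 (mem_centralizer_singleton_iff.1 hn.1))
  · exact fun c hc => mem_centralizer_singleton_iff.2 (mem_centralizer_iff.1 hc z hz).symm

/-- Without a normal complement all involutions are conjugate. -/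
theorem complement_or_isConj :
    (∃ N : Subgroup G, N.Normal ∧ N.IsComplement' (P : Subgroup G)) ∨
      ∀ s t : G, orderOf s = 2 → orderOf t = 2 → IsConj s t := by
  classical
  haveI : Fact (Nat.Prime 2) := ⟨Nat.prime_two⟩
  by_cases hNC : normalizer ((P : Subgroup G) : Set G) ≤ centralizer ((P : Subgroup G) : Set G)
  · exact Or.inl ⟨(MonoidHom.transferSylow P hNC).ker, inferInstance,
      MonoidHom.ker_transferSylow_isComplement' P hNC⟩
  refine Or.inr ?_
  obtain ⟨n, hn, hnC⟩ := SetLike.not_le_iff_exists.1 hNC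
  have intoP : ∀ s : G, orderOf s = 2 →
      ∃ u : (P : Subgroup G), u * u = 1 ∧ u ≠ 1 ∧ IsConj s (u : G) := by
    intro s hs
    obtain ⟨T, hT⟩ := (IsPGroup.of_card (p := 2) (n := 1) (G := zpowers s)
      (by rw [Nat.card_zpowers, hs, pow_one])).exists_le_sylow
    obtain ⟨c, hc⟩ := MulAction.exists_smul_eq G T P
    have hmem : c * s * c⁻¹ ∈ (P : Subgroup G) := by
      rw [← hc, Sylow.coe_subgroup_smul]
      exact ⟨_, hT (mem_zpowers s), rfl⟩
    refine ⟨⟨_, hmem⟩, Subtype.ext ?_, fun e => ?_, isConj_iff.2 ⟨c, rfl⟩⟩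
    · show c * s * c⁻¹ * (c * s * c⁻¹) = 1
      rw [show c * s * c⁻¹ * (c * s * c⁻¹) = c * s ^ 2 * c⁻¹ by rw [sq]; group, ← hs,
        pow_orderOf_eq_one]
      simp
    · have e' : c * s * c⁻¹ = 1 := congrArg Subtype.val e
      rw [conj_eq_one_iff] at e'
      rw [e', orderOf_one] at hs
      norm_num at hs
  let f : ↥(P : Subgroup G) → ↥(P : Subgroup G) := fun w =>
    ⟨n * w * n⁻¹, (mem_normalizer_iff.1 hn w).1 w.2⟩
  have hfinj : Function.Injective f := fun a b e =>
    Subtype.ext (mul_left_cancel (mul_right_cancel (congrArg Subtype.val e)))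
  have hf1 : f 1 = 1 := Subtype.ext (by simp [f])
  have hfix : ∀ w, w ≠ 1 → f w ≠ w := fun w hw e =>
    hnC (h.mem_centralizer_of_fix hn hw (congrArg Subtype.val e))
  have hne1 : ∀ w, w ≠ 1 → f w ≠ 1 := fun w hw e => hw (hfinj (e.trans hf1.symm))
  have hconj : ∀ w : (P : Subgroup G), IsConj (w : G) (f w : G) :=
    fun w => isConj_iff.2 ⟨n, rfl⟩
  have hfsq : ∀ w, w * w = 1 → f w * f w = 1 := fun w hw => Subtype.ext (by
    show n * w * n⁻¹ * (n * w * n⁻¹) = 1
    rw [show n * w * n⁻¹ * (n * w * n⁻¹) = n * (w * w : (P : Subgroup G)) * n⁻¹ by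
      rw [Subgroup.coe_mul]; group, hw]
    simp)
  intro s t hs ht
  obtain ⟨u, hu, hu1, hsu⟩ := intoP s hs
  obtain ⟨v, hv, hv1, htv⟩ := intoP t ht
  refine (hsu.trans ?_).trans htv.symm
  by_cases h0 : v = u
  · rw [h0]
  by_cases h1 : v = f u
  · rw [h1]; exact hconj u
  by_cases h2 : v = f (f u)
  · rw [h2]; exact (hconj u).trans (hconj _)
  exfalso
  have hfu : f u ≠ u := hfix u hu1
  have h2u : f (f u) ≠ f u := fun e => hfu (hfinj e)
  haveI := Fintype.ofFinite {x : (P : Subgroup G) // x * x = 1}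
  have h6 := Nat.card_eq_fintype_card (α := {x : (P : Subgroup G) // x * x = 1})
  have h4 := h.few
  by_cases h3 : f (f u) = u
  · have hfv : f v ≠ u := fun e => h1 (hfinj (e.trans h3.symm))
    have hfv' : f v ≠ f u := fun e => h0 (hfinj e)
    have h5 := Finset.card_le_univ ({⟨1, one_mul 1⟩, ⟨u, hu⟩, ⟨f u, hfsq u hu⟩, ⟨v, hv⟩,
      ⟨f v, hfsq v hv⟩} : Finset {x : (P : Subgroup G) // x * x = 1})
    simp [Finset.card_insert_of_notMem, hu1.symm, (hne1 u hu1).symm, hv1.symm,
      (hne1 v hv1).symm, hfu.symm, Ne.symm h0, Ne.symm h1, hfv.symm, hfv'.symm,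
      (hfix v hv1).symm] at h5
    omega
  · have h5 := Finset.card_le_univ ({⟨1, one_mul 1⟩, ⟨u, hu⟩, ⟨f u, hfsq u hu⟩, ⟨v, hv⟩,
      ⟨f (f u), hfsq _ (hfsq u hu)⟩} : Finset {x : (P : Subgroup G) // x * x = 1})
    simp [Finset.card_insert_of_notMem, hu1.symm, (hne1 u hu1).symm, hv1.symm,
      (hne1 _ (hne1 u hu1)).symm, hfu.symm, Ne.symm h0, Ne.symm h1, h2, Ne.symm h3, h2u.symm] at h5
    omega

end FewInvolutions

theorem fewInvolutions_of_homocyclic (P : Sylow 2 G) (m : ℕ) (hm : 1 ≤ m)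
    (e : (P : Subgroup G) ≃* Multiplicative (ZMod (2 ^ m) × ZMod (2 ^ m))) : FewInvolutions P :=
  ⟨fun a b => e.injective (by rw [map_mul, map_mul, mul_comm]),
    card_two_torsion_le (P : Subgroup G) m hm e⟩

end CfsgLib.Blocks
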