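import Cfsg.Agent.Lib.Blocks.HomocyclicAutomizer
import Mathlib.GroupTheory.SemidirectProduct

/-!
# Odd order groups of automorphisms of an abelian two-group with at most three involutions
-/

set_option linter.style.haveILetI false

namespace CfsgLib.Blocks

open Subgroup

/-- An odd order group of automorphisms has order one or three and acts freely. -/
theorem odd_auts_of_few {P : Type*} [Group P] [Finite P] (hP : IsPGroup 2 P)
    (hcomm : ∀ a b : P, a * b = b * a) (hfew : Nat.card {x : P // x * x = 1} ≤ 4)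
    (A : Subgroup (MulAut P)) (hodd : ¬ 2 ∣ Nat.card A) :
    (Nat.card A = 1 ∨ Nat.card A = 3) ∧ ∀ a ∈ A, ∀ x : P, x ≠ 1 → a x = x → a = 1 := by
  classical
  haveI : Fact (Nat.Prime 2) := ⟨Nat.prime_two⟩
  haveI : Finite (P ⋊[A.subtype] A) :=
    Finite.of_equiv (P × A) SemidirectProduct.equivProd.symm
  let il : P →* P ⋊[A.subtype] A := SemidirectProduct.inl
  have hilinj : Function.Injective il := SemidirectProduct.inl_injective
  have hcardR : Nat.card il.range = Nat.card P :=
    (Nat.card_congr (MonoidHom.ofInjective hilinj).toEquiv).symm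
  obtain ⟨k, hk⟩ := hP.exists_card_eq
  have hRp : IsPGroup 2 il.range := IsPGroup.of_card (n := k) (by rw [hcardR, hk])
  obtain ⟨S, hS⟩ := hRp.exists_le_sylow
  have hSeq : il.range = (S : Subgroup _) := by
    refine Subgroup.eq_of_le_of_card_ge hS ?_
    rw [S.card_eq_multiplicity, SemidirectProduct.card,
      Nat.factorization_mul Nat.card_pos.ne' Nat.card_pos.ne', Finsupp.add_apply,
      Nat.factorization_eq_zero_of_not_dvd hodd, add_zero, hcardR, hk,
      Nat.Prime.factorization_pow Nat.prime_two, Finsupp.single_eq_same]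
  haveI : (il.range).Normal := by
    show (SemidirectProduct.inl (φ := A.subtype)).range.Normal
    rw [SemidirectProduct.range_inl_eq_ker_rightHom]
    exact MonoidHom.normal_ker _
  have hmem : ∀ g : P ⋊[A.subtype] A, g ∈ (S : Subgroup _) ↔ g.right = 1 := by
    intro g
    rw [← hSeq]
    show g ∈ (SemidirectProduct.inl (φ := A.subtype)).range ↔ _
    rw [SemidirectProduct.range_inl_eq_ker_rightHom, MonoidHom.mem_ker]
    rfl
  let e : P ≃* (S : Subgroup (P ⋊[A.subtype] A)) :=
    (MonoidHom.ofInjective hilinj).trans (MulEquiv.subgroupCongr hSeq)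
  have hfewS : FewInvolutions S := by
    refine ⟨fun a b => e.symm.injective (by rw [map_mul, map_mul, hcomm]), ?_⟩
    refine le_trans (Nat.card_congr (e.symm.toEquiv.subtypeEquiv fun x => ?_)).le hfew
    show x * x = 1 ↔ e.symm x * e.symm x = 1
    rw [← map_mul, MulEquiv.map_eq_one_iff]
  have hnorm : normalizer ((S : Subgroup (P ⋊[A.subtype] A)) : Set (P ⋊[A.subtype] A)) = ⊤ := by
    rw [← hSeq]
    exact Subgroup.normalizer_eq_top il.range
  have hcent : ∀ g : P ⋊[A.subtype] A,
      g ∈ centralizer ((S : Subgroup (P ⋊[A.subtype] A)) : Set (P ⋊[A.subtype] A)) → g.right = 1 := by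
    intro g hg
    refine Subtype.ext (MulEquiv.ext fun x => ?_)
    have h1 := mem_centralizer_iff.1 hg (il x) (hSeq ▸ ⟨x, rfl⟩)
    have h2 := congrArg SemidirectProduct.left h1
    simp only [il, SemidirectProduct.mul_left, SemidirectProduct.left_inl,
      SemidirectProduct.right_inl, map_one, MulAut.one_apply, Subgroup.coe_subtype] at h2
    rw [hcomm x g.left] at h2
    exact (mul_left_cancel h2).symm
  refine ⟨?_, fun a ha x hx hfix => ?_⟩
  · have h := hfewS.relIndex_eq
    have hC : centralizer ((S : Subgroup (P ⋊[A.subtype] A)) : Set (P ⋊[A.subtype] A)) = (S : Subgroup _) :=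
      le_antisymm (fun g hg => (hmem g).2 (hcent g hg)) hfewS.le_centralizer
    rw [hC, hnorm, relIndex_top_right] at h
    have hidx : (S : Subgroup (P ⋊[A.subtype] A)).index = Nat.card A := by
      have h1 := (S : Subgroup (P ⋊[A.subtype] A)).card_mul_index
      have h2 : Nat.card (S : Subgroup (P ⋊[A.subtype] A)) = Nat.card P :=
        (Nat.card_congr e.toEquiv).symm
      rw [SemidirectProduct.card, h2] at h1
      exact Nat.eq_of_mul_eq_mul_left Nat.card_pos h1
    rwa [hidx] at h
  · set n : P ⋊[A.subtype] A := SemidirectProduct.inr ⟨a, ha⟩ with hn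
    have hn' : n * il x * n⁻¹ = il x := by
      rw [hn, ← map_inv SemidirectProduct.inr]
      show SemidirectProduct.inr _ * SemidirectProduct.inl x * SemidirectProduct.inr _ =
        SemidirectProduct.inl x
      rw [← SemidirectProduct.inl_aut]
      exact congrArg SemidirectProduct.inl hfix
    have := hcent n (hfewS.mem_centralizer_of_fix (hnorm ▸ Subgroup.mem_top n)
      (z := ⟨il x, hSeq ▸ ⟨x, rfl⟩⟩)
      (fun h => hx (hilinj ((congrArg Subtype.val h).trans (map_one il).symm))) hn')
    rw [hn, SemidirectProduct.right_inr] at this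
    exact congrArg Subtype.val this

/-- The automiser of an abelian two-group with at most three involutions, of odd order. -/
theorem automizer_of_few {G : Type*} [Group G] [Finite G] (P T : Subgroup G) (hP : IsPGroup 2 P)
    (hcomm : ∀ a b : P, a * b = b * a) (hfew : Nat.card {x : P // x * x = 1} ≤ 4)
    (hT : T ≤ normalizer (P : Set G)) (hodd : ¬ 2 ∣ (centralizer (P : Set G)).relIndex T) :
    ((centralizer (P : Set G)).relIndex T = 1 ∨ (centralizer (P : Set G)).relIndex T = 3) ∧
      ∀ g ∈ T, ∀ x ∈ P, x ≠ 1 → g * x * g⁻¹ = x → g ∈ centralizer (P : Set G) := by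
  classical
  let ρ : T →* MulAut P := (normalizerMonoidHom P).comp (inclusion hT)
  have hker : ∀ g : T, g ∈ ρ.ker ↔ (g : G) ∈ centralizer (P : Set G) := by
    intro g
    show _ ↔ inclusion hT g ∈ (centralizer (P : Set G)).subgroupOf (normalizer (P : Set G))
    rw [← Subgroup.normalizerMonoidHom_ker, MonoidHom.mem_ker, MonoidHom.mem_ker]
    rfl
  have hidx : Nat.card ρ.range = (centralizer (P : Set G)).relIndex T := by
    rw [← Subgroup.index_ker, show ρ.ker = (centralizer (P : Set G)).subgroupOf T from
      Subgroup.ext hker]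
    rfl
  obtain ⟨h1, h2⟩ := odd_auts_of_few hP hcomm hfew ρ.range (by rwa [hidx])
  rw [hidx] at h1
  refine ⟨h1, fun g hg x hx hx1 hfix => (hker ⟨g, hg⟩).1 (MonoidHom.mem_ker.2 ?_)⟩
  exact h2 _ ⟨⟨g, hg⟩, rfl⟩ ⟨x, hx⟩ (fun h => hx1 (congrArg Subtype.val h)) (Subtype.ext hfix)

end CfsgLib.Blocks
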