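import Cfsg.Agent.Lib.Blocks.LocalDefect

/-!
# Brauer pairs of a subgroup and of the whole group; the Brauer correspondence over a subgroup
-/

set_option linter.unusedSectionVars false
set_option linter.style.haveILetI false

namespace CfsgLib.Blocks

open Cfsg Chars

variable {G : Type*} [Group G] [Fintype G] {M : Ideal AlgInt} [M.IsPrime] {p : ℕ} [Fact p.Prime]
  {H R S : Subgroup G}

/-- The centralizer computed in a subgroup containing it. -/
def relIso (hR : R ≤ H) (hC : Subgroup.centralizer (R : Set G) ≤ H) :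
    Subgroup.centralizer (R.subgroupOf H : Set H) ≃* Subgroup.centralizer (R : Set G) where
  toFun h := ⟨((h : H) : G), (mem_centralizer_subgroupOf_iff hR _).1 h.2⟩
  invFun c := ⟨⟨c, hC c.2⟩, (mem_centralizer_subgroupOf_iff hR _).2 c.2⟩
  left_inv _ := rfl
  right_inv _ := rfl
  map_mul' _ _ := rfl

/-- A block of `C(R)` as a block of the centralizer computed in `H`. -/
def relBlock (hR : R ≤ H) (hC : Subgroup.centralizer (R : Set G) ≤ H)
    (e : Set (IrrCharacter (Subgroup.centralizer (R : Set G)))) :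
    Set (IrrCharacter (Subgroup.centralizer (R.subgroupOf H : Set H))) :=
  pullIrr (relIso hR hC) '' e

theorem isPBlock_relBlock (hR : R ≤ H) (hC : Subgroup.centralizer (R : Set G) ≤ H)
    {e : Set (IrrCharacter (Subgroup.centralizer (R : Set G)))} (he : IsPBlock M e) :
    IsPBlock M (relBlock hR hC e) := by
  haveI := Fintype.ofFinite (Subgroup.centralizer (R.subgroupOf H : Set H))
  haveI := Fintype.ofFinite (Subgroup.centralizer (R : Set G))
  exact isPBlock_image_pullIrr _ he

theorem subgroupBlockCoeff_relBlock (hR : R ≤ H) (hC : Subgroup.centralizer (R : Set G) ≤ H)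
    (e : Set (IrrCharacter (Subgroup.centralizer (R : Set G)))) (h : H) :
    subgroupBlockCoeff (Subgroup.centralizer (R.subgroupOf H : Set H)) (relBlock hR hC e) h =
      subgroupBlockCoeff (Subgroup.centralizer (R : Set G)) e (h : G) := by
  haveI := Fintype.ofFinite H
  by_cases hh : h ∈ Subgroup.centralizer (R.subgroupOf H : Set H)
  · rw [show h = ((⟨h, hh⟩ : Subgroup.centralizer (R.subgroupOf H : Set H)) : H) from rfl,
      subgroupBlockCoeff_coe, relBlock, blockCoeff_image_pullIrr, ← subgroupBlockCoeff_coe]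
    rfl
  · rw [subgroupBlockCoeff_of_notMem _ hh, subgroupBlockCoeff_of_notMem e]
    exact fun h' => hh ((mem_centralizer_subgroupOf_iff hR h).2 h')

theorem exists_relBlock (hR : R ≤ H) (hC : Subgroup.centralizer (R : Set G) ≤ H)
    {g : Set (IrrCharacter (Subgroup.centralizer (R.subgroupOf H : Set H)))} (hg : IsPBlock M g) :
    ∃ e, IsPBlock M e ∧ relBlock hR hC e = g := by
  haveI := Fintype.ofFinite (Subgroup.centralizer (R.subgroupOf H : Set H))
  haveI := Fintype.ofFinite (Subgroup.centralizer (R : Set G))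
  refine ⟨pullIrr (relIso hR hC).symm '' g, isPBlock_image_pullIrr _ hg, ?_⟩
  rw [relBlock, Set.image_image]
  simp only [pullIrr_symm, Set.image_id']

theorem incl_pairIdem_relBlock (hR : R ≤ H) (hC : Subgroup.centralizer (R : Set G) ≤ H)
    [Fintype H] {e : Set (IrrCharacter (Subgroup.centralizer (R : Set G)))} (he : IsPBlock M e) :
    incl M H (pairIdem (isPBlock_relBlock hR hC he)) = pairIdem he := by
  apply MonoidAlgebra.ext
  ext g
  by_cases hg : g ∈ H
  · obtain ⟨h, rfl⟩ : ∃ h : H, (h : G) = g := ⟨⟨g, hg⟩, rfl⟩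
    rw [coeff_incl, pairIdem, pairIdem, coeff_redFun, coeff_redFun]
    exact congrArg red (Subtype.ext (subgroupBlockCoeff_relBlock hR hC e h))
  · rw [coeff_incl_of_notMem _ hg, eq_comm, coeff_pairIdem_eq_zero_iff,
      subgroupBlockCoeff_of_notMem e fun h' => hg (hC h')]
    exact MemLocalIdeal.zero'

theorem incl_cut (hR : R ≤ H) (hC : Subgroup.centralizer (R : Set G) ≤ H)
    (X : MonoidAlgebra (ResField M) H) :
    incl M H (cut (Subgroup.centralizer (R.subgroupOf H : Set H) : Set H) X) =
      cut (Subgroup.centralizer (R : Set G) : Set G) (incl M H X) := by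
  apply MonoidAlgebra.ext
  ext g
  by_cases hg : g ∈ H
  · obtain ⟨h, rfl⟩ : ∃ h : H, (h : G) = g := ⟨⟨g, hg⟩, rfl⟩
    rw [coeff_incl]
    by_cases hh : h ∈ Subgroup.centralizer (R.subgroupOf H : Set H)
    · rw [coeff_cut_of_mem _ (show h ∈ (Subgroup.centralizer (R.subgroupOf H : Set H) : Set H)
        from hh), coeff_cut_of_mem _ (show (h : G) ∈ (Subgroup.centralizer (R : Set G) : Set G)
        from (mem_centralizer_subgroupOf_iff hR h).1 hh), coeff_incl]
    · rw [coeff_cut_of_notMem _ hh, coeff_cut_of_notMem _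
        (show (h : G) ∉ (Subgroup.centralizer (R : Set G) : Set G) from
          fun h' => hh ((mem_centralizer_subgroupOf_iff hR h).2 h'))]
  · rw [coeff_incl_of_notMem _ hg, coeff_cut_of_notMem _
      (show g ∉ (Subgroup.centralizer (R : Set G) : Set G) from fun h' => hg (hC h'))]

theorem isBrauerPairOf_rel_iff [Fintype H] (hpM : (p : AlgInt) ∈ M) (hR : R ≤ H)
    (hC : Subgroup.centralizer (R : Set G) ≤ H) (hRp : IsPGroup p R)
    {e : Set (IrrCharacter (Subgroup.centralizer (R : Set G)))} (he : IsPBlock M e)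
    {c : Set (IrrCharacter H)} (hc : IsPBlock M c) :
    IsBrauerPairOf p M c (R.subgroupOf H) (relBlock hR hC e) ↔
      pairIdem he * cut (Subgroup.centralizer (R : Set G) : Set G) (pairIdem hc) = pairIdem he := by
  rw [(isBrauerPairOf_iff hpM ⟨isPGroup_subgroupOf hRp hR, isPBlock_relBlock hR hC he⟩ hc).1,
    ← incl_pairIdem_relBlock hR hC he, pairIdem_eq_incl hc, ← incl_cut hR hC, ← map_mul,
    incl_injective.eq_iff]

theorem isNormalSubpair_rel_iff [Fintype H] (hpM : (p : AlgInt) ∈ M) (hR : R ≤ H)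
    (hC : Subgroup.centralizer (R : Set G) ≤ H) (hS : S ≤ H)
    (hCS : Subgroup.centralizer (S : Set G) ≤ H) (hSp : IsPGroup p S) (hRS : R ≤ S)
    (hSR : S ≤ Subgroup.normalizer (R : Set G))
    {e : Set (IrrCharacter (Subgroup.centralizer (R : Set G)))} (he : IsPBlock M e)
    {g : Set (IrrCharacter (Subgroup.centralizer (S : Set G)))} (hg : IsPBlock M g) :
    IsNormalSubpair p M (R.subgroupOf H) (relBlock hR hC e) (S.subgroupOf H)
        (relBlock hS hCS g) ↔ IsNormalSubpair p M R e S g := by
  have hN : S.subgroupOf H ≤ Subgroup.normalizer ((R.subgroupOf H : Subgroup H) : Set H) := by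
    intro x hx
    rw [Subgroup.mem_normalizer_iff]
    intro h
    simp only [Subgroup.mem_subgroupOf, Subgroup.coe_mul, Subgroup.coe_inv]
    exact (Subgroup.mem_normalizer_iff.1 (hSR (Subgroup.mem_subgroupOf.1 hx))) h
  constructor
  · intro h
    refine isNormalSubpair_of_ne_zero hpM ⟨hSp, hg⟩ hRS hSR he (fun x hx => ?_) fun h0 => ?_
    · have h1 := (stabilizesBlock_iff (isPBlock_relBlock hR hC he)).1
        (h.2.2.2.2.1 ⟨x, hS hx⟩ (Subgroup.mem_subgroupOf.2 hx))
      refine (stabilizesBlock_iff he).2 ⟨mem_normalizer_centralizer (hSR hx), fun u => ?_⟩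
      by_cases hu : u ∈ H
      · have h2 := h1.2 ⟨u, hu⟩
        rwa [subgroupBlockCoeff_relBlock, subgroupBlockCoeff_relBlock] at h2
      · rw [subgroupBlockCoeff_of_notMem e fun h' => hu (hC h'),
          subgroupBlockCoeff_of_notMem e fun h' => hu ?_]
        have h2 := H.mul_mem (H.mul_mem (H.inv_mem (hS hx)) (hC h')) (hS hx)
        simpa [mul_assoc] using h2
    · apply pairIdem_ne_zero (isPBlock_relBlock hS hCS hg)
      have h1 := IsNormalSubpair.mul_cut hpM h
      apply incl_injective (M := M) (H := H)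
      rw [map_zero, ← h1, map_mul, incl_cut hS hCS, incl_pairIdem_relBlock hS hCS hg,
        incl_pairIdem_relBlock hR hC he, h0]
  · intro h
    refine isNormalSubpair_of_ne_zero hpM ⟨isPGroup_subgroupOf hSp hS, isPBlock_relBlock hS hCS hg⟩
      (fun u hu => hRS hu) hN (isPBlock_relBlock hR hC he) (fun x hx => ?_) fun h0 => ?_
    · have h1 := (stabilizesBlock_iff he).1 (h.2.2.2.2.1 x (Subgroup.mem_subgroupOf.1 hx))
      refine (stabilizesBlock_iff (isPBlock_relBlock hR hC he)).2
        ⟨mem_normalizer_centralizer (hN hx), fun u => ?_⟩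
      rw [subgroupBlockCoeff_relBlock, subgroupBlockCoeff_relBlock]
      exact h1.2 u
    · apply pairIdem_ne_zero hg
      rw [← IsNormalSubpair.mul_cut hpM h, ← incl_pairIdem_relBlock hS hCS hg,
        ← incl_pairIdem_relBlock hR hC he, ← incl_cut hS hCS, ← map_mul]
      rw [show pairIdem (isPBlock_relBlock hS hCS hg) *
        cut (Subgroup.centralizer (S.subgroupOf H : Set H) : Set H)
          (pairIdem (isPBlock_relBlock hR hC he)) = 0 from h0, map_zero]

theorem conjPair_rel_iff (hR : R ≤ H) (hC : Subgroup.centralizer (R : Set G) ≤ H) (hS : S ≤ H)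
    (hCS : Subgroup.centralizer (S : Set G) ≤ H)
    (e : Set (IrrCharacter (Subgroup.centralizer (R : Set G))))
    (g : Set (IrrCharacter (Subgroup.centralizer (S : Set G)))) (x : H) :
    conjPair x (⟨R.subgroupOf H, relBlock hR hC e⟩ : BrauerPairIdx H) =
        ⟨S.subgroupOf H, relBlock hS hCS g⟩ ↔
      conjPair (x : G) ⟨R, e⟩ = ⟨S, g⟩ := by
  haveI := Fintype.ofFinite H
  constructor
  · intro h
    refine pair_ext ?_ (funext fun u => ?_)
    · have h1 := congrArg (fun a : BrauerPairIdx H => a.1.map H.subtype) h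
      have h2 : (S.subgroupOf H).map H.subtype = S := map_subgroupOf_subtype hS
      show R.map (MulAut.conj (x : G)).toMonoidHom = S
      rw [← h2, ← h1]
      show _ = ((R.subgroupOf H).map (MulAut.conj x).toMonoidHom).map H.subtype
      conv_lhs => rw [← map_subgroupOf_subtype hR, Subgroup.map_map]
      rw [Subgroup.map_map]
      rfl
    · rw [pairCoeff_conjPair]
      show subgroupBlockCoeff _ e ((x : G)⁻¹ * u * x) = subgroupBlockCoeff _ g u
      by_cases hu : u ∈ H
      · have h1 := congrFun (congrArg pairCoeff h) ⟨u, hu⟩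
        rw [pairCoeff_conjPair] at h1
        simp only [pairCoeff] at h1
        rw [subgroupBlockCoeff_relBlock, subgroupBlockCoeff_relBlock] at h1
        simpa using h1
      · rw [subgroupBlockCoeff_of_notMem g fun h' => hu (hCS h'),
          subgroupBlockCoeff_of_notMem e fun h' => hu ?_]
        have h2 := H.mul_mem (H.mul_mem x.2 (hC h')) (H.inv_mem x.2)
        simpa [mul_assoc] using h2
  · intro h
    refine pair_ext ?_ (funext fun u => ?_)
    · have h1 : R.map (MulAut.conj (x : G)).toMonoidHom = S := congrArg Sigma.fst h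
      show (R.subgroupOf H).map (MulAut.conj x).toMonoidHom = S.subgroupOf H
      ext u
      constructor
      · rintro ⟨v, hv, rfl⟩
        rw [Subgroup.mem_subgroupOf, ← h1]
        exact ⟨v, Subgroup.mem_subgroupOf.1 hv, by simp⟩
      · intro hu
        rw [Subgroup.mem_subgroupOf, ← h1] at hu
        obtain ⟨v, hv, hvu⟩ := hu
        exact ⟨⟨v, hR hv⟩, Subgroup.mem_subgroupOf.2 hv, Subtype.ext (by simpa using hvu)⟩
    · rw [pairCoeff_conjPair]
      simp only [pairCoeff]
      rw [subgroupBlockCoeff_relBlock, subgroupBlockCoeff_relBlock]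
      have h1 := congrFun (congrArg pairCoeff h) (u : G)
      rw [pairCoeff_conjPair] at h1
      simpa [pairCoeff] using h1

/-! ## The Brauer correspondence over a subgroup containing the normalizer -/

theorem isMaximal_iff_no_normal_step {K : Type*} [Group K] [Fintype K] (hpM : (p : AlgInt) ∈ M)
    {B : Set (IrrCharacter K)} {P : Subgroup K}
    {e : Set (IrrCharacter (Subgroup.centralizer (P : Set K)))} (he : IsBrauerPairOf p M B P e) :
    IsMaximalBrauerPair p M B P e ↔
      ∀ (R : Subgroup K) g, IsNormalSubpair p M P e R g → R = P := by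
  refine ⟨fun h R g hn => h.2 R g ((isBrauerPairOf_of_normal hpM hn B).1 he)
    (Relation.ReflTransGen.single hn), fun h => ⟨he, fun R g hg hle => ?_⟩⟩
  have hle' : Relation.ReflTransGen (NormalSubpairRel p M) ⟨P, e⟩ ⟨R, g⟩ := hle
  by_contra hne
  have hlt : P < R := lt_of_le_of_ne (below_le hle') fun h' => hne h'.symm
  have hN := exists_lt_le_normalizer hg.1.1 hlt
  obtain ⟨g', hg'⟩ := exists_below (b := ⟨R, g⟩) hpM hg.1 (R ⊓ Subgroup.normalizer (P : Set K))
    inf_le_left
  exact hN.ne (h _ g' (isNormalSubpair_of_below (b := ⟨R, g⟩) hpM hg.1 hle' hg' hN.le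
    inf_le_right)).symm

variable {P : Subgroup G}

/-- A pair at `P` is maximal in `G` iff it is maximal in `H ⊇ N(P)`. -/
theorem isMaximal_rel_iff [Fintype H] (hpM : (p : AlgInt) ∈ M)
    (hH : Subgroup.normalizer (P : Set G) ≤ H) (hPH : P ≤ H)
    (hC : Subgroup.centralizer (P : Set G) ≤ H) (hP : IsPGroup p P)
    {e : Set (IrrCharacter (Subgroup.centralizer (P : Set G)))} (he : IsPBlock M e)
    {B : Set (IrrCharacter G)} (hB : IsBrauerPairOf p M B P e) {c : Set (IrrCharacter H)}
    (hc : IsBrauerPairOf p M c (P.subgroupOf H) (relBlock hPH hC e)) :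
    IsMaximalBrauerPair p M B P e ↔
      IsMaximalBrauerPair p M c (P.subgroupOf H) (relBlock hPH hC e) := by
  rw [isMaximal_iff_no_normal_step hpM hB, isMaximal_iff_no_normal_step hpM hc]
  constructor
  · intro h R' g' hn
    have hR'' : R' = (R'.map H.subtype).subgroupOf H := by
      rw [Subgroup.subgroupOf, Subgroup.comap_map_eq_self_of_injective H.subtype_injective]
    set R := R'.map H.subtype
    have hRH : R ≤ H := Subgroup.map_subtype_le R'
    clear_value R
    subst hR''
    have hPR : P ≤ R := fun u hu => (hn.2.2.1 (show (⟨u, hPH hu⟩ : H) ∈ P.subgroupOf H from hu) :)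
    have hCR : Subgroup.centralizer (R : Set G) ≤ H := (centralizer_antitone hPR).trans hC
    have hRN : R ≤ Subgroup.normalizer (P : Set G) := by
      intro x hx
      have h1 := Subgroup.mem_normalizer_iff.1
        (hn.2.2.2.1 (show (⟨x, hRH hx⟩ : H) ∈ R.subgroupOf H from hx))
      rw [Subgroup.mem_normalizer_iff]
      intro u
      constructor
      · intro hu
        exact ((h1 ⟨u, hPH hu⟩).1 hu :)
      · intro hu
        have huH : u ∈ H := by
          have h2 := H.mul_mem (H.mul_mem (H.inv_mem (hRH hx)) (hPH hu)) (hRH hx)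
          simpa [mul_assoc] using h2
        exact ((h1 ⟨u, huH⟩).2 hu :)
    obtain ⟨g, hg, rfl⟩ := exists_relBlock hRH hCR hn.2.1.2
    have hRp : IsPGroup p R := hn.2.1.1.of_equiv (Subgroup.subgroupOfEquivOfLe hRH)
    rw [h R g ((isNormalSubpair_rel_iff hpM hPH hC hRH hCR hRp hPR hRN he hg).1 hn)]
  · intro h R g hn
    have hRH : R ≤ H := hn.2.2.2.1.trans hH
    have hCR : Subgroup.centralizer (R : Set G) ≤ H := (centralizer_antitone hn.2.2.1).trans hC
    have h1 := h _ _ ((isNormalSubpair_rel_iff hpM hPH hC hRH hCR hn.2.1.1 hn.2.2.1 hn.2.2.2.1 he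
      hn.2.1.2).2 hn)
    exact le_antisymm (fun u hu => (h1 ▸ (show (⟨u, hRH hu⟩ : H) ∈ R.subgroupOf H from hu) :))
      hn.2.2.1

/-- The truncations of the idempotents of corresponding blocks agree. -/
theorem cut_eq_of_maximal [Fintype H] (hpM : (p : AlgInt) ∈ M)
    (hH : Subgroup.normalizer (P : Set G) ≤ H) (hPH : P ≤ H)
    (hC : Subgroup.centralizer (P : Set G) ≤ H)
    {e : Set (IrrCharacter (Subgroup.centralizer (P : Set G)))}
    {B : Set (IrrCharacter G)} {c : Set (IrrCharacter H)}
    (hB : IsMaximalBrauerPair p M B P e)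
    (hc : IsMaximalBrauerPair p M c (P.subgroupOf H) (relBlock hPH hC e)) :
    cut (Subgroup.centralizer (P : Set G) : Set G) (blockIdem hB.1.2.1) =
      cut (Subgroup.centralizer (P : Set G) : Set G) (pairIdem hc.1.2.1) := by
  classical
  have hP : IsPGroup p P := hB.1.1.1
  have hsum := sum_pairIdem (M := M) (blockFinset M (Subgroup.centralizer (P : Set G))) rfl
    (fun f => if hf : IsPBlock M f then pairIdem hf else 0) (fun f hf => dif_pos hf)
  conv_lhs => rw [← one_mul (cut _ (blockIdem hB.1.2.1)), ← hsum, Finset.sum_mul]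
  conv_rhs => rw [← one_mul (cut _ (pairIdem hc.1.2.1)), ← hsum, Finset.sum_mul]
  refine Finset.sum_congr rfl fun f hf => ?_
  have hf' := mem_blockFinset.1 hf
  rw [dif_pos hf']
  have dB := isBrauerPairOf_iff hpM (P := P) ⟨hP, hf'⟩ hB.1.2.1
  have dc := (brauerOmega_dichotomy hpM hP (subgroupBlockCoeff_mem_loc hc.1.2.1)
    (fun u hu g => subgroupBlockCoeff_conj_of_mem c (hPH hu) g)
    (fun u hu g => subgroupBlockCoeff_conj_of_mem c (hC hu) g)
    (pairIdem_mul_self hc.1.2.1) hf').2
  change pairIdem hf' * cut _ (pairIdem hc.1.2.1) = pairIdem hf' ∨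
    pairIdem hf' * cut _ (pairIdem hc.1.2.1) = 0 at dc
  have hiff : IsBrauerPairOf p M B P f ↔
      IsBrauerPairOf p M c (P.subgroupOf H) (relBlock hPH hC f) := by
    constructor
    · intro h
      obtain ⟨x, hx, hxe⟩ := exists_conj_pair_same_group hpM hB h
      have h1 := isBrauerPairOf_conj (a := ⟨P.subgroupOf H, relBlock hPH hC e⟩) hc.1 ⟨x, hH hx⟩
      rwa [(conjPair_rel_iff hPH hC hPH hC e f ⟨x, hH hx⟩).2 hxe] at h1
    · intro h
      obtain ⟨x, -, hxe⟩ := exists_conj_pair_same_group hpM hc h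
      have h1 := isBrauerPairOf_conj (a := ⟨P, e⟩) hB.1 (x : G)
      rwa [(conjPair_rel_iff hPH hC hPH hC e f x).1 hxe] at h1
  rw [isBrauerPairOf_rel_iff hpM hPH hC hP hf' hc.1.2.1, dB.1] at hiff
  rcases dB.2 with h1 | h1
  · rw [h1, hiff.1 h1]
  · rcases dc with h2 | h2
    · rw [h2, hiff.2 h2]
    · rw [h1, h2]

theorem cut_eq_iff_congr {a b : G → ℂ} (ha : ∀ g, a g ∈ loc M) (hb : ∀ g, b g ∈ loc M)
    (S : Set G) :
    cut S (redFun a ha) = cut S (redFun b hb) ↔ ∀ x ∈ S, MemLocalIdeal M (a x - b x) := by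
  constructor
  · intro h x hx
    have h1 := congrArg (fun F => MonoidAlgebra.coeff F x) h
    simp only [coeff_cut_of_mem _ hx, coeff_redFun] at h1
    have h2 : red (⟨a x, ha x⟩ - ⟨b x, hb x⟩ : loc M) = 0 := by rw [map_sub, h1, sub_self]
    exact red_eq_zero_iff.1 h2
  · intro h
    apply MonoidAlgebra.ext
    ext x
    by_cases hx : x ∈ S
    · rw [coeff_cut_of_mem _ hx, coeff_cut_of_mem _ hx, coeff_redFun, coeff_redFun, ← sub_eq_zero,
        ← map_sub]
      exact red_eq_zero_iff.2 (h x hx)
    · rw [coeff_cut_of_notMem _ hx, coeff_cut_of_notMem _ hx]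

end CfsgLib.Blocks
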