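import Cfsg.Agent.Lib.Blocks.PiPrimeKernel
import Cfsg.Agent.Lib.Blocks.RelPairs

/-!
# Induction from subgroups containing the centralizer of a defect group
-/

set_option linter.unusedSectionVars false
set_option linter.style.haveILetI false

namespace CfsgLib.Blocks

open Cfsg Chars

namespace InducedDef

variable {G : Type*} [Group G] [Fintype G] {M : Ideal AlgInt} [M.IsPrime] {p : ℕ} [Fact p.Prime]

theorem pow_unit_identity {A : Type*} [Ring A] {E X w : A} (hw : ∀ y, Commute w y)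
    (h : E = E * X * w) : ∀ m : ℕ, E = E * X ^ m * w ^ m := by
  intro m
  induction m with
  | zero => simp
  | succ m ih =>
    calc E = E * X * w := h
      _ = E * X ^ m * w ^ m * X * w := by rw [← ih]
      _ = _ := by
        rw [mul_assoc (E * X ^ m) (w ^ m), ((hw X).pow_left m).eq, pow_succ, pow_succ]
        simp only [mul_assoc]

/-- A pair of a local block on a subgroup containing the centralizer gives the induced block. -/
theorem isInducedBlock_of_rel_pair (hpM : (p : AlgInt) ∈ M) {H P : Subgroup G} [Fintype H]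
    (hP : IsPGroup p P) (hPH : P ≤ H) (hCH : Subgroup.centralizer (P : Set G) ≤ H)
    {f : Set (IrrCharacter (Subgroup.centralizer (P : Set G)))} (hf : IsPBlock M f)
    {b : Set (IrrCharacter H)} {B : Set (IrrCharacter G)} (hB : IsBrauerPairOf p M B P f)
    (hb : IsBrauerPairOf p M b (P.subgroupOf H) (relBlock hPH hCH f)) :
    IsInducedBlock M H b B := by
  classical
  haveI := charP_resField (M := M) (Fact.out (p := p.Prime)) hpM
  refine ⟨hb.2.1, hB.2.1, fun ξ hξ χ hχ g => ?_⟩
  have hc0 : centralChar (χ : G → ℂ) g ∈ loc M := centralChar_mem_loc χ g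
  obtain ⟨a, hadef⟩ : ∃ a : G → ℂ,
      a = classInd g + (-centralChar (χ : G → ℂ) g) • classInd 1 := ⟨_, rfl⟩
  have ha : IsLocClassFun M a :=
    hadef ▸ (isLocClassFun_classInd g).add ((isLocClassFun_classInd 1).smul (neg_mem hc0))
  have haH := isLocClassFun_resFun H ha
  have hone : resFun H (classInd (1 : G)) = classInd (1 : H) := funext fun h => by
    simp only [resFun, classInd_apply]
    have e1 : IsConj (1 : G) (h : G) ↔ IsConj (1 : H) h := by
      rw [isConj_one_right, isConj_one_right]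
      exact ⟨fun e => Subtype.ext e, fun e => by rw [e]; rfl⟩
    by_cases hh : IsConj (1 : H) h
    · rw [if_pos hh, if_pos (e1.2 hh)]
    · rw [if_neg hh, if_neg (mt e1.1 hh)]
  have hχa : omega (χ : G → ℂ) a = 0 := by
    rw [hadef, omega_add, omega_smul, omega_classInd, omega_classInd, centralChar_one]
    ring
  have hξa : omega (ξ : H → ℂ) (resFun H a) =
      inducedCentralChar H (ξ : H → ℂ) g - centralChar (χ : G → ℂ) g := by
    rw [hadef, show resFun H (classInd g + (-centralChar (χ : G → ℂ) g) • classInd 1) =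
      resFun H (classInd g) + (-centralChar (χ : G → ℂ) g) • resFun H (classInd 1) from rfl,
      omega_add, omega_smul, hone, omega_classInd, centralChar_one, inducedCentralChar_eq]
    ring
  rw [← hξa]
  by_contra hu
  obtain ⟨w, hw, hE⟩ := exists_blockIdem_eq_mul hb.2.1 haH hξ hu
  have hn' := (isLocClassFun_blockCoeff hB.2.1).conv ha
  have hnil := isNilpotent_redFun hn' (fun ψ => by
    rw [omega_conv ψ (isClassFunction_blockCoeff B), omega_blockCoeff]
    by_cases hψ : ψ ∈ B
    · rw [if_pos hψ, one_mul]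
      have h4 := omega_sub_mem (IsPBlock.sameBlock hB.2.1 hψ hχ) ha
      rwa [hχa, sub_zero] at h4
    · rw [if_neg hψ, zero_mul]; exact MemLocalIdeal.zero')
  have e : redFun (conv (blockCoeff B) a) hn'.2 = blockIdem hB.2.1 * redFun a ha.2 := by
    rw [blockIdem, redFun, redFun, redFun, ← map_mul,
      toAlg_conv (blockCoeff_mem_loc hB.2.1) ha.2 hn'.2]
  rw [e] at hnil
  obtain ⟨n, hn⟩ := hnil
  rw [(commute_blockIdem hB.2.1 _).mul_pow] at hn
  have hidem : ∀ m : ℕ, blockIdem hB.2.1 * blockIdem hB.2.1 ^ m = blockIdem hB.2.1 := fun m => by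
    rw [← pow_succ', (show IsIdempotentElem (blockIdem hB.2.1) from
      blockIdem_mul_self hB.2.1).pow_succ_eq m]
  have hBA : blockIdem hB.2.1 * redFun a ha.2 ^ n = 0 := by
    rw [← hidem n, mul_assoc, hn, mul_zero]
  -- the local side
  have hwfix : IsFixedBy (P.subgroupOf H) w := isFixedBy_iff_commute.2 fun _ _ => hw _
  have hPp : IsPGroup p (P.subgroupOf H) := isPGroup_subgroupOf hP hPH
  have h1 := pow_unit_identity hw hE n
  have h2 := congrArg (cut (Subgroup.centralizer (P.subgroupOf H : Set H) : Set H)) h1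
  rw [cut_mul p hPp ((isFixedBy_blockIdem hb.2.1 _).mul ((isFixedBy_redFun haH _).pow n))
    (hwfix.pow n), cut_mul p hPp (isFixedBy_blockIdem hb.2.1 _) ((isFixedBy_redFun haH _).pow n),
    cut_pow p hPp (isFixedBy_redFun haH _) n] at h2
  have h3 := congrArg (incl M H) h2
  rw [map_mul, map_mul, map_pow, incl_cut hPH hCH, incl_cut hPH hCH, ← pairIdem_eq_incl,
    ← cut_redFun_eq_incl ha.2, cut_cut, Set.inter_eq_left.2 hCH] at h3
  have hb' := (isBrauerPairOf_rel_iff hpM hPH hCH hP hf hb.2.1).1 hb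
  have hB' := (isBrauerPairOf_iff hpM hB.1 hB.2.1).1.1 hB
  have h4 : pairIdem hf * cut (Subgroup.centralizer (P : Set G) : Set G) (redFun a ha.2) ^ n = 0 := by
    rw [← show pairIdem hf * cut (Subgroup.centralizer (P : Set G) : Set G) (blockIdem hB.2.1) =
      pairIdem hf from hB', mul_assoc, ← cut_pow p hP (isFixedBy_redFun ha P),
      ← cut_mul p hP (isFixedBy_blockIdem hB.2.1 P) ((isFixedBy_redFun ha P).pow n), hBA,
      cut_zero, mul_zero]
  apply pairIdem_ne_zero hf
  rw [← hb', h3, ← mul_assoc, ← mul_assoc, hb', h4, zero_mul]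

/-- Induction and defect groups over a subgroup containing the centralizer of a defect group. -/
theorem main (hpM : (p : AlgInt) ∈ M) {H : Subgroup G} [Fintype H] {b : Set (IrrCharacter H)}
    (hb : IsPBlock M b) {D₀ : Subgroup H} (hD₀ : IsDefectGroup p M b D₀)
    (hC : Subgroup.centralizer ((D₀.map H.subtype : Subgroup G) : Set G) ≤ H) :
    ∃ (B : Set (IrrCharacter G)) (D : Subgroup G), IsInducedBlock M H b B ∧
      IsDefectGroup p M B D ∧ D₀.map H.subtype ≤ D ∧
      (Subgroup.center D).map D.subtype ≤ ((Subgroup.center D₀).map D₀.subtype).map H.subtype := by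
  obtain ⟨P, hPdef⟩ : ∃ P, P = D₀.map H.subtype := ⟨_, rfl⟩
  rw [← hPdef] at hC ⊢
  have hPH : P ≤ H := hPdef ▸ Subgroup.map_subtype_le D₀
  obtain rfl : D₀ = P.subgroupOf H := by
    rw [hPdef, Subgroup.subgroupOf, Subgroup.comap_map_eq_self_of_injective H.subtype_injective]
  have hP : IsPGroup p P := hPdef ▸ (IsDefectGroup.isPGroup hD₀).map _
  obtain ⟨h', hh'⟩ := exists_pair_on_defectGroup hpM hb hD₀
  obtain ⟨f, hf, rfl⟩ := exists_relBlock hPH hC hh'.1.2
  obtain ⟨B, hB, -⟩ := existsUnique_block_of_pair hpM (⟨hP, hf⟩ : IsBrauerPair p M P f)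
  obtain ⟨⟨D, e⟩, hle, hmax⟩ := exists_maximal_above hpM ⟨P, f⟩ hB
  refine ⟨B, D, isInducedBlock_of_rel_pair hpM hP hPH hC hf hB hh',
    isDefectGroup_of_maximal hpM hmax, below_le hle, ?_⟩
  rintro _ ⟨z, hz, rfl⟩
  have hzD : ∀ u ∈ D, u * (z : G) = (z : G) * u := fun u hu =>
    congrArg Subtype.val (Subgroup.mem_center_iff.1 hz ⟨u, hu⟩)
  have hzC : (z : G) ∈ Subgroup.centralizer (P : Set G) :=
    Subgroup.mem_centralizer_iff.2 fun u hu => hzD u (below_le hle hu)
  obtain ⟨Q, hQ⟩ : ∃ Q, Q = P ⊔ Subgroup.zpowers (z : G) := ⟨_, rfl⟩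
  have hQD : Q ≤ D := hQ ▸ sup_le (below_le hle) (Subgroup.zpowers_le.2 z.2)
  have hQH : Q ≤ H := hQ ▸ sup_le hPH (Subgroup.zpowers_le.2 (hC hzC))
  have hQN : Q ≤ Subgroup.normalizer (P : Set G) := hQ ▸ sup_le Subgroup.le_normalizer
    (Subgroup.zpowers_le.2 (Subgroup.centralizer_le_normalizer _ hzC))
  have hPQ : P ≤ Q := hQ ▸ le_sup_left
  have hCQ : Subgroup.centralizer (Q : Set G) ≤ H := (centralizer_antitone hPQ).trans hC
  obtain ⟨g', hg'⟩ := exists_below (b := ⟨D, e⟩) hpM hmax.1.1 Q hQD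
  have hn := isNormalSubpair_of_below (b := ⟨D, e⟩) hpM hmax.1.1 hle hg' hPQ hQN
  have hn' := (isNormalSubpair_rel_iff hpM hPH hC hQH hCQ hn.2.1.1 hPQ hQN hf hn.2.1.2).2 hn
  have heq := (isMaximal_iff_no_normal_step hpM hh').1 (isMaximal_of_defectGroup hpM hD₀ hh') _ _ hn'
  have hzP : (z : G) ∈ P := by
    have h1 : (⟨(z : G), hC hzC⟩ : H) ∈ Q.subgroupOf H :=
      Subgroup.mem_subgroupOf.2 (hQ ▸ Subgroup.mem_sup_right (Subgroup.mem_zpowers _))
    rw [heq] at h1
    exact Subgroup.mem_subgroupOf.1 h1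
  refine ⟨⟨(z : G), hPH hzP⟩, ⟨⟨⟨(z : G), hPH hzP⟩, hzP⟩, ?_, rfl⟩, rfl⟩
  exact Subgroup.mem_center_iff.2 fun u =>
    Subtype.ext (Subtype.ext (hzD _ (below_le hle (Subgroup.mem_subgroupOf.1 u.2))))

end InducedDef

end CfsgLib.Blocks
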