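import Cfsg.Agent.Lib.Blocks.ColSysSections
import Cfsg.Agent.Lib.Blocks.FourDefect

/-!
# The columns of a two-block with a four group as defect group
-/

set_option autoImplicit false
set_option linter.unusedSectionVars false
set_option linter.style.haveILetI false

namespace CfsgLib.Blocks

open Cfsg Chars BlockOrth Finset
open scoped ComplexConjugate

universe u

variable {G : Type u} [Group G] [Fintype G] {M : Ideal AlgInt} [M.IsPrime]
  {B : Set (IrrCharacter G)} {P : Subgroup G}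
  {c : Set (IrrCharacter (Subgroup.centralizer (P : Set G)))}

open scoped Classical in
/-- An automorphism of odd order of a four group fixing an involution is trivial. -/
theorem four_aut_eq_one {A : Type*} [Group A] [Fintype A] (hA : Nat.card A = 4)
    (hsq : ∀ x : A, x * x = 1) {σ : MulAut A} {m : ℕ} (hσ : σ ^ (2 * m + 1) = 1) {u : A}
    (hu : u ≠ 1) (hfix : σ u = u) : σ = 1 := by
  refine MulEquiv.ext fun v => ?_
  rw [MulAut.one_apply]
  by_cases hv1 : v = 1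
  · rw [hv1, map_one]
  by_cases hvu : v = u
  · rw [hvu, hfix]
  have huv : u * v ≠ 1 := fun h => hvu (mul_left_cancel (h.trans (hsq u).symm))
  have h4 : ({1, u, v, u * v} : Finset A) = univ := by
    refine Finset.eq_univ_of_card _ ?_
    rw [← Nat.card_eq_fintype_card, hA, Finset.card_insert_of_notMem, Finset.card_insert_of_notMem,
      Finset.card_pair]
    · exact fun h => hu (mul_eq_right.1 h.symm)
    · simp only [mem_insert, mem_singleton, not_or]
      exact ⟨Ne.symm hvu, fun h => hv1 (mul_eq_left.1 h.symm)⟩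
    · simp only [mem_insert, mem_singleton, not_or]
      exact ⟨Ne.symm hu, Ne.symm hv1, Ne.symm huv⟩
  have h := (Finset.mem_insert.1 (h4 ▸ mem_univ (σ v) : σ v ∈ ({1, u, v, u * v} : Finset A)))
  simp only [mem_insert, mem_singleton] at h
  rcases h with h | h | h | h
  · exact absurd (σ.injective (h.trans (map_one σ).symm)) hv1
  · exact absurd (σ.injective (h.trans hfix.symm)) hvu
  · exact h
  · exfalso
    have h2 : (σ ^ 2) v = v := by
      rw [sq, MulAut.mul_apply, h, map_mul, hfix, h, ← mul_assoc, hsq, one_mul]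
    have h2m : ∀ k : ℕ, ((σ ^ 2) ^ k) v = v := fun k => by
      induction k with
      | zero => simp
      | succ k ih => rw [pow_succ, MulAut.mul_apply, h2, ih]
    have h3 : (σ ^ (2 * m + 1)) v = v := by rw [hσ, MulAut.one_apply]
    rw [pow_succ, pow_mul, MulAut.mul_apply, h, map_mul, h2m,
      show ((σ ^ 2) ^ m) u = u by
        have hk : ∀ k : ℕ, (σ ^ k) u = u := fun k => by
          induction k with
          | zero => simp
          | succ k ih => rw [pow_succ, MulAut.mul_apply, hfix, ih]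
        rw [← pow_mul, hk]] at h3
    exact hu (mul_eq_right.1 h3)

open scoped Classical in
/-- **The columns**: signs, constant for inertial index three and orthogonal for index one. -/
theorem exists_klein_colSys (hM : IsPModular 2 M) (hmax : IsMaximalBrauerPair 2 M B P c)
    (hP4 : Nat.card P = 4) (hsq : ∀ x ∈ P, x * x = 1) [Fintype P] :
    ∃ σ : IrrCharacter G → {u : P // u ≠ 1} → ℤ,
      ColSys 2 M B (fun χ a => (σ χ a : ℂ)) ∧ (∀ χ ∈ B, ∀ a, σ χ a = 1 ∨ σ χ a = -1) ∧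
      (Nat.card (inertia c) = 3 → ∀ χ ∈ B, ∀ a b, σ χ a = σ χ b) ∧
      (Nat.card (inertia c) = 1 → ∀ a b, a ≠ b → ∑ᶠ χ ∈ B, σ χ a * σ χ b = 0) := by
  have hpM := hM.2.2
  have hc : IsBrauerPair 2 M P c := hmax.1.1
  have hab := four_comm hsq
  haveI := irrFintype G
  haveI := Fintype.ofFinite (inertia c)
  obtain ⟨hr13, hB4, -⟩ := four_defect hM hmax hP4 hsq
  rw [← card_inertia] at hr13
  have hsq' : ∀ x : P, x * x = 1 := fun x => Subtype.ext (hsq x x.2)
  have hifree : ∀ τ ∈ inertia c, ∀ u : P, u ≠ 1 → τ u = u → τ = 1 := by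
    intro τ hτ u hu hfix
    obtain ⟨m, hm⟩ : ∃ m, Nat.card (inertia c) = 2 * m + 1 := by
      rcases hr13 with h | h
      exacts [⟨0, h⟩, ⟨1, h⟩]
    refine four_aut_eq_one (m := m) hP4 hsq' ?_ hu hfix
    rw [← hm]
    exact congrArg Subtype.val (pow_card_eq_one' (x := (⟨τ, hτ⟩ : inertia c)))
  have hfree : ∀ g ∈ stabPair ⟨P, c⟩, ∀ x ∈ P, x ≠ 1 → g * x * g⁻¹ = x →
      g ∈ Subgroup.centralizer (P : Set G) := by
    intro g hg x hx hx1 hfix
    obtain ⟨τ, hτ⟩ : ∃ τ : MulAut P, τ = P.normalizerMonoidHom ⟨g, stabPair_le_normalizer _ hg⟩ :=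
      ⟨_, rfl⟩
    have h1 : τ = 1 := hifree τ (hτ ▸ ⟨⟨g, stabPair_le_normalizer _ hg⟩, hg, rfl⟩) ⟨x, hx⟩
      (fun h => hx1 (congrArg Subtype.val h)) (Subtype.ext (by rw [hτ]; exact hfix))
    refine Subgroup.mem_centralizer_iff.2 fun y hy => ?_
    have h2 := DFunLike.congr_fun h1 (⟨y, hy⟩ : P)
    rw [hτ, MulAut.one_apply] at h2
    have h3 : g * y * g⁻¹ = y := congrArg Subtype.val h2
    exact (mul_inv_eq_iff_eq_mul.1 h3).symm
  obtain ⟨s, V, hs, -, hV, hsec, hnorm, hinv⟩ := exists_colSys_sections hpM hmax hab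
    fun u hu hu1 f hf => blockRank_eq_one_of_below_free hM hmax hab hfree
      (fun h => hu1 (Subgroup.zpowers_eq_bot.1 h)) hf
  choose n hn using fun χ a => hinv χ a (hsq _ (a : {u : P // u ≠ 1}).1.2)
  have hfin : ∀ F : IrrCharacter G → ℂ, ∑ᶠ χ ∈ B, F χ = ∑ χ ∈ univ.filter (· ∈ B), F χ := fun F =>
    finsum_mem_eq_sum_of_inter_support_eq _ (by ext; simp)
  have hcard : (univ.filter (· ∈ B)).card = 4 := by
    rw [← hB4, Nat.card_eq_fintype_card, Fintype.card_subtype]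
  -- every entry is a sign
  have hsign : ∀ χ ∈ B, ∀ a, n χ a = 1 ∨ n χ a = -1 := by
    intro χ hχ a
    have h4 : ∑ ψ ∈ univ.filter (· ∈ B), n ψ a * n ψ a = 4 := by
      have h := hnorm a
      rw [hfin, hP4] at h
      apply Int.cast_injective (α := ℂ)
      push_cast
      refine Eq.trans ?_ (h.trans (by norm_num))
      exact Finset.sum_congr rfl fun ψ _ => by rw [hn, map_intCast]
    have hreg : ∑ ψ ∈ univ.filter (· ∈ B), n ψ a * (charDegree (ψ : G → ℂ) : ℤ) = 0 := by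
      have h := hs.regular 1 (by simp) a
      rw [hfin] at h
      apply Int.cast_injective (α := ℂ)
      push_cast
      refine Eq.trans ?_ h
      exact Finset.sum_congr rfl fun ψ _ => by rw [hn, irr_apply_one]
    have hne : ∀ ψ ∈ univ.filter (· ∈ B), n ψ a ≠ 0 := by
      intro ψ hψ h0
      -- one zero forces an entry two, hence a single nonzero entry, against the degrees
      obtain ⟨S, hS⟩ : ∃ S, S = (univ.filter (· ∈ B)).filter fun χ => n χ a ≠ 0 := ⟨_, rfl⟩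
      have hSmem : ∀ χ, χ ∈ S ↔ χ ∈ univ.filter (· ∈ B) ∧ n χ a ≠ 0 := fun χ => by
        rw [hS, mem_filter]
      have hsum : ∑ χ ∈ S, n χ a * n χ a = 4 := by
        rw [hS, Finset.sum_filter_of_ne (p := fun χ => n χ a ≠ 0)
          (fun χ _ h h' => h (by rw [h', mul_zero]))]
        exact h4
      have hle : S.card ≤ 3 := by
        have : S ⊆ (univ.filter (· ∈ B)).erase ψ := fun χ hχ => by
          rw [hS, mem_filter] at hχ
          exact mem_erase.2 ⟨fun h => hχ.2 (h ▸ h0), hχ.1⟩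
        have := Finset.card_le_card this
        rw [Finset.card_erase_of_mem hψ, hcard] at this
        omega
      have hval : ∀ χ ∈ S, n χ a * n χ a = 1 ∨ n χ a * n χ a = 4 := fun χ hχ => by
        have h := Finset.single_le_sum (f := fun χ => n χ a * n χ a)
          (fun j _ => mul_self_nonneg (n j a)) hχ
        simp only [hsum] at h
        have hne := ((hSmem χ).1 hχ).2
        have h1 : -2 ≤ n χ a := by nlinarith
        have h2 : n χ a ≤ 2 := by nlinarith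
        obtain h' | h' | h' | h' : n χ a = -2 ∨ n χ a = -1 ∨ n χ a = 1 ∨ n χ a = 2 := by omega
        all_goals simp [h']
      by_cases hbig : ∃ χ ∈ S, n χ a * n χ a = 4
      · obtain ⟨χ, hχ, hχ4⟩ := hbig
        have hrest : ∑ χ' ∈ S.erase χ, n χ' a * n χ' a = 0 := by
          rw [← Finset.add_sum_erase _ _ hχ, hχ4] at hsum
          omega
        have hrest' := (Finset.sum_eq_zero_iff_of_nonneg fun j _ => mul_self_nonneg (n j a)).1 hrest
        rw [Finset.sum_eq_single χ (fun χ' hχ' hne' => ?_)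
          (fun h => absurd ((hSmem χ).1 hχ).1 h)] at hreg
        · rcases mul_eq_zero.1 hreg with h | h
          · exact ((hSmem χ).1 hχ).2 h
          · exact irr_charDegree_ne_zero χ (by exact_mod_cast h)
        · by_contra h
          have hmem : χ' ∈ S := by
            rw [hS]; exact mem_filter.2 ⟨hχ', fun h0 => h (by rw [h0, zero_mul])⟩
          exact ((hSmem χ').1 hmem).2
            (mul_self_eq_zero.1 (hrest' χ' (mem_erase.2 ⟨hne', hmem⟩)))
      · simp only [not_exists, not_and] at hbig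
        rw [Finset.sum_congr rfl fun χ hχ => (hval χ hχ).resolve_right (hbig χ hχ)] at hsum
        simp at hsum
        omega
    have hge : ∀ ψ ∈ univ.filter (· ∈ B), (1 : ℤ) ≤ n ψ a * n ψ a := fun ψ hψ =>
      Int.add_one_le_iff.2 (mul_self_pos.2 (hne ψ hψ))
    have h1 : ∑ ψ ∈ univ.filter (· ∈ B), (n ψ a * n ψ a - 1) = 0 := by
      rw [Finset.sum_sub_distrib, h4, Finset.sum_const, hcard]
      norm_num
    have h2 := (Finset.sum_eq_zero_iff_of_nonneg fun j hj => sub_nonneg.2 (hge j hj)).1 h1 χ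
      (mem_filter.2 ⟨mem_univ _, hχ⟩)
    exact sq_eq_one_iff.1 (by rw [sq]; linarith)
  haveI : Nontrivial P := Finite.one_lt_card_iff_nontrivial.1 (by rw [hP4]; norm_num)
  obtain ⟨a₀⟩ : Nonempty {u : P // u ≠ 1} := ⟨⟨_, (exists_ne (1 : P)).choose_spec⟩⟩
  obtain ⟨χ₀, hχ₀⟩ := IsPBlock.nonempty hmax.1.2.1
  rcases hr13 with h1 | h3
  · -- trivial inertia
    refine ⟨n, ?_, hsign, fun h => absurd (h1.symm.trans h) (by norm_num), fun _ a b hab' => ?_⟩
    · exact hs.smul (fun _ => 1) (fun _ => 1) (fun _ => one_mem _) (fun _ => one_mem _)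
        (fun _ => one_mul 1) _ fun χ _ a => by rw [hn, one_mul]
    have hsum := sum_secVal_pairBelow hpM hmax a.1.2 b.1.2
    rw [Finset.filter_false_of_mem (s := (univ : Finset G)) fun g _ hg => ?_, Finset.card_empty,
      Nat.cast_zero, zero_mul] at hsum
    · apply Int.cast_injective (α := ℂ)
      rw [finsum_mem_eq_sum_of_inter_support_eq (t := univ.filter (· ∈ B)) _ (by ext; simp)]
      push_cast
      rw [Finset.sum_congr rfl fun χ (_ : χ ∈ univ.filter (· ∈ B)) => show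
        secVal (pairBelow 2 M ⟨P, c⟩ ((a.1 : P) : G)) (χ : G → ℂ) ((a.1 : P) : G) *
          conj (secVal (pairBelow 2 M ⟨P, c⟩ ((b.1 : P) : G)) (χ : G → ℂ) ((b.1 : P) : G)) =
          ((n χ a : ℂ) * (n χ b : ℂ)) * (V a * conj (V b)) by
        rw [hsec, hsec, hn, hn, map_mul, map_intCast]; ring, ← Finset.sum_mul] at hsum
      exact (mul_eq_zero.1 hsum).resolve_right
        (mul_ne_zero (hV a) ((map_ne_zero (starRingEnd ℂ)).2 (hV b)))
    · obtain ⟨hg₀, hg₀'⟩ := hg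
      obtain ⟨f, hf⟩ := exists_below (b := ⟨P, c⟩) hpM hc _ (Subgroup.zpowers_le.2 a.1.2)
      have hfu := eq_pairBelow (c := (⟨P, c⟩ : BrauerPairIdx G))
        (a := ⟨Subgroup.zpowers ((a.1 : P) : G), f⟩) hpM hc hf rfl
      obtain ⟨w, hw, hwT⟩ := exists_centralizer_conj_of_below hpM hmax hab hf (x := g⁻¹) (by
        have h2 := below_conj (pairBelow_below (c := ⟨P, c⟩) hpM hc b.1.2) g⁻¹
        rwa [← hg₀', conjPair_mul, inv_mul_cancel, conjPair_one, ← hfu] at h2)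
      have hT : g * w⁻¹ ∈ stabPair ⟨P, c⟩ := by
        have := inv_mem hwT
        rwa [mul_inv_rev, inv_inv] at this
      have hC : g * w⁻¹ ∈ Subgroup.centralizer (P : Set G) :=
        Subgroup.relIndex_eq_one.1 ((card_inertia c).symm.trans h1) hT
      have hcw := Subgroup.mem_centralizer_iff.1 hw ((a.1 : P) : G) (Subgroup.mem_zpowers _)
      refine hab' (Subtype.ext (Subtype.ext ?_))
      calc ((a.1 : P) : G) = g * w⁻¹ * ((a.1 : P) : G) * (g * w⁻¹)⁻¹ := by
            rw [← Subgroup.mem_centralizer_iff.1 hC _ a.1.2, mul_inv_cancel_right]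
        _ = g * (w⁻¹ * (((a.1 : P) : G) * w)) * g⁻¹ := by group
        _ = g * ((a.1 : P) : G) * g⁻¹ := by rw [hcw, inv_mul_cancel_left]
        _ = ((b.1 : P) : G) := hg₀
  · -- index three
    have htrans : ∀ a, ∃ τ : inertia c, (τ : MulAut P) a₀.1 = (a : {u : P // u ≠ 1}).1 := by
      intro a
      have himg : univ.image (fun τ : inertia c => (τ : MulAut P) a₀.1) = univ.erase (1 : P) := by
        refine Finset.eq_of_subset_of_card_le (fun w hw => ?_) ?_
        · obtain ⟨τ, -, rfl⟩ := mem_image.1 hw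
          exact Finset.mem_erase.2 ⟨fun h => a₀.2 ((τ : MulAut P).injective (h.trans (map_one _).symm)),
            mem_univ _⟩
        · rw [Finset.card_image_of_injective _ fun τ τ' h => Subtype.ext ?_,
            Finset.card_erase_of_mem (mem_univ _), Finset.card_univ, Finset.card_univ,
            ← Nat.card_eq_fintype_card, ← Nat.card_eq_fintype_card, hP4, h3]
          have h := hifree _ (mul_mem (inv_mem τ'.2) τ.2) a₀.1 a₀.2 (by
            rw [MulAut.mul_apply, h, MulAut.inv_apply_self])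
          exact (inv_mul_eq_one.1 h).symm
      have hmem : a.1 ∈ univ.image fun τ : inertia c => (τ : MulAut P) a₀.1 := by
        rw [himg]; exact mem_erase.2 ⟨a.2, mem_univ _⟩
      obtain ⟨τ, -, hτ⟩ := mem_image.1 hmem
      exact ⟨τ, hτ⟩
    have hrel : ∀ χ : IrrCharacter G, ∀ a, (n χ a : ℂ) * V a = (n χ a₀ : ℂ) * V a₀ := by
      intro χ a
      obtain ⟨τ, hτ⟩ := htrans a
      obtain ⟨g, hg, hgu⟩ := mem_inertia.1 τ.2
      have hgv : g * ((a₀.1 : P) : G) * g⁻¹ = ((a.1 : P) : G) := by rw [← hgu, hτ]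
      have hpair : conjPair g (pairBelow 2 M ⟨P, c⟩ ((a₀.1 : P) : G)) =
          pairBelow 2 M ⟨P, c⟩ ((a.1 : P) : G) := by
        refine eq_pairBelow (c := (⟨P, c⟩ : BrauerPairIdx G)) hpM hc ?_ ?_
        · have h := below_conj (pairBelow_below (c := ⟨P, c⟩) hpM hc a₀.1.2) g
          rwa [show conjPair g (⟨P, c⟩ : BrauerPairIdx G) = ⟨P, c⟩ from hg] at h
        · show (pairBelow 2 M ⟨P, c⟩ ((a₀.1 : P) : G)).1.map _ = _
          rw [pairBelow_fst, map_zpowers_conj, hgv]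
      rw [← hn, ← hn, ← hsec, ← hsec, ← secVal_conj (isClassFunction_irr χ) g
        (pairBelow 2 M ⟨P, c⟩ ((a₀.1 : P) : G)), hgv, hpair]
    have hκ : ∀ χ ∈ B, ∀ a, n χ a = n χ₀ a * n χ₀ a₀ * n χ a₀ := by
      intro χ hχ a
      have h1 := hrel χ a
      have h2 := hrel χ₀ a
      apply Int.cast_injective (α := ℂ)
      push_cast
      refine mul_right_cancel₀ (hV a) ?_
      rcases hsign χ₀ hχ₀ a₀ with e | e <;> rw [e] at h2 ⊢ <;> push_cast at h2 ⊢
      · linear_combination h1 - (n χ a₀ : ℂ) * h2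
      · linear_combination h1 + (n χ a₀ : ℂ) * h2
    have hk2 : ∀ a, ((n χ₀ a * n χ₀ a₀ : ℤ) : ℂ) * ((n χ₀ a * n χ₀ a₀ : ℤ) : ℂ) = 1 := fun a => by
      rcases hsign χ₀ hχ₀ a with e | e <;> rcases hsign χ₀ hχ₀ a₀ with e' | e' <;> simp [e, e']
    refine ⟨fun χ _ => n χ a₀, ?_, fun χ hχ a => hsign χ hχ a₀, fun _ χ _ a b => rfl,
      fun h => absurd (h.symm.trans h3) (by norm_num)⟩
    exact hs.smul (fun a => ((n χ₀ a * n χ₀ a₀ : ℤ) : ℂ)) (fun a => ((n χ₀ a * n χ₀ a₀ : ℤ) : ℂ))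
      (fun a => intCast_mem _ _) (fun a => intCast_mem _ _) hk2 _ fun χ hχ a => by
        rw [hn, hκ χ hχ a]; push_cast; ring

theorem sgn_sq {x : ℤ} (hx : x = 1 ∨ x = -1) : x * x = 1 := by
  rcases hx with h | h <;> rw [h] <;> norm_num

theorem sgn_mul {x y : ℤ} (hx : x = 1 ∨ x = -1) (hy : y = 1 ∨ y = -1) :
    x * y = 1 ∨ x * y = -1 := by
  rcases hx with h | h <;> rcases hy with h' | h' <;> rw [h, h'] <;> norm_num

theorem sgn_eq {x y : ℤ} (hx : x = 1 ∨ x = -1) (hy : y = 1 ∨ y = -1) (h : x = 1 ↔ y = 1) : x = y := by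
  rcases hx with hx | hx <;> rcases hy with hy | hy <;> subst hx hy <;> simp at h ⊢

open scoped Classical in
/-- The rows of three orthogonal sign columns on four characters are told apart by two products. -/
theorem klein_key {K : Type*} [Group K] [Fintype K] {U : Type*} [Fintype U]
    (a b e : U) (hab : a ≠ b) (hae : a ≠ e) (hbe : b ≠ e) (C : Set (IrrCharacter K))
    (ρ : IrrCharacter K → U → ℤ) (hC : Nat.card C = 4)
    (hρ : ∀ χ ∈ C, ∀ x, ρ χ x = 1 ∨ ρ χ x = -1)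
    (horth : ∀ x y, x ≠ y → ∑ᶠ χ ∈ C, ρ χ x * ρ χ y = 0) :
    Function.Bijective fun χ : C =>
      (decide (ρ χ.1 b * ρ χ.1 e = 1), decide (ρ χ.1 a * ρ χ.1 e = 1)) := by
  haveI := Fintype.ofFinite C
  rw [Fintype.bijective_iff_injective_and_card]
  refine ⟨fun χ ψ h => ?_, by rw [← Nat.card_eq_fintype_card, hC]; rfl⟩
  by_contra hne
  simp only [Prod.mk.injEq, decide_eq_decide] at h
  have hX : ∀ η : C, ρ η.1 b * ρ η.1 e = 1 ∨ ρ η.1 b * ρ η.1 e = -1 := fun η =>
    sgn_mul (hρ _ η.2 b) (hρ _ η.2 e)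
  have hY : ∀ η : C, ρ η.1 a * ρ η.1 e = 1 ∨ ρ η.1 a * ρ η.1 e = -1 := fun η =>
    sgn_mul (hρ _ η.2 a) (hρ _ η.2 e)
  have hxψ := sgn_eq (hX χ) (hX ψ) h.1
  have hyψ := sgn_eq (hY χ) (hY ψ) h.2
  obtain ⟨x0, hx0⟩ : ∃ x0, x0 = ρ χ.1 b * ρ χ.1 e := ⟨_, rfl⟩
  obtain ⟨y0, hy0⟩ : ∃ y0, y0 = ρ χ.1 a * ρ χ.1 e := ⟨_, rfl⟩
  have hfin : ∀ F : IrrCharacter K → ℤ, ∑ᶠ χ ∈ C, F χ = ∑ χ : C, F χ.1 := fun F => by
    rw [finsum_mem_eq_finite_toFinset_sum _ (Set.toFinite C)]
    exact Finset.sum_subtype _ (by simp) _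
  have hsum : ∑ η : C, (1 + x0 * (ρ η.1 b * ρ η.1 e)) * (1 + y0 * (ρ η.1 a * ρ η.1 e)) = 4 := by
    have h1 := horth b e hbe
    have h2 := horth a e hae
    have h3 := horth a b hab
    rw [hfin] at h1 h2 h3
    rw [Finset.sum_congr rfl fun η (_ : η ∈ univ) =>
      show (1 + x0 * (ρ η.1 b * ρ η.1 e)) * (1 + y0 * (ρ η.1 a * ρ η.1 e)) =
        1 + x0 * (ρ η.1 b * ρ η.1 e) + y0 * (ρ η.1 a * ρ η.1 e) +
          x0 * y0 * (ρ η.1 a * ρ η.1 b) by
        linear_combination x0 * y0 * ρ η.1 a * ρ η.1 b * sgn_sq (hρ η.1 η.2 e)]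
    simp only [Finset.sum_add_distrib, ← Finset.mul_sum, h1, h2, h3, mul_zero, add_zero,
      Finset.sum_const, Finset.card_univ, ← Nat.card_eq_fintype_card, hC]
    norm_num
  have hnn : ∀ η : C, 0 ≤ (1 + x0 * (ρ η.1 b * ρ η.1 e)) * (1 + y0 * (ρ η.1 a * ρ η.1 e)) := by
    intro η
    refine mul_nonneg ?_ ?_
    · rcases sgn_mul (hx0 ▸ hX χ : x0 = 1 ∨ x0 = -1) (hX η) with e1 | e1 <;> rw [e1] <;> norm_num
    · rcases sgn_mul (hy0 ▸ hY χ : y0 = 1 ∨ y0 = -1) (hY η) with e1 | e1 <;> rw [e1] <;> norm_num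
  have h2le := Finset.sum_le_sum_of_subset_of_nonneg (Finset.subset_univ ({χ, ψ} : Finset C))
    (fun η _ _ => hnn η)
  rw [hsum, Finset.sum_pair hne, ← hxψ, ← hyψ, ← hx0, ← hy0, sgn_sq (hx0 ▸ hX χ),
    sgn_sq (hy0 ▸ hY χ)] at h2le
  omega

/-- Matching of two sign systems. -/
theorem exists_klein_matching {H : Type*} [Group H] [Fintype H] {d : Set (IrrCharacter H)}
    {U : Type*} [Fintype U] (hU : Nat.card U = 3) (hB : Nat.card B = 4) (hd : Nat.card d = 4)
    {σ : IrrCharacter G → U → ℤ} {τ : IrrCharacter H → U → ℤ}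
    (hσ : ∀ χ ∈ B, ∀ a, σ χ a = 1 ∨ σ χ a = -1) (hτ : ∀ η ∈ d, ∀ a, τ η a = 1 ∨ τ η a = -1)
    (hcase : ((∀ χ ∈ B, ∀ a b, σ χ a = σ χ b) ∧ ∀ η ∈ d, ∀ a b, τ η a = τ η b) ∨
      ((∀ a b, a ≠ b → ∑ᶠ χ ∈ B, σ χ a * σ χ b = 0) ∧
        ∀ a b, a ≠ b → ∑ᶠ η ∈ d, τ η a * τ η b = 0)) :
    ∃ (I : IrrCharacter H → IrrCharacter G) (ε : IrrCharacter H → ℤ), Set.BijOn I d B ∧
      (∀ η ∈ d, ε η = 1 ∨ ε η = -1) ∧
      ∀ η ∈ d, ∀ a, (σ (I η) a : ℂ) = (ε η : ℂ) * (τ η a : ℂ) := by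
  classical
  obtain ⟨f, hf⟩ : ∃ f : d ≃ B, ∃ ε : d → ℤ, (∀ η, ε η = 1 ∨ ε η = -1) ∧
      ∀ η a, σ (f η).1 a = ε η * τ η.1 a := by
    obtain ⟨g⟩ : Nonempty (d ≃ B) := ⟨(Finite.card_eq.1 (hd.trans hB.symm)).some⟩
    rcases hcase with ⟨hs, ht⟩ | ⟨hs, ht⟩
    · obtain ⟨a₀⟩ : Nonempty U := (Nat.card_ne_zero.1 (by rw [hU]; norm_num)).1
      refine ⟨g, fun η => σ (g η).1 a₀ * τ η.1 a₀, fun η => ?_, fun η a => ?_⟩
      · rcases hσ _ (g η).2 a₀ with e | e <;> rcases hτ _ η.2 a₀ with e' | e' <;> simp [e, e']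
      · rw [hs _ (g η).2 a a₀, ht _ η.2 a a₀]
        rcases hτ _ η.2 a₀ with e' | e' <;> simp [e']
    · obtain ⟨a, b, e, hab, hae, hbe, huniv⟩ := Finset.card_eq_three.1
        (show (univ : Finset U).card = 3 by rw [Finset.card_univ, ← Nat.card_eq_fintype_card, hU])
      have hall : ∀ x : U, x = a ∨ x = b ∨ x = e := fun x => by
        have := mem_univ x; rw [huniv] at this; simpa using this
      let FB := Equiv.ofBijective _ (klein_key a b e hab hae hbe B σ hB hσ hs)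
      let FD := Equiv.ofBijective _ (klein_key a b e hab hae hbe d τ hd hτ ht)
      refine ⟨FD.trans FB.symm, fun η => σ ((FD.trans FB.symm) η).1 a * σ ((FD.trans FB.symm) η).1 b *
        σ ((FD.trans FB.symm) η).1 e * (τ η.1 a * τ η.1 b * τ η.1 e), fun η => ?_, fun η x => ?_⟩
      · have hs' := hσ _ ((FD.trans FB.symm) η).2
        have ht' := hτ _ η.2
        exact sgn_mul (sgn_mul (sgn_mul (hs' a) (hs' b)) (hs' e))
          (sgn_mul (sgn_mul (ht' a) (ht' b)) (ht' e))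
      · obtain ⟨χ, hχ⟩ : ∃ χ, χ = (FD.trans FB.symm) η := ⟨_, rfl⟩
        beta_reduce
        rw [← hχ]
        have h : FB χ = FD η := by simp [hχ]
        simp only [FB, FD, Equiv.ofBijective_apply, Prod.mk.injEq, decide_eq_decide] at h
        have hs' := hσ _ χ.2
        have ht' := hτ _ η.2
        have h1 := sgn_eq (sgn_mul (hs' b) (hs' e)) (sgn_mul (ht' b) (ht' e)) h.1
        have h2 := sgn_eq (sgn_mul (hs' a) (hs' e)) (sgn_mul (ht' a) (ht' e)) h.2
        have qa := sgn_sq (ht' a)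
        have qb := sgn_sq (ht' b)
        have qe := sgn_sq (ht' e)
        have pa := sgn_sq (hs' a)
        have pb := sgn_sq (hs' b)
        have pe := sgn_sq (hs' e)
        rcases hall x with hx | hx | hx <;> rw [hx]
        · rw [show σ χ.1 a * σ χ.1 b * σ χ.1 e * (τ η.1 a * τ η.1 b * τ η.1 e) * τ η.1 a =
              σ χ.1 a * ((σ χ.1 b * σ χ.1 e) * (τ η.1 b * τ η.1 e)) * (τ η.1 a * τ η.1 a) by ring,
            ← h1, qa, sgn_sq (sgn_mul (hs' b) (hs' e))]
          ring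
        · rw [show σ χ.1 a * σ χ.1 b * σ χ.1 e * (τ η.1 a * τ η.1 b * τ η.1 e) * τ η.1 b =
              σ χ.1 b * ((σ χ.1 a * σ χ.1 e) * (τ η.1 a * τ η.1 e)) * (τ η.1 b * τ η.1 b) by ring,
            ← h2, qb, sgn_sq (sgn_mul (hs' a) (hs' e))]
          ring
        · rw [show σ χ.1 a * σ χ.1 b * σ χ.1 e * (τ η.1 a * τ η.1 b * τ η.1 e) * τ η.1 e =
              σ χ.1 e * (σ χ.1 a * σ χ.1 b * ((τ η.1 a * τ η.1 e) * (τ η.1 b * τ η.1 e))) by ring,
            ← h1, ← h2,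
            show σ χ.1 e * (σ χ.1 a * σ χ.1 b * ((σ χ.1 a * σ χ.1 e) * (σ χ.1 b * σ χ.1 e))) =
              σ χ.1 e * ((σ χ.1 a * σ χ.1 a) * (σ χ.1 b * σ χ.1 b) * (σ χ.1 e * σ χ.1 e)) by ring,
            pa, pb, pe]
          ring
  obtain ⟨ε, hε, hval⟩ := hf
  obtain ⟨χ₀, hχ₀⟩ : B.Nonempty := by
    obtain ⟨⟨χ, hχ⟩⟩ := (Nat.card_ne_zero.1 (show Nat.card B ≠ 0 by rw [hB]; norm_num)).1
    exact ⟨χ, hχ⟩
  let I : IrrCharacter H → IrrCharacter G := fun η => if h : η ∈ d then (f ⟨η, h⟩).1 else χ₀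
  let ε' : IrrCharacter H → ℤ := fun η => if h : η ∈ d then ε ⟨η, h⟩ else 1
  refine ⟨I, ε', ⟨fun η hη => by simp only [I, dif_pos hη]; exact (f _).2,
    fun η hη η' hη' e => ?_, fun χ hχ => ?_⟩, fun η hη => by simp only [ε', dif_pos hη]; exact hε _,
    fun η hη a => ?_⟩
  · simp only [I, dif_pos hη, dif_pos hη'] at e
    exact congrArg Subtype.val (f.injective (Subtype.ext e))
  · refine ⟨(f.symm ⟨χ, hχ⟩).1, (f.symm ⟨χ, hχ⟩).2, ?_⟩
    simp only [I, dif_pos (f.symm ⟨χ, hχ⟩).2, Subtype.coe_eta, Equiv.apply_symm_apply]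
  · simp only [I, ε', dif_pos hη, hval, Int.cast_mul]

end CfsgLib.Blocks
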