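import Cfsg.Agent.Lib.Blocks.Counting
import Cfsg.Agent.Lib.Blocks.QuotientP
import Cfsg.Agent.Lib.Blocks.Correspondence

/-!
# Knörr's theorem on characters vanishing at elements of order `p`
-/

set_option linter.unusedSectionVars false
set_option linter.style.haveILetI false

namespace CfsgLib.Blocks

open Cfsg Chars BlockOrth

variable {G : Type*} [Group G] [Fintype G] {M : Ideal AlgInt} [M.IsPrime] {p : ℕ} [Fact p.Prime]

/-- Over a normal defect group, a character trivial on it vanishes at every element of order `p`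
outside it. -/
theorem apply_eq_zero_of_defect_normal (hpM : (p : AlgInt) ∈ M) {D : Subgroup G} [D.Normal]
    {b : Set (IrrCharacter G)} (hb : IsPBlock M b) (hD : IsDefectGroup p M b D)
    {ξ : IrrCharacter G} (hξ : ξ ∈ b) (htriv : ∀ u ∈ D, (ξ : G → ℂ) u = (ξ : G → ℂ) 1)
    {x : G} (hx : x ^ p = 1) (hxD : x ∉ D) : (ξ : G → ℂ) x = 0 := by
  classical
  have hp : p.Prime := Fact.out
  haveI : Fintype (G ⧸ D) := Fintype.ofFinite _
  obtain ⟨f, hf, hfe⟩ := exists_deflate_irr D ξ.2 htriv
  have hcardD := card_defectGroup hpM hb hD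
  have h1 := blockMin_add_blockDefect (p := p) (IsPBlock.nonempty hb)
  rw [← D.card_mul_index, Nat.factorization_mul Nat.card_pos.ne'
    Subgroup.index_ne_zero_of_finite, Finsupp.add_apply, hcardD, hp.factorization_pow,
    Finsupp.single_eq_same] at h1
  have h2 := blockMin_le (p := p) hξ
  obtain ⟨n, hn0, hn, hdvd⟩ := irr_degree_dvd_card hf
  have e : charDegree (ξ : G → ℂ) = n := by
    have h3 : (ξ : G → ℂ) 1 = (n : ℂ) := by rw [hfe, ← hn]; rfl
    rw [irr_apply_one] at h3
    exact_mod_cast h3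
  have e' : charDegree (((⟨f, hf⟩ : IrrCharacter (G ⧸ D))) : G ⧸ D → ℂ) = n := by
    have h3 := irr_apply_one (⟨f, hf⟩ : IrrCharacter (G ⧸ D))
    rw [show ((⟨f, hf⟩ : IrrCharacter (G ⧸ D)) : G ⧸ D → ℂ) 1 = (n : ℂ) from hn] at h3
    exact_mod_cast h3.symm
  have h4 := (Nat.factorization_le_iff_dvd hn0.ne' Nat.card_pos.ne').2 hdvd p
  rw [degVal, e] at h2
  rw [← Subgroup.index_eq_card] at h4
  have hdeg : degVal p (⟨f, hf⟩ : IrrCharacter (G ⧸ D)) =
      (⊥ : Subgroup (G ⧸ D)).index.factorization p := by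
    rw [degVal, e', Subgroup.index_bot, ← Subgroup.index_eq_card]
    omega
  have hq1 : (QuotientGroup.mk x : G ⧸ D) ≠ 1 := fun h => hxD ((QuotientGroup.eq_one_iff x).1 h)
  have hqp : (QuotientGroup.mk x : G ⧸ D) ^ p = 1 := by
    rw [← QuotientGroup.mk_pow, hx, QuotientGroup.mk_one]
  have hord := orderOf_eq_prime hqp hq1
  have h5 := (relative_defect_zero hpM IsPGroup.of_bot bot_le ⟨f, hf⟩ hdeg).2
    (QuotientGroup.mk x) (QuotientGroup.mk x)
    ⟨1, mul_one _, Commute.one_right _, ⟨1, by rw [hord, pow_one]⟩,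
      by rw [orderOf_one]; exact hp.not_dvd_one⟩ (by simpa using hq1)
  rw [hfe]
  exact h5

/-- Knörr's theorem. -/
theorem knorr (hpM : (p : AlgInt) ∈ M) (χ : IrrCharacter G)
    (hvan : ∀ g : G, orderOf g = p → (χ : G → ℂ) g = 0) :
    degVal p χ = (Nat.card G).factorization p := by
  classical
  have hp : p.Prime := Fact.out
  have hB := isPBlock_blockOf (M := M) χ
  obtain ⟨D, hD⟩ := exists_isDefectGroup (p := p) hB
  have hDp := IsDefectGroup.isPGroup hD
  rcases eq_or_ne D ⊥ with rfl | hne
  · have h1 := card_defectGroup hpM hB hD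
    rw [Subgroup.card_bot] at h1
    have h2 := blockMin_add_blockDefect (p := p) (IsPBlock.nonempty hB)
    have h3 : blockDefect p (blockOf M (χ : G → ℂ)) = 0 := by
      rcases Nat.pow_eq_one.1 h1.symm with h | h
      · exact absurd h hp.ne_one
      · exact h
    refine le_antisymm (degVal_le χ) ?_
    have := blockMin_le (p := p) (mem_blockOf_self (M := M) χ)
    omega
  exfalso
  set N := Subgroup.normalizer (D : Set G) with hN
  haveI : Fintype N := Fintype.ofFinite N
  haveI : (D.subgroupOf N).Normal :=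
    (Subgroup.normal_subgroupOf_iff_le_normalizer Subgroup.le_normalizer).2 le_rfl
  obtain ⟨b, hb, hbD, hind⟩ := first_main_exists hpM hB hD
  have hD' : IsPGroup p (D.subgroupOf N) :=
    hDp.of_equiv (Subgroup.subgroupOfEquivOfLe Subgroup.le_normalizer).symm
  obtain ⟨ξ, hξ, htriv⟩ := exists_trivial_on_normal_pSubgroup hpM hD' hb
  obtain ⟨a, ha0⟩ : ∃ a : G → ℂ, a = fun g => if orderOf g = p then (1 : ℂ) else 0 := ⟨_, rfl⟩
  have ha : IsLocClassFun M a := by
    refine ⟨fun x y => ?_, fun x => ?_⟩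
    · have h : orderOf (y * x * y⁻¹) = orderOf x := by
        have := orderOf_injective (MulAut.conj y).toMonoidHom (MulAut.conj y).injective x
        simpa using this
      simp only [ha0, h]
    · simp only [ha0]
      split_ifs
      · exact one_mem _
      · exact zero_mem _
  have h0 : omega (χ : G → ℂ) a = 0 := by
    rw [omega, div_eq_zero_iff]
    left
    refine Finset.sum_eq_zero fun g _ => ?_
    simp only [ha0]
    split_ifs with h
    · rw [hvan g h, mul_zero]
    · rw [zero_mul]
  have h1 := IsInducedBlock.omega_sub hind hξ (mem_blockOf_self χ) ha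
  rw [h0, sub_zero] at h1
  have h2 := MemLocalIdeal.sub' h1
    (omega_res_sub_br_mem hpM hDp Subgroup.le_normalizer le_rfl ha ξ)
  rw [sub_sub_cancel] at h2
  -- count the central elements of order `p`
  let T : Subgroup G :=
    { carrier := {z | z ∈ D ∧ z ∈ Subgroup.centralizer (D : Set G) ∧ z ^ p = 1}
      one_mem' := ⟨D.one_mem, Subgroup.one_mem _, one_pow p⟩
      mul_mem' := fun {x y} hx hy => ⟨D.mul_mem hx.1 hy.1, Subgroup.mul_mem _ hx.2.1 hy.2.1, by
        have hc : Commute x y := (Subgroup.mem_centralizer_iff.1 hx.2.1 y hy.1).symm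
        rw [hc.mul_pow, hx.2.2, hy.2.2, one_mul]⟩
      inv_mem' := fun {x} hx => ⟨D.inv_mem hx.1, Subgroup.inv_mem _ hx.2.1, by
        rw [inv_pow, hx.2.2, inv_one]⟩ }
  haveI : Fintype T := Fintype.ofFinite T
  have hω : omega (ξ : N → ℂ) (brFun D N a) = (Nat.card T : ℂ) - 1 := by
    rw [omega, div_eq_iff (irr_degree_ne_zero ξ.2)]
    have e : ∀ n : N, brFun D N a n * (ξ : N → ℂ) n =
        (if (n : G) ∈ T then (ξ : N → ℂ) 1 else 0) - (if n = 1 then (ξ : N → ℂ) 1 else 0) := by
      intro n
      rcases eq_or_ne n 1 with rfl | hn1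
      · rw [if_pos (show ((1 : N) : G) ∈ T from T.one_mem), if_pos rfl, sub_self,
          brFun_of_mem a (Subgroup.one_mem _), ha0]
        simp [Ne.symm hp.ne_one]
      rw [if_neg hn1, sub_zero]
      by_cases hC : (n : G) ∈ Subgroup.centralizer (D : Set G)
      · rw [brFun_of_mem a hC]
        by_cases ho : orderOf (n : G) = p
        · simp only [ha0, if_pos ho, one_mul]
          have hnp : (n : G) ^ p = 1 := orderOf_dvd_iff_pow_eq_one.1 ho.dvd
          by_cases hnD : (n : G) ∈ D
          · rw [if_pos (show (n : G) ∈ T from ⟨hnD, hC, hnp⟩),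
              htriv n (Subgroup.mem_subgroupOf.2 hnD)]
          · rw [if_neg (fun h : (n : G) ∈ T => hnD h.1)]
            exact apply_eq_zero_of_defect_normal hpM hb hbD hξ htriv
              (Subtype.ext (by push_cast; exact hnp)) (fun h => hnD (Subgroup.mem_subgroupOf.1 h))
        · simp only [ha0, if_neg ho, zero_mul]
          rw [if_neg fun h : (n : G) ∈ T =>
            ho (orderOf_eq_prime h.2.2 fun h' => hn1 (Subtype.ext h'))]
      · rw [brFun_of_notMem a hC, zero_mul, if_neg fun h : (n : G) ∈ T => hC h.2.1]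
    rw [Finset.sum_congr rfl fun n _ => e n, Finset.sum_sub_distrib,
      Finset.sum_ite_eq' Finset.univ (1 : N) (fun _ => (ξ : N → ℂ) 1), if_pos (Finset.mem_univ _),
      ← Finset.sum_filter, Finset.sum_const, nsmul_eq_mul, sub_mul, one_mul]
    congr 3
    rw [← Fintype.card_subtype, ← Nat.card_eq_fintype_card]
    exact Nat.card_congr
      { toFun := fun x => ⟨(x.1 : G), x.2⟩
        invFun := fun t => ⟨⟨t.1, Subgroup.le_normalizer t.2.1⟩, t.2⟩
        left_inv := fun _ => rfl
        right_inv := fun _ => rfl }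
  rw [hω] at h2
  -- `p` divides the order of `T`
  have hT : p ∣ Nat.card T := by
    haveI : Nontrivial D := (Subgroup.nontrivial_iff_ne_bot D).2 hne
    haveI := hDp.center_nontrivial
    obtain ⟨i, hi⟩ := (hDp.to_subgroup (Subgroup.center D)).exists_card_eq
    have hi0 : i ≠ 0 := fun h => by
      rw [h, pow_zero] at hi
      exact absurd hi (Finite.one_lt_card_iff_nontrivial.2 inferInstance).ne'
    obtain ⟨z, hz⟩ := exists_prime_orderOf_dvd_card' p (hi ▸ dvd_pow_self p hi0)
    have hzT : ((z : D) : G) ∈ T := ⟨(z : D).2, by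
      rw [Subgroup.mem_centralizer_iff]
      intro u hu
      exact congrArg Subtype.val (Subgroup.mem_center_iff.1 z.2 ⟨u, hu⟩), by
      have h : orderOf ((z : D) : G) = p := by rw [Subgroup.orderOf_coe, Subgroup.orderOf_coe, hz]
      exact orderOf_dvd_iff_pow_eq_one.1 h.dvd⟩
    have h := orderOf_dvd_natCard (⟨_, hzT⟩ : T)
    rwa [show orderOf (⟨_, hzT⟩ : T) = p from (Subgroup.orderOf_coe _).symm.trans
      ((Subgroup.orderOf_coe (z : D)).trans ((Subgroup.orderOf_coe z).trans hz))] at h
  have h3 := MemLocalIdeal.sub' ((memLocalIdeal_natCast_iff hp hpM _).2 hT) h2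
  rw [sub_sub_cancel] at h3
  exact not_memLocalIdeal_one h3

end CfsgLib.Blocks
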