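import Cfsg.Agent.Lib.Blocks.PrincipalBlock
import Cfsg.Agent.Lib.BlockOrth.Height

/-!
# Külshammer's formula for the principal block idempotent
-/

set_option linter.unusedSectionVars false
set_option linter.style.haveILetI false

namespace CfsgLib.Blocks

open Cfsg Chars BlockOrth
open scoped ComplexConjugate

variable {G : Type*} [Group G] [Fintype G] {M : Ideal AlgInt} [M.IsPrime] {p : ℕ} [Fact p.Prime]

/-- The indicator function of the `p`-regular elements. -/
noncomputable def regInd (p : ℕ) (G : Type*) [Group G] : G → ℂ := fun g =>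
  if p ∣ orderOf g then 0 else 1

theorem isLocClassFun_regInd : IsLocClassFun M (regInd p G) := by
  refine ⟨fun x y => ?_, fun x => ?_⟩
  · have h : orderOf (y * x * y⁻¹) = orderOf x := by
      have := orderOf_injective (MulAut.conj y).toMonoidHom (MulAut.conj y).injective x
      simpa using this
    simp only [regInd, h]
  · simp only [regInd]
    split_ifs
    · exact zero_mem _
    · exact one_mem _

theorem sum_regInd : ∑ g : G, regInd p G g = (Nat.card {y : G // ¬ p ∣ orderOf y} : ℂ) := by
  classical
  rw [Nat.card_eq_fintype_card, Fintype.card_subtype, Finset.card_filter, Nat.cast_sum]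
  exact Finset.sum_congr rfl fun x _ => by simp only [regInd]; split_ifs <;> simp

theorem omega_regInd (χ : IrrCharacter G) :
    omega (χ : G → ℂ) (regInd p G) * ((p ^ (Nat.card G).factorization p : ℕ) : ℂ) *
      (Nat.card G : ℂ)⁻¹ * (χ : G → ℂ) 1 = (pInt p χ (principal G) : ℂ) := by
  classical
  rw [← pInt_spec, pInner, inner_def, omega]
  have h : ∑ g : G, regInd p G g * (χ : G → ℂ) g =
      ∑ g : G, pRegularPart p (χ : G → ℂ) g * conj ((principal G : G → ℂ) g) := by
    refine Finset.sum_congr rfl fun g _ => ?_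
    rw [principal_apply, map_one, mul_one, pRegularPart_apply]
    simp only [regInd]
    split_ifs <;> simp
  rw [h]
  have := irr_degree_ne_zero χ.2
  field_simp

/-- Külshammer's formula. -/
theorem kulshammer (hM : IsPModular p M) {g : G} (hg : ¬ p ∣ orderOf g) :
    MemLocalIdeal M (blockCoeff (principalBlock M G) g -
      (Nat.card {xy : G × G // (∃ k : ℕ, orderOf xy.1 = p ^ k) ∧ ¬ p ∣ orderOf xy.2 ∧
        xy.1 * xy.2 = g} : ℂ) / (Nat.card {y : G // ¬ p ∣ orderOf y} : ℂ)) := by
  classical
  haveI := irrFintype G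
  have hp : p.Prime := Fact.out
  have hpM := hM.2.2
  have hB := isPBlock_principalBlock (G := G) M
  have h1B := principal_mem_principalBlock (G := G) M
  obtain ⟨R, hR⟩ : ∃ R : ℕ, R = Nat.card {y : G // ¬ p ∣ orderOf y} := ⟨_, rfl⟩
  rw [← hR]
  obtain ⟨f, hf0⟩ : ∃ f : G → ℂ,
      f = fun z : G => if IsConj 1 (pPrimePart p z) then (1 : ℂ) else 0 := ⟨_, rfl⟩
  have hf : InCharSpan (loc M) f :=
    hf0 ▸ inCharSpan_section_indicator hpM 1 (by rw [orderOf_one]; exact hp.not_dvd_one)
  have hfp : ∀ z, f z = if ∃ k, orderOf z = p ^ k then 1 else 0 := by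
    intro z
    rw [hf0]
    refine if_congr ?_ rfl rfl
    constructor
    · intro h
      have h := isConj_one_right.1 h
      obtain ⟨u, h1, -, h3, -⟩ := isPPrimePart_pPrimePart (p := p) z
      rw [h, mul_one] at h1
      rwa [← h1]
    · intro h
      have : pPrimePart p z = 1 := IsPPrimePart.eq_pPrimePart
        ⟨z, mul_one z, Commute.one_right z, h, by rw [orderOf_one]; exact hp.not_dvd_one⟩
      rw [this]
  -- the coefficients
  obtain ⟨c, hc0⟩ : ∃ c : IrrCharacter G → ℂ,
      c = fun χ : IrrCharacter G => (Nat.card G : ℂ)⁻¹ * ∑ z, f z * (χ : G → ℂ) z := ⟨_, rfl⟩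
  have hc : ∀ χ, c χ ∈ loc M := by
    intro χ
    have h := hf.2 ⟨_, isIrrCharacter_conj χ.2⟩
    rw [inner_def] at h
    rw [hc0]
    simpa using h
  have he : blockCoeff (principalBlock M G) g =
      ∑ χ ∈ Finset.univ.filter (· ∈ principalBlock M G), c χ * conj ((χ : G → ℂ) g) := by
    have h2 : ∀ z, z ≠ 1 → ∑ χ ∈ Finset.univ.filter (· ∈ principalBlock M G),
        f z * (χ : G → ℂ) z * conj ((χ : G → ℂ) g) = 0 := by
      intro z hz
      simp only [mul_assoc]
      rw [← Finset.mul_sum, hfp]
      split_ifs with h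
      · obtain ⟨k, hk⟩ := h
        have hk0 : k ≠ 0 := fun h0 => hz (orderOf_eq_one_iff.1 (by rw [hk, h0, pow_zero]))
        have h3 := congrArg conj (weak_orthogonality hp hpM hB hg (y := z)
          (by rw [hk]; exact dvd_pow_self p hk0))
        rw [finsum_mem_eq_sum_of_inter_support_eq
          (t := Finset.univ.filter (· ∈ principalBlock M G)) _ (by ext χ; simp), map_sum,
          map_zero] at h3
        rw [one_mul, ← h3]
        refine Finset.sum_congr rfl fun χ _ => ?_
        rw [map_mul, Complex.conj_conj, mul_comm]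
      · rw [zero_mul]
    rw [hc0]
    simp only [Finset.mul_sum, Finset.sum_mul]
    rw [Finset.sum_comm, Finset.sum_eq_single (1 : G), blockCoeff,
      finsum_mem_eq_sum_of_inter_support_eq (t := Finset.univ.filter (· ∈ principalBlock M G)) _
        (by ext χ; simp), Finset.mul_sum]
    · refine Finset.sum_congr rfl fun χ _ => ?_
      rw [hfp, if_pos ⟨0, by simp⟩]
      ring
    · intro z _ hz
      simp only [mul_assoc]
      rw [← Finset.mul_sum]
      simp only [← mul_assoc]
      rw [h2 z hz, mul_zero]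
    · simp
  have hN : (Nat.card {xy : G × G // (∃ k : ℕ, orderOf xy.1 = p ^ k) ∧ ¬ p ∣ orderOf xy.2 ∧
      xy.1 * xy.2 = g} : ℂ) = conv f (regInd p G) g := by
    rw [conv, Nat.card_congr (show _ ≃ {x : G // (∃ k : ℕ, orderOf x = p ^ k) ∧
      ¬ p ∣ orderOf (x⁻¹ * g)} from
      { toFun := fun w => ⟨w.1.1, w.2.1, by
          rw [inv_mul_eq_iff_eq_mul.2 w.2.2.2.symm]; exact w.2.2.1⟩
        invFun := fun x => ⟨(x.1, x.1⁻¹ * g), x.2.1, x.2.2, mul_inv_cancel_left _ _⟩
        left_inv := fun w => Subtype.ext (Prod.ext rfl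
          (inv_mul_eq_iff_eq_mul.2 w.2.2.2.symm))
        right_inv := fun x => rfl }), Nat.card_eq_fintype_card, Fintype.card_subtype,
      Finset.card_filter, Nat.cast_sum]
    refine Finset.sum_congr rfl fun x _ => ?_
    rw [hfp]
    simp only [regInd]
    by_cases h1 : ∃ k : ℕ, orderOf x = p ^ k <;> by_cases h2 : p ∣ orderOf (x⁻¹ * g) <;>
      simp [h1, h2]
  have hw : ∀ χ : IrrCharacter G, MemLocalIdeal M (omega (χ : G → ℂ) (regInd p G) -
      if χ ∈ principalBlock M G then (R : ℂ) else 0) := by
    intro χ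
    split_ifs with hχ
    · have h := omega_sub_mem (IsPBlock.sameBlock hB hχ h1B) (isLocClassFun_regInd (p := p) (G := G))
      have h1 : omega (principal G : G → ℂ) (regInd p G) = (R : ℂ) := by
        rw [omega, hR, ← sum_regInd]
        simp [principal_apply]
      rwa [h1] at h
    · have h := omega_regInd (p := p) χ
      rw [pInt_symm, pInt_eq_zero hpM hB h1B hχ, Int.cast_zero] at h
      simp only [mul_eq_zero, inv_eq_zero, Nat.cast_eq_zero] at h
      rcases h with ((h | h) | h) | h
      · rw [h, sub_zero]; exact MemLocalIdeal.zero'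
      · exact absurd h (pow_ne_zero _ hp.ne_zero)
      · exact absurd h Nat.card_pos.ne'
      · exact absurd h (irr_degree_ne_zero χ.2)
  have hRu : ¬ MemLocalIdeal M (R : ℂ) := by
    intro hm
    have h0 : degVal p (principal G) = blockMin p (principalBlock M G) := by
      have h1 : degVal p (principal G) = 0 := by simp [degVal, charDegree, principal_apply]
      have h2 := blockMin_le (p := p) h1B
      omega
    refine pInt_exact_of_height_zero hpM hB h1B h1B h0 ?_
    rw [degVal, ← int_div_memLocalIdeal_iff (M := M) hpM (irr_charDegree_ne_zero (principal G)),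
      ← irr_apply_one, principal_apply, div_one]
    have h := omega_regInd (p := p) (principal G)
    rw [principal_apply, mul_one] at h
    rw [← h]
    have h1 : omega (principal G : G → ℂ) (regInd p G) = (R : ℂ) := by
      rw [omega, hR, ← sum_regInd]
      simp [principal_apply]
    rw [h1, mul_assoc]
    refine MemLocalIdeal.mul_right' hm ?_
    rw [pow_mul_inv_card]
    exact invCompl_mem_loc hpM
  have hmain : MemLocalIdeal M (conv f (regInd p G) g -
      (R : ℂ) * blockCoeff (principalBlock M G) g) := by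
    rw [classFun_eq_sum_omega
      (isClassFunction_conv hf.1 (isLocClassFun_regInd (M := M) (p := p)).1) g, he, Finset.mul_sum,
      Finset.sum_filter, ← Finset.sum_sub_distrib]
    refine MemLocalIdeal.sum' fun χ _ => ?_
    have e : omega (χ : G → ℂ) f * idemCoeff (χ : G → ℂ) g = c χ * conj ((χ : G → ℂ) g) := by
      rw [hc0, omega, idemCoeff]
      have := irr_degree_ne_zero χ.2
      field_simp
    have e2 : omega (χ : G → ℂ) (conv f (regInd p G)) * idemCoeff (χ : G → ℂ) g -
        (if χ ∈ principalBlock M G then (R : ℂ) * (c χ * conj ((χ : G → ℂ) g)) else 0) =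
        (omega (χ : G → ℂ) (regInd p G) - if χ ∈ principalBlock M G then (R : ℂ) else 0) *
          (c χ * conj ((χ : G → ℂ) g)) := by
      rw [omega_conv χ hf.1, ← e]
      split_ifs <;> ring
    rw [e2]
    exact MemLocalIdeal.mul_right' (hw χ) (mul_mem (hc χ) (conj_irr_mem_loc χ g))
  have hR0 : (R : ℂ) ≠ 0 := fun h0 => hRu (by rw [h0]; exact MemLocalIdeal.zero')
  have : blockCoeff (principalBlock M G) g -
      (Nat.card {xy : G × G // (∃ k : ℕ, orderOf xy.1 = p ^ k) ∧ ¬ p ∣ orderOf xy.2 ∧
        xy.1 * xy.2 = g} : ℂ) / (R : ℂ) =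
      -((R : ℂ)⁻¹ * (conv f (regInd p G) g - (R : ℂ) * blockCoeff (principalBlock M G) g)) := by
    rw [hN]
    field_simp
    ring
  rw [this]
  exact MemLocalIdeal.neg' (MemLocalIdeal.mul_left' (inv_mem_loc (natCast_mem_loc R) hRu) hmain)

end CfsgLib.Blocks
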