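import Cfsg.Agent.Lib.Blocks.CyclicSections

/-!
# The columns of a block seen in a nilpotent block of a subgroup, any defect group

If the centralizer of an element `u` of the defect group `P` lies in a subgroup `K` and the block of
`K` below the maximal pair is nilpotent, the section of the block at `u` is described by generalized
characters of `P`.
-/

set_option autoImplicit false
set_option linter.unusedSectionVars false
set_option linter.style.haveILetI false

namespace CfsgLib.Blocks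

open Cfsg Chars BlockOrth Finset
open scoped ComplexConjugate

universe u

variable {G : Type u} [Group G] [Fintype G] {M : Ideal AlgInt} [M.IsPrime] {p : ℕ} [Fact p.Prime]

/-- An inclusion of pairs whose centralizers lie in `L` is an inclusion of pairs of `L`. -/
theorem below_rel {L : Subgroup G} [Fintype L] (hpM : (p : AlgInt) ∈ M) {A : Subgroup G}
    (hA : A ≤ L) (hCA : Subgroup.centralizer (A : Set G) ≤ L)
    {g : Set (IrrCharacter (Subgroup.centralizer (A : Set G)))}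
    {a : BrauerPairIdx G} (h : Below p M a ⟨A, g⟩) :
    ∀ (hR : a.1 ≤ L) (hCR : Subgroup.centralizer (a.1 : Set G) ≤ L),
      Below p M (⟨a.1.subgroupOf L, relBlock hR hCR a.2⟩ : BrauerPairIdx L)
        ⟨A.subgroupOf L, relBlock hA hCA g⟩ := by
  induction h using Relation.ReflTransGen.head_induction_on with
  | refl => exact fun _ _ => Relation.ReflTransGen.refl
  | @head a' c' hs hrest ih =>
    intro hR hCR
    have hS : c'.1 ≤ L := (below_le hrest).trans hA
    have hCS : Subgroup.centralizer (c'.1 : Set G) ≤ L := (centralizer_antitone hs.2.2.1).trans hCR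
    exact Relation.ReflTransGen.head
      (show NormalSubpairRel p M
          (⟨a'.1.subgroupOf L, relBlock hR hCR a'.2⟩ : BrauerPairIdx L)
          ⟨c'.1.subgroupOf L, relBlock hS hCS c'.2⟩ from
        (isNormalSubpair_rel_iff hpM hR hCR hS hCS hs.2.1.1 hs.2.2.1 hs.2.2.2.1 hs.1.2
          hs.2.1.2).2 hs) (ih hS hCS)

variable {B : Set (IrrCharacter G)} {P : Subgroup G}
  {c : Set (IrrCharacter (Subgroup.centralizer (P : Set G)))}

/-- The pair below a maximal pair computed in a subgroup containing the centralizer. -/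
theorem pairCoeff_pairBelow_sub (hpM : (p : AlgInt) ∈ M) (hc : IsBrauerPair p M P c)
    {K : Subgroup G} [Fintype K] (hPK : P ≤ K)
    (hCP : Subgroup.centralizer (P : Set G) ≤ K) {u : G} (hu : u ∈ P)
    (hCu : Subgroup.centralizer (Subgroup.zpowers u : Set G) ≤ K) (h : K) :
    pairCoeff (pairBelow p M (⟨P.subgroupOf K, relBlock hPK hCP c⟩ : BrauerPairIdx K) ⟨u, hPK hu⟩)
        h = pairCoeff (pairBelow p M ⟨P, c⟩ u) (h : G) := by
  have hle : Subgroup.zpowers u ≤ P := Subgroup.zpowers_le.2 hu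
  obtain ⟨f, hf⟩ := exists_below (b := ⟨P, c⟩) hpM hc _ hle
  have eG := eq_pairBelow (c := (⟨P, c⟩ : BrauerPairIdx G)) (a := ⟨Subgroup.zpowers u, f⟩)
    hpM hc hf rfl
  have eK := eq_pairBelow (c := (⟨P.subgroupOf K, relBlock hPK hCP c⟩ : BrauerPairIdx K))
    (a := ⟨(Subgroup.zpowers u).subgroupOf K, relBlock (hle.trans hPK) hCu f⟩) (u := ⟨u, hPK hu⟩)
    hpM ⟨isPGroup_subgroupOf hc.1 hPK, isPBlock_relBlock hPK hCP hc.2⟩
    (below_rel hpM hPK hCP hf (hle.trans hPK) hCu) (zpowers_subgroupOf _)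
  rw [← eK, ← eG]
  exact subgroupBlockCoeff_relBlock _ _ f h

open scoped Classical in
/-- **The characters of a nilpotent block on its sections.** -/
theorem exists_local_irr (hpM : (p : AlgInt) ∈ M) (hnil : IsNilpotentBlock p M B)
    (hmax : IsMaximalBrauerPair p M B P c) {θ : IrrCharacter G} (hθ : θ ∈ B)
    (h0 : blockHeight p B (θ : G → ℂ) = 0) :
    ∃ Φ : IrrCharacter P ≃ B, ∀ (ψ : IrrCharacter P) (u : P) (y : G), Commute (u : G) y →
      ¬ p ∣ orderOf y →
      secVal (pairBelow p M ⟨P, c⟩ (u : G)) ((Φ ψ : IrrCharacter G) : G → ℂ) ((u : G) * y) =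
        (ψ : P → ℂ) u * secVal (pairBelow p M ⟨P, c⟩ (u : G)) (θ : G → ℂ) ((u : G) * y) := by
  haveI := Fintype.ofFinite P
  haveI := irrFintype P
  haveI := irrFintype G
  have hmax' : IsMaximalBrauerPair p M B (⟨P, c⟩ : BrauerPairIdx G).1
    (⟨P, c⟩ : BrauerPairIdx G).2 := hmax
  have hstab := fun ψ : IrrCharacter P =>
    isPairStable_of_nilpotent hpM hmax hnil (isClassFunction_irr ψ)
  have hirr : ∀ ψ : IrrCharacter P,
      IsIrrCharacter G (starFun M p ⟨P, c⟩ (extFun P (ψ : P → ℂ)) (θ : G → ℂ)) := by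
    intro ψ
    refine irr_of_norm_one (isGeneralized_starFun hpM hmax' (hstab ψ) ?_ θ) ?_ ?_
    · refine ⟨(ψ : P → ℂ), 0, isCharacter_of_irr ψ.2, isCharacter_zero, ?_⟩
      funext u
      simp [extFun_coe]
    · rw [inner_star_eq hpM hnil hmax (isClassFunction_irr ψ) (isClassFunction_irr ψ) hθ h0,
        inner_irr_self]
    · rw [starFun_regular hpM hmax' hθ (by simp [(Fact.out : p.Prime).not_dvd_one]),
        show (1 : G) = ((1 : P) : G) from rfl, extFun_coe, irr_apply_one ψ, Subgroup.coe_one,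
        irr_apply_one θ]
      norm_cast
      exact Nat.zero_le _
  have hmemB : ∀ ψ, (⟨_, hirr ψ⟩ : IrrCharacter G) ∈ B := fun ψ => by
    by_contra h
    have h' := inner_starFun_eq_zero (η := extFun P (ψ : P → ℂ)) hpM hmax' θ h
    rw [inner_irr_self ⟨_, hirr ψ⟩] at h'
    exact one_ne_zero h'
  let Φ : IrrCharacter P → B := fun ψ => ⟨⟨_, hirr ψ⟩, hmemB ψ⟩
  have hΦval : ∀ ψ, ((Φ ψ : IrrCharacter G) : G → ℂ) =
      starFun M p ⟨P, c⟩ (extFun P (ψ : P → ℂ)) (θ : G → ℂ) := fun _ => rfl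
  have hinj : Function.Injective Φ := fun ψ ψ' h => by
    have hi := inner_star_eq hpM hnil hmax (isClassFunction_irr ψ) (isClassFunction_irr ψ') hθ h0
    rw [← hΦval ψ, ← hΦval ψ', h, inner_irr_self, inner_irr] at hi
    by_contra hne
    rw [if_neg hne] at hi
    exact one_ne_zero hi
  obtain ⟨Ψ, -⟩ := nilpotent_parametrisation hpM hnil hmax hθ h0
  haveI : Fintype B := Fintype.ofFinite B
  have hbij : Function.Bijective Φ :=
    (Fintype.bijective_iff_injective_and_card Φ).2 ⟨hinj, Fintype.card_congr Ψ⟩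
  refine ⟨Equiv.ofBijective Φ hbij, fun ψ u y hy hyr => ?_⟩
  rw [Equiv.ofBijective_apply, hΦval,
    secVal_starFun hpM (hstab ψ) (isClassFunction_irr θ) hy
      (exists_pow_eq_one_of_mem hmax.1.1.1 u.2) hyr (pairBelow_mem (c := ⟨P, c⟩) hpM hmax.1.1 u.2),
    pairWeight_eq (hstab ψ) (s := (u : G)) (x := 1)
      (by rw [pairBelow_fst]; exact Subgroup.mem_zpowers _)
      (by rw [conjPair_one]; exact pairBelow_below (c := ⟨P, c⟩) hpM hmax.1.1 u.2)]
  rw [one_mul, inv_one, mul_one, extFun_coe]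

/-- The conjugators of two elements of `K` which can only be conjugate in `K`. -/
theorem card_conj_pairBelow_sub [DecidableEq G] (hpM : (p : AlgInt) ∈ M)
    (hc : IsBrauerPair p M P c) {K : Subgroup G} [Fintype K] (hPK : P ≤ K)
    (hCP : Subgroup.centralizer (P : Set G) ≤ K) {u v : G} (hu : u ∈ P) (hv : v ∈ P)
    (hCu : Subgroup.centralizer (Subgroup.zpowers u : Set G) ≤ K)
    (hCv : Subgroup.centralizer (Subgroup.zpowers v : Set G) ≤ K)
    (hin : ∀ g : G, g * u * g⁻¹ = v → g ∈ K)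
    [DecidablePred fun g : G => g * u * g⁻¹ = v ∧
      conjPair g (pairBelow p M ⟨P, c⟩ u) = pairBelow p M ⟨P, c⟩ v]
    [DecidablePred fun g : K => g * ⟨u, hPK hu⟩ * g⁻¹ = ⟨v, hPK hv⟩ ∧
      conjPair g (pairBelow p M (⟨P.subgroupOf K, relBlock hPK hCP c⟩ : BrauerPairIdx K)
        ⟨u, hPK hu⟩) =
        pairBelow p M (⟨P.subgroupOf K, relBlock hPK hCP c⟩ : BrauerPairIdx K) ⟨v, hPK hv⟩] :
    (univ.filter fun g : G => g * u * g⁻¹ = v ∧
        conjPair g (pairBelow p M ⟨P, c⟩ u) = pairBelow p M ⟨P, c⟩ v).card =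
      (univ.filter fun g : K => g * ⟨u, hPK hu⟩ * g⁻¹ = ⟨v, hPK hv⟩ ∧
        conjPair g (pairBelow p M (⟨P.subgroupOf K, relBlock hPK hCP c⟩ : BrauerPairIdx K)
          ⟨u, hPK hu⟩) =
          pairBelow p M (⟨P.subgroupOf K, relBlock hPK hCP c⟩ : BrauerPairIdx K)
            ⟨v, hPK hv⟩).card := by
  have hle : ∀ {w : G}, w ∈ P → Subgroup.zpowers w ≤ P := fun hw => Subgroup.zpowers_le.2 hw
  obtain ⟨f, hf⟩ := exists_below (b := ⟨P, c⟩) hpM hc _ (hle hu)
  obtain ⟨f', hf'⟩ := exists_below (b := ⟨P, c⟩) hpM hc _ (hle hv)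
  have hcK : IsBrauerPair p M (P.subgroupOf K) (relBlock hPK hCP c) :=
    ⟨isPGroup_subgroupOf hc.1 hPK, isPBlock_relBlock hPK hCP hc.2⟩
  have eG := eq_pairBelow (c := (⟨P, c⟩ : BrauerPairIdx G)) (a := ⟨Subgroup.zpowers u, f⟩)
    hpM hc hf rfl
  have eG' := eq_pairBelow (c := (⟨P, c⟩ : BrauerPairIdx G)) (a := ⟨Subgroup.zpowers v, f'⟩)
    hpM hc hf' rfl
  have eK := eq_pairBelow (c := (⟨P.subgroupOf K, relBlock hPK hCP c⟩ : BrauerPairIdx K))
    (a := ⟨(Subgroup.zpowers u).subgroupOf K, relBlock ((hle hu).trans hPK) hCu f⟩)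
    (u := ⟨u, hPK hu⟩) hpM hcK
    (below_rel hpM hPK hCP hf ((hle hu).trans hPK) hCu) (zpowers_subgroupOf _)
  have eK' := eq_pairBelow (c := (⟨P.subgroupOf K, relBlock hPK hCP c⟩ : BrauerPairIdx K))
    (a := ⟨(Subgroup.zpowers v).subgroupOf K, relBlock ((hle hv).trans hPK) hCv f'⟩)
    (u := ⟨v, hPK hv⟩) hpM hcK
    (below_rel hpM hPK hCP hf' ((hle hv).trans hPK) hCv) (zpowers_subgroupOf _)
  symm
  refine Finset.card_bij (fun g _ => (g : G)) (fun g hg => ?_) (fun a _ b _ h => Subtype.ext h)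
    fun g hg => ?_
  · obtain ⟨-, h1, h2⟩ := mem_filter.1 hg
    refine mem_filter.2 ⟨mem_univ _, congrArg Subtype.val h1, ?_⟩
    rw [← eK, ← eK'] at h2
    rw [← eG, ← eG']
    exact (conjPair_rel_iff _ hCu _ hCv f f' g).1 h2
  · obtain ⟨-, h1, h2⟩ := mem_filter.1 hg
    refine ⟨⟨g, hin g h1⟩, mem_filter.2 ⟨mem_univ _, Subtype.ext h1, ?_⟩, rfl⟩
    rw [← eG, ← eG'] at h2
    rw [← eK, ← eK']
    exact (conjPair_rel_iff _ hCu _ hCv f f' ⟨g, hin g h1⟩).2 h2

open scoped Classical in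
/-- **The columns**: generalized characters of the defect group describing the sections whose
centralizers lie in `K`; `V u` is the part of the reference character of the nilpotent block. -/
theorem exists_local_columns (hpM : (p : AlgInt) ∈ M) (hmax : IsMaximalBrauerPair p M B P c)
    {K : Subgroup G} [Fintype K] (hPK : P ≤ K) (hCP : Subgroup.centralizer (P : Set G) ≤ K)
    {f : Set (IrrCharacter K)} (hnil : IsNilpotentBlock p M f)
    (hmaxK : IsMaximalBrauerPair p M f (P.subgroupOf K) (relBlock hPK hCP c))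
    {θ : IrrCharacter K} (hθ : θ ∈ f) (h0 : blockHeight p f (θ : K → ℂ) = 0)
    [Fintype P] [Fintype (IrrCharacter G)] [Fintype (IrrCharacter P)] :
    ∃ (ξ : IrrCharacter G → P → ℂ) (V : P → G → ℂ),
      (∀ χ : IrrCharacter G, ∃ n : IrrCharacter P → ℤ, ∀ u, ξ χ u = ∑ ψ, (n ψ : ℂ) * (ψ : P → ℂ) u) ∧
      (∀ (χ : IrrCharacter G) (u : P), Subgroup.centralizer (Subgroup.zpowers (u : G) : Set G) ≤ K →
        ∀ y : G, Commute (u : G) y → ¬ p ∣ orderOf y →
        secVal (pairBelow p M ⟨P, c⟩ (u : G)) (χ : G → ℂ) ((u : G) * y) =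
          ξ χ u * V u ((u : G) * y)) ∧
      (∀ u : P, Subgroup.centralizer (Subgroup.zpowers (u : G) : Set G) ≤ K →
        V u (u : G) ≠ 0 ∧
        (Nat.card (Subgroup.centralizer ({u} : Set P)) : ℂ) * (V u (u : G) * conj (V u (u : G))) =
          (Nat.card (Subgroup.centralizer (Subgroup.zpowers (u : G) : Set G)) : ℂ) *
            pairCoeff (pairBelow p M ⟨P, c⟩ (u : G)) 1) ∧
      (∀ u v : P, Subgroup.centralizer (Subgroup.zpowers (u : G) : Set G) ≤ K →
        Subgroup.centralizer (Subgroup.zpowers (v : G) : Set G) ≤ K →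
        (∀ g : G, g * (u : G) * g⁻¹ = v → g ∈ K) →
        ∑ χ ∈ univ.filter (· ∈ B), ξ χ u * conj (ξ χ v) =
          ∑ ψ : IrrCharacter P, (ψ : P → ℂ) u * conj ((ψ : P → ℂ) v)) ∧
      ∀ (u : P) (g : K), V u (g : G) =
        secVal (pairBelow p M (⟨P.subgroupOf K, relBlock hPK hCP c⟩ : BrauerPairIdx K)
          ⟨u, hPK u.2⟩) (θ : K → ℂ) g := by
  haveI := irrFintype K
  haveI := irrFintype (P.subgroupOf K)
  have hc : IsBrauerPair p M P c := hmax.1.1
  set φ : P.subgroupOf K ≃* P := Subgroup.subgroupOfEquivOfLe hPK with hφ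
  obtain ⟨Φ, hΦ⟩ := exists_local_irr hpM hnil hmaxK hθ h0
  let W : P → (K → ℂ) → G → ℂ := fun u η g => if hg : g ∈ K then
    secVal (pairBelow p M (⟨P.subgroupOf K, relBlock hPK hCP c⟩ : BrauerPairIdx K) ⟨u, hPK u.2⟩) η
      ⟨g, hg⟩ else 0
  have hWK : ∀ (u : P) η (g : K), W u η (g : G) =
      secVal (pairBelow p M (⟨P.subgroupOf K, relBlock hPK hCP c⟩ : BrauerPairIdx K) ⟨u, hPK u.2⟩)
        η g := fun u η g => by simp only [W, dif_pos g.2, Subtype.coe_eta]
  have hWG : ∀ (u : P), Subgroup.centralizer (Subgroup.zpowers (u : G) : Set G) ≤ K →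
      ∀ η (g : K), W u η (g : G) =
        ∑ h : K, pairCoeff (pairBelow p M ⟨P, c⟩ (u : G)) (h : G) * η (h * g) := fun u hu η g => by
    rw [hWK, secVal]
    exact Finset.sum_congr rfl fun h _ => by
      rw [pairCoeff_pairBelow_sub hpM hc hPK hCP u.2 hu]
  let T : IrrCharacter P → IrrCharacter K := fun ψ => (Φ (pullIrr φ ψ) : IrrCharacter K)
  have hT : ∀ ψ, T ψ ∈ f := fun ψ => (Φ (pullIrr φ ψ)).2
  have hTinj : Function.Injective T := fun a b h =>
    Subtype.ext (funext fun k => by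
      have e : pullIrr φ a = pullIrr φ b := Φ.injective (Subtype.ext h)
      have h1 := congrArg (fun χ : IrrCharacter (P.subgroupOf K) => (χ : _ → ℂ) (φ.symm k)) e
      simpa only [pullIrr_apply, MulEquiv.apply_symm_apply] using h1)
  have hTsurj : ∀ η ∈ f, ∃ ψ, T ψ = η := fun η hη => by
    obtain ⟨ψ', hψ'⟩ := Φ.surjective ⟨η, hη⟩
    refine ⟨pullIrr φ.symm ψ', ?_⟩
    have e : pullIrr φ (pullIrr φ.symm ψ') = ψ' := Subtype.ext (funext fun k => by
      rw [pullIrr_apply, pullIrr_apply, MulEquiv.symm_apply_apply])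
    simp only [T, e, hψ']
  have hTval : ∀ (ψ : IrrCharacter P) (u : P) (y : K), Commute ((⟨u, hPK u.2⟩ : K)) y →
      ¬ p ∣ orderOf y →
      W u (T ψ : K → ℂ) ((u : G) * y) = (ψ : P → ℂ) u * W u (θ : K → ℂ) ((u : G) * y) := by
    intro ψ u y hy hyr
    have h := hΦ (pullIrr φ ψ) ⟨⟨u, hPK u.2⟩, Subgroup.mem_subgroupOf.2 u.2⟩ y hy hyr
    rw [show (u : G) * y = ((⟨u, hPK u.2⟩ * y : K) : G) from rfl, hWK, hWK]
    refine h.trans ?_
    congr 1
  have hTval1 : ∀ (ψ : IrrCharacter P) (u : P),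
      W u (T ψ : K → ℂ) (u : G) = (ψ : P → ℂ) u * W u (θ : K → ℂ) u := fun ψ u => by
    have h := hTval ψ u 1 (Commute.one_right _)
      (by rw [orderOf_one]; exact (Fact.out : p.Prime).not_dvd_one)
    rwa [Subgroup.coe_one, mul_one] at h
  -- orthogonality in `K`
  have hsumK : ∀ u v : P, ∑ η ∈ univ.filter (· ∈ f),
      secVal (pairBelow p M (⟨P.subgroupOf K, relBlock hPK hCP c⟩ : BrauerPairIdx K)
          ⟨u, hPK u.2⟩) (η : K → ℂ) ⟨u, hPK u.2⟩ *
        conj (secVal (pairBelow p M (⟨P.subgroupOf K, relBlock hPK hCP c⟩ : BrauerPairIdx K)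
          ⟨v, hPK v.2⟩) (η : K → ℂ) ⟨v, hPK v.2⟩) =
      (∑ ψ : IrrCharacter P, (ψ : P → ℂ) u * conj ((ψ : P → ℂ) v)) *
        (W u (θ : K → ℂ) u * conj (W v (θ : K → ℂ) v)) := by
    intro u v
    rw [Finset.sum_mul]
    refine (Finset.sum_bij (fun ψ _ => T ψ) (fun ψ _ => mem_filter.2 ⟨mem_univ _, hT ψ⟩)
      (fun a _ b _ h => hTinj h) (fun η hη => ?_) fun ψ _ => ?_).symm
    · obtain ⟨ψ, hψ⟩ := hTsurj η (mem_filter.1 hη).2
      exact ⟨ψ, mem_univ _, hψ⟩
    · rw [← hWK, ← hWK, hTval1, hTval1, map_mul]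
      ring
  have hcardG : ∀ u v : P, Subgroup.centralizer (Subgroup.zpowers (u : G) : Set G) ≤ K →
      Subgroup.centralizer (Subgroup.zpowers (v : G) : Set G) ≤ K →
      (∀ g : G, g * (u : G) * g⁻¹ = v → g ∈ K) →
      (∑ ψ : IrrCharacter P, (ψ : P → ℂ) u * conj ((ψ : P → ℂ) v)) *
          (W u (θ : K → ℂ) u * conj (W v (θ : K → ℂ) v)) =
        ((univ.filter fun g : G => g * (u : G) * g⁻¹ = v ∧
          conjPair g (pairBelow p M ⟨P, c⟩ (u : G)) = pairBelow p M ⟨P, c⟩ (v : G)).card : ℂ) *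
          pairCoeff (pairBelow p M ⟨P, c⟩ (u : G)) 1 := by
    intro u v hu hv hin
    rw [← hsumK, card_conj_pairBelow_sub hpM hc hPK hCP u.2 v.2 hu hv hin,
      sum_secVal_pairBelow hpM hmaxK (Subgroup.mem_subgroupOf.2 u.2 :
        (⟨u, hPK u.2⟩ : K) ∈ P.subgroupOf K) (Subgroup.mem_subgroupOf.2 v.2),
      pairCoeff_pairBelow_sub hpM hc hPK hCP u.2 hu, Subgroup.coe_one]
    congr!
  have hnorm : ∀ u : P, Subgroup.centralizer (Subgroup.zpowers (u : G) : Set G) ≤ K →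
      W u (θ : K → ℂ) u ≠ 0 ∧
      (Nat.card (Subgroup.centralizer ({u} : Set P)) : ℂ) *
          (W u (θ : K → ℂ) u * conj (W u (θ : K → ℂ) u)) =
        (Nat.card (Subgroup.centralizer (Subgroup.zpowers (u : G) : Set G)) : ℂ) *
          pairCoeff (pairBelow p M ⟨P, c⟩ (u : G)) 1 := by
    intro u hu
    have h := hcardG u u hu hu fun g hg =>
      hu ((mem_centralizer_zpowers_iff _ g).2 (mul_inv_eq_iff_eq_mul.1 hg))
    rw [card_conj_pairBelow (g₀ := 1) hpM hc u.2 (by simp) (conjPair_one _),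
      second_orthogonality, if_pos (IsConj.refl u)] at h
    refine ⟨fun h0 => ?_, h⟩
    rw [h0, zero_mul, mul_zero] at h
    exact mul_ne_zero (Nat.cast_ne_zero.2 Nat.card_pos.ne')
      (pairCoeff_pairBelow_one_ne_zero hpM hc u.2) h.symm
  -- the columns
  choose n hn using fun (χ : IrrCharacter G) (η : IrrCharacter K) =>
    inner_irr_right_nat (isCharacter_restrict K (isCharacter_of_irr χ.2)) η
  let ξ : IrrCharacter G → P → ℂ := fun χ u =>
    ∑ ψ : IrrCharacter P, ((n χ (T ψ) : ℤ) : ℂ) * (ψ : P → ℂ) u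
  have hcol : ∀ (χ : IrrCharacter G) (u : P), Subgroup.centralizer (Subgroup.zpowers (u : G) : Set G) ≤ K →
      ∀ y : G, Commute (u : G) y → ¬ p ∣ orderOf y →
      secVal (pairBelow p M ⟨P, c⟩ (u : G)) (χ : G → ℂ) ((u : G) * y) =
        ξ χ u * W u (θ : K → ℂ) ((u : G) * y) := by
    intro χ u hu y hy hyr
    have hyK : y ∈ K := hu ((mem_centralizer_zpowers_iff _ y).2 hy.eq.symm)
    obtain ⟨y, rfl⟩ : ∃ y' : K, (y' : G) = y := ⟨⟨y, hyK⟩, rfl⟩
    have hy' : Commute (⟨u, hPK u.2⟩ : K) y := Subtype.ext hy.eq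
    rw [Subgroup.orderOf_coe] at hyr
    have e1 : secVal (pairBelow p M ⟨P, c⟩ (u : G)) (χ : G → ℂ) ((u : G) * y) =
        ∑ h : K, pairCoeff (pairBelow p M ⟨P, c⟩ (u : G)) (h : G) *
          (χ : G → ℂ) ((h * (⟨u, hPK u.2⟩ * y) : K) : G) := by
      rw [secVal]
      refine (Finset.sum_bij_ne_zero (fun (h : K) _ _ => (h : G)) (fun _ _ _ => mem_univ _)
        (fun a _ _ b _ _ h => Subtype.ext h) (fun w _ hw => ?_) fun h _ _ => rfl).symm
      have hwK : w ∈ K := by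
        by_contra hwK
        refine hw (mul_eq_zero_of_left ?_ _)
        obtain ⟨b, hb⟩ := exists_below (b := ⟨P, c⟩) hpM hc _ (Subgroup.zpowers_le.2 u.2)
        rw [← eq_pairBelow (c := (⟨P, c⟩ : BrauerPairIdx G)) (a := ⟨Subgroup.zpowers (u : G), b⟩)
          hpM hc hb rfl]
        exact subgroupBlockCoeff_of_notMem _ fun h => hwK (hu h)
      exact ⟨⟨w, hwK⟩, mem_univ _, hw, rfl⟩
    have hcl := isCharacter_restrict K (isCharacter_of_irr χ.2)
    have hdec : ∀ h : K, (χ : G → ℂ) (h : G) =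
        (∑ η : IrrCharacter K, classInner (fun h : K => (χ : G → ℂ) h) (η : K → ℂ) • (η : K → ℂ)) h :=
      fun h => congrFun (classFun_eq_sum (isClassFunction_of_isCharacter hcl)) h
    rw [e1, Finset.sum_congr rfl fun (h : K) _ => congrArg
      (pairCoeff (pairBelow p M ⟨P, c⟩ (u : G)) (h : G) * ·) (hdec (h * (⟨u, hPK u.2⟩ * y)))]
    simp only [Finset.sum_apply, Pi.smul_apply, smul_eq_mul, Finset.mul_sum, hn]
    rw [Finset.sum_comm]
    simp only [ξ, Finset.sum_mul]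
    rw [← Finset.sum_subset (Finset.subset_univ (univ.filter (· ∈ f))) fun η _ hη => ?_]
    · refine (Finset.sum_bij (fun ψ _ => T ψ) (fun ψ _ => mem_filter.2 ⟨mem_univ _, hT ψ⟩)
        (fun a _ b _ h => hTinj h) (fun η hη => ?_) fun ψ _ => ?_).symm
      · obtain ⟨ψ, hψ⟩ := hTsurj η (mem_filter.1 hη).2
        exact ⟨ψ, mem_univ _, hψ⟩
      · rw [Finset.sum_congr rfl fun (h : K) _ => mul_left_comm
          (pairCoeff (pairBelow p M ⟨P, c⟩ (u : G)) (h : G)) (n χ (T ψ) : ℂ) _, ← Finset.mul_sum,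
          ← hWG u hu, show ((⟨u, hPK u.2⟩ * y : K) : G) = (u : G) * y from rfl,
          hTval ψ u y hy' hyr]
        push_cast
        ring
    · rw [Finset.sum_congr rfl fun (h : K) _ => mul_left_comm
        (pairCoeff (pairBelow p M ⟨P, c⟩ (u : G)) (h : G)) (n χ η : ℂ) _, ← Finset.mul_sum,
        ← hWG u hu]
      refine mul_eq_zero_of_right _ ?_
      rw [hWK]
      have hpair := pairBelow_mem (c := (⟨P.subgroupOf K, relBlock hPK hCP c⟩ : BrauerPairIdx K))
        (u := (⟨u, hPK u.2⟩ : K)) hpM hmaxK.1.1 (Subgroup.mem_subgroupOf.2 u.2)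
      refine secVal_eq_zero hpM (isPBlock_blockOf η) (mem_blockOf_self η) hy'
        (exists_pow_eq_one_of_mem hmaxK.1.1.1 (Subgroup.mem_subgroupOf.2 u.2)) hyr hpair fun h => ?_
      have hbel := pairBelow_below (c := (⟨P.subgroupOf K, relBlock hPK hCP c⟩ : BrauerPairIdx K))
        (u := (⟨u, hPK u.2⟩ : K)) hpM hmaxK.1.1 (Subgroup.mem_subgroupOf.2 u.2)
      have h' := (existsUnique_block_of_pair hpM h.1).unique h
        ((isBrauerPairOf_iff_of_below hpM hbel f).2 hmaxK.1)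
      exact hη (mem_filter.2 ⟨mem_univ _, h' ▸ mem_blockOf_self η⟩)
  refine ⟨ξ, fun u => W u (θ : K → ℂ), fun χ => ⟨fun ψ => (n χ (T ψ) : ℤ), fun u => rfl⟩, hcol,
    hnorm, fun u v hu hv hin => ?_, fun u g => hWK u _ g⟩
  have hcol1 : ∀ (χ : IrrCharacter G) (w : P), Subgroup.centralizer (Subgroup.zpowers (w : G) : Set G) ≤ K →
      secVal (pairBelow p M ⟨P, c⟩ (w : G)) (χ : G → ℂ) (w : G) = ξ χ w * W w (θ : K → ℂ) w :=
    fun χ w hw => by
      have h := hcol χ w hw 1 (Commute.one_right _)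
        (by rw [orderOf_one]; exact (Fact.out : p.Prime).not_dvd_one)
      rwa [mul_one] at h
  have h := sum_secVal_pairBelow hpM hmax u.2 v.2
  rw [← hcardG u v hu hv hin] at h
  simp only [hcol1 _ u hu, hcol1 _ v hv, map_mul, mul_mul_mul_comm (ξ _ u) (W u (θ : K → ℂ) u),
    ← Finset.sum_mul] at h
  exact mul_right_cancel₀ (mul_ne_zero (hnorm u hu).1 ((map_ne_zero _).2 (hnorm v hv).1)) h

end CfsgLib.Blocks
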