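import Cfsg.Agent.Lib.Blocks.ThirdMain
import Cfsg.Agent.Lib.CharApps.Basic
import Cfsg.Agent.Lib.Blocks.NormalPSubgroup

/-!
# A criterion for all blocks other than the principal one to have defect zero
-/

set_option autoImplicit false
set_option linter.unusedSectionVars false
set_option linter.style.haveILetI false

namespace CfsgLib.Blocks

open Cfsg Chars CfsgLib.CharApps

universe u

variable {G : Type u} [Group G] [Fintype G] {M : Ideal AlgInt} [M.IsPrime] {p : ℕ} [Fact p.Prime]

/-- The coefficients of a non-principal block idempotent vanish modulo `M` on the centralizer of a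
self-centralizing `p`-subgroup. -/
theorem blockCoeff_mem_of_centralizer_le (hpM : (p : AlgInt) ∈ M) {B : Set (IrrCharacter G)}
    (hB : IsPBlock M B) (hnp : principal G ∉ B) {Q : Subgroup G} (hQ : IsPGroup p Q)
    (hCQ : Subgroup.centralizer (Q : Set G) ≤ Q) {c : G}
    (hc : c ∈ Subgroup.centralizer (Q : Set G)) : MemLocalIdeal M (blockCoeff B c) := by
  classical
  have hzero : ∀ x ∈ Subgroup.centralizer (Q : Set G), x ≠ 1 → blockCoeff B x = 0 := by
    intro x hx hx1
    obtain ⟨k, hk⟩ := hQ ⟨x, hCQ hx⟩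
    have hk' : x ^ p ^ k = 1 := congrArg Subtype.val hk
    obtain ⟨i, -, hi⟩ := (Nat.dvd_prime_pow (Fact.out (p := p.Prime))).1 (orderOf_dvd_of_pow_eq_one hk')
    refine blockCoeff_eq_zero_of_dvd Fact.out hpM hB ?_
    rcases i with _ | i
    · exact absurd (orderOf_eq_one_iff.1 (by simpa using hi)) hx1
    · rw [hi]; exact dvd_pow_self p i.succ_ne_zero
  by_cases h1 : c = 1
  · subst h1
    haveI := Fintype.ofFinite (Subgroup.centralizer (Q : Set G))
    have h := sum_centralizer_congr hpM hQ (blockCoeff_mem_loc hB)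
      (fun u _ g => isClassFunction_blockCoeff B g u)
    rw [Finset.sum_eq_single (1 : Subgroup.centralizer (Q : Set G))
      (fun x _ hx => hzero x x.2 (fun e => hx (Subtype.ext e))) (by simp),
      ← omega_principal, omega_blockCoeff, if_neg hnp, sub_zero] at h
    exact h
  · rw [hzero c hc h1]
    exact MemLocalIdeal.zero'

/-- If `Q` is a self-centralizing `p`-subgroup of the centralizer of a `p`-element `z`, normalized
by it, then non-principal block idempotents vanish modulo `M` on the centralizer of `z`. -/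
theorem blockCoeff_mem_of_constrained (hpM : (p : AlgInt) ∈ M) {B : Set (IrrCharacter G)}
    (hB : IsPBlock M B) (hnp : principal G ∉ B) {z : G} (hz : IsPGroup p (Subgroup.zpowers z))
    {Q : Subgroup G} (hQ : IsPGroup p Q) (hCQ : Subgroup.centralizer (Q : Set G) ≤ Q)
    (hQz : Q ≤ Subgroup.centralizer ({z} : Set G))
    (hN : Subgroup.centralizer ({z} : Set G) ≤ Subgroup.normalizer (Q : Set G))
    {c : G} (hc : c ∈ Subgroup.centralizer ({z} : Set G)) :
    MemLocalIdeal M (blockCoeff B c) := by
  classical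
  haveI := charP_resField (M := M) (Fact.out (p := p.Prime)) hpM
  set H := Subgroup.centralizer ((Subgroup.zpowers z : Subgroup G) : Set G) with hHdef
  have hH : H = Subgroup.centralizer ({z} : Set G) := by
    rw [hHdef, Subgroup.zpowers_eq_closure, Subgroup.centralizer_closure]
  haveI := Fintype.ofFinite H
  have hlc := isLocClassFun_blockCoeff hB
  have hfix := isFixedBy_blockIdem hB (Subgroup.zpowers z)
  have hid := cut_mul p hz hfix hfix
  rw [blockIdem_mul_self, blockIdem, cut_redFun_eq_incl, ← map_mul] at hid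
  have hloc : ∀ h : H, resFun H (blockCoeff B) h ∈ loc M := fun h => blockCoeff_mem_loc hB _
  set f : MonoidAlgebra (ResField M) H :=
    redFun (resFun H (blockCoeff B)) hloc with hf
  have hff : f = f * f := incl_injective hid
  haveI : (Q.subgroupOf H).Normal := by
    refine ⟨fun q hq h => ?_⟩
    rw [Subgroup.mem_subgroupOf] at hq ⊢
    exact (Subgroup.mem_normalizer_iff.1 (hN (hH ▸ h.2)) (q : G)).1 hq
  have hQH : Q ≤ H := hH ▸ hQz
  have hP : IsPGroup p (Q.subgroupOf H) :=
    hQ.of_equiv (Subgroup.subgroupOfEquivOfLe hQH).symm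
  have hnil : IsNilpotent f := by
    refine isNilpotent_of_vanish_centralizer hP ?_ ?_
    · intro u _ g
      rw [hf, coeff_redFun, coeff_redFun]
      exact congrArg red (Subtype.ext (isClassFunction_blockCoeff B (g : G) (u : G)))
    · intro x hx
      rw [hf, coeff_redFun_eq_zero_iff]
      refine blockCoeff_mem_of_centralizer_le hpM hB hnp hQ hCQ ?_
      rw [Subgroup.mem_centralizer_iff]
      intro q hq
      have h := Subgroup.mem_centralizer_iff.1 hx ⟨q, hQH hq⟩ hq
      exact congrArg Subtype.val h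
  have hf0 : f = 0 := by
    obtain ⟨n, hn⟩ := hnil
    have hi : IsIdempotentElem f := hff.symm
    rw [← hi.pow_succ_eq n, pow_succ, hn, zero_mul]
  have h2 := congrArg (fun F => F.coeff (⟨c, hH ▸ hc⟩ : H)) hf0
  simp only [MonoidAlgebra.coeff_zero, Finsupp.coe_zero, Pi.zero_apply] at h2
  rw [hf, coeff_redFun_eq_zero_iff] at h2
  exact h2

omit [Fintype G] [Fact p.Prime] in
/-- Constrained centralizers are carried along by conjugation. -/
theorem constrained_conj (c : G) {z r : G} (he : z = c * r * c⁻¹) {Q : Subgroup G}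
    (hQ : IsPGroup p Q) (hCQ : Subgroup.centralizer (Q : Set G) ≤ Q)
    (hQz : Q ≤ Subgroup.centralizer ({r} : Set G))
    (hN : Subgroup.centralizer ({r} : Set G) ≤ Subgroup.normalizer (Q : Set G)) :
    ∃ Q' : Subgroup G, IsPGroup p Q' ∧ Subgroup.centralizer (Q' : Set G) ≤ Q' ∧
      Q' ≤ Subgroup.centralizer ({z} : Set G) ∧
      Subgroup.centralizer ({z} : Set G) ≤ Subgroup.normalizer (Q' : Set G) := by
  set f : G →* G := (MulAut.conj c).toMonoidHom
  have hf : ∀ y, f y = c * y * c⁻¹ := fun y => rfl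
  have hmem : ∀ x, x ∈ Q.map f ↔ c⁻¹ * x * c ∈ Q := by
    intro x
    constructor
    · rintro ⟨y, hy, rfl⟩
      have : c⁻¹ * f y * c = y := by rw [hf]; group
      rw [this]; exact hy
    · intro h
      exact ⟨_, h, by rw [hf]; group⟩
  have hcz : ∀ x, x ∈ Subgroup.centralizer ({z} : Set G) →
      c⁻¹ * x * c ∈ Subgroup.centralizer ({r} : Set G) := by
    intro x hx
    rw [Subgroup.mem_centralizer_singleton_iff, he] at hx
    rw [Subgroup.mem_centralizer_singleton_iff]
    calc c⁻¹ * x * c * r = c⁻¹ * (x * (c * r * c⁻¹)) * c := by group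
      _ = c⁻¹ * (c * r * c⁻¹ * x) * c := by rw [hx]
      _ = r * (c⁻¹ * x * c) := by group
  refine ⟨Q.map f, hQ.map f, fun x hx => ?_, fun x hx => ?_, fun x hx => ?_⟩
  · rw [hmem]
    refine hCQ (Subgroup.mem_centralizer_iff.2 fun y hy => ?_)
    have h := Subgroup.mem_centralizer_iff.1 hx (f y) (Subgroup.mem_map_of_mem f hy)
    rw [hf] at h
    calc y * (c⁻¹ * x * c) = c⁻¹ * (c * y * c⁻¹ * x) * c := by group
      _ = c⁻¹ * (x * (c * y * c⁻¹)) * c := by rw [h]
      _ = c⁻¹ * x * c * y := by group
  · have h := Subgroup.mem_centralizer_singleton_iff.1 (hQz ((hmem x).1 hx))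
    rw [Subgroup.mem_centralizer_singleton_iff, he]
    calc x * (c * r * c⁻¹) = c * (c⁻¹ * x * c * r) * c⁻¹ := by group
      _ = c * (r * (c⁻¹ * x * c)) * c⁻¹ := by rw [h]
      _ = c * r * c⁻¹ * x := by group
  · rw [Subgroup.mem_normalizer_iff]
    intro y
    simp only [hmem]
    have h := Subgroup.mem_normalizer_iff.1 (hN (hcz x hx)) (c⁻¹ * y * c)
    rw [h, show c⁻¹ * x * c * (c⁻¹ * y * c) * (c⁻¹ * x * c)⁻¹ = c⁻¹ * (x * y * x⁻¹) * c by group]

/-- If every element of order `p` has a constrained centralizer, a character outside the principal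
block has `p`-defect zero. -/
theorem mem_principalBlock_or_full_degree (hpM : (p : AlgInt) ∈ M)
    (hcon : ∀ z : G, orderOf z = p → ∃ Q : Subgroup G, IsPGroup p Q ∧
      Subgroup.centralizer (Q : Set G) ≤ Q ∧ Q ≤ Subgroup.centralizer ({z} : Set G) ∧
      Subgroup.centralizer ({z} : Set G) ≤ Subgroup.normalizer (Q : Set G))
    (χ : IrrCharacter G) :
    χ ∈ principalBlock M G ∨
      p ^ (Nat.card G).factorization p ∣ charDegree (χ : G → ℂ) := by
  classical
  by_contra hne
  push Not at hne
  obtain ⟨hχ, hdeg⟩ := hne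
  have hp := Fact.out (p := p.Prime)
  set B := blockOf M (χ : G → ℂ) with hBdef
  have hB : IsPBlock M B := isPBlock_blockOf χ
  have hnp : principal G ∉ B := fun h => hχ (SameBlock.symm h)
  haveI := Fintype.ofFinite (ConjClasses G)
  have hsum := omega_eq_sum_centralChar χ (isClassFunction_blockCoeff B)
  rw [omega_blockCoeff, if_pos (mem_blockOf_self χ)] at hsum
  refine not_memLocalIdeal_one (M := M) ?_
  rw [hsum]
  refine MemLocalIdeal.sum' fun C _ => ?_
  set g := classRep C
  by_cases hg : p ∣ Nat.card (Subgroup.centralizer ({g} : Set G))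
  · obtain ⟨z, hz⟩ := exists_prime_orderOf_dvd_card' p hg
    have hzo : orderOf (z : G) = p := by rw [Subgroup.orderOf_coe, hz]
    obtain ⟨Q, hQ, hCQ, hQz, hN⟩ := hcon z hzo
    refine MemLocalIdeal.mul_right' (blockCoeff_mem_of_constrained hpM hB hnp ?_ hQ hCQ hQz hN ?_)
      (centralChar_mem_loc χ g)
    · exact IsPGroup.of_card (n := 1) (by rw [Nat.card_zpowers, hzo, pow_one])
    · exact Subgroup.mem_centralizer_singleton_iff.2
        (Subgroup.mem_centralizer_singleton_iff.1 z.2).symm
  · refine MemLocalIdeal.mul_left' (blockCoeff_mem_loc hB g) ?_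
    set d := charDegree (χ : G → ℂ) with hd
    set i := (Subgroup.centralizer ({g} : Set G)).index with hi
    have hd0 : d ≠ 0 := fun h0 => deg_ne_zero χ (by rw [deg_eq, ← hd, h0, Nat.cast_zero])
    have hai : p ^ (Nat.card G).factorization p ∣ i := by
      have h1 : p ^ (Nat.card G).factorization p ∣
          Nat.card (Subgroup.centralizer ({g} : Set G)) * i := by
        rw [hi, Subgroup.card_mul_index]; exact Nat.ordProj_dvd _ _
      exact ((Nat.Coprime.pow_left _ (hp.coprime_iff_not_dvd.2 hg))).dvd_of_dvd_mul_left h1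
    set b := d.factorization p with hb
    set v := d / p ^ b with hv
    have hdv : p ^ b * v = d := Nat.ordProj_mul_ordCompl_eq_self d p
    have hblt : b < (Nat.card G).factorization p := by
      by_contra hle
      exact hdeg ((pow_dvd_pow p (not_lt.1 hle)).trans (Nat.ordProj_dvd d p))
    obtain ⟨w, hw⟩ := (pow_dvd_pow p (Nat.succ_le_of_lt hblt)).trans hai
    have hχ1 : (χ : G → ℂ) 1 = (d : ℂ) := deg_eq χ
    have hmul : centralChar (χ : G → ℂ) g * (v : ℂ) = (p : ℂ) * ((w : ℂ) * (χ : G → ℂ) g) := by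
      rw [centralChar, ← hi, hw, hχ1, ← hdv]
      have hv0 : (v : ℂ) ≠ 0 := Nat.cast_ne_zero.2 fun h0 => hd0 (by rw [← hdv, h0, mul_zero])
      have hp0 : (p : ℂ) ≠ 0 := Nat.cast_ne_zero.2 hp.ne_zero
      push_cast [pow_succ]
      field_simp
    have hmem : MemLocalIdeal M (centralChar (χ : G → ℂ) g * (v : ℂ)) := by
      rw [hmul]
      exact MemLocalIdeal.mul_right' ((memLocalIdeal_natCast_iff hp hpM p).2 dvd_rfl)
        (mul_mem (natCast_mem_loc w) (irr_mem_loc χ g))
    refine (MemLocalIdeal.mem_or_mem (centralChar_mem_loc χ g) (natCast_mem_loc v) hmem).resolve_right ?_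
    rw [memLocalIdeal_natCast_iff hp hpM]
    exact Nat.not_dvd_ordCompl hp hd0

/-- With constrained centralizers and no character of defect zero there is a single block. -/
theorem sameBlock_of_constrained (hpM : (p : AlgInt) ∈ M)
    (hcon : ∀ z : G, orderOf z = p → ∃ Q : Subgroup G, IsPGroup p Q ∧
      Subgroup.centralizer (Q : Set G) ≤ Q ∧ Q ≤ Subgroup.centralizer ({z} : Set G) ∧
      Subgroup.centralizer ({z} : Set G) ≤ Subgroup.normalizer (Q : Set G))
    (hdz : ∀ χ : IrrCharacter G,
      ¬ p ^ (Nat.card G).factorization p ∣ charDegree (χ : G → ℂ))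
    (χ ψ : IrrCharacter G) : SameBlock M (χ : G → ℂ) (ψ : G → ℂ) :=
  SameBlock.trans
    (SameBlock.symm ((mem_principalBlock_or_full_degree hpM hcon χ).resolve_right (hdz χ)))
    ((mem_principalBlock_or_full_degree hpM hcon ψ).resolve_right (hdz ψ))

end CfsgLib.Blocks
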