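import Cfsg.Agent.Lib.Blocks.DefectOneValues
import Cfsg.Agent.Lib.CharApps.AbelianSylow
import Cfsg.Agent.Lib.Blocks.StarNonzero
import Mathlib.Data.ZMod.Units

/-!
# The number of `p`-conjugates of a character times its degree
-/

set_option linter.unusedSectionVars false
set_option linter.style.haveILetI false

namespace CfsgLib.Blocks

open Cfsg Chars BlockOrth Modular Finset
open scoped ComplexConjugate

universe u

theorem sum_units_pow_mem {p a : ℕ} [hp : Fact p.Prime] (ha : 1 ≤ a) [NeZero (p ^ a)] {w : ℂ}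
    (hw : w ^ p ^ a = 1) :
    ∃ z : ℤ, ∑ k : (ZMod (p ^ a))ˣ, w ^ (k : ZMod (p ^ a)).val = (p : ℂ) ^ (a - 1) * z := by
  classical
  have hn : p ^ a = p * p ^ (a - 1) := by rw [← pow_succ']; congr 1; omega
  have hall : ∀ {q : ℕ} {z : ℂ}, z ^ q = 1 →
      ∑ i ∈ range q, z ^ i = if z = 1 then (q : ℂ) else 0 := by
    intro q z hz
    by_cases h : z = 1
    · subst h; simp
    · rw [if_neg h, geom_sum_eq h, hz, sub_self, zero_div]
  have hunits : ∑ k : (ZMod (p ^ a))ˣ, w ^ (k : ZMod (p ^ a)).val =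
      ∑ i ∈ (range (p ^ a)).filter (fun i => ¬ p ∣ i), w ^ i := by
    refine Finset.sum_bij (fun k _ => (k : ZMod (p ^ a)).val) (fun k _ => ?_) (fun k _ l _ h => ?_)
      (fun i hi => ?_) fun k _ => rfl
    · refine mem_filter.2 ⟨mem_range.2 (ZMod.val_lt _), ?_⟩
      have := ZMod.val_coe_unit_coprime k
      rw [← hp.out.coprime_iff_not_dvd]
      exact ((Nat.coprime_pow_right_iff (by omega) _ _).1 this).symm
    · exact Units.ext (ZMod.val_injective _ h)
    · obtain ⟨h1, h2⟩ := mem_filter.1 hi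
      refine ⟨ZMod.unitOfCoprime i (((hp.out.coprime_iff_not_dvd.2 h2).symm).pow_right a),
        mem_univ _, ?_⟩
      rw [ZMod.coe_unitOfCoprime, ZMod.val_natCast, Nat.mod_eq_of_lt (mem_range.1 h1)]
  have hmult : ∑ i ∈ (range (p ^ a)).filter (fun i => p ∣ i), w ^ i =
      ∑ j ∈ range (p ^ (a - 1)), (w ^ p) ^ j := by
    refine Finset.sum_bij' (fun i _ => i / p) (fun j _ => p * j) (fun i hi => ?_) (fun j hj => ?_)
      (fun i hi => Nat.mul_div_cancel' (mem_filter.1 hi).2)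
      (fun j _ => Nat.mul_div_cancel_left _ hp.out.pos) fun i hi => ?_
    · obtain ⟨h1, h2⟩ := mem_filter.1 hi
      rw [mem_range, Nat.div_lt_iff_lt_mul hp.out.pos, mul_comm, ← hn]
      exact mem_range.1 h1
    · refine mem_filter.2 ⟨mem_range.2 ?_, dvd_mul_right _ _⟩
      rw [hn]
      exact Nat.mul_lt_mul_of_pos_left (mem_range.1 hj) hp.out.pos
    · rw [← pow_mul, Nat.mul_div_cancel' (mem_filter.1 hi).2]
  have hsplit := Finset.sum_filter_add_sum_filter_not (range (p ^ a)) (fun i => p ∣ i) (w ^ ·)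
  rw [hmult, hall hw, hall (z := w ^ p) (by rw [← pow_mul, ← hn, hw])] at hsplit
  refine ⟨(if w = 1 then (p : ℤ) else 0) - if w ^ p = 1 then 1 else 0, ?_⟩
  rw [hunits, eq_sub_of_add_eq' hsplit, hn]
  push_cast
  split_ifs <;> ring

variable {G : Type u} [Group G] [Fintype G]

theorem gen_pow_eq_pow {g : G} {i j : ℕ} (h : i ≡ j [MOD Nat.card G]) : g ^ i = g ^ j :=
  pow_eq_pow_iff_modEq.2 (h.of_dvd (orderOf_dvd_natCard g))

open scoped Classical in
/-- If `p^a` divides `r χ(1)` then `χ` is its only `p`-conjugate. -/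
theorem card_pConjugates_eq_one {p : ℕ} [Fact p.Prime] (χ : IrrCharacter G)
    (Orb : Set (IrrCharacter G))
    (hOrb : ∀ ψ, ψ ∈ Orb ↔ ∃ σ : ℂ ≃+* ℂ,
      (∀ z : ℂ, z ^ (Nat.card G / p ^ (Nat.card G).factorization p) = 1 → σ z = z) ∧
        ψ = CharApps.galoisIrr σ χ)
    (hdvd : p ^ (Nat.card G).factorization p ∣ Nat.card Orb * charDegree (χ : G → ℂ)) :
    Nat.card Orb = 1 := by
  have hp : p.Prime := Fact.out
  obtain ⟨M, hM⟩ := CharApps.exists_pModular p
  haveI := hM.2.1.isPrime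
  have hpM := hM.2.2
  haveI := irrFintype G
  obtain ⟨a, hadef⟩ : ∃ a, a = (Nat.card G).factorization p := ⟨_, rfl⟩
  obtain ⟨m, hmdef⟩ : ∃ m, m = Nat.card G / p ^ a := ⟨_, rfl⟩
  rw [← hadef] at hdvd
  have hmul : p ^ a * m = Nat.card G := by
    rw [hmdef, hadef]; exact Nat.ordProj_mul_ordCompl_eq_self (Nat.card G) p
  have hm0 : m ≠ 0 := fun h => by rw [h, mul_zero] at hmul; exact Nat.card_pos.ne' hmul.symm
  have hcop : m.Coprime (p ^ a) := by
    refine Nat.Coprime.pow_right a (Nat.coprime_comm.1 (hp.coprime_iff_not_dvd.2 ?_))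
    rw [hmdef, hadef]
    exact Nat.not_dvd_ordCompl hp Nat.card_pos.ne'
  haveI : NeZero (p ^ a) := ⟨pow_ne_zero _ hp.ne_zero⟩
  haveI : NeZero m := ⟨hm0⟩
  haveI : NeZero (Nat.card G) := ⟨Nat.card_pos.ne'⟩
  -- the exponents
  let L : (ZMod (p ^ a))ˣ → ℕ := fun k => (Nat.chineseRemainder hcop 1 (k : ZMod (p ^ a)).val).1
  have hL1 : ∀ k, L k ≡ 1 [MOD m] := fun k => (Nat.chineseRemainder hcop 1 _).2.1
  have hLk : ∀ k, L k ≡ (k : ZMod (p ^ a)).val [MOD p ^ a] := fun k =>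
    (Nat.chineseRemainder hcop 1 _).2.2
  have hLmul : ∀ k l, L (k * l) ≡ L k * L l [MOD Nat.card G] := by
    intro k l
    rw [← hmul, mul_comm, ← Nat.modEq_and_modEq_iff_modEq_mul hcop]
    refine ⟨(hL1 _).trans ((hL1 k).mul (hL1 l)).symm, (hLk _).trans ?_⟩
    refine Nat.ModEq.trans ?_ ((hLk k).mul (hLk l)).symm
    rw [Units.val_mul, ZMod.val_mul]
    exact Nat.mod_modEq _ _
  have hLone : L 1 ≡ 1 [MOD Nat.card G] := by
    rw [← hmul, mul_comm, ← Nat.modEq_and_modEq_iff_modEq_mul hcop]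
    refine ⟨hL1 1, (hLk 1).trans ?_⟩
    rw [Units.val_one]
    exact (ZMod.natCast_eq_natCast_iff _ _ _).1 (by simp)
  have hLcop : ∀ k, (L k).Coprime (Nat.card G) := fun k => by
    have h : L (k * k⁻¹) ≡ L k * L k⁻¹ [MOD Nat.card G] := hLmul k k⁻¹
    rw [mul_inv_cancel] at h
    exact Nat.Coprime.coprime_mul_right (by
      rw [Nat.Coprime, ((hLone.symm.trans h)).symm.gcd_eq, Nat.gcd_one_left])
  choose σ hσ using fun k => CharApps.exists_galois_pow (Nat.card G) (hLcop k)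
  have hσm : ∀ k (z : ℂ), z ^ m = 1 → σ k z = z := fun k z hz => by
    rw [hσ k z (by rw [← hmul, mul_comm, pow_mul, hz, one_pow]), pow_eq_pow_mod _ hz, hL1 k,
      ← pow_eq_pow_mod _ hz, pow_one]
  let act : (ZMod (p ^ a))ˣ → IrrCharacter G → IrrCharacter G := fun k ψ =>
    CharApps.galoisIrr (σ k) ψ
  have hact : ∀ k (ψ : IrrCharacter G) g, (act k ψ : G → ℂ) g = (ψ : G → ℂ) (g ^ L k) :=
    fun k ψ g => CharApps.galois_apply (σ k) (hσ k) (isCharacter_of_irr ψ.2) g pow_card_eq_one'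
  letI : MulAction (ZMod (p ^ a))ˣ (IrrCharacter G) :=
    { smul := act
      one_smul := fun ψ => Subtype.ext (funext fun g => by
        show (act 1 ψ : G → ℂ) g = _
        rw [hact, gen_pow_eq_pow hLone, pow_one])
      mul_smul := fun k l ψ => Subtype.ext (funext fun g => by
        show (act (k * l) ψ : G → ℂ) g = (act k (act l ψ) : G → ℂ) g
        rw [hact, hact, hact, ← pow_mul, gen_pow_eq_pow (hLmul k l)]) }
  have hsmul : ∀ (k : (ZMod (p ^ a))ˣ) (ψ : IrrCharacter G), k • ψ = CharApps.galoisIrr (σ k) ψ :=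
    fun k ψ => rfl
  have horbit : ∀ ψ, ψ ∈ Orb ↔ ψ ∈ MulAction.orbit (ZMod (p ^ a))ˣ χ := by
    intro ψ
    rw [hOrb, ← hadef, ← hmdef]
    constructor
    · rintro ⟨s, hs, rfl⟩
      have hζ := Complex.isPrimitiveRoot_exp (p ^ a) (pow_ne_zero _ hp.ne_zero)
      obtain ⟨i, hilt, hi⟩ := hζ.eq_pow_of_pow_eq_one
        (show s (Complex.exp (2 * Real.pi * Complex.I / ((p ^ a : ℕ) : ℂ))) ^ (p ^ a) = 1 by
          rw [← map_pow, hζ.pow_eq_one, map_one])
      have hic : i.Coprime (p ^ a) := by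
        rw [← hζ.pow_iff_coprime (pow_pos hp.pos a), hi]
        exact hζ.map_of_injective s.injective
      refine ⟨ZMod.unitOfCoprime i hic, Subtype.ext (funext fun g => ?_)⟩
      show (act _ χ : G → ℂ) g = s ((χ : G → ℂ) g)
      rw [hact]
      symm
      refine CharApps.galois_apply s (fun z hz => ?_) (isCharacter_of_irr χ.2) g pow_card_eq_one'
      obtain ⟨α, hα, hα'⟩ := Nat.chineseRemainder hcop 1 0
      obtain ⟨β, hβ, hβ'⟩ := Nat.chineseRemainder hcop 0 1
      have hz1 : z ^ α * z ^ β = z := by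
        rw [← pow_add]
        conv_rhs => rw [← pow_one z]
        refine (pow_eq_pow_mod _ hz).trans (Eq.trans ?_ (pow_eq_pow_mod _ hz).symm)
        congr 1
        show α + β ≡ 1 [MOD Nat.card G]
        rw [← hmul, mul_comm, ← Nat.modEq_and_modEq_iff_modEq_mul hcop]
        exact ⟨by simpa using hα.add hβ, by simpa using hα'.add hβ'⟩
      have h1 : (z ^ α) ^ m = 1 := by
        obtain ⟨c, hc⟩ := Nat.modEq_zero_iff_dvd.1 hα'
        rw [← pow_mul, hc, mul_right_comm, hmul, pow_mul, hz, one_pow]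
      have h2 : (z ^ β) ^ (p ^ a) = 1 := by
        obtain ⟨c, hc⟩ := Nat.modEq_zero_iff_dvd.1 hβ
        rw [← pow_mul, hc, mul_comm (m * c), ← mul_assoc, hmul, pow_mul, hz, one_pow]
      obtain ⟨j, -, hj⟩ := hζ.eq_pow_of_pow_eq_one h2
      have hs2 : s (z ^ β) = (z ^ β) ^ i := by
        rw [← hj, map_pow, ← hi, ← pow_mul, ← pow_mul, Nat.mul_comm i j]
      conv_lhs => rw [← hz1]
      rw [map_mul, hs _ h1, hs2]
      conv_rhs => rw [← hz1, mul_pow]
      congr 1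
      · rw [pow_eq_pow_mod (L _) h1, hL1, ← pow_eq_pow_mod _ h1, pow_one]
      · refine (Eq.trans (pow_eq_pow_mod _ h2) (Eq.trans ?_ (pow_eq_pow_mod _ h2).symm))
        congr 1
        refine (Nat.ModEq.trans (hLk _) ?_).symm
        rw [ZMod.coe_unitOfCoprime, ZMod.val_natCast]
        exact Nat.mod_modEq _ _
    · rintro ⟨k, rfl⟩
      exact ⟨σ k, hσm k, rfl⟩
  obtain ⟨r, hr⟩ : ∃ r, r = Nat.card Orb := ⟨_, rfl⟩
  rw [← hr] at hdvd ⊢
  have hOrbEq : Orb = MulAction.orbit (ZMod (p ^ a))ˣ χ := Set.ext horbit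
  obtain ⟨Stab, hStab⟩ : ∃ S : Subgroup (ZMod (p ^ a))ˣ,
      S = MulAction.stabilizer (ZMod (p ^ a))ˣ χ := ⟨_, rfl⟩
  have hindex : Stab.index = r := by
    rw [hStab, MulAction.index_stabilizer, hr, hOrbEq, Nat.card_coe_set_eq]
  rcases Nat.eq_zero_or_pos a with ha0 | ha
  · subst ha0
    rw [← hindex, Subgroup.index_eq_one, eq_top_iff]
    intro k _
    haveI : Subsingleton (ZMod (p ^ 0))ˣ := by rw [pow_zero]; infer_instance
    rw [Subsingleton.elim k 1]
    exact one_mem _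
  obtain ⟨d, hd⟩ : ∃ d, d = charDegree (χ : G → ℂ) := ⟨_, rfl⟩
  rw [← hd] at hdvd
  have hd0 : d ≠ 0 := hd ▸ irr_charDegree_ne_zero χ
  have hdegk : ∀ k : (ZMod (p ^ a))ˣ, charDegree ((k • χ : IrrCharacter G) : G → ℂ) = d := fun k => by
    refine Nat.cast_injective (R := ℂ) ?_
    rw [hd, charDegree_cast, charDegree_cast, hsmul, CharApps.galoisIrr_apply, ← charDegree_cast,
      map_natCast]
  -- the orbit sum
  obtain ⟨Φ, hΦ⟩ : ∃ Φ : G → ℂ, Φ = fun g => ∑ ψ ∈ univ.filter (· ∈ Orb), (ψ : G → ℂ) g := ⟨_, rfl⟩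
  have hsum : ∀ g, ∑ k : (ZMod (p ^ a))ˣ, (χ : G → ℂ) (g ^ L k) = (Nat.card Stab : ℂ) * Φ g := by
    intro g
    rw [hΦ, Finset.mul_sum,
      ← Finset.sum_fiberwise_of_maps_to (g := fun k : (ZMod (p ^ a))ˣ => k • χ)
        (t := univ.filter (· ∈ Orb)) (fun k _ => mem_filter.2 ⟨mem_univ _, (horbit _).2 ⟨k, rfl⟩⟩)]
    refine Finset.sum_congr rfl fun ψ hψ => ?_
    obtain ⟨l, hl⟩ := (horbit ψ).1 (mem_filter.1 hψ).2
    change l • χ = ψ at hl
    rw [Finset.sum_congr rfl fun k hk => by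
      rw [← hact k χ g, show act k χ = ψ from (mem_filter.1 hk).2], Finset.sum_const, nsmul_eq_mul]
    congr 2
    rw [← Fintype.card_subtype, ← Nat.card_eq_fintype_card]
    refine Nat.card_congr (Equiv.subtypeEquiv (Equiv.mulLeft l⁻¹) fun k => ?_)
    show k • χ = ψ ↔ l⁻¹ * k ∈ Stab
    rw [hStab, MulAction.mem_stabilizer_iff, mul_smul, inv_smul_eq_iff, hl]
  have hdiv : ∀ g : G, ∃ z : ℂ, IsIntegral ℤ z ∧
      (Nat.card Stab : ℂ) * Φ g = (p : ℂ) ^ (a - 1) * z := by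
    intro g
    obtain ⟨n, ρ, hρ, hval⟩ := χ.2
    have hsum' := hsum g
    obtain ⟨bb, μ, hμ, -, hb, -, -, -⟩ := exists_eigenbasis_rep ρ g
    have hpow : ∀ (k : ℕ) i, ρ (g ^ k) (bb i) = μ i ^ k • bb i := fun k i => by
      induction k with
      | zero => simp
      | succ k ih => rw [pow_succ, map_mul, Module.End.mul_apply, hb, map_smul, ih, smul_smul,
          pow_succ, mul_comm]
    have hchar : ∀ k : ℕ, (χ : G → ℂ) (g ^ k) = ∑ i, μ i ^ k := fun k => by
      rw [← hval]; exact trace_eq_sum_of_eigenbasis _ bb _ (hpow k)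
    have hμN : ∀ i, μ i ^ Nat.card G = 1 := fun i => by
      obtain ⟨c, hc⟩ := orderOf_dvd_natCard g
      rw [hc, pow_mul, hμ i, one_pow]
    obtain ⟨α, hα, hα'⟩ := Nat.chineseRemainder hcop 1 0
    obtain ⟨β, hβ, hβ'⟩ := Nat.chineseRemainder hcop 0 1
    have hterm : ∀ i, ∃ z : ℤ, ∑ k : (ZMod (p ^ a))ˣ, μ i ^ L k =
        (p : ℂ) ^ (a - 1) * ((μ i ^ α) * z) := by
      intro i
      have h2 : (μ i ^ β) ^ (p ^ a) = 1 := by
        obtain ⟨c, hc⟩ := Nat.modEq_zero_iff_dvd.1 hβ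
        rw [← pow_mul, hc, mul_comm (m * c), ← mul_assoc, hmul, pow_mul, hμN, one_pow]
      obtain ⟨z, hz⟩ := sum_units_pow_mem ha h2
      refine ⟨z, ?_⟩
      rw [mul_left_comm, ← hz, Finset.mul_sum]
      refine Finset.sum_congr rfl fun k _ => ?_
      rw [← pow_mul, ← pow_add]
      refine (pow_eq_pow_mod _ (hμN i)).trans (Eq.trans ?_ (pow_eq_pow_mod _ (hμN i)).symm)
      congr 1
      show L k ≡ α + β * (k : ZMod (p ^ a)).val [MOD Nat.card G]
      rw [← hmul, mul_comm (p ^ a), ← Nat.modEq_and_modEq_iff_modEq_mul hcop]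
      exact ⟨(hL1 k).trans (by simpa using (hα.add (hβ.mul_right _)).symm),
        (hLk k).trans (by simpa using (hα'.add (hβ'.mul_right _)).symm)⟩
    choose z hz using hterm
    refine ⟨∑ i, μ i ^ α * z i, IsIntegral.sum _ fun i _ => IsIntegral.mul ?_ ?_, ?_⟩
    · exact (IsIntegral.of_pow (Nat.card_pos (α := G)) (by rw [hμN]; exact isIntegral_one)).pow α
    · exact isIntegral_algebraMap (R := ℤ) (x := z i)
    rw [← hsum', Finset.mul_sum, Finset.sum_congr rfl fun k _ => hchar (L k), Finset.sum_comm]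
    exact Finset.sum_congr rfl fun i _ => hz i
  -- the idempotent of the orbit
  have hcardΓ : Nat.card (ZMod (p ^ a))ˣ = p ^ (a - 1) * (p - 1) := by
    rw [Nat.card_eq_fintype_card, ZMod.card_units_eq_totient, Nat.totient_prime_pow hp ha]
  have hsr : Nat.card Stab * r = p ^ (a - 1) * (p - 1) := by
    rw [← hindex, Subgroup.card_mul_index, hcardΓ]
  obtain ⟨q, hq⟩ := hdvd
  obtain ⟨eO, heO⟩ : ∃ e : G → ℂ, e = ∑ ψ ∈ univ.filter (· ∈ Orb), idemCoeff (ψ : G → ℂ) :=
    ⟨_, rfl⟩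
  have heclass : IsClassFunction G eO := fun x g => by
    rw [heO, Finset.sum_apply, Finset.sum_apply]
    exact Finset.sum_congr rfl fun ψ _ => isClassFunction_idemCoeff ψ x g
  have hdegOrb : ∀ ψ ∈ Orb, charDegree (ψ : G → ℂ) = d := fun ψ hψ => by
    obtain ⟨k, rfl⟩ := (horbit ψ).1 hψ
    exact hdegk k
  have heloc : ∀ g, eO g ∈ loc M := by
    intro g
    have h1 : eO g = (Nat.card G : ℂ)⁻¹ * ((d : ℂ) * Φ g⁻¹) := by
      rw [heO, hΦ, Finset.sum_apply, Finset.mul_sum, Finset.mul_sum]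
      refine Finset.sum_congr rfl fun ψ hψ => ?_
      rw [← hdegOrb ψ (mem_filter.1 hψ).2, charDegree_cast, idemCoeff, ← char_inv (isCharacter_of_irr ψ.2)]
      -- done
    obtain ⟨z, hz, hzeq⟩ := hdiv g⁻¹
    have hp1 : ¬ p ∣ p - 1 := fun h => by
      have := Nat.le_of_dvd (by have := hp.two_le; omega) h
      have := hp.two_le
      omega
    have hm' : ¬ p ∣ m := by rw [hmdef, hadef]; exact Nat.not_dvd_ordCompl hp Nat.card_pos.ne'
    have hnd : ¬ p ∣ m * (p - 1) := fun h => (hp.dvd_mul.1 h).elim hm' hp1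
    have hkey : eO g * ((m * (p - 1) : ℕ) : ℂ) = (q : ℂ) * z := by
      have hS0 : (Nat.card Stab : ℂ) ≠ 0 := Nat.cast_ne_zero.2 Nat.card_pos.ne'
      have hpC : (p : ℂ) ^ a ≠ 0 := pow_ne_zero _ (Nat.cast_ne_zero.2 hp.ne_zero)
      have hmC : (m : ℂ) ≠ 0 := Nat.cast_ne_zero.2 hm0
      have h3 : (Nat.card Stab : ℂ) * r = (p : ℂ) ^ (a - 1) * ((p - 1 : ℕ) : ℂ) := by
        exact_mod_cast hsr
      have h4 : (r : ℂ) * d = (p : ℂ) ^ a * q := by exact_mod_cast hq
      have h5 : (p : ℂ) ^ a * m = (Nat.card G : ℂ) := by exact_mod_cast hmul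
      rw [h1, ← h5, Nat.cast_mul]
      field_simp
      refine mul_left_cancel₀ (pow_ne_zero (a - 1) (Nat.cast_ne_zero.2 hp.ne_zero) : (p : ℂ) ^ (a - 1) ≠ 0) ?_
      linear_combination ((d : ℂ) * Φ g⁻¹) * (-h3) + ((r : ℂ) * d) * hzeq +
        ((p : ℂ) ^ (a - 1) * z) * h4
    have hne : ((m * (p - 1) : ℕ) : ℂ) ≠ 0 :=
      Nat.cast_ne_zero.2 fun h => hnd (h ▸ dvd_zero p)
    rw [← mul_div_cancel_right₀ (eO g) hne, hkey, div_eq_mul_inv]
    exact Subring.mul_mem _ (Subring.mul_mem _ (natCast_mem_loc q) (isIntegral_mem_loc hz))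
      (inv_natCast_mem_loc hp hpM hnd)
  have homega : ∀ ψ : IrrCharacter G, omega (ψ : G → ℂ) eO = if ψ ∈ Orb then 1 else 0 := by
    intro ψ
    rw [heO, omega_sum]
    simp only [idemCoeff_omega, Finset.sum_ite_eq', mem_filter, mem_univ, true_and]
  obtain ⟨B, hBdef⟩ : ∃ B, B = blockOf M (χ : G → ℂ) := ⟨_, rfl⟩
  have hB : IsPBlock M B := hBdef ▸ isPBlock_blockOf χ
  have hχB : χ ∈ B := hBdef ▸ mem_blockOf_self χ
  have hχO : χ ∈ Orb := (horbit χ).2 (MulAction.mem_orbit_self χ)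
  have hBO : B = Orb := by
    refine Set.Subset.antisymm (fun ψ hψ => ?_) fun ψ hψ => ?_
    · by_contra hno
      have h := omega_sub_mem (IsPBlock.sameBlock hB hχB hψ) (a := eO) ⟨heclass, heloc⟩
      rw [homega, homega, if_pos hχO, if_neg hno, sub_zero] at h
      have h' : MemLocalIdeal M ((1 : ℕ) : ℂ) := by simpa using h
      exact hp.not_dvd_one ((memLocalIdeal_natCast_iff hp hpM 1).1 h')
    · obtain ⟨s, hs, rfl⟩ := (hOrb ψ).1 hψ
      exact galoisIrr_mem hpM hB hs hχB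
  have hregk : ∀ (k : (ZMod (p ^ a))ˣ) (y : G), ¬ p ∣ orderOf y →
      ((k • χ : IrrCharacter G) : G → ℂ) y = (χ : G → ℂ) y := fun k y hy => by
    rw [hsmul, CharApps.galoisIrr_apply]
    refine galois_apply_regular (hσm k) χ ?_
    rw [hmdef, hadef]
    exact pow_pPrime_card_eq_one hy
  have hrank : blockRank p B = 1 := by
    have himg : (fun ψ : IrrCharacter G => pRegularPart p (ψ : G → ℂ)) '' B =
        {pRegularPart p (χ : G → ℂ)} := by
      refine Set.eq_singleton_iff_nonempty_unique_mem.2 ⟨⟨_, χ, hχB, rfl⟩, ?_⟩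
      rintro _ ⟨ψ, hψ, rfl⟩
      obtain ⟨k, rfl⟩ := (horbit ψ).1 (hBO ▸ hψ)
      funext y
      by_cases hy : IsPRegular p y
      · simp only [pRegularPart, if_pos hy]
        exact hregk k y hy
      · simp [pRegularPart, if_neg hy]
    rw [blockRank, himg]
    refine finrank_span_singleton fun h => ?_
    have := congrFun h 1
    rw [BlockOrth.pRegularPart_apply_one] at this
    exact irr_degree_ne_zero χ.2 this
  obtain ⟨φ, D, -, hDφ, hDsq⟩ := exists_decomposition_of_rank_one hpM hB hrank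
  have hreg1 : ¬ p ∣ orderOf (1 : G) := by simp [hp.ne_one]
  have hDconst : ∀ ψ ∈ B, D ψ = D χ := fun ψ hψ => by
    obtain ⟨k, rfl⟩ := (horbit ψ).1 (hBO ▸ hψ)
    have e1 := hDφ _ hψ 1 hreg1
    have e2 := hDφ _ hχB 1 hreg1
    rw [hregk k 1 hreg1, e2] at e1
    refine (Nat.cast_injective (mul_right_cancel₀ (fun h => irr_degree_ne_zero χ.2 ?_) e1)).symm
    rw [e2, h, mul_zero]
  haveI : Fintype B := Fintype.ofFinite B
  rw [finsum_mem_congr rfl (fun ψ hψ => by rw [hDconst ψ hψ]), finsum_mem_eq_toFinset_sum,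
    Finset.sum_const, smul_eq_mul, ← Set.ncard_eq_toFinset_card', ← Nat.card_coe_set_eq,
    show Nat.card B = r by rw [hr, hBO]] at hDsq
  rcases Nat.eq_zero_or_pos (blockDefect p B) with hδ | hδ
  · rw [hδ, pow_zero] at hDsq
    exact Nat.eq_one_of_mul_eq_one_right hDsq
  exfalso
  obtain ⟨j, -, hj⟩ := (Nat.dvd_prime_pow hp).1 (Dvd.intro _ hDsq)
  -- a central element of order `p` of the defect group
  obtain ⟨Dg, hDg⟩ := exists_isDefectGroup (p := p) hB
  obtain ⟨e, he⟩ := exists_pair_on_defectGroup hpM hB hDg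
  have hmax := isMaximal_of_defectGroup hpM hDg he
  have hDcard := BlockOrth.card_defectGroup hpM hB hDg
  obtain ⟨u, huD, huC, huord⟩ : ∃ u ∈ Dg, u ∈ Subgroup.centralizer (Dg : Set G) ∧ orderOf u = p := by
    haveI : Nontrivial Dg := Finite.one_lt_card_iff_nontrivial.1
      (hDcard ▸ Nat.one_lt_pow hδ.ne' hp.one_lt)
    haveI := (IsDefectGroup.isPGroup hDg).center_nontrivial
    have hZ : IsPGroup p (Subgroup.center Dg) := (IsDefectGroup.isPGroup hDg).to_subgroup _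
    obtain ⟨i, hi⟩ := IsPGroup.iff_card.1 hZ
    have hi0 : i ≠ 0 := fun h => by
      rw [h, pow_zero] at hi
      exact (Finite.one_lt_card (α := Subgroup.center Dg)).ne' hi
    obtain ⟨w, hw⟩ := exists_prime_orderOf_dvd_card' (G := Subgroup.center Dg) p
      (hi ▸ dvd_pow_self p hi0)
    refine ⟨((w : Dg) : G), (w : Dg).2, Subgroup.mem_centralizer_iff.2 fun v hv => ?_,
      by rw [Subgroup.orderOf_coe, Subgroup.orderOf_coe, hw]⟩
    exact congrArg Subtype.val (Subgroup.mem_center_iff.1 w.2 ⟨v, hv⟩)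
  obtain ⟨b, hb⟩ := exists_below (b := ⟨Dg, e⟩) hpM he.1 (Subgroup.zpowers u)
    (Subgroup.zpowers_le.2 huD)
  obtain ⟨y, hyc, hy, hne⟩ := exists_secVal_ne_zero_of_central hpM hmax huD huC hb hχB
  haveI := Fintype.ofFinite (Subgroup.centralizer (Subgroup.zpowers u : Set G))
  haveI := irrFintype (Subgroup.centralizer (Subgroup.zpowers u : Set G))
  have hbB : IsPBlock M b := (below_isBrauerPair hb he.1).2
  obtain ⟨yC, hyC⟩ : ∃ yC : Subgroup.centralizer (Subgroup.zpowers u : Set G), (yC : G) = y :=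
    ⟨⟨y, (mem_centralizer_zpowers_iff u y).2 hyc.eq.symm⟩, rfl⟩
  rw [← hyC] at hne hy
  have hyreg : ¬ p ∣ orderOf yC := by rwa [Subgroup.orderOf_coe] at hy
  obtain ⟨V, hV⟩ : ∃ V : IrrCharacter G → ℂ,
      V = fun ψ : IrrCharacter G => secVal ⟨Subgroup.zpowers u, b⟩ (ψ : G → ℂ) (u * (yC : G)) := ⟨_, rfl⟩
  -- Galois automorphisms trivial on `p`-th roots fix the values
  have hVexp : ∀ ψ : IrrCharacter G, ∀ s : ℂ ≃+* ℂ, (∀ z : ℂ, z ^ m = 1 → s z = z) →
      (∀ z : ℂ, z ^ p = 1 → s z = z) → s (V ψ) = V ψ := by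
    intro ψ s hs1 hs2
    have hH : ∀ c : G, c ∈ Subgroup.centralizer (Subgroup.zpowers u : Set G) ↔ c * u = u * c :=
      fun c => mem_centralizer_zpowers_iff u c
    rw [hV]
    simp only [secVal_eq_blockPart (isClassFunction_irr ψ), blockPart]
    rw [finsum_mem_eq_sum_of_inter_support_eq (t := univ.filter (· ∈ b)) _ (by ext; simp), map_sum]
    refine Finset.sum_congr rfl fun η _ => ?_
    obtain ⟨n, hn⟩ := inner_irr_right_nat (isCharacter_restrict _ (isCharacter_of_irr ψ.2)) η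
    rw [inner_congr_inst, inner_secFun_eq hH, inner_congr_inst, hn, map_mul, map_mul, map_natCast,
      hs2 _ (centralScalar_pow_eq_one η (Subgroup.mem_center_iff.2 fun c => Subtype.ext
        ((hH c).1 c.2)) (Subtype.ext (by push_cast; rw [← huord]; exact pow_orderOf_eq_one u))),
      galois_apply_regular hs1 η (Subtype.ext (by
        push_cast
        rw [hmdef, hadef]
        exact pow_pPrime_card_eq_one hy))]
  have hVsmul : ∀ (k : (ZMod (p ^ a))ˣ) (ψ : IrrCharacter G), V (k • ψ) = σ k (V ψ) := by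
    intro k ψ
    rw [hV, hsmul]
    simp only [secVal, map_sum, map_mul, CharApps.galoisIrr_apply]
    refine Finset.sum_congr rfl fun w _ => ?_
    congr 1
    by_cases hw : w ∈ Subgroup.centralizer (Subgroup.zpowers u : Set G)
    · rw [pairCoeff, show subgroupBlockCoeff (Subgroup.centralizer (Subgroup.zpowers u : Set G)) b w =
        blockCoeff b ⟨w, hw⟩ from subgroupBlockCoeff_coe _ ⟨w, hw⟩,
        galois_blockCoeff_fixed hpM hbB (hσm k) fun v hv => Subtype.ext (by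
          push_cast
          rw [hmdef, hadef]
          exact pow_pPrime_card_eq_one (by rwa [Subgroup.orderOf_coe v]))]
    · rw [pairCoeff, subgroupBlockCoeff_of_notMem _ hw, map_zero]
  obtain ⟨H, hH⟩ : ∃ H : Subgroup (ZMod (p ^ a))ˣ, ∀ k, k ∈ H ↔ V (k • χ) = V χ :=
    ⟨{ carrier := {k | V (k • χ) = V χ}
       one_mem' := by show V (_ • χ) = V χ; rw [one_smul]
       mul_mem' := fun {k l} (hk : V (k • χ) = V χ) (hl : V (l • χ) = V χ) => by
         show V ((k * l) • χ) = V χ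
         rw [mul_smul, hVsmul, hl, ← hVsmul, hk]
       inv_mem' := fun {k} (hk : V (k • χ) = V χ) => by
         show V (k⁻¹ • χ) = V χ
         conv_lhs => rw [hVsmul, ← hk, ← hVsmul, inv_smul_smul] }, fun k => Iff.rfl⟩
  have hpa : p ∣ p ^ a := dvd_pow_self p (Nat.one_le_iff_ne_zero.1 ha)
  obtain ⟨K, hKdef⟩ : ∃ K, K = (ZMod.unitsMap hpa).ker := ⟨_, rfl⟩
  have hKH : K ≤ H := fun k hk => by
    rw [hH, hVsmul]
    refine hVexp χ _ (hσm k) fun z hz => ?_
    rw [hKdef, MonoidHom.mem_ker] at hk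
    rw [hσ k z (by rw [← hmul]; obtain ⟨c, hc⟩ := hpa; rw [hc, mul_assoc, pow_mul, hz, one_pow])]
    have h1 : L k ≡ 1 [MOD p] := by
      refine ((hLk k).of_dvd hpa).trans ((ZMod.natCast_eq_natCast_iff _ _ _).1 ?_)
      have h2 : ((ZMod.unitsMap hpa k : (ZMod p)ˣ) : ZMod p) = 1 := by rw [hk]; rfl
      rw [ZMod.unitsMap_val] at h2
      rw [Nat.cast_one, ← h2, ZMod.natCast_val]
    rw [pow_eq_pow_mod _ hz, h1, ← pow_eq_pow_mod _ hz, pow_one]
  have hSH : Stab ≤ H := fun k hk => by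
    rw [hStab, MulAction.mem_stabilizer_iff] at hk
    rw [hH, hk]
  have hHtop : H = ⊤ := by
    rw [← Subgroup.index_eq_one]
    have h1 : H.index ∣ p ^ j := hj ▸ hindex ▸ Subgroup.index_dvd_of_le hSH
    have h2 : H.index ∣ p - 1 := by
      refine (Subgroup.index_dvd_of_le hKH).trans ?_
      rw [hKdef, Subgroup.index_ker]
      refine ((ZMod.unitsMap hpa).range.card_subgroup_dvd_card).trans ?_
      rw [Nat.card_eq_fintype_card, ZMod.card_units p]
    have h3 : (p ^ j).Coprime (p - 1) := by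
      refine Nat.Coprime.pow_left j (hp.coprime_iff_not_dvd.2 fun h => ?_)
      have := Nat.le_of_dvd (by have := hp.two_le; omega) h
      have := hp.two_le
      omega
    exact Nat.dvd_one.1 (h3.gcd_eq_one ▸ Nat.dvd_gcd h1 h2)
  -- the values add up to zero
  have hsumV : ∑ ψ ∈ univ.filter (· ∈ B), V ψ = 0 := by
    have hzero : ∀ g : G, p ∣ orderOf g → ∑ ψ ∈ univ.filter (· ∈ B), (ψ : G → ℂ) g = 0 := by
      intro g hg
      have h := weak_orthogonality hp hpM hB hreg1 (show p ∣ orderOf g⁻¹ by rwa [orderOf_inv])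
      rw [finsum_mem_eq_sum_of_inter_support_eq (t := univ.filter (· ∈ B)) _ (by ext; simp),
        Finset.sum_congr rfl (g := fun ψ : IrrCharacter G => (d : ℂ) * (ψ : G → ℂ) g) fun ψ hψ => by
          rw [← charDegree_cast, hdegOrb ψ (hBO ▸ (mem_filter.1 hψ).2),
            ← char_inv (isCharacter_of_irr ψ.2), inv_inv], ← Finset.mul_sum] at h
      exact (mul_eq_zero.1 h).resolve_left (Nat.cast_ne_zero.2 hd0)
    obtain ⟨F, hF⟩ : ∃ F : G → ℂ, F = fun g => ∑ ψ ∈ univ.filter (· ∈ B), (ψ : G → ℂ) g := ⟨_, rfl⟩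
    have hFc : IsClassFunction G F := fun x g => by
      rw [hF]; exact Finset.sum_congr rfl fun ψ _ => isClassFunction_irr ψ x g
    have hF0 : secVal ⟨Subgroup.zpowers u, b⟩ F (u * (yC : G)) = 0 := by
      rw [secVal_eq_blockPart hFc]
      refine blockPart_eq_zero_of_regular hp hpM hbB (isClassFunction_secFun_zpowers hFc u)
        (fun c hc => ?_) hyreg
      show F (u * (c : G)) = 0
      rw [hF]
      refine hzero _ ?_
      have hcc : Commute u (c : G) := ((mem_centralizer_zpowers_iff u (c : G)).1 c.2).symm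
      rw [hcc.orderOf_mul_eq_mul_orderOf_of_coprime (huord ▸ (hp.coprime_iff_not_dvd.2 (by
        rwa [Subgroup.orderOf_coe]))), huord]
      exact dvd_mul_right _ _
    rw [← hF0, hV, hF]
    simp only [secVal, Finset.mul_sum]
    rw [Finset.sum_comm]
  rw [Finset.sum_congr rfl (g := fun _ => V χ) fun ψ hψ => by
    obtain ⟨k, rfl⟩ := (horbit ψ).1 (hBO ▸ (mem_filter.1 hψ).2)
    exact (hH k).1 (hHtop ▸ Subgroup.mem_top k), Finset.sum_const, nsmul_eq_mul] at hsumV
  refine hne ?_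
  have hV0 : V χ = 0 := (mul_eq_zero.1 hsumV).resolve_left (Nat.cast_ne_zero.2
    (Finset.card_ne_zero.2 ⟨χ, mem_filter.2 ⟨mem_univ _, hχB⟩⟩))
  rw [hV] at hV0
  exact hV0

end CfsgLib.Blocks
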