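import Cfsg.Agent.Lib.Glauberman.CoprimeDegree
import Cfsg.Agent.Lib.CharApps.NormalSum
import Cfsg.Agent.Lib.Transfer.Tate
import Cfsg.Agent.Lib.PGroups.Basic
import Cfsg.Agent.Lib.Chars.Quotient
import Cfsg.Agent.Lib.Chars.Linear

/-!
# The common kernel of the characters of degree prime to `p`
-/

set_option autoImplicit false
set_option linter.style.haveILetI false
set_option linter.unusedSectionVars false

namespace CfsgLib.Blocks.PPrimeKernel

open Cfsg CfsgLib.Chars
open scoped ComplexConjugate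

universe u

variable {G : Type u} [Group G] [Finite G] {p : ℕ} [Fact p.Prime]

/-- A character of degree prime to `p` has a constituent of degree prime to `p`. -/
theorem exists_constituent_degree [Fintype G] {φ : G → ℂ} (hφ : IsCharacter G φ) {n : ℕ}
    (h1 : φ 1 = (n : ℂ)) (hn : ¬ p ∣ n) :
    ∃ χ : IrrCharacter G, classInner φ (χ : G → ℂ) ≠ 0 ∧ ¬ p ∣ charDegree (χ : G → ℂ) := by
  classical
  haveI := irrFintype G
  by_contra hcon
  simp only [not_exists, not_and, not_not] at hcon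
  choose m hm using fun χ : IrrCharacter G => inner_irr_right_nat hφ χ
  have e : φ 1 = ((∑ χ : IrrCharacter G, m χ * charDegree (χ : G → ℂ) : ℕ) : ℂ) := by
    conv_lhs => rw [classFun_eq_sum (isClassFunction_of_isCharacter hφ)]
    simp [Finset.sum_apply, hm, CharApps.deg_eq]
  rw [h1] at e
  refine hn (Nat.cast_injective e ▸ Finset.dvd_sum fun χ _ => ?_)
  by_cases h0 : m χ = 0
  · simp [h0]
  · exact dvd_mul_of_dvd_right (hcon χ (by rw [hm]; exact_mod_cast h0)) _

/-- An irreducible of a subgroup of index prime to `p` lies under one of degree prime to `p`. -/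
theorem exists_over_degree [Fintype G] (H : Subgroup G) [Fintype H] (θ : IrrCharacter H)
    (hH : ¬ p ∣ H.index) (hθ : ¬ p ∣ charDegree (θ : H → ℂ)) :
    ∃ χ : IrrCharacter G, ¬ p ∣ charDegree (χ : G → ℂ) ∧
      classInner (θ : H → ℂ) (fun h : H => (χ : G → ℂ) h) ≠ 0 := by
  obtain ⟨χ, h1, h2⟩ := exists_constituent_degree (p := p)
    (isCharacter_indFun H (isCharacter_of_irr θ.2))
    (n := H.index * charDegree (θ : H → ℂ))
    (by rw [indFun_one_apply, CharApps.deg_eq, Nat.cast_mul])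
    (Nat.Prime.not_dvd_mul Fact.out hH hθ)
  exact ⟨χ, h2, by rwa [inner_indFun H _ (isClassFunction_irr χ)] at h1⟩

omit [Fact p.Prime] in
/-- A function summing to zero over the cosets of `N` is orthogonal to one constant on them. -/
theorem inner_eq_zero_of_cosets [Fintype G] (N : Subgroup G) [Fintype N] {f g : G → ℂ}
    (hg : ∀ (n : N) x, g ((n : G) * x) = g x) (hf : ∀ x, ∑ n : N, f ((n : G) * x) = 0) :
    classInner f g = 0 := by
  rw [inner_def]
  have h : (Fintype.card N : ℂ) * ∑ x : G, f x * conj (g x) = 0 := by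
    calc (Fintype.card N : ℂ) * ∑ x : G, f x * conj (g x)
        = ∑ n : N, ∑ x : G, f ((n : G) * x) * conj (g ((n : G) * x)) := by
          rw [Finset.sum_congr rfl fun (n : N) (_ : n ∈ Finset.univ) => show
            ∑ x : G, f ((n : G) * x) * conj (g ((n : G) * x)) = ∑ x : G, f x * conj (g x) from
              Equiv.sum_comp (Equiv.mulLeft (n : G)) fun x => f x * conj (g x)]
          simp
      _ = ∑ x : G, conj (g x) * ∑ n : N, f ((n : G) * x) := by
          rw [Finset.sum_comm]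
          refine Finset.sum_congr rfl fun x _ => ?_
          rw [Finset.mul_sum]
          exact Finset.sum_congr rfl fun n _ => by rw [hg]; ring
      _ = 0 := by simp [hf]
  rw [(mul_eq_zero.mp h).resolve_left (Nat.cast_ne_zero.mpr Fintype.card_ne_zero), mul_zero]

omit [Fact p.Prime] in
theorem mul_of_mem_charKer {χ : IrrCharacter G} {k : G} (hk : k ∈ CharApps.charKer χ) (x : G) :
    (χ : G → ℂ) (k * x) = (χ : G → ℂ) x :=
  (CharApps.char_mul_of_mem_ker (isCharacter_of_irr χ.2) hk x).1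

omit [Fact p.Prime] in
/-- A constituent of a restriction inherits the kernel. -/
theorem le_charKer_of_under [Fintype G] {J : Subgroup G} [Fintype J] {N : Subgroup J} [N.Normal]
    {χ : IrrCharacter G} {ψ : IrrCharacter J}
    (h : classInner (ψ : J → ℂ) (fun j : J => (χ : G → ℂ) j) ≠ 0)
    (hN : ∀ n ∈ N, (n : G) ∈ CharApps.charKer χ) : N ≤ CharApps.charKer ψ := by
  haveI := Fintype.ofFinite N
  by_contra hne
  refine h (inner_eq_zero_of_cosets N (fun n x => ?_)
    (CharApps.sum_coset_eq_zero N ψ hne))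
  show (χ : G → ℂ) (((n : J) * x : J) : G) = (χ : G → ℂ) (x : G)
  rw [Subgroup.coe_mul]
  exact mul_of_mem_charKer (hN n n.2) _

omit [Fact p.Prime] in
/-- A normal subgroup in the kernel of a constituent of a restriction is in the kernel. -/
theorem le_charKer_of_over [Fintype G] {J : Subgroup G} [Fintype J] {C : Subgroup G} [C.Normal]
    (hCJ : C ≤ J) {χ : IrrCharacter G} {ψ : IrrCharacter J}
    (h : classInner (fun j : J => (χ : G → ℂ) j) (ψ : J → ℂ) ≠ 0)
    (hC : C.subgroupOf J ≤ CharApps.charKer ψ) : C ≤ CharApps.charKer χ := by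
  haveI := Fintype.ofFinite C
  haveI := Fintype.ofFinite (C.subgroupOf J)
  by_contra hne
  refine h (inner_eq_zero_of_cosets (C.subgroupOf J) (fun n x => mul_of_mem_charKer (hC n.2) x)
    fun x => ?_)
  rw [← CharApps.sum_coset_eq_zero C χ hne (x : G)]
  exact Fintype.sum_equiv (Subgroup.subgroupOfEquivOfLe hCJ).toEquiv _ _ fun n => rfl

/-- An element of a Sylow subgroup in the kernel of all the characters of degree prime to `p`
lies in the derived subgroup. -/
theorem mem_commutator_of_forall (P : Sylow p G) {x : (P : Subgroup G)}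
    (hx : ∀ χ : IrrCharacter G, ¬ p ∣ charDegree (χ : G → ℂ) →
      (x : G) ∈ CharApps.charKer χ) : x ∈ commutator (P : Subgroup G) := by
  classical
  haveI := Fintype.ofFinite G
  haveI := Fintype.ofFinite (P : Subgroup G)
  rw [← Abelianization.ker_of, MonoidHom.mem_ker]
  by_contra hne
  haveI : NeZero (Monoid.exponent (Abelianization (P : Subgroup G)) : ℂ) :=
    ⟨Nat.cast_ne_zero.mpr Monoid.exponent_ne_zero_of_finite⟩
  obtain ⟨φ, hφ⟩ := CommGroup.exists_apply_ne_one_of_hasEnoughRootsOfUnity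
    (Abelianization (P : Subgroup G)) ℂ hne
  let lam : (P : Subgroup G) →* ℂˣ := φ.comp Abelianization.of
  have hd : charDegree (fun g => (lam g : ℂ)) = 1 := by
    have := CharApps.deg_eq ⟨_, isIrrCharacter_linear lam⟩
    simp at this
    exact_mod_cast this.symm
  obtain ⟨χ, hχ, hin⟩ := exists_over_degree (p := p) (P : Subgroup G)
    ⟨_, isIrrCharacter_linear lam⟩ P.not_dvd_index
    (by rw [hd]; exact (Fact.out : p.Prime).not_dvd_one)
  refine hin ?_
  have key : (∑ y : (P : Subgroup G), (lam y : ℂ) * conj ((χ : G → ℂ) y)) =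
      (lam x : ℂ) * ∑ y : (P : Subgroup G), (lam y : ℂ) * conj ((χ : G → ℂ) y) := by
    conv_lhs => rw [← Equiv.sum_comp (Equiv.mulLeft x)]
    rw [Finset.mul_sum]
    refine Finset.sum_congr rfl fun y _ => ?_
    simp only [Equiv.coe_mulLeft, map_mul, Units.val_mul, Subgroup.coe_mul]
    rw [mul_of_mem_charKer (hx χ hχ)]
    ring
  have hne1 : (lam x : ℂ) ≠ 1 := fun h => hφ (Units.ext h)
  rw [inner_def]
  have h0 : ((lam x : ℂ) - 1) * ∑ y : (P : Subgroup G), (lam y : ℂ) * conj ((χ : G → ℂ) y) = 0 := by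
    rw [sub_mul, ← key]; ring
  show _ * ∑ y : (P : Subgroup G), (lam y : ℂ) * conj ((χ : G → ℂ) y) = 0
  rw [(mul_eq_zero.mp h0).resolve_left (sub_ne_zero.mpr hne1), mul_zero]

/-- A normal subgroup with trivial centralizer of a Sylow subgroup has order prime to `p`. -/
theorem not_dvd_card_of_inf_centralizer (P : Sylow p G) (N : Subgroup G) [N.Normal]
    (hN : N ⊓ Subgroup.centralizer ((P : Subgroup G) : Set G) = ⊥) : ¬ p ∣ Nat.card N := by
  have hbot : N.subgroupOf (P : Subgroup G) = ⊥ := by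
    by_contra hne
    refine PGroups.inf_center_ne_bot P.2 hne ?_
    rw [eq_bot_iff]
    rintro x ⟨hxN, hxZ⟩
    have hmem : (x : G) ∈ N ⊓ Subgroup.centralizer ((P : Subgroup G) : Set G) :=
      ⟨Subgroup.mem_subgroupOf.mp hxN, Subgroup.mem_centralizer_iff.mpr fun y hy =>
        congrArg Subtype.val (Subgroup.mem_center_iff.mp hxZ ⟨y, hy⟩)⟩
    rw [hN, Subgroup.mem_bot] at hmem
    exact Subgroup.mem_bot.mpr (Subtype.ext hmem)
  have hbot' : (P : Subgroup G).subgroupOf N = ⊥ := by
    rw [Subgroup.subgroupOf_eq_bot] at hbot ⊢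
    exact hbot.symm
  have h := Transfer.not_dvd_index_subgroupOf_of_normal P N
  rwa [hbot', Subgroup.index_bot] at h

/-- Setting: a normal `p'`-subgroup `H` and a Sylow subgroup `P`, inside `H ⊔ P`. -/
theorem coprime_setup (P : Sylow p G) (H : Subgroup G) [H.Normal] (hH : ¬ p ∣ Nat.card H) :
    (Nat.card (H.subgroupOf (H ⊔ (P : Subgroup G)))).Coprime
        (H.subgroupOf (H ⊔ (P : Subgroup G))).index ∧
      (∃ k, (H.subgroupOf (H ⊔ (P : Subgroup G))).index = p ^ k) ∧
      (Nat.card (H.subgroupOf (H ⊔ (P : Subgroup G)))).Coprime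
        (Nat.card ((P : Subgroup G).subgroupOf (H ⊔ (P : Subgroup G)))) ∧
      Group.IsSolvable ((P : Subgroup G).subgroupOf (H ⊔ (P : Subgroup G))) := by
  have hp : p.Prime := Fact.out
  have hcard : Nat.card (H.subgroupOf (H ⊔ (P : Subgroup G))) = Nat.card H :=
    Nat.card_congr (Subgroup.subgroupOfEquivOfLe le_sup_left).toEquiv
  have hS : IsPGroup p ((P : Subgroup G).subgroupOf (H ⊔ (P : Subgroup G))) :=
    P.2.of_equiv (Subgroup.subgroupOfEquivOfLe le_sup_right).symm
  obtain ⟨k, hk⟩ := hS.exists_card_eq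
  have hidx : ∃ k, (H.subgroupOf (H ⊔ (P : Subgroup G))).index = p ^ k := by
    obtain ⟨j, hj⟩ := P.2.exists_card_eq
    have h1 : (H.subgroupOf (H ⊔ (P : Subgroup G))).index ∣ p ^ j := by
      show H.relIndex (H ⊔ (P : Subgroup G)) ∣ _
      rw [sup_comm, Subgroup.relIndex_sup_right, ← hj]
      exact Subgroup.relIndex_dvd_card _ _
    obtain ⟨i, -, hi⟩ := (Nat.dvd_prime_pow hp).mp h1
    exact ⟨i, hi⟩
  obtain ⟨i, hi⟩ := hidx
  haveI := hS.isNilpotent
  exact ⟨hcard ▸ hi ▸ ((hp.coprime_iff_not_dvd.mpr hH).symm.pow_right i), ⟨i, hi⟩,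
    hcard ▸ hk ▸ ((hp.coprime_iff_not_dvd.mpr hH).symm.pow_right k), inferInstance⟩

/-- The common kernel, upper bound. -/
theorem iInf_charKer_le (P : Sylow p G) (N : Subgroup G)
    (hmax : ∀ L : Subgroup G, L.Normal →
      L ⊓ Subgroup.centralizer ((P : Subgroup G) : Set G) = ⊥ → L ≤ N) :
    (⨅ χ : {χ : IrrCharacter G // ¬ p ∣ charDegree (χ : G → ℂ)}, CharApps.charKer χ.1) ≤
      (N ⊔ ⁅(P : Subgroup G), (P : Subgroup G)⁆).normalCore := by
  classical
  have hp : p.Prime := Fact.out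
  haveI := Fintype.ofFinite G
  set K := ⨅ χ : {χ : IrrCharacter G // ¬ p ∣ charDegree (χ : G → ℂ)}, CharApps.charKer χ.1
    with hK
  have hKle : ∀ χ : IrrCharacter G, ¬ p ∣ charDegree (χ : G → ℂ) → K ≤ CharApps.charKer χ :=
    fun χ hχ => iInf_le (fun χ : {χ : IrrCharacter G // ¬ p ∣ charDegree (χ : G → ℂ)} =>
      CharApps.charKer χ.1) ⟨χ, hχ⟩
  haveI hKn : K.Normal := ⟨fun x hx g => by
    rw [hK, Subgroup.mem_iInf] at hx ⊢
    exact fun χ => (CharApps.charKer_normal χ.1).conj_mem x (hx χ) g⟩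
  have hKP : ∀ x ∈ K, x ∈ (P : Subgroup G) → x ∈ ⁅(P : Subgroup G), (P : Subgroup G)⁆ := by
    intro x hx hxP
    rw [← Subgroup.map_subtype_commutator]
    exact ⟨⟨x, hxP⟩, mem_commutator_of_forall P fun χ hχ => hKle χ hχ hx, rfl⟩
  obtain hpc := Transfer.hasNormalPComplement_of_inf_le_frattini P K (by
    rintro x ⟨hx, hxP⟩
    obtain ⟨y, hy, rfl⟩ := (Subgroup.map_subtype_commutator (P : Subgroup G)).symm ▸ hKP x hx hxP
    exact ⟨y, PGroups.commutator_le_frattini P.2 hy, rfl⟩)
  rw [Transfer.hasNormalPComplement_iff_pResidual] at hpc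
  haveI := Transfer.pResidual_characteristic (G := K) (p := p)
  haveI := Transfer.pResidual_normal (G := K) (p := p)
  set H := (Cfsg.pResidual p K).map K.subtype with hHdef
  haveI hHn : H.Normal := inferInstance
  have hHK : H ≤ K := Subgroup.map_subtype_le _
  have hH : ¬ p ∣ Nat.card H := by
    rwa [hHdef, Subgroup.card_subtype]
  have hHC : H ⊓ Subgroup.centralizer ((P : Subgroup G) : Set G) = ⊥ := by
    by_contra hne
    set J := H ⊔ (P : Subgroup G) with hJ
    obtain ⟨hcop, ⟨k, hk⟩, hcopS, hsolv⟩ := coprime_setup P H hH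
    set S := (P : Subgroup G).subgroupOf J with hS
    set H' := H.subgroupOf J with hH'
    have hnorm : S ≤ Subgroup.normalizer (H' : Set J) := by
      rw [Subgroup.normalizer_eq_top]; exact le_top
    set C := H' ⊓ Subgroup.centralizer (S : Set J) with hC
    obtain ⟨c, hc, hc1⟩ : ∃ c ∈ C, c ≠ 1 := by
      obtain ⟨c, hc, hc1⟩ := (H ⊓ Subgroup.centralizer ((P : Subgroup G) : Set G)).bot_or_exists_ne_one
        |>.resolve_left hne
      refine ⟨⟨c, le_sup_left (b := (P : Subgroup G)) hc.1⟩, ⟨Subgroup.mem_subgroupOf.mpr hc.1,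
        Subgroup.mem_centralizer_iff.mpr fun y hy => Subtype.ext ?_⟩, fun h => hc1 (congrArg Subtype.val h)⟩
      exact Subgroup.mem_centralizer_iff.mp hc.2 y (Subgroup.mem_subgroupOf.mp hy)
    haveI := Fintype.ofFinite H'
    haveI := irrFintype H'
    have htwo : 1 < Nat.card {θ : IrrCharacter H' // Glauberman.InvBy S H' (θ : H' → ℂ)} := by
      rw [Glauberman.card_inv_irr_eq_classes hnorm hcopS hsolv,
        Glauberman.card_inv_classes hnorm hcopS hsolv, Finite.one_lt_card_iff_nontrivial]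
      refine ⟨⟨ConjClasses.mk ⟨c, hc⟩, ConjClasses.mk 1, fun h => hc1 ?_⟩⟩
      exact congrArg Subtype.val
        (isConj_one_right.mp (ConjClasses.mk_eq_mk_iff_isConj.mp h).symm)
    haveI := Finite.one_lt_card_iff_nontrivial.mp htwo
    obtain ⟨⟨θ, hθ⟩, hθ1⟩ := exists_ne (⟨principal H', fun s _ g g' _ => rfl⟩ :
      {θ : IrrCharacter H' // Glauberman.InvBy S H' (θ : H' → ℂ)})
    have hinv : ∀ g n, (θ : H' → ℂ) (CharsMore.conjBy H' g n) = (θ : H' → ℂ) n := by
      have htop : CharsMore.inertia H' (θ : H' → ℂ) = ⊤ := by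
        rw [eq_top_iff]
        have h1 : H' ⊔ S = ⊤ := by
          rw [hH', hS, ← Subgroup.subgroupOf_sup le_sup_left le_sup_right, Subgroup.subgroupOf_self]
        rw [← h1]
        refine sup_le (CharsMore.le_inertia H' (isClassFunction_irr θ)) fun s hs => ?_
        exact (CharsMore.mem_inertia H').mpr fun n => hθ s hs n _ (by simp)
      exact fun g => (CharsMore.mem_inertia H').mp (htop ▸ Subgroup.mem_top g)
    obtain ⟨ψ, hψ, hψres⟩ := Glauberman.exists_ext_of_coprime_card H' hcop θ hinv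
    haveI := Fintype.ofFinite J
    have hdeg : ¬ p ∣ charDegree (ψ : J → ℂ) := by
      obtain ⟨d, -, hd, hdvd⟩ := irr_degree_dvd_card θ.2
      have h1 : ((charDegree (ψ : J → ℂ) : ℕ) : ℂ) = (d : ℂ) := by
        rw [← CharApps.deg_eq ⟨ψ, hψ⟩, ← hd, ← hψres 1]; rfl
      rw [Nat.cast_injective h1]
      have hc' : Nat.card H' = Nat.card H :=
        Nat.card_congr (Subgroup.subgroupOfEquivOfLe le_sup_left).toEquiv
      exact fun h => hH (hc' ▸ h.trans hdvd)
    obtain ⟨χ, hχ, hin⟩ := exists_over_degree (p := p) J ⟨ψ, hψ⟩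
      (fun h => P.not_dvd_index (h.trans (Subgroup.index_dvd_of_le le_sup_right))) hdeg
    have hker : H' ≤ CharApps.charKer ⟨ψ, hψ⟩ :=
      le_charKer_of_under hin fun n hn => hKle χ hχ (hHK (Subgroup.mem_subgroupOf.mp hn))
    refine hθ1 (Subtype.ext ?_)
    by_contra hne'
    have h0 := inner_irr_ne (χ := θ) (ψ := principal H') hne'
    have hc0 : (θ : H' → ℂ) = fun _ => (θ : H' → ℂ) 1 := funext fun n => by
      rw [← hψres n, ← hψres 1]; exact hker n.2
    rw [hc0, show (principal H' : H' → ℂ) = fun _ => 1 from rfl, inner_def] at h0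
    simp [irr_degree_ne_zero θ.2] at h0
  haveI := hHn
  have hHN : H ≤ N := hmax H hHn hHC
  refine Subgroup.normal_le_normalCore.mpr ?_
  set T := (Cfsg.pResidual p K) ⊔ (P : Subgroup G).subgroupOf K with hT
  have hTtop : T = ⊤ := by
    rw [← Subgroup.index_eq_one]
    obtain ⟨k, hk⟩ := Transfer.exists_index_pResidual (G := K) (p := p)
    have h1 : T.index ∣ p ^ k := hk ▸ Subgroup.index_dvd_of_le le_sup_left
    obtain ⟨j, -, hj⟩ := (Nat.dvd_prime_pow hp).mp h1
    rcases j with _ | j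
    · simpa using hj
    · exact absurd ((dvd_pow_self p j.succ_ne_zero).trans
        (hj ▸ Subgroup.index_dvd_of_le le_sup_right))
        (Transfer.not_dvd_index_subgroupOf_of_normal P K)
  intro x hx
  have hxT : (⟨x, hx⟩ : K) ∈ T := hTtop ▸ Subgroup.mem_top _
  have hle : T ≤ (N ⊔ ⁅(P : Subgroup G), (P : Subgroup G)⁆).subgroupOf K := by
    refine sup_le (fun y hy => ?_) (fun y hy => ?_)
    · exact Subgroup.mem_sup_left (hHN ⟨y, hy, rfl⟩)
    · exact Subgroup.mem_sup_right (hKP y y.2 hy)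
  exact hle hxT

/-- The common kernel, lower bound. -/
theorem normalCore_le_charKer (P : Sylow p G) (N : Subgroup G) [N.Normal]
    (hN : N ⊓ Subgroup.centralizer ((P : Subgroup G) : Set G) = ⊥) (χ : IrrCharacter G)
    (hχ : ¬ p ∣ charDegree (χ : G → ℂ)) :
    (N ⊔ ⁅(P : Subgroup G), (P : Subgroup G)⁆).normalCore ≤ CharApps.charKer χ := by
  classical
  have hp : p.Prime := Fact.out
  haveI := Fintype.ofFinite G
  have hNp := not_dvd_card_of_inf_centralizer P N hN
  set J := N ⊔ (P : Subgroup G) with hJ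
  obtain ⟨hcop, ⟨k, hk⟩, hcopS, hsolv⟩ := coprime_setup P N hNp
  set S := (P : Subgroup G).subgroupOf J with hS
  set N' := N.subgroupOf J with hN'
  haveI := Fintype.ofFinite J
  haveI := Fintype.ofFinite N'
  haveI := irrFintype N'
  obtain ⟨ψ, hin, hψ⟩ := exists_constituent_degree (p := p) (φ := fun j : J => (χ : G → ℂ) j)
    (isCharacter_restrict J (isCharacter_of_irr χ.2)) (CharApps.deg_eq χ) hχ
  -- a constituent on `N'` is trivial
  obtain ⟨θ, hθ⟩ := Blocks.exists_constituent_restrict N' ψ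
  have hinv : ∀ g n, (θ : N' → ℂ) (CharsMore.conjBy N' g n) = (θ : N' → ℂ) n := by
    have hdeg := CharsMore.clifford_degree N' ψ.2 θ.2 hθ
    obtain ⟨m, hm⟩ := inner_irr_right_nat (isCharacter_restrict N' (isCharacter_of_irr ψ.2)) θ
    obtain ⟨d, -, hd, -⟩ := irr_degree_dvd_card θ.2
    rw [hm, hd, CharApps.deg_eq] at hdeg
    have hdeg' : charDegree (ψ : J → ℂ) = m * (CharsMore.inertia N' (θ : N' → ℂ)).index * d := by
      exact_mod_cast hdeg
    have h1 : (CharsMore.inertia N' (θ : N' → ℂ)).index ∣ p ^ k :=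
      hk ▸ Subgroup.index_dvd_of_le (CharsMore.le_inertia N' (isClassFunction_irr θ))
    obtain ⟨j, -, hj⟩ := (Nat.dvd_prime_pow hp).mp h1
    rcases j with _ | j
    · rw [pow_zero, Subgroup.index_eq_one] at hj
      exact fun g => (CharsMore.mem_inertia N').mp (hj ▸ Subgroup.mem_top g)
    · exact absurd (hdeg' ▸ dvd_mul_of_dvd_left (dvd_mul_of_dvd_right
        (hj ▸ dvd_pow_self p j.succ_ne_zero) m) d) hψ
  have hnorm : S ≤ Subgroup.normalizer (N' : Set J) := by
    rw [Subgroup.normalizer_eq_top]; exact le_top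
  have hone : Nat.card {θ : IrrCharacter N' // Glauberman.InvBy S N' (θ : N' → ℂ)} = 1 := by
    have hbot : N' ⊓ Subgroup.centralizer (S : Set J) = ⊥ := by
      rw [eq_bot_iff]
      rintro x ⟨hxN, hxC⟩
      have hmem : (x : G) ∈ N ⊓ Subgroup.centralizer ((P : Subgroup G) : Set G) :=
        ⟨Subgroup.mem_subgroupOf.mp hxN, Subgroup.mem_centralizer_iff.mpr fun y hy =>
          congrArg Subtype.val (Subgroup.mem_centralizer_iff.mp hxC ⟨y, le_sup_right (a := N) hy⟩ hy)⟩
      rw [hN, Subgroup.mem_bot] at hmem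
      exact Subgroup.mem_bot.mpr (Subtype.ext hmem)
    rw [Glauberman.card_inv_irr_eq_classes hnorm hcopS hsolv,
      Glauberman.card_inv_classes hnorm hcopS hsolv, hbot]
    haveI : Subsingleton (ConjClasses (⊥ : Subgroup J)) := ConjClasses.mk_surjective.subsingleton
    exact Nat.card_unique
  have hθ1 : θ = principal N' := by
    haveI := (Nat.card_eq_one_iff_unique.mp hone).1
    exact congrArg Subtype.val (Subsingleton.elim
      (⟨θ, fun s _ n n' e => by
        rw [show n' = CharsMore.conjBy N' s n from Subtype.ext (by simpa using e), hinv]⟩ :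
        {θ : IrrCharacter N' // Glauberman.InvBy S N' (θ : N' → ℂ)})
      ⟨principal N', fun _ _ _ _ _ => rfl⟩)
  have hkerN : ∀ n ∈ N', (ψ : J → ℂ) n = (ψ : J → ℂ) 1 := fun n hn => by
    have h1 := CharsMore.restrict_eq_mul_of_invariant N' ψ.2 θ.2 hinv hθ ⟨n, hn⟩
    have h2 := CharsMore.restrict_eq_mul_of_invariant N' ψ.2 θ.2 hinv hθ 1
    rw [hθ1] at h1 h2
    simp only [principal_apply, OneMemClass.coe_one] at h1 h2
    rw [h1, h2]
  -- the constituent is linear
  have hlin : (ψ : J → ℂ) 1 = 1 := by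
    obtain ⟨e, he, hee⟩ := exists_deflate_irr N' ψ.2 hkerN
    obtain ⟨b, -, hb, hbdvd⟩ := irr_degree_dvd_card he
    rw [← Subgroup.index_eq_card, hk] at hbdvd
    obtain ⟨j, -, hj⟩ := (Nat.dvd_prime_pow hp).mp hbdvd
    have h1 : (ψ : J → ℂ) 1 = (b : ℂ) := by rw [hee, ← hb]; rfl
    rw [CharApps.deg_eq] at h1
    rcases j with _ | j
    · rw [CharApps.deg_eq, Nat.cast_injective h1, hj]; norm_num
    · exact absurd (Nat.cast_injective h1 ▸ hj ▸ dvd_pow_self p j.succ_ne_zero) hψ
  obtain ⟨lam, hlam⟩ := exists_hom_of_degree_one (isCharacter_of_irr ψ.2) hlin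
  have hC : (N ⊔ ⁅(P : Subgroup G), (P : Subgroup G)⁆) ≤ (CharApps.charKer ψ).map J.subtype := by
    refine sup_le (fun n hn => ?_) ?_
    · exact ⟨⟨n, le_sup_left (b := (P : Subgroup G)) hn⟩, hkerN _ (Subgroup.mem_subgroupOf.mpr hn), rfl⟩
    · rw [Subgroup.commutator_le]
      intro a ha b hb
      refine ⟨⟨a, le_sup_right (a := N) ha⟩ * ⟨b, le_sup_right (a := N) hb⟩ *
        ⟨a, le_sup_right (a := N) ha⟩⁻¹ * ⟨b, le_sup_right (a := N) hb⟩⁻¹, ?_, rfl⟩
      show (ψ : J → ℂ) _ = (ψ : J → ℂ) 1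
      rw [hlam]
      have h1 : ∀ a b : J, lam (a * b * a⁻¹ * b⁻¹) = lam 1 := fun a b => by
        simp [mul_comm (lam a) (lam b)]
      exact congrArg Units.val (h1 _ _)
  have hcore : (N ⊔ ⁅(P : Subgroup G), (P : Subgroup G)⁆).normalCore ≤ J :=
    (Subgroup.normalCore_le _).trans (sup_le le_sup_left
      ((Subgroup.commutator_le_self _).trans le_sup_right))
  refine le_charKer_of_over hcore hin fun x hx => ?_
  obtain ⟨y, hy, hyx⟩ := hC (Subgroup.normalCore_le _ (Subgroup.mem_subgroupOf.mp hx))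
  rwa [← show y = x from Subtype.ext hyx]

/-- The common kernel of the characters of degree prime to `p`. -/
theorem setOf_eq_normalCore (P : Sylow p G) (N : Subgroup G) [N.Normal]
    (hN : N ⊓ Subgroup.centralizer ((P : Subgroup G) : Set G) = ⊥)
    (hmax : ∀ L : Subgroup G, L.Normal →
      L ⊓ Subgroup.centralizer ((P : Subgroup G) : Set G) = ⊥ → L ≤ N) :
    {g : G | ∀ χ : IrrCharacter G, ¬ p ∣ charDegree (χ : G → ℂ) → (χ : G → ℂ) g = (χ : G → ℂ) 1} =
      ((N ⊔ ⁅(P : Subgroup G), (P : Subgroup G)⁆).normalCore : Set G) := by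
  ext g
  refine ⟨fun hg => iInf_charKer_le P N hmax (Subgroup.mem_iInf.mpr fun χ => hg χ.1 χ.2),
    fun hg χ hχ => normalCore_le_charKer P N hN χ hχ hg⟩

end CfsgLib.Blocks.PPrimeKernel
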