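import Cfsg.Agent.Lib.Blocks.PrincipalExtensionTwist
import Cfsg.Agent.Lib.CharApps.Galois

/-!
# `p`-rational extensions into the principal block
-/

set_option linter.unusedSectionVars false
set_option linter.style.haveILetI false

namespace CfsgLib.Blocks

open Cfsg Chars BlockOrth CharsMore
open scoped IntermediateField

namespace PrincExt

universe u

/-- Elements of a cyclotomic field fixed by the automorphisms fixing a smaller one. -/
theorem mem_cyclo_of_fixed {N n : ℕ} [NeZero N] [NeZero n] (hn : n ∣ N) {x : ℂ}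
    (hx : x ∈ ℚ⟮CharApps.rootN N⟯)
    (h : ∀ (k : ℕ) (σ : ℂ ≃+* ℂ), k.Coprime N → k ≡ 1 [MOD n] →
      (∀ z : ℂ, z ^ N = 1 → σ z = z ^ k) → σ x = x) :
    x ∈ ℚ⟮CharApps.rootN n⟯ := by
  haveI hcyc : IsCyclotomicExtension {N} ℚ ℚ⟮CharApps.rootN N⟯ :=
    (IntermediateField.isCyclotomicExtension_singleton_iff_eq_adjoin N _ _ _
      (CharApps.rootN_prim N)).mpr rfl
  haveI := IsCyclotomicExtension.isGalois {N} ℚ ℚ⟮CharApps.rootN N⟯
  haveI := IsCyclotomicExtension.finiteDimensional {N} ℚ ℚ⟮CharApps.rootN N⟯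
  have hgen : CharApps.rootN N ∈ ℚ⟮CharApps.rootN N⟯ :=
    IntermediateField.mem_adjoin_simple_self ℚ _
  have hsub : CharApps.rootN n ∈ ℚ⟮CharApps.rootN N⟯ := by
    have h1 : (CharApps.rootN n) ^ N = 1 := by
      obtain ⟨c, rfl⟩ := hn
      rw [pow_mul, (CharApps.rootN_prim n).pow_eq_one, one_pow]
    obtain ⟨i, -, hi⟩ := (CharApps.rootN_prim N).eq_pow_of_pow_eq_one h1
    rw [← hi]
    exact pow_mem hgen i
  set F : IntermediateField ℚ ℚ⟮CharApps.rootN N⟯ :=
    ℚ⟮(⟨CharApps.rootN n, hsub⟩ : ℚ⟮CharApps.rootN N⟯)⟯ with hF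
  have hmem : (⟨x, hx⟩ : ℚ⟮CharApps.rootN N⟯) ∈ F := by
    rw [← IsGalois.fixedField_fixingSubgroup F, IntermediateField.mem_fixedField_iff]
    intro τ hτ
    have hfix := (IntermediateField.mem_fixingSubgroup_iff F τ).1 hτ ⟨CharApps.rootN n, hsub⟩
      (IntermediateField.mem_adjoin_simple_self ℚ _)
    obtain ⟨σ, hσ⟩ := CharApps.exists_extend τ
    have hprim : IsPrimitiveRoot (σ (CharApps.rootN N)) N :=
      (CharApps.rootN_prim N).map_of_injective σ.injective
    obtain ⟨k, -, hk⟩ := (CharApps.rootN_prim N).eq_pow_of_pow_eq_one hprim.pow_eq_one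
    have hcop : k.Coprime N := by
      rw [← hk] at hprim
      exact ((CharApps.rootN_prim N).pow_iff_coprime (NeZero.pos N) k).mp hprim
    have hσN : ∀ z : ℂ, z ^ N = 1 → σ z = z ^ k := by
      intro z hz
      obtain ⟨i, -, rfl⟩ := (CharApps.rootN_prim N).eq_pow_of_pow_eq_one hz
      rw [map_pow, ← hk, ← pow_mul, ← pow_mul, mul_comm]
    have hk1 : k ≡ 1 [MOD n] := by
      have h2 := hσ ⟨CharApps.rootN n, hsub⟩
      rw [hfix] at h2
      have h3 : (CharApps.rootN n) ^ k = CharApps.rootN n ^ 1 := by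
        rw [pow_one, ← hσN _ (by
          obtain ⟨c, rfl⟩ := hn
          rw [pow_mul, (CharApps.rootN_prim n).pow_eq_one, one_pow])]
        exact h2
      have := pow_eq_pow_iff_modEq.1
        (Units.ext (by simpa using h3) :
          (((CharApps.rootN_prim n).isUnit (NeZero.ne n)).unit) ^ k =
          (((CharApps.rootN_prim n).isUnit (NeZero.ne n)).unit) ^ 1)
      rwa [← orderOf_units, IsUnit.unit_spec, ← (CharApps.rootN_prim n).eq_orderOf] at this
    refine Subtype.ext ?_
    have h4 := hσ ⟨x, hx⟩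
    rw [h k σ hcop hk1 hσN] at h4
    exact h4.symm
  suffices ∀ y ∈ F, ((y : ℚ⟮CharApps.rootN N⟯) : ℂ) ∈ ℚ⟮CharApps.rootN n⟯ from this _ hmem
  intro y hy
  induction hy using IntermediateField.adjoin_induction with
  | mem y hy =>
    rw [Set.mem_singleton_iff.1 hy]
    exact IntermediateField.mem_adjoin_simple_self ℚ _
  | algebraMap r =>
    rw [eq_ratCast]
    push_cast
    exact SubfieldClass.ratCast_mem _ r
  | add y z _ _ hy hz => push_cast; exact add_mem hy hz
  | inv y _ hy => push_cast; exact inv_mem hy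
  | mul y z _ _ hy hz => push_cast; exact mul_mem hy hz

/-- Automorphisms fixing a generator fix the field it generates. -/
theorem fixed_of_mem_adjoin {a x : ℂ} {σ : ℂ ≃+* ℂ} (ha : σ a = a)
    (hx : x ∈ IntermediateField.adjoin ℚ ({a} : Set ℂ)) : σ x = x := by
  induction hx using IntermediateField.adjoin_induction with
  | mem x hx => rw [Set.mem_singleton_iff.1 hx]; exact ha
  | algebraMap r => exact map_ratCast σ r
  | add x y _ _ hx hy => rw [map_add, hx, hy]
  | inv x _ hx => rw [map_inv₀, hx]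
  | mul x y _ _ hx hy => rw [map_mul, hx, hy]

section Reps

variable {H : Type*} [Group H] {d : ℕ}

/-- A Galois conjugate representation. -/
noncomputable def galRep (σ : ℂ ≃+* ℂ) (ρ : Representation ℂ H (Fin d → ℂ)) :
    Representation ℂ H (Fin d → ℂ) where
  toFun g := Matrix.toLin' ((LinearMap.toMatrix' (ρ g)).map σ)
  map_one' := by simp [Module.End.one_eq_id]
  map_mul' a b := by
    rw [map_mul, Module.End.mul_eq_comp, LinearMap.toMatrix'_comp, Matrix.map_mul,
      Matrix.toLin'_mul, Module.End.mul_eq_comp]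

theorem character_galRep (σ : ℂ ≃+* ℂ) (ρ : Representation ℂ H (Fin d → ℂ)) :
    (galRep σ ρ).character = fun g => σ (ρ.character g) := by
  funext g
  show LinearMap.trace ℂ (Fin d → ℂ) (Matrix.toLin' ((LinearMap.toMatrix' (ρ g)).map σ)) = _
  rw [Matrix.trace_toLin'_eq, Representation.character,
    LinearMap.trace_eq_matrix_trace ℂ (Pi.basisFun ℂ (Fin d)), LinearMap.toMatrix_eq_toMatrix',
    Matrix.trace, Matrix.trace, map_sum]
  rfl

theorem coe_detHom_galRep (σ : ℂ ≃+* ℂ) (ρ : Representation ℂ H (Fin d → ℂ)) (g : H) :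
    (detHom (galRep σ ρ) g : ℂ) = σ (detHom ρ g : ℂ) := by
  rw [coe_detHom, coe_detHom, ← LinearMap.det_toMatrix' (ρ g)]
  exact (LinearMap.det_toLin' _).trans (RingHom.map_det σ.toRingHom _).symm

/-- Twisting a representation by a linear character. -/
noncomputable def twistRep (b : H →* ℂˣ) (ρ : Representation ℂ H (Fin d → ℂ)) :
    Representation ℂ H (Fin d → ℂ) where
  toFun g := (b g : ℂ) • ρ g
  map_one' := by simp
  map_mul' g h := by rw [smul_mul_smul_comm, map_mul, map_mul, Units.val_mul]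

theorem character_twistRep (b : H →* ℂˣ) (ρ : Representation ℂ H (Fin d → ℂ)) :
    (twistRep b ρ).character = fun g => (b g : ℂ) * ρ.character g := by
  funext g
  show LinearMap.trace ℂ _ ((b g : ℂ) • ρ g) = _
  rw [map_smul, smul_eq_mul]
  rfl

theorem detHom_twistRep (b : H →* ℂˣ) (ρ : Representation ℂ H (Fin d → ℂ)) (g : H) :
    detHom (twistRep b ρ) g = b g ^ d * detHom ρ g := by
  refine Units.ext ?_
  rw [Units.val_mul, Units.val_pow_eq_pow_val, coe_detHom, coe_detHom]
  show LinearMap.det ((b g : ℂ) • ρ g) = _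
  rw [LinearMap.det_smul, Module.finrank_fin_fun]

theorem detHom_eq_of_character [Finite H] (ρ τ : Representation ℂ H (Fin d → ℂ))
    [ρ.IsIrreducible] (h : ρ.character = τ.character) : detHom τ = detHom ρ := by
  obtain ⟨e⟩ := CharsMore.equiv_of_character_eq ρ τ h
  exact detHom_eq_of_equiv e

end Reps

section Main

variable {M : Ideal AlgInt} [M.IsPrime] {p : ℕ} [Fact p.Prime]
  {G : Type u} [Group G] [Fintype G] {N : Subgroup G} [N.Normal] [Fintype N] {P : Sylow p N}

/-- A normal subgroup of `p`-power index contains the `p`-regular elements. -/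
theorem hcov_of_index (hidx : ∃ a : ℕ, (N ⊔ cent P).index = p ^ a) :
    ∀ g : G, ¬ p ∣ orderOf g → g ∈ N ⊔ cent P := by
  obtain ⟨a, ha⟩ := hidx
  haveI : (N ⊔ cent P).Normal := ⟨fun x hx g => by
    have hg : g ∈ N ⊔ Subgroup.normalizer (((P : Subgroup N).map N.subtype : Subgroup G) : Set G) := by
      rw [sup_comm, P.normalizer_sup_eq_top]; trivial
    obtain ⟨n, hn, c, hc, rfl⟩ := Subgroup.mem_sup_of_normal_left.1 hg
    obtain ⟨n₁, hn₁, y, hy, rfl⟩ := Subgroup.mem_sup_of_normal_left.1 hx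
    have e : n * c * (n₁ * y) * (n * c)⁻¹ = n * ((c * n₁ * c⁻¹) * (c * y * c⁻¹)) * n⁻¹ := by group
    rw [e]
    exact mul_mem (mul_mem (Subgroup.mem_sup_left hn)
      (mul_mem (Subgroup.mem_sup_left (Subgroup.Normal.conj_mem inferInstance _ hn₁ c))
        (Subgroup.mem_sup_right ((conj_mem_centralizer_iff hc y).2 hy))))
      (Subgroup.mem_sup_left (inv_mem hn))⟩
  exact fun g hg => index_eq_pow_mem_of_regular ha hg

variable {θ : IrrCharacter N}

/-- Existence of a `p`-rational extension in the principal block. -/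
theorem exists_pRational_ext (hp2 : p ≠ 2) (hpM : (p : AlgInt) ∈ M)
    (hcov : ∀ g : G, ¬ p ∣ orderOf g → g ∈ N ⊔ cent P)
    (hθ : θ ∈ principalBlock M N)
    (hinv : ∀ g : G, ∀ n n' : N, (n' : G) = g * (n : G) * g⁻¹ → (θ : N → ℂ) n' = (θ : N → ℂ) n)
    (hdeg : ¬ p ∣ charDegree (θ : N → ℂ))
    {m : ℕ} (hm : ¬ p ∣ m)
    (hrat : ∀ n : N, (θ : N → ℂ) n ∈
      IntermediateField.adjoin ℚ ({CharApps.rootN m} : Set ℂ)) :
    ∃ χ : IrrCharacter G, χ ∈ principalBlock M G ∧
      (∃ n : ℕ, ¬ p ∣ n ∧ ∀ g : G, (χ : G → ℂ) g ∈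
        IntermediateField.adjoin ℚ ({CharApps.rootN n} : Set ℂ)) ∧
      ∀ n : N, (χ : G → ℂ) n = (θ : N → ℂ) n := by
  classical
  have hp : p.Prime := Fact.out
  -- the exponents
  set N0 := Nat.card G * m with hN0
  have hm0 : m ≠ 0 := fun h => hm (h ▸ dvd_zero p)
  haveI : NeZero m := ⟨hm0⟩
  haveI : NeZero N0 := ⟨mul_ne_zero Nat.card_pos.ne' hm0⟩
  set a := N0.factorization p with ha
  set n := N0 / p ^ a with hndef
  have hNn : p ^ a * n = N0 := Nat.ordProj_mul_ordCompl_eq_self N0 p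
  have hnp : ¬ p ∣ n := Nat.not_dvd_ordCompl hp (NeZero.ne N0)
  haveI : NeZero n := ⟨fun h => hnp (h ▸ dvd_zero p)⟩
  have hmn : m ∣ n := by
    refine (Nat.Coprime.pow_right a (hp.coprime_iff_not_dvd.2 hm).symm).dvd_of_dvd_mul_left ?_
    rw [hNn, hN0]; exact dvd_mul_left m _
  have hpow : ∀ g : G, g ^ N0 = 1 := fun g => by
    rw [hN0, pow_mul, pow_card_eq_one', one_pow]
  have hreg : ∀ g : G, ¬ p ∣ orderOf g → g ^ n = 1 := fun g hg => by
    rw [← orderOf_dvd_iff_pow_eq_one]
    refine (Nat.Coprime.pow_right a (hp.coprime_iff_not_dvd.2 hg).symm).dvd_of_dvd_mul_left ?_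
    rw [hNn]; exact orderOf_dvd_of_pow_eq_one (hpow g)
  have hsing : ∀ g : G, ¬ p ∣ orderOf (g ^ p ^ a) := fun g hd => hnp
    (hd.trans (orderOf_dvd_of_pow_eq_one (by rw [← pow_mul, hNn, hpow])))
  -- `θ` is fixed by the automorphisms fixing the roots of order `n`
  have hfixm : ∀ (k : ℕ) (σ : ℂ ≃+* ℂ), k ≡ 1 [MOD n] →
      (∀ z : ℂ, z ^ N0 = 1 → σ z = z ^ k) → ∀ z : ℂ, z ^ n = 1 → σ z = z := by
    intro k σ hk hσ z hz
    rw [hσ z (by rw [← hNn, mul_comm, pow_mul, hz, one_pow])]
    have := pow_eq_pow_mod k hz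
    rw [this, show k % n = 1 % n from hk, ← pow_eq_pow_mod 1 hz, pow_one]
  have hθfix : ∀ (k : ℕ) (σ : ℂ ≃+* ℂ), k ≡ 1 [MOD n] →
      (∀ z : ℂ, z ^ N0 = 1 → σ z = z ^ k) → ∀ v : N, σ ((θ : N → ℂ) v) = (θ : N → ℂ) v := by
    intro k σ hk hσ v
    refine fixed_of_mem_adjoin (hfixm k σ hk hσ _ ?_) (hrat v)
    obtain ⟨c, hc⟩ := hmn
    rw [hc, pow_mul, (CharApps.rootN_prim m).pow_eq_one, one_pow]
  -- the determinant of `θ`
  obtain ⟨d, ρ, hρ, hρθ, hI, hdinv⟩ := exists_invariant_rep N θ.2 (fun g v =>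
    hinv g v (conjBy N g v) rfl)
  have hd : ¬ p ∣ d := by
    have h1 : ((d : ℕ) : ℂ) = (charDegree (θ : N → ℂ) : ℂ) := by
      rw [← CharApps.deg_eq θ, ← hρθ]; simp
    rwa [Nat.cast_inj.1 h1]
  have hdetρ : ∀ v : N, detHom ρ v ^ n = 1 := by
    intro v
    obtain ⟨k, hk1, hk2⟩ := Nat.chineseRemainder
      (Nat.Coprime.pow_right a (hp.coprime_iff_not_dvd.2 hnp).symm) 1 2
    have hkN : k.Coprime N0 := by
      rw [← hNn]
      refine Nat.Coprime.mul_right ?_ ?_
      · rcases Nat.eq_zero_or_pos a with h0 | h0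
        · rw [h0, pow_zero]; exact Nat.coprime_one_right k
        · refine Nat.Coprime.pow_right a (hp.coprime_iff_not_dvd.2 fun hd => hp2 ?_).symm
          have h2 : k ≡ 2 [MOD p] := hk2.of_dvd (dvd_pow_self p h0.ne')
          have : p ∣ 2 := Nat.modEq_zero_iff_dvd.1
            (h2.symm.trans (Nat.modEq_zero_iff_dvd.2 hd))
          exact (Nat.prime_dvd_prime_iff_eq hp Nat.prime_two).1 this
      · have := Nat.ModEq.gcd_eq hk1
        rw [Nat.gcd_one_left] at this
        exact this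
    obtain ⟨σ, hσ⟩ := CharApps.exists_galois_pow N0 hkN
    set z : ℂˣ := detHom ρ v with hz
    have hzN : z ^ N0 = 1 := by
      rw [hz, ← map_pow, show v ^ N0 = 1 from Subtype.ext (by simpa using hpow (v : G)), map_one]
    have hfix : σ (z : ℂ) = (z : ℂ) := by
      rw [hz, ← coe_detHom_galRep, detHom_eq_of_character ρ (galRep σ ρ)]
      rw [character_galRep, hρθ]
      exact funext fun w => (hθfix k σ hk1 hσ w).symm
    rw [hσ _ (by rw [← Units.val_pow_eq_pow_val, hzN, Units.val_one]),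
      ← Units.val_pow_eq_pow_val, Units.val_inj] at hfix
    rw [← orderOf_dvd_iff_pow_eq_one]
    have hk0 : k ≡ 1 [MOD orderOf z] :=
      pow_eq_pow_iff_modEq.1 (by rw [hfix, pow_one])
    have hcop : (orderOf z).Coprime (p ^ a) := by
      rcases Nat.eq_zero_or_pos a with h0 | h0
      · rw [h0, pow_zero]; exact Nat.coprime_one_right _
      · refine Nat.Coprime.pow_right a (hp.coprime_iff_not_dvd.2 fun hd => ?_).symm
        have h2 : k ≡ 2 [MOD p] := hk2.of_dvd (dvd_pow_self p h0.ne')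
        have h3 : (2 : ℕ) ≡ 1 [MOD p] := h2.symm.trans (hk0.of_dvd hd)
        have := Nat.modEq_iff_dvd.1 h3.symm
        norm_num at this
        exact hp.one_lt.ne' (by exact_mod_cast (Int.eq_one_of_dvd_one (by positivity) this))
    refine hcop.dvd_of_dvd_mul_left ?_
    rw [hNn]
    exact orderOf_dvd_of_pow_eq_one hzN
  -- an extension
  have hext : RepExtends N ρ := by
    refine repExtends_of_local N ρ hI fun q hq => ?_
    haveI : Fact q.Prime := ⟨hq⟩
    obtain ⟨S⟩ : Nonempty (Sylow q G) := inferInstance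
    refine ⟨N ⊔ S, le_sup_left, ?_, ?_⟩
    · exact (hq.coprime_iff_not_dvd.2 fun h => S.not_dvd_index
        (h.trans (Subgroup.index_dvd_of_le le_sup_right))).symm
    haveI := Fintype.ofFinite (N ⊔ S : Subgroup G)
    haveI := Fintype.ofFinite (N.subgroupOf (N ⊔ S))
    let e : N.subgroupOf (N ⊔ S) ≃* N := Subgroup.subgroupOfEquivOfLe le_sup_left
    by_cases hqp : q = p
    · subst hqp
      let ρ' : Representation ℂ (N.subgroupOf (N ⊔ S)) (Fin d → ℂ) := ρ.comp e.toMonoidHom
      haveI : ρ'.IsIrreducible := by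
        haveI : Representation.IsIrreducible (ρ'.comp e.symm.toMonoidHom :
            Representation ℂ N (Fin d → ℂ)) := by
          rw [show (ρ'.comp e.symm.toMonoidHom : Representation ℂ N (Fin d → ℂ)) = ρ from
            MonoidHom.ext fun v => by simp [ρ']]
          exact hρ
        exact isIrreducible_of_comp e.symm.toMonoidHom ρ'
      have hI' : IsInvariant (N.subgroupOf (N ⊔ S)) ρ' := isInvariant_of_character _ _ fun g v => by
        show ρ.character (e (conjBy _ g v)) = ρ.character (e v)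
        rw [hρθ]
        exact hinv (g : G) (e v) _ rfl
      have hdet' : ∀ v, detHom ρ' v ^ n = 1 := fun v => hdetρ (e v)
      have hcopi : ∀ i : ℕ, ¬ q ∣ i → Nat.Coprime (N.subgroupOf (N ⊔ S)).index i := by
        intro i hi
        have h1 : (N.subgroupOf (N ⊔ S)).index ∣ Nat.card (S : Subgroup G) := by
          show N.relIndex (N ⊔ S) ∣ _
          rw [sup_comm, Subgroup.relIndex_sup_right]
          exact Subgroup.relIndex_dvd_card _ _
        obtain ⟨j, hj⟩ := IsPGroup.iff_card.1 S.2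
        exact Nat.Coprime.coprime_dvd_left (hj ▸ h1)
          (Nat.Coprime.pow_left j (hp.coprime_iff_not_dvd.2 hi))
      obtain ⟨μ, ⟨hμ, -⟩, -⟩ := exists_coprime_ext _ (detHom ρ') (fun g v => by
          refine Units.ext ?_
          show LinearMap.det (ρ (e (conjBy _ g v))) = LinearMap.det (ρ (e v))
          exact congrArg Units.val (hdinv (g : G) (e v)))
        (hcopi _ fun h => hnp (h.trans (orderOf_dvd_of_pow_eq_one (MonoidHom.ext fun v => by
          rw [MonoidHom.pow_apply, hdet']; rfl))))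
      obtain ⟨R, hR⟩ := repExtends_of_det _ ρ' hI' (by
          rw [Module.finrank_fin_fun]; exact (hcopi d hd).symm) μ
        (fun v => congrArg Units.val (hμ v))
      exact ⟨R, fun v => hR (e.symm v)⟩
    · have hK : ¬ p ∣ (N.subgroupOf (N ⊔ S)).index := not_dvd_index_sup fun r hr hd => by
        obtain ⟨j, hj⟩ := IsPGroup.iff_orderOf.1 S.2 ⟨r, hr⟩
        rw [Subgroup.orderOf_mk] at hj
        rw [hj] at hd
        exact hqp ((Nat.prime_dvd_prime_iff_eq hp hq).1 (hp.dvd_of_dvd_pow hd)).symm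
      obtain ⟨T, hT, -⟩ := exists_sylow_over hcov (le_sup_left : N ≤ N ⊔ S) hK
      obtain ⟨ξ, ⟨-, hξe⟩, -⟩ := (restriction_bijection (P := T) hpM hK hT).2 _
        (pullIrr_mem_principal e hθ)
      obtain ⟨R, hR, -, -⟩ := exists_repExt_of_character
        (Subgroup.inclusion (le_sup_left : N ≤ N ⊔ S)) ρ (isCharacter_of_irr ξ.2) (fun v => by
          have := hξe ⟨Subgroup.inclusion (le_sup_left : N ≤ N ⊔ S) v, v.2⟩
          rw [pullIrr_apply] at this
          rw [hρθ]
          exact this)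
      exact ⟨R, hR⟩
  obtain ⟨R₀, hR₀⟩ := hext
  set δ := detHom R₀ with hδ
  have hδN : ∀ v : N, δ v ^ n = 1 := fun v => by
    rw [← hdetρ v]
    congr 1
    exact Units.ext (by rw [hδ, coe_detHom, coe_detHom, hR₀])
  obtain ⟨w, -, hw⟩ := Nat.exists_mul_mod_eq_of_coprime 1
    (Nat.Coprime.pow_right a (hp.coprime_iff_not_dvd.2
      (fun h => (hp.dvd_mul.1 h).elim hd hnp)).symm : (d * n).Coprime (p ^ a))
    (pow_ne_zero a hp.ne_zero)
  set v₀ := w * (p ^ a - 1) with hv₀
  set b : G →* ℂˣ := (δ ^ n) ^ v₀ with hb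
  have hbN : ∀ v : N, b v = 1 := fun v => by
    rw [hb, MonoidHom.pow_apply, MonoidHom.pow_apply, hδN, one_pow]
  set R₁ := twistRep b R₀ with hR₁
  have hR₁N : ∀ v : N, R₁ v = ρ v := fun v => by
    show (b v : ℂ) • R₀ v = ρ v
    rw [hbN, Units.val_one, one_smul, hR₀]
  have hdet₁ : ∀ g : G, detHom R₁ g ^ n = 1 := by
    intro g
    rw [hR₁, detHom_twistRep, hb, MonoidHom.pow_apply, MonoidHom.pow_apply, mul_pow,
      show δ g = detHom R₀ g from rfl, ← pow_mul, ← pow_mul ((detHom R₀ g) ^ n) v₀ (d * n),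
      ← pow_succ]
    have h1 : p ^ a ∣ v₀ * (d * n) + 1 := by
      rw [← Nat.modEq_zero_iff_dvd]
      have h2 : d * n * w ≡ 1 [MOD p ^ a] := hw
      have h3 : v₀ * (d * n) ≡ p ^ a - 1 [MOD p ^ a] := by
        rw [hv₀, mul_comm w, mul_assoc, mul_comm w]
        simpa using h2.mul_left (p ^ a - 1)
      refine (h3.add_right 1).trans ?_
      rw [Nat.sub_add_cancel (Nat.one_le_pow _ _ hp.pos)]
      exact Nat.modEq_zero_iff_dvd.2 dvd_rfl
    obtain ⟨c, hc⟩ := h1
    rw [hc, ← pow_mul, ← mul_assoc, mul_comm n (p ^ a), hNn, pow_mul, ← map_pow, hpow, map_one,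
      one_pow]
  obtain ⟨hR₁irr, hψirr, hψres⟩ := isIrrExt_of_rep N R₁ hR₁N
  obtain ⟨χ, t, hχ, hχN, ⟨hχe, htp⟩, hJ⟩ := exists_ext_all (ψ := ⟨_, hψirr⟩) hpM hcov hθ
    (fun v => (hψres v).trans (congrFun hρθ v))
  obtain ⟨R, hR, hRirr, hRχ⟩ := exists_repExt_of_character N.subtype ρ (isCharacter_of_irr χ.2)
    (fun v => (hχN v).trans (congrFun hρθ v).symm)
  have hdetR : ∀ g : G, detHom R g ^ n = 1 := by
    intro g
    have : detHom (twistRep t⁻¹ R₁) = detHom R := by
      refine detHom_eq_of_character R _ ?_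
      rw [hRχ, character_twistRep]
      exact funext hχe
    rw [← this, detHom_twistRep, mul_pow, hdet₁, mul_one, ← pow_mul, mul_comm d, pow_mul,
      MonoidHom.inv_apply, inv_pow, htp, ← map_pow, hreg _ (not_dvd_orderOf_pPrimePart g), map_one,
      inv_one, one_pow]
  -- invariance under the automorphisms
  have hχfix : ∀ (k : ℕ) (σ : ℂ ≃+* ℂ), k ≡ 1 [MOD n] →
      (∀ z : ℂ, z ^ N0 = 1 → σ z = z ^ k) → ∀ g : G, σ ((χ : G → ℂ) g) = (χ : G → ℂ) g := by
    intro k σ hk hσ
    haveI := irrFintype G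
    have hregfix : ∀ x : G, ¬ p ∣ orderOf x → σ ((χ : G → ℂ) x) = (χ : G → ℂ) x := by
      intro x hx
      rw [CharApps.galois_apply σ hσ (isCharacter_of_irr χ.2) x (hpow x), pow_eq_pow_mod k
        (hreg x hx), show k % n = 1 % n from hk, ← pow_eq_pow_mod 1 (hreg x hx), pow_one]
    have e : (fun v : N => (χ : G → ℂ) v) = (θ : N → ℂ) := funext hχN
    have e' : (fun v : N => (CharApps.galoisIrr σ χ : G → ℂ) v) = (θ : N → ℂ) := funext fun v => by
      rw [CharApps.galoisIrr_apply, hχN, hθfix k σ hk hσ]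
    obtain ⟨β, hβ, hβe⟩ := gallagher_exists N χ.2 (e ▸ θ.2) (CharApps.galoisIrr σ χ).2
      (by rw [e, e', inner_irr_self]; exact one_ne_zero)
    have hβ1 : (β : G → ℂ) 1 = 1 := by
      have h1 := congrFun hβe 1
      have h2 : (χ : G → ℂ) 1 = (θ : N → ℂ) 1 := hχN 1
      rw [Pi.mul_apply, h2, CharApps.galoisIrr_apply, h2, hθfix k σ hk hσ] at h1
      exact (mul_eq_right₀ (irr_degree_ne_zero θ.2)).1 h1.symm
    obtain ⟨l, hl⟩ := exists_hom_of_degree_one (isCharacter_of_irr β.2) hβ1
    have hlval : ∀ g, σ ((χ : G → ℂ) g) = (l g : ℂ) * (χ : G → ℂ) g := fun g => by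
      rw [← CharApps.galoisIrr_apply, hβe, Pi.mul_apply, congrFun hl g]
    -- trivial on regular elements
    have hlreg : ∀ g : G, ¬ p ∣ orderOf g → l g = 1 := by
      intro g hg
      obtain ⟨x₀, hx₀, hx₀N⟩ := exists_cent_rep (hcov g hg)
      obtain ⟨i, hi⟩ := (isPPrimePart_pPrimePart (p := p) x₀).exists_pow
      set x := pPrimePart p x₀ with hx
      have hxc : x ∈ cent P := hi ▸ pow_mem hx₀ i
      have hxreg : ¬ p ∣ orderOf x := not_dvd_orderOf_pPrimePart x₀
      have hxN : g⁻¹ * x ∈ N := by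
        rw [← QuotientGroup.eq]
        have e0 : (x₀ : G ⧸ N) = (g : G ⧸ N) := (QuotientGroup.eq.2 hx₀N).symm
        obtain ⟨u, h1, h2, ⟨j, h3⟩, h4⟩ := isPPrimePart_pPrimePart (p := p) x₀
        obtain ⟨i', -, hi'⟩ := (Nat.dvd_prime_pow hp).1
          (h3 ▸ orderOf_map_dvd (QuotientGroup.mk' N) u)
        have hA : IsPPrimePart p (g : G ⧸ N) (x : G ⧸ N) :=
          ⟨(u : G ⧸ N), by rw [← e0, ← QuotientGroup.mk_mul, h1], h2.map (QuotientGroup.mk' N),
            ⟨i', hi'⟩, fun h => h4 (h.trans (orderOf_map_dvd (QuotientGroup.mk' N) _))⟩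
        exact ((hA.unique ⟨1, one_mul _, Commute.one_left _, ⟨0, by simp⟩,
          fun h => hg (h.trans (orderOf_map_dvd (QuotientGroup.mk' N) g))⟩)).symm
      have hlx : l x = l g := by
        rw [show x = g * (g⁻¹ * x) by group, map_mul]
        have : l (g⁻¹ * x) = 1 := by
          refine Units.ext ?_
          rw [← congrFun hl _, Units.val_one, ← hβ1]
          simpa using quotIrr_mul N hβ ⟨_, hxN⟩ 1
        rw [this, mul_one]
      have hne : (χ : G → ℂ) x ≠ 0 := by
        let L := N ⊔ Subgroup.zpowers g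
        haveI := Fintype.ofFinite L
        obtain ⟨ξ, hξ, hξe⟩ := hJ L le_sup_left
        obtain ⟨T, -, hTc⟩ := exists_sylow_over hcov (le_sup_left : N ≤ L)
          (not_dvd_index_cyclic hg)
        have hxL : x ∈ L := by
          have : g * (g⁻¹ * x) ∈ L := mul_mem
            (Subgroup.mem_sup_right (Subgroup.mem_zpowers g)) (Subgroup.mem_sup_left hxN)
          simpa using this
        have := ne_zero_of_ratio (ratio_of_mem hpM hξ (x := ⟨x, hxL⟩) fun hdd =>
          T.not_dvd_index (hdd.trans (Subgroup.index_dvd_of_le fun u hu =>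
            Subgroup.mem_centralizer_singleton_iff.2
              (Subgroup.mem_centralizer_iff.1 (hTc ⟨x, hxL⟩ hxc) u hu))))
        rwa [hξe] at this
      have h1 := hlval x
      rw [hregfix x hxreg, hlx] at h1
      exact Units.ext ((mul_eq_right₀ hne).1 h1.symm)
    intro g
    have h2 : l g ^ p ^ a = 1 := by rw [← map_pow]; exact hlreg _ (hsing g)
    have h3 : l g ^ d = 1 := by
      haveI := hRirr
      have : detHom (galRep σ R) = detHom (twistRep l R) := by
        have hc : (twistRep l R).character = (galRep σ R).character := by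
          rw [character_twistRep, character_galRep, hRχ]
          exact (funext hlval).symm
        haveI : (twistRep l R).IsIrreducible := by
          haveI : Representation.IsIrreducible ((twistRep l R).comp N.subtype :
              Representation ℂ N (Fin d → ℂ)) := by
            rw [show ((twistRep l R).comp N.subtype : Representation ℂ N (Fin d → ℂ)) = ρ from
              MonoidHom.ext fun v => by
                show (l v : ℂ) • R v = ρ v
                have : (l v : ℂ) = 1 := by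
                  rw [← congrFun hl _, ← hβ1]
                  simpa using quotIrr_mul N hβ v 1
                rw [this, one_smul]
                exact hR v]
            exact hρ
          exact isIrreducible_of_comp N.subtype _
        exact detHom_eq_of_character (twistRep l R) (galRep σ R) hc
      have h4 : (detHom (galRep σ R) g : ℂ) = (detHom R g : ℂ) := by
        rw [coe_detHom_galRep]
        exact hfixm k σ hk hσ _ (by rw [← Units.val_pow_eq_pow_val, hdetR, Units.val_one])
      rw [Units.val_inj, this, detHom_twistRep] at h4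
      exact mul_eq_right.1 h4
    have : l g = 1 := by
      rw [← orderOf_eq_one_iff]
      exact Nat.eq_one_of_dvd_coprimes (Nat.Coprime.pow_left a (hp.coprime_iff_not_dvd.2 hd))
        (orderOf_dvd_of_pow_eq_one h2) (orderOf_dvd_of_pow_eq_one h3)
    rw [hlval, this, Units.val_one, one_mul]
  refine ⟨χ, hχ, ⟨n, hnp, fun g => ?_⟩, hχN⟩
  exact mem_cyclo_of_fixed (dvd_of_mul_left_eq _ hNn) (CharApps.char_mem_cyclo
    (isCharacter_of_irr χ.2) g (hpow g)) fun k σ _ hk hσ => hχfix k σ hk hσ g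

end Main

end PrincExt

end CfsgLib.Blocks
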