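import Cfsg.Agent.Lib.Blocks.PairInduced
import Cfsg.Agent.Lib.Blocks.RelPairs

/-!
# A pair of a block of a subgroup is a pair of the induced block
-/

set_option autoImplicit false
set_option linter.unusedSectionVars false
set_option linter.style.haveILetI false

namespace CfsgLib.Blocks

open Cfsg Chars

variable {G : Type*} [Group G] [Fintype G] {M : Ideal AlgInt} [M.IsPrime] {p : ℕ} [Fact p.Prime]
  {H P : Subgroup G}

/-- A pair of a block inducing `B` is a pair of `B`. -/
theorem isBrauerPairOf_of_rel [Fintype H] (hpM : (p : AlgInt) ∈ M) (hP : IsPGroup p P) (hPH : P ≤ H)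
    (hC : Subgroup.centralizer (P : Set G) ≤ H)
    {e : Set (IrrCharacter (Subgroup.centralizer (P : Set G)))} (he : IsPBlock M e)
    {b : Set (IrrCharacter H)} {B : Set (IrrCharacter G)}
    (hb : IsBrauerPairOf p M b (P.subgroupOf H) (relBlock hPH hC e))
    (hB : IsInducedBlock M H b B) : IsBrauerPairOf p M B P e := by
  classical
  haveI := Fintype.ofFinite (Subgroup.centralizer (P : Set G))
  haveI := Fintype.ofFinite (Subgroup.centralizer (P.subgroupOf H : Set H))
  refine (isInducedBlock_centralizer_iff hpM hP).1 ⟨he, hB.2.1, fun ξ hξ χ hχ g => ?_⟩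
  obtain ⟨η, hη⟩ := IsPBlock.nonempty hB.1
  have ha : IsLocClassFun M (resFun H (classInd g)) :=
    isLocClassFun_resFun H (isLocClassFun_classInd g)
  have e1 := IsInducedBlock.omega_sub (isInducedBlock_centralizer_of_pair hpM hb) ⟨ξ, hξ, rfl⟩ hη ha
  have e2 := IsInducedBlock.omega_sub hB hη hχ (isLocClassFun_classInd (M := M) g)
  rw [omega_classInd] at e2
  have e3 : omega (pullIrr (relIso hPH hC) ξ : Subgroup.centralizer (P.subgroupOf H : Set H) → ℂ)
      (resFun (Subgroup.centralizer (P.subgroupOf H : Set H)) (resFun H (classInd g))) =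
        inducedCentralChar (Subgroup.centralizer (P : Set G))
          (ξ : Subgroup.centralizer (P : Set G) → ℂ) g := by
    rw [omega_pullIrr, inducedCentralChar_eq]
    rfl
  rw [e3] at e1
  have := MemLocalIdeal.add' e1 e2
  rwa [sub_add_sub_cancel] at this

end CfsgLib.Blocks
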