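import Cfsg.Agent.Lib.Blocks.PairInduced
import Cfsg.Agent.Lib.Blocks.RelPairs
import Cfsg.Agent.Lib.Blocks.NormalPPrime
import Cfsg.Agent.Lib.Blocks.MaximalPairs
import Cfsg.Agent.Lib.BlockOrth.Subsection
import Cfsg.Agent.S0923

/-!
# Kernels of blocks on `π'`-cores and inclusion of Brauer pairs
-/

set_option linter.unusedSectionVars false
set_option linter.style.haveILetI false

namespace CfsgLib.Blocks

open Cfsg Chars

namespace PiKernel

variable {G : Type*} [Group G] [Fintype G] {M : Ideal AlgInt} [M.IsPrime] {p : ℕ} [Fact p.Prime]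

/-- Every character of the set is constant on `K`. -/
def TrivOn {H : Subgroup G} (f : Set (IrrCharacter H)) (K : Subgroup G) : Prop :=
  ∀ χ ∈ f, ∀ h : H, (h : G) ∈ K → (χ : H → ℂ) h = (χ : H → ℂ) 1

omit [Fintype G] in
theorem TrivOn.mono {H : Subgroup G} {f : Set (IrrCharacter H)} {K L : Subgroup G}
    (h : TrivOn f K) (hLK : L ≤ K) : TrivOn f L := fun χ hχ u hu => h χ hχ u (hLK hu)

theorem avgInd_mem_loc (hpM : (p : AlgInt) ∈ M) {K : Subgroup G} (hK : ¬ p ∣ Nat.card K) (g : G) :
    avgInd K g ∈ loc M := by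
  classical
  rw [avgInd_apply]
  split_ifs
  · exact inv_natCast_mem_loc Fact.out hpM hK
  · exact zero_mem _

/-- The idempotent of a `p'`-subgroup modulo `M`. -/
noncomputable def avgIdem (hpM : (p : AlgInt) ∈ M) {K : Subgroup G} (hK : ¬ p ∣ Nat.card K) :
    MonoidAlgebra (ResField M) G :=
  redFun (avgInd K) (avgInd_mem_loc hpM hK)

theorem avgIdem_mul_self (hpM : (p : AlgInt) ∈ M) {K : Subgroup G} (hK : ¬ p ∣ Nat.card K) :
    avgIdem hpM hK * avgIdem hpM hK = avgIdem hpM hK := by
  rw [avgIdem, redFun, ← map_mul, toAlg_conv _ _ (by rw [conv_avgInd_self]; exact avgInd_mem_loc hpM hK)]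
  congr 2
  exact conv_avgInd_self K

theorem cut_avgIdem_of_le (hpM : (p : AlgInt) ∈ M) {K H : Subgroup G} (hK : ¬ p ∣ Nat.card K)
    (hKH : K ≤ H) : cut (H : Set G) (avgIdem hpM hK) = avgIdem hpM hK := by
  classical
  rw [cut_eq_self_iff]
  intro g hg
  rw [avgIdem, coeff_redFun_eq_zero_iff, avgInd_apply, if_neg fun h => hg (hKH h)]
  exact MemLocalIdeal.zero'

theorem isFixedBy_avgIdem (hpM : (p : AlgInt) ∈ M) {K S : Subgroup G} (hK : ¬ p ∣ Nat.card K)
    (hS : S ≤ Subgroup.normalizer (K : Set G)) : IsFixedBy S (avgIdem hpM hK) := fun u hu g => by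
  classical
  rw [avgIdem, coeff_redFun, coeff_redFun]
  refine congrArg red (Subtype.ext ?_)
  simp only [avgInd_apply]
  exact if_congr ((Subgroup.mem_normalizer_iff.1 (hS hu) g).symm) rfl rfl

omit [Fintype G] in
/-- A `p`-group acting on a finite subgroup: the fixed points have congruent order. -/
theorem card_inf_centralizer_modEq [Finite G] {S K : Subgroup G} (hS : IsPGroup p S)
    (hSK : S ≤ Subgroup.normalizer (K : Set G)) :
    Nat.card K ≡ Nat.card (K ⊓ Subgroup.centralizer (S : Set G) : Subgroup G) [MOD p] := by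
  letI : MulAction S K :=
    { smul := fun s k => ⟨(s : G) * k * (s : G)⁻¹,
        (Subgroup.mem_normalizer_iff.1 (hSK s.2) k).1 k.2⟩
      one_smul := fun k => Subtype.ext (show ((1 : S) : G) * k * ((1 : S) : G)⁻¹ = k by simp)
      mul_smul := fun s t k => Subtype.ext
        (show ((s * t : S) : G) * k * ((s * t : S) : G)⁻¹ =
          (s : G) * ((t : G) * k * (t : G)⁻¹) * (s : G)⁻¹ by simp [mul_assoc]) }
  have h := hS.card_modEq_card_fixedPoints K
  suffices e : Nat.card (MulAction.fixedPoints S K) =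
      Nat.card (K ⊓ Subgroup.centralizer (S : Set G) : Subgroup G) by rwa [e] at h
  refine Nat.card_congr
    { toFun := fun k => ⟨((k : K) : G), (k : K).2, Subgroup.mem_centralizer_iff.2 fun s hs => ?_⟩
      invFun := fun g => ⟨⟨(g : G), g.2.1⟩, fun s => Subtype.ext ?_⟩
      left_inv := fun _ => rfl
      right_inv := fun _ => rfl }
  · have e : s * ((k : K) : G) * s⁻¹ = ((k : K) : G) := congrArg Subtype.val (k.2 ⟨s, hs⟩)
    rwa [mul_inv_eq_iff_eq_mul] at e
  · show (s : G) * (g : G) * (s : G)⁻¹ = (g : G)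
    rw [mul_inv_eq_iff_eq_mul]
    exact Subgroup.mem_centralizer_iff.1 g.2.2 s s.2

theorem not_dvd_card_of_le {K L : Subgroup G} (hK : ¬ p ∣ Nat.card K) (h : L ≤ K) :
    ¬ p ∣ Nat.card L := fun hd => hK (hd.trans (Subgroup.card_dvd_of_le h))

/-- The Brauer map sends the idempotent of `K` to that of the fixed subgroup. -/
theorem cut_centralizer_avgIdem (hpM : (p : AlgInt) ∈ M) {S K : Subgroup G} (hS : IsPGroup p S)
    (hK : ¬ p ∣ Nat.card K) (hSK : S ≤ Subgroup.normalizer (K : Set G)) :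
    cut (Subgroup.centralizer (S : Set G) : Set G) (avgIdem hpM hK) =
      avgIdem hpM (not_dvd_card_of_le hK
        (inf_le_left : K ⊓ Subgroup.centralizer (S : Set G) ≤ K)) := by
  classical
  haveI := charP_resField (M := M) (Fact.out (p := p.Prime)) hpM
  apply MonoidAlgebra.ext
  ext g
  by_cases hg : g ∈ Subgroup.centralizer (S : Set G)
  · rw [coeff_cut_of_mem _ (show g ∈ (Subgroup.centralizer (S : Set G) : Set G) from hg),
      avgIdem, avgIdem, coeff_redFun, coeff_redFun]
    by_cases hgK : g ∈ K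
    · have key : ∀ (L : Subgroup G) (hL : ¬ p ∣ Nat.card L),
          g ∈ L → red (⟨avgInd L g, avgInd_mem_loc hpM hL g⟩ : loc M) *
            (Nat.card L : ResField M) = 1 := by
        intro L hL hgL
        rw [← map_natCast (red (M := M)), ← map_mul, ← map_one (red (M := M))]
        refine congrArg red (Subtype.ext ?_)
        push_cast
        rw [avgInd_apply, if_pos hgL,
          inv_mul_cancel₀ (Nat.cast_ne_zero.2 Nat.card_pos.ne')]
      have hcast : (Nat.card K : ResField M) =
          (Nat.card (K ⊓ Subgroup.centralizer (S : Set G) : Subgroup G) : ResField M) :=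
        (CharP.natCast_eq_natCast (ResField M) p).2 (card_inf_centralizer_modEq hS hSK)
      have e1 := key K hK hgK
      have e2 := key _ (not_dvd_card_of_le hK inf_le_left)
        (⟨hgK, hg⟩ : g ∈ K ⊓ Subgroup.centralizer (S : Set G))
      rw [← hcast, mul_comm] at e2
      exact left_inv_eq_right_inv e1 e2
    · refine congrArg red (Subtype.ext ?_)
      simp only [avgInd_apply]
      rw [if_neg hgK, if_neg fun h => hgK h.1]
  · rw [coeff_cut_of_notMem _ hg, eq_comm, avgIdem, coeff_redFun_eq_zero_iff, avgInd_apply,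
      if_neg fun h => hg h.2]
    exact MemLocalIdeal.zero'

theorem resFun_avgInd {K H : Subgroup G} (hKH : K ≤ H) :
    resFun H (avgInd K) = avgInd (K.subgroupOf H) := funext fun h => by
  classical
  rw [resFun, avgInd_apply, avgInd_apply, Base.card_subgroupOf hKH]
  exact if_congr Subgroup.mem_subgroupOf.symm rfl rfl

/-- A block of `H` against the idempotent of a normal `p'`-subgroup of `H`. -/
theorem pairIdem_avg_facts (hpM : (p : AlgInt) ∈ M) {H K : Subgroup G}
    (hK : ¬ p ∣ Nat.card K) (hKH : K ≤ H) (hHK : H ≤ Subgroup.normalizer (K : Set G))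
    {e : Set (IrrCharacter H)} (he : IsPBlock M e) :
    (TrivOn e K ↔ pairIdem he * avgIdem hpM hK = pairIdem he) ∧
      (pairIdem he * avgIdem hpM hK = pairIdem he ∨ pairIdem he * avgIdem hpM hK = 0) := by
  classical
  haveI := Fintype.ofFinite H
  haveI : (K.subgroupOf H).Normal := (Subgroup.normal_subgroupOf_iff_le_normalizer hKH).2 hHK
  have hcut := cut_avgIdem_of_le hpM hK hKH
  have hcl : IsClassFunction H (resFun H (avgInd K)) :=
    resFun_avgInd hKH ▸ isClassFunction_avgInd _
  have hd : ∀ ξ ∈ e, _ := fun (ξ : IrrCharacter H) (hξ : ξ ∈ e) =>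
    pairIdem_mul_dichotomy he (avgInd_mem_loc hpM hK) hcl
      (show cut (H : Set G) (avgIdem hpM hK) * cut (H : Set G) (avgIdem hpM hK) =
        cut (H : Set G) (avgIdem hpM hK) by rw [hcut, avgIdem_mul_self]) hξ
  rw [show redFun (avgInd K) (avgInd_mem_loc hpM hK) = avgIdem hpM hK from rfl, hcut] at hd
  have hmem : ∀ ξ : IrrCharacter H, (∀ h : H, (h : G) ∈ K → (ξ : H → ℂ) h = (ξ : H → ℂ) 1) ↔
      omega (ξ : H → ℂ) (resFun H (avgInd K)) = 1 := fun ξ => by
    rw [resFun_avgInd hKH, omega_avgInd_eq_one_iff]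
    rfl
  obtain ⟨ξ₀, hξ₀⟩ := IsPBlock.nonempty he
  refine ⟨⟨fun h => ?_, fun h ξ hξ => (hmem ξ).2 ?_⟩, ?_⟩
  · rcases hd ξ₀ hξ₀ with ⟨-, h2⟩ | ⟨h1, -⟩
    · exact h2
    · rw [(hmem ξ₀).1 (h ξ₀ hξ₀)] at h1
      exact absurd h1 not_memLocalIdeal_one
  · rcases hd ξ hξ with ⟨h1, -⟩ | ⟨-, h2⟩
    · rw [resFun_avgInd hKH] at h1 ⊢
      rcases omega_avgInd_eq_zero_or_one (K.subgroupOf H) ξ with h0 | h0
      · rw [h0, zero_sub] at h1
        exact absurd (by simpa using MemLocalIdeal.neg' h1) not_memLocalIdeal_one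
      · exact h0
    · exact absurd (h.symm.trans h2) (pairIdem_ne_zero he)
  · rcases hd ξ₀ hξ₀ with ⟨-, h2⟩ | ⟨-, h2⟩
    · exact Or.inl h2
    · exact Or.inr h2

/-- A block of the whole group against the idempotent of a normal `p'`-subgroup. -/
theorem blockIdem_avg_facts (hpM : (p : AlgInt) ∈ M) {K : Subgroup G} [K.Normal]
    (hK : ¬ p ∣ Nat.card K) {B : Set (IrrCharacter G)} (hB : IsPBlock M B) :
    ((∀ n ∈ K, n ∈ blockKer B) ↔ blockIdem hB * avgIdem hpM hK = blockIdem hB) ∧
      (blockIdem hB * avgIdem hpM hK = blockIdem hB ∨ blockIdem hB * avgIdem hpM hK = 0) := by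
  classical
  have hd : ∀ χ ∈ B, _ := fun (χ : IrrCharacter G) (hχ : χ ∈ B) =>
    blockIdem_mul_dichotomy hB (isLocClassFun_avgInd hpM K hK) (avgIdem_mul_self hpM hK) hχ
  rw [show redFun (avgInd K) (isLocClassFun_avgInd hpM K hK).2 = avgIdem hpM hK from rfl] at hd
  obtain ⟨χ₀, hχ₀⟩ := IsPBlock.nonempty hB
  refine ⟨⟨fun h => ?_, fun h n hn χ hχ => ?_⟩, ?_⟩
  · rcases hd χ₀ hχ₀ with ⟨-, h2⟩ | ⟨h1, -⟩
    · exact h2
    · rw [(omega_avgInd_eq_one_iff K χ₀).2 fun m hm => h m hm χ₀ hχ₀] at h1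
      exact absurd h1 not_memLocalIdeal_one
  · rcases hd χ hχ with ⟨h1, -⟩ | ⟨-, h2⟩
    · rcases omega_avgInd_eq_zero_or_one K χ with h0 | h0
      · rw [h0, zero_sub] at h1
        exact absurd (by simpa using MemLocalIdeal.neg' h1) not_memLocalIdeal_one
      · exact (omega_avgInd_eq_one_iff K χ).1 h0 n hn
    · exact absurd (h.symm.trans h2) (blockIdem_ne_zero hB)
  · rcases hd χ₀ hχ₀ with ⟨-, h2⟩ | ⟨-, h2⟩
    · exact Or.inl h2
    · exact Or.inr h2

/-- The product of a block with an idempotent passes to a pair inside it. -/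
theorem pairIdem_mul_avg_of_cut (hpM : (p : AlgInt) ∈ M) {S K : Subgroup G} (hS : IsPGroup p S)
    (hK : ¬ p ∣ Nat.card K) (hSK : S ≤ Subgroup.normalizer (K : Set G))
    {F : MonoidAlgebra (ResField M) G} (hF : IsFixedBy S F)
    {e : Set (IrrCharacter (Subgroup.centralizer (S : Set G)))} (he : IsPBlock M e)
    (hmul : pairIdem he * cut (Subgroup.centralizer (S : Set G) : Set G) F = pairIdem he) :
    pairIdem he * avgIdem hpM (not_dvd_card_of_le hK
        (inf_le_left : K ⊓ Subgroup.centralizer (S : Set G) ≤ K)) =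
      pairIdem he * cut (Subgroup.centralizer (S : Set G) : Set G) (F * avgIdem hpM hK) := by
  haveI := charP_resField (M := M) (Fact.out (p := p.Prime)) hpM
  rw [cut_mul p hS hF (isFixedBy_avgIdem hpM hK hSK), cut_centralizer_avgIdem hpM hS hK hSK,
    ← mul_assoc, hmul]

theorem le_normalizer_inf {U K L : Subgroup G} (h1 : U ≤ Subgroup.normalizer (K : Set G))
    (h2 : U ≤ Subgroup.normalizer (L : Set G)) :
    U ≤ Subgroup.normalizer ((K ⊓ L : Subgroup G) : Set G) := fun x hx => by
  rw [Subgroup.mem_normalizer_iff]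
  exact fun g => and_congr ((Subgroup.mem_normalizer_iff.1 (h1 hx)) g)
    ((Subgroup.mem_normalizer_iff.1 (h2 hx)) g)

/-- Key step: normal inclusion of pairs preserves triviality on fixed `p'`-subgroups. -/
theorem trivOn_iff_of_normal (hpM : (p : AlgInt) ∈ M) {R S K : Subgroup G}
    {f : Set (IrrCharacter (Subgroup.centralizer (R : Set G)))}
    {e : Set (IrrCharacter (Subgroup.centralizer (S : Set G)))}
    (h : IsNormalSubpair p M R f S e) (hK : ¬ p ∣ Nat.card K)
    (hKC : K ≤ Subgroup.centralizer (R : Set G))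
    (hCK : Subgroup.centralizer (R : Set G) ≤ Subgroup.normalizer (K : Set G))
    (hSK : S ≤ Subgroup.normalizer (K : Set G)) :
    TrivOn f K ↔ TrivOn e (K ⊓ Subgroup.centralizer (S : Set G)) := by
  have hf := pairIdem_avg_facts hpM hK hKC hCK h.1.2
  have he := pairIdem_avg_facts hpM
    (not_dvd_card_of_le hK (inf_le_left : K ⊓ Subgroup.centralizer (S : Set G) ≤ K)) inf_le_right
    (le_normalizer_inf ((centralizer_antitone h.2.2.1).trans hCK) Subgroup.le_normalizer) h.2.1.2
  have key := pairIdem_mul_avg_of_cut hpM h.2.1.1 hK hSK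
    (isFixedBy_pairIdem_of_stab h.1.2 h.2.2.2.2.1) h.2.1.2 (IsNormalSubpair.mul_cut hpM h)
  rw [hf.1, he.1]
  rcases hf.2 with h0 | h0 <;> rw [h0] at key ⊢ <;> rw [key]
  · simp only [IsNormalSubpair.mul_cut hpM h]
  · rw [cut_zero, mul_zero]
    exact ⟨fun h1 => absurd h1.symm (pairIdem_ne_zero _),
      fun h1 => absurd h1.symm (pairIdem_ne_zero _)⟩

/-- A block is trivial on a normal `p'`-subgroup if one of its pairs is. -/
theorem blockKer_of_pair (hpM : (p : AlgInt) ∈ M) {B : Set (IrrCharacter G)} {R : Subgroup G}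
    {f : Set (IrrCharacter (Subgroup.centralizer (R : Set G)))} (h : IsBrauerPairOf p M B R f)
    {K : Subgroup G} [hKn : K.Normal] (hK : ¬ p ∣ Nat.card K)
    (ht : TrivOn f (K ⊓ Subgroup.centralizer (R : Set G))) : ∀ n ∈ K, n ∈ blockKer B := by
  have hN : ∀ U : Subgroup G, U ≤ Subgroup.normalizer (K : Set G) := fun U =>
    Subgroup.le_normalizer_of_normal
  have he := pairIdem_avg_facts hpM
    (not_dvd_card_of_le hK (inf_le_left : K ⊓ Subgroup.centralizer (R : Set G) ≤ K)) inf_le_right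
    (le_normalizer_inf (hN _) Subgroup.le_normalizer) h.1.2
  have hb := blockIdem_avg_facts hpM hK h.2.1
  have key := pairIdem_mul_avg_of_cut hpM h.1.1 hK (hN _) (isFixedBy_blockIdem h.2.1 R) h.1.2
    ((isBrauerPairOf_iff hpM h.1 h.2.1).1.1 h)
  rw [hb.1]
  refine hb.2.resolve_right fun h0 => pairIdem_ne_zero h.1.2 ?_
  rw [h0, cut_zero, mul_zero, he.1.1 ht] at key
  exact key

/-! ## The `π'`-core of a centralizer -/

variable (π : Set ℕ)

/-- `O_{π'}(C(R))` as a subgroup of the group. -/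
noncomputable def coreC (R : Subgroup G) : Subgroup G :=
  (piCore {q | q ∉ π} (Subgroup.centralizer (R : Set G))).map
    (Subgroup.centralizer (R : Set G)).subtype

/-- `C(R)` has a normal Hall `π'`-subgroup. -/
def HallCore (R : Subgroup G) : Prop :=
  ∀ x : Subgroup.centralizer (R : Set G), (∀ q : ℕ, q.Prime → q ∣ orderOf x → q ∉ π) →
    x ∈ piCore {q | q ∉ π} (Subgroup.centralizer (R : Set G))

variable {π}

theorem coreC_le (R : Subgroup G) : coreC π R ≤ Subgroup.centralizer (R : Set G) :=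
  Subgroup.map_subtype_le _

theorem coreC_primes {R : Subgroup G} {q : ℕ} (hq : q.Prime) (hd : q ∣ Nat.card (coreC π R)) :
    q ∉ π := by
  rw [coreC, Base.card_map_subtype] at hd
  exact Base.piCore_primes _ _ q hq hd

theorem not_dvd_coreC (hpπ : p ∈ π) (R : Subgroup G) : ¬ p ∣ Nat.card (coreC π R) := fun hd =>
  coreC_primes Fact.out hd hpπ

theorem normalizer_le_normalizer_coreC (R : Subgroup G) :
    Subgroup.normalizer (R : Set G) ≤ Subgroup.normalizer (coreC π R : Set G) :=
  le_trans (fun x hx => mem_normalizer_centralizer hx)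
    (Base.normalizer_le_normalizer_map_subtype _ _)

theorem centralizer_le_normalizer_coreC (R : Subgroup G) :
    Subgroup.centralizer (R : Set G) ≤ Subgroup.normalizer (coreC π R : Set G) :=
  (Subgroup.centralizer_le_normalizer _).trans (normalizer_le_normalizer_coreC R)

/-- A normal `π'`-subgroup of `C(R)` lies in the core. -/
theorem le_coreC {A R : Subgroup G} (hA : A ≤ Subgroup.centralizer (R : Set G))
    (hn : Subgroup.centralizer (R : Set G) ≤ Subgroup.normalizer (A : Set G))
    (hq : ∀ q : ℕ, q.Prime → q ∣ Nat.card A → q ∉ π) : A ≤ coreC π R :=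
  Base.le_map_piCore hA hn hq

theorem coreC_inf_le {R S : Subgroup G} (hRS : R ≤ S) :
    coreC π R ⊓ Subgroup.centralizer (S : Set G) ≤ coreC π S :=
  le_coreC inf_le_right
    (le_normalizer_inf ((centralizer_antitone hRS).trans (centralizer_le_normalizer_coreC R))
      Subgroup.le_normalizer)
    fun q hq hd => coreC_primes hq (hd.trans (Subgroup.card_dvd_of_le inf_le_left))

theorem orderOf_coreC {R : Subgroup G} {x : G} (hx : x ∈ coreC π R) {q : ℕ} (hq : q.Prime)
    (hd : q ∣ orderOf x) : q ∉ π :=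
  coreC_primes hq (hd.trans (Subgroup.orderOf_dvd_natCard _ hx))

theorem HallCore.mem {R : Subgroup G} (h : HallCore π R) {x : G}
    (hx : x ∈ Subgroup.centralizer (R : Set G)) (hq : ∀ q : ℕ, q.Prime → q ∣ orderOf x → q ∉ π) :
    x ∈ coreC π R :=
  ⟨⟨x, hx⟩, h ⟨x, hx⟩ fun q hq' hd => hq q hq' (by rwa [Subgroup.orderOf_mk] at hd), rfl⟩

theorem HallCore.mono {R S : Subgroup G} (h : HallCore π R) (hRS : R ≤ S) : HallCore π S := by
  intro x hx
  have h1 : (x : G) ∈ coreC π R := h.mem (centralizer_antitone hRS x.2) fun q hq hd =>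
    hx q hq (by rwa [Subgroup.orderOf_coe] at hd)
  obtain ⟨y, hy, hyx⟩ := coreC_inf_le (π := π) hRS ⟨h1, x.2⟩
  rwa [← Subtype.ext hyx]

/-- Triviality descends along inclusion of pairs. -/
theorem trivOn_of_below (hpM : (p : AlgInt) ∈ M) (hpπ : p ∈ π) {a b : BrauerPairIdx G}
    (h : Relation.ReflTransGen (NormalSubpairRel p M) a b) (hb : TrivOn b.2 (coreC π b.1)) :
    TrivOn a.2 (coreC π a.1) := by
  induction h using Relation.ReflTransGen.head_induction_on with
  | refl => exact hb
  | head hs _ ih =>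
    exact (trivOn_iff_of_normal hpM hs (not_dvd_coreC hpπ _) (coreC_le _)
      (centralizer_le_normalizer_coreC _)
      (hs.2.2.2.1.trans (normalizer_le_normalizer_coreC _))).2 (ih.mono (coreC_inf_le hs.2.2.1))

/-- With a normal Hall `π'`-subgroup, triviality ascends. -/
theorem trivOn_of_above (hpM : (p : AlgInt) ∈ M) (hpπ : p ∈ π) {a b : BrauerPairIdx G}
    (h : Relation.ReflTransGen (NormalSubpairRel p M) a b) (ha : TrivOn a.2 (coreC π a.1))
    (hH : HallCore π a.1) : TrivOn b.2 (coreC π b.1) := by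
  induction h with
  | refl => exact ha
  | @tail c d hac hs ih =>
    refine ((trivOn_iff_of_normal hpM hs (not_dvd_coreC hpπ _) (coreC_le _)
      (centralizer_le_normalizer_coreC _)
      (hs.2.2.2.1.trans (normalizer_le_normalizer_coreC _))).1 ih).mono fun x hx => ⟨?_, coreC_le _ hx⟩
    exact (hH.mono (below_le hac)).mem (centralizer_antitone hs.2.2.1 (coreC_le _ hx))
      fun q hq hd => orderOf_coreC hx hq hd

/-- Triviality is invariant under conjugation. -/
theorem trivOn_conj {a : BrauerPairIdx G} (ha : TrivOn a.2 (coreC π a.1)) (x : G) :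
    TrivOn (conjPair x a).2 (coreC π (conjPair x a).1) := by
  obtain ⟨Q, f⟩ := a
  show TrivOn (conjBlock Q x f) (coreC π (Q.map (MulAut.conj x).toMonoidHom))
  intro ξ' hξ' c' hc'
  have hξ'' : ξ' ∈ conjImage x (centralizer_conj_iff Q x) f := conjBlock_eq Q x f ▸ hξ'
  obtain ⟨ξ, hξ, rfl⟩ := hξ''
  simp only [pullIrr_apply, map_one]
  refine ha ξ hξ ((conjIso x (centralizer_conj_iff Q x)).symm c')
    ⟨(conjIso x (centralizer_conj_iff Q x)).symm c', ?_, rfl⟩
  obtain ⟨d, hd, hdc⟩ := hc'
  obtain rfl : d = c' := Subtype.ext hdc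
  have e := Base.map_piCore_mulEquiv (π := {q | q ∉ π}) (conjIso x (centralizer_conj_iff Q x)).symm
  rw [← e]
  exact ⟨d, hd, rfl⟩

theorem trivOn_of_conj {a : BrauerPairIdx G} {x : G}
    (ha : TrivOn (conjPair x a).2 (coreC π (conjPair x a).1)) : TrivOn a.2 (coreC π a.1) := by
  have h := trivOn_conj ha x⁻¹
  rwa [conjPair_mul, inv_mul_cancel, conjPair_one] at h

/-! ## The pair on the defect group and the Brauer correspondent -/

theorem map_piCore_normalizer_eq (hpπ : p ∈ π) {D : Subgroup G} (hD : IsPGroup p D) :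
    (piCore {q | q ∉ π} (Subgroup.normalizer (D : Set G))).map
      (Subgroup.normalizer (D : Set G)).subtype = coreC π D := by
  set N := Subgroup.normalizer (D : Set G) with hN
  have hq : ∀ q : ℕ, q.Prime → q ∣ Nat.card ((piCore {q | q ∉ π} N).map N.subtype) → q ∉ π :=
    fun q hq hd => Base.piCore_primes _ _ q hq (by rwa [Base.card_map_subtype] at hd)
  apply le_antisymm
  · refine le_coreC ?_ ((Subgroup.centralizer_le_normalizer _).trans
      (Subgroup.le_normalizer.trans (Base.normalizer_le_normalizer_map_subtype N _))) hq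
    rintro _ ⟨n, hn, rfl⟩
    rw [Subgroup.mem_centralizer_iff]
    intro d hd
    haveI : (D.subgroupOf N).Normal :=
      (Subgroup.normal_subgroupOf_iff_le_normalizer Subgroup.le_normalizer).2 le_rfl
    have hdisj : Disjoint (piCore {q | q ∉ π} N) (D.subgroupOf N) := by
      rw [disjoint_iff]
      apply Subgroup.eq_bot_of_card_eq
      obtain ⟨k, hk⟩ := IsPGroup.iff_card.1 hD
      have h1 : Nat.card (piCore {q | q ∉ π} N ⊓ D.subgroupOf N : Subgroup N) ∣ p ^ k :=
        (Subgroup.card_dvd_of_le inf_le_right).trans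
          (by rw [Base.card_subgroupOf Subgroup.le_normalizer, hk])
      obtain ⟨j, -, hj⟩ := (Nat.dvd_prime_pow Fact.out).1 h1
      rcases Nat.eq_zero_or_pos j with rfl | hj0
      · simpa using hj
      · exact absurd hpπ (Base.piCore_primes _ N p Fact.out
          ((dvd_pow_self p hj0.ne').trans (hj ▸ Subgroup.card_dvd_of_le inf_le_left)))
    exact congrArg Subtype.val ((Subgroup.commute_of_normal_of_disjoint _ _
      (piCore_normal _ _) inferInstance hdisj n
      ⟨d, Subgroup.le_normalizer hd⟩ hn (Subgroup.mem_subgroupOf.2 hd)).eq).symm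
  · refine Base.le_map_piCore ((coreC_le D).trans (Subgroup.centralizer_le_normalizer _))
      (normalizer_le_normalizer_coreC D) fun q hq hd => coreC_primes hq hd

/-- The kernel condition on the Brauer correspondent, read on the maximal pair. -/
theorem exists_maximal_pair_iff (hpM : (p : AlgInt) ∈ M) (hpπ : p ∈ π)
    {B : Set (IrrCharacter G)} (hB : IsPBlock M B) {D : Subgroup G} (hBD : IsDefectGroup p M B D)
    {B₁ : Set (IrrCharacter (Subgroup.normalizer (D : Set G)))}
    (hB₁ : IsInducedBlock M (Subgroup.normalizer (D : Set G)) B₁ B)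
    (hB₁D : IsDefectGroup p M B₁ (D.subgroupOf (Subgroup.normalizer (D : Set G)))) :
    ∃ e, IsMaximalBrauerPair p M B D e ∧ (TrivOn e (coreC π D) ↔
      ∀ n : Subgroup.normalizer (D : Set G),
        n ∈ piCore {q | q ∉ π} (Subgroup.normalizer (D : Set G)) → n ∈ blockKer B₁) := by
  have hD := IsDefectGroup.isPGroup hBD
  obtain ⟨e, he⟩ := exists_pair_on_defectGroup hpM hB hBD
  have hmax := isMaximal_of_defectGroup hpM hBD he
  obtain ⟨b, hb, hmul, hdef, hind⟩ := exists_local_block_of_maximal hpM hmax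
  obtain rfl := first_main_unique hpM hD hind hB₁ hdef
  refine ⟨e, hmax, ?_⟩
  have hL := map_piCore_normalizer_eq hpπ hD
  have hmem : ∀ n : Subgroup.normalizer (D : Set G), (n : G) ∈ coreC π D ↔
      n ∈ piCore {q | q ∉ π} (Subgroup.normalizer (D : Set G)) := fun n => by
    rw [← hL]
    exact Subgroup.mem_map_iff_mem (Subgroup.subtype_injective _)
  have hiff : (∀ n : Subgroup.normalizer (D : Set G),
        n ∈ piCore {q | q ∉ π} (Subgroup.normalizer (D : Set G)) → n ∈ blockKer b) ↔
      TrivOn b (coreC π D) :=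
    ⟨fun h χ hχ n hn => h n ((hmem n).1 hn) χ hχ, fun h n hn χ hχ => h χ hχ n ((hmem n).2 hn)⟩
  rw [hiff]
  have hK := not_dvd_coreC (p := p) hpπ D
  have fe := pairIdem_avg_facts hpM hK (coreC_le D) (centralizer_le_normalizer_coreC D) hmax.1.1.2
  have fb := pairIdem_avg_facts hpM hK
    ((coreC_le D).trans (Subgroup.centralizer_le_normalizer _))
    (normalizer_le_normalizer_coreC D) hb
  rw [fe.1, fb.1]
  refine ⟨fun h => fb.2.resolve_right fun h0 => pairIdem_ne_zero hmax.1.1.2 ?_, fun h => ?_⟩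
  · rw [← h, ← hmul, mul_assoc, h0, mul_zero]
  · rw [← hmul, mul_assoc, h]

/-- Transport of induction along equal subgroups. -/
theorem isInducedBlock_congr_subgroup {U U' : Subgroup G} (h : U = U') {B : Set (IrrCharacter G)}
    {b : Set (IrrCharacter U)} {b' : Set (IrrCharacter U')} (hb : IsInducedBlock M U b B)
    (hc : ∀ g, subgroupBlockCoeff U b g = subgroupBlockCoeff U' b' g) :
    IsInducedBlock M U' b' B := by
  subst h
  rwa [← eq_of_subgroupBlockCoeff_eq (funext hc)]

/-- A pair of an inducing block is a pair of the induced block. -/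
theorem isBrauerPairOf_of_rel (hpM : (p : AlgInt) ∈ M) {H R : Subgroup G} [Fintype H]
    (hR : R ≤ H) (hC : Subgroup.centralizer (R : Set G) ≤ H) (hRp : IsPGroup p R)
    {e : Set (IrrCharacter (Subgroup.centralizer (R : Set G)))} (he : IsPBlock M e)
    {c : Set (IrrCharacter H)} {B : Set (IrrCharacter G)} (hind : IsInducedBlock M H c B)
    (h : IsBrauerPairOf p M c (R.subgroupOf H) (relBlock hR hC e)) :
    IsBrauerPairOf p M B R e := by
  haveI := Fintype.ofFinite (Subgroup.centralizer (R : Set G))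
  haveI := Fintype.ofFinite ((Subgroup.centralizer (R : Set G)).subgroupOf H)
  refine (isInducedBlock_centralizer_iff hpM hRp).1 (IsInducedBlock.trans' hC ?_ hind he)
  refine isInducedBlock_congr_subgroup
    (Subgroup.ext fun u => (mem_centralizer_subgroupOf_iff hR u).trans Subgroup.mem_subgroupOf.symm)
    ((isInducedBlock_centralizer_iff hpM (isPGroup_subgroupOf hRp hR)).2 h) fun u => ?_
  rw [subgroupBlockCoeff_relBlock]
  by_cases hu : (u : G) ∈ Subgroup.centralizer (R : Set G)
  · conv_rhs => rw [show u = ((⟨u, Subgroup.mem_subgroupOf.2 hu⟩ :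
      (Subgroup.centralizer (R : Set G)).subgroupOf H) : H) from rfl,
      subgroupBlockCoeff_coe, blockCoeff_image_pullIrr, ← subgroupBlockCoeff_coe]
    rfl
  · rw [subgroupBlockCoeff_of_notMem _ hu,
      subgroupBlockCoeff_of_notMem _ (fun h' => hu (Subgroup.mem_subgroupOf.1 h'))]

/-- Descent of the kernel condition to local blocks. -/
theorem blockKer_local (hpM : (p : AlgInt) ∈ M) (hpπ : p ∈ π) {B : Set (IrrCharacter G)}
    {b : BrauerPairIdx G} (hmax : IsMaximalBrauerPair p M B b.1 b.2)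
    (hb : TrivOn b.2 (coreC π b.1)) {G₀ : Subgroup G} [Fintype G₀]
    {B₀ : Set (IrrCharacter G₀)} (hB₀ : IsInducedBlock M G₀ B₀ B) {D₀ : Subgroup G₀}
    (hD₀ : IsDefectGroup p M B₀ D₀)
    (hC : Subgroup.centralizer ((D₀.map G₀.subtype : Subgroup G) : Set G) ≤ G₀) :
    ∀ x : G₀, x ∈ piCore {q | q ∉ π} G₀ → x ∈ blockKer B₀ := by
  obtain ⟨R, hRdef⟩ : ∃ R, R = D₀.map G₀.subtype := ⟨_, rfl⟩
  rw [← hRdef] at hC
  have hR : R ≤ G₀ := hRdef ▸ Subgroup.map_subtype_le D₀
  obtain rfl : D₀ = R.subgroupOf G₀ := by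
    rw [hRdef, Subgroup.subgroupOf, Subgroup.comap_map_eq_self_of_injective G₀.subtype_injective]
  have hRp : IsPGroup p R := hRdef ▸ (IsDefectGroup.isPGroup hD₀).map _
  obtain ⟨h', hh'⟩ := exists_pair_on_defectGroup hpM hB₀.1 hD₀
  obtain ⟨e, he, rfl⟩ := exists_relBlock hR hC hh'.1.2
  have hBe := isBrauerPairOf_of_rel hpM hR hC hRp he hB₀ hh'
  obtain ⟨x, hx⟩ := exists_conj_below hpM hmax (a := ⟨R, e⟩) hBe
  have ht : TrivOn e (coreC π R) := trivOn_of_conj (a := ⟨R, e⟩) (trivOn_of_below hpM hpπ hx hb)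
  haveI := Base.piCore_characteristic ({q | q ∉ π}) G₀
  refine blockKer_of_pair hpM hh' (fun hd => Base.piCore_primes _ _ p Fact.out hd hpπ) ?_
  rintro ξ' ⟨ξ, hξ, rfl⟩ u ⟨hu1, hu2⟩
  simp only [pullIrr_apply, map_one]
  refine ht ξ hξ _ (le_coreC (A := (piCore {q | q ∉ π} G₀).map G₀.subtype ⊓
      Subgroup.centralizer (R : Set G)) inf_le_right
    (le_normalizer_inf (hC.trans (Subgroup.le_normalizer.trans
      (Base.normalizer_le_normalizer_map_subtype G₀ _))) Subgroup.le_normalizer)
    (fun q hq hd => Base.piCore_primes {q | q ∉ π} G₀ q hq ?_) ⟨⟨_, hu1, rfl⟩, ?_⟩)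
  · exact (hd.trans (Subgroup.card_dvd_of_le inf_le_left)).trans (by rw [Base.card_map_subtype])
  · exact (mem_centralizer_subgroupOf_iff hR _).1 hu2

/-- A block of `R C(R)` inducing `B` lies above a pair of `B`. -/
theorem exists_pair_of_inducing (hpM : (p : AlgInt) ∈ M) {R H : Subgroup G} (hR : IsPGroup p R)
    (hRH : R ≤ H) (hCH : Subgroup.centralizer (R : Set G) ≤ H)
    (hHN : H ≤ Subgroup.normalizer (R : Set G)) {b : Set (IrrCharacter H)}
    {B : Set (IrrCharacter G)} (hb : IsInducedBlock M H b B) :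
    ∃ f, ∃ hf : IsPBlock M f, IsBrauerPairOf p M B R f ∧
      pairIdem hf * pairIdem hb.1 = pairIdem hf := by
  classical
  obtain ⟨f, hf, hmul⟩ : ∃ f, ∃ hf : IsPBlock M f,
      pairIdem hf * pairIdem hb.1 = pairIdem hf := by
    by_contra hcon
    apply pairIdem_ne_zero hb.1
    have hsum := sum_pairIdem (M := M) (blockFinset M (Subgroup.centralizer (R : Set G))) rfl
      (fun f => if hf : IsPBlock M f then pairIdem hf else 0) (fun f hf => dif_pos hf)
    rw [← one_mul (pairIdem hb.1), ← hsum, Finset.sum_mul]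
    refine Finset.sum_eq_zero fun f hf => ?_
    rw [dif_pos (mem_blockFinset.1 hf)]
    exact (pairIdem_mul_local hpM hR hRH hCH hHN (mem_blockFinset.1 hf) hb.1).resolve_left
      fun h => hcon ⟨f, _, h⟩
  obtain ⟨B', hB', -⟩ := existsUnique_block_of_pair hpM (⟨hR, hf⟩ : IsBrauerPair p M R f)
  have h' := isInducedBlock_of_pair hpM hR hRH hCH hHN hB' hb.1 hmul
  exact ⟨f, hf, IsInducedBlock.unique h' hb ▸ hB', hmul⟩

/-- Local triviality with a normal Hall `π'`-subgroup reaches the maximal pairs. -/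
theorem trivOn_maximal_of_local (hpM : (p : AlgInt) ∈ M) (hpπ : p ∈ π)
    {B : Set (IrrCharacter G)} {c : BrauerPairIdx G} (hmax : IsMaximalBrauerPair p M B c.1 c.2)
    {R H : Subgroup G} (hR : IsPGroup p R) (hH : H = R ⊔ Subgroup.centralizer (R : Set G))
    {b : Set (IrrCharacter H)} (hb : IsInducedBlock M H b B) (hHall : HallCore π R)
    (ht : TrivOn b (coreC π R)) : TrivOn c.2 (coreC π c.1) := by
  have hRH : R ≤ H := hH ▸ le_sup_left
  have hCH : Subgroup.centralizer (R : Set G) ≤ H := hH ▸ le_sup_right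
  have hHN : H ≤ Subgroup.normalizer (R : Set G) :=
    hH ▸ sup_le Subgroup.le_normalizer (Subgroup.centralizer_le_normalizer _)
  obtain ⟨f, hf, hBf, hmul⟩ := exists_pair_of_inducing hpM hR hRH hCH hHN hb
  have hK := not_dvd_coreC (p := p) hpπ R
  have hf' : TrivOn f (coreC π R) := by
    rw [(pairIdem_avg_facts hpM hK (coreC_le R) (centralizer_le_normalizer_coreC R) hf).1, ← hmul,
      mul_assoc, (pairIdem_avg_facts hpM hK ((coreC_le R).trans hCH)
        (hHN.trans (normalizer_le_normalizer_coreC R)) hb.1).1.1 ht]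
  obtain ⟨d, hd, hdmax⟩ := exists_maximal_above hpM ⟨R, f⟩ hBf
  have h1 := trivOn_of_above hpM hpπ hd hf' hHall
  obtain ⟨x, hx⟩ := exists_conj_maximal hpM hmax hdmax
  exact hx ▸ trivOn_conj h1 x

open scoped Classical in
/-- Constancy on cosets from triviality of every inducing block of the centralizer. -/
theorem apply_mul_eq_of_blockKer (hM : IsPModular p M) {y : G} (hy : ∃ k, orderOf y = p ^ k)
    [Fintype (Subgroup.centralizer ({y} : Set G))] {B : Set (IrrCharacter G)} (hB : IsPBlock M B)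
    {χ : IrrCharacter G} (hχ : χ ∈ B) {x : Subgroup.centralizer ({y} : Set G)}
    (hxp : ¬ p ∣ orderOf x)
    (hx : ∀ b : Set (IrrCharacter (Subgroup.centralizer ({y} : Set G))),
      IsInducedBlock M (Subgroup.centralizer ({y} : Set G)) b B → x ∈ blockKer b) :
    (χ : G → ℂ) (y * x) = (χ : G → ℂ) y := by
  haveI := irrFintype (Subgroup.centralizer ({y} : Set G))
  let θ := fun c : Subgroup.centralizer ({y} : Set G) => (χ : G → ℂ) (y * (c : G))
  have hθ : IsClassFunction _ θ :=
    BlockOrth.isClassFunction_secFun (fun _ => Subgroup.mem_centralizer_singleton_iff)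
      (isClassFunction_irr χ)
  have key : θ x = θ 1 := by
    rw [classFun_eq_sum hθ]
    simp only [Finset.sum_apply, Pi.smul_apply, smul_eq_mul]
    have hmap : ∀ η ∈ (Finset.univ : Finset (IrrCharacter (Subgroup.centralizer ({y} : Set G)))),
        blockOf M (η : Subgroup.centralizer ({y} : Set G) → ℂ) ∈
          blockFinset M (Subgroup.centralizer ({y} : Set G)) :=
      fun η _ => mem_blockFinset.2 (isPBlock_blockOf η)
    rw [← Finset.sum_fiberwise_of_maps_to hmap]
    conv_rhs => rw [← Finset.sum_fiberwise_of_maps_to hmap]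
    refine Finset.sum_congr rfl fun b hb => ?_
    have hb' := mem_blockFinset.1 hb
    have hfib : Finset.univ.filter (fun η : IrrCharacter (Subgroup.centralizer ({y} : Set G)) =>
        blockOf M (η : _ → ℂ) = b) = Finset.univ.filter (· ∈ b) :=
      Finset.filter_congr fun η _ => ⟨fun h => h ▸ mem_blockOf_self η,
        fun h => (IsPBlock.eq_blockOf hb' h).symm⟩
    rw [hfib]
    by_cases hind : IsInducedBlock M (Subgroup.centralizer ({y} : Set G)) b B
    · exact Finset.sum_congr rfl fun η hη => by rw [hx b hind η (Finset.mem_filter.1 hη).2]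
    · rw [← blockPart_apply_eq_sum, ← blockPart_apply_eq_sum,
        Cfsg.Agent.S0923.result p M hM y hy B hB χ hχ b hb' hind x hxp,
        Cfsg.Agent.S0923.result p M hM y hy B hB χ hχ b hb' hind 1
          (by rw [orderOf_one]; exact (Fact.out : p.Prime).not_dvd_one)]
  simpa [θ] using key

end PiKernel

end CfsgLib.Blocks
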