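import Cfsg.Agent.Lib.Blocks.RelTrace

/-!
# Primitive idempotents of the algebra of elements fixed by a subgroup
-/

set_option linter.unusedSectionVars false
set_option linter.style.haveILetI false

namespace CfsgLib.Blocks

open Cfsg Chars Polynomial

variable {G : Type*} [Group G] [Fintype G] {M : Ideal AlgInt} [M.IsPrime]
variable {S : Subgroup G}

/-- A primitive idempotent of the algebra of elements fixed by `S`. -/
def IsPrimIn (S : Subgroup G) (i : MonoidAlgebra (ResField M) G) : Prop :=
  IsFixedBy S i ∧ i * i = i ∧ i ≠ 0 ∧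
    ∀ e : MonoidAlgebra (ResField M) G, IsFixedBy S e → e * e = e → i * e = e → e * i = e →
      e = 0 ∨ e = i

theorem IsFixedBy.sum {k : Type*} [CommRing k] {P : Subgroup G} {ι : Type*} (s : Finset ι)
    {f : ι → MonoidAlgebra k G} (h : ∀ i ∈ s, IsFixedBy P (f i)) : IsFixedBy P (∑ i ∈ s, f i) :=
  Finset.sum_induction f (IsFixedBy P) (fun _ _ => IsFixedBy.add) IsFixedBy.zero h

/-- In the corner at a primitive idempotent every element is nilpotent or invertible. -/
theorem IsPrimIn.dichotomy {i : MonoidAlgebra (ResField M) G} (hi : IsPrimIn S i)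
    {x : MonoidAlgebra (ResField M) G} (hx : IsFixedBy S x) (hix : i * x = x) (hxi : x * i = x) :
    IsNilpotent x ∨ ∃ y, IsFixedBy S y ∧ i * y = y ∧ y * i = y ∧ x * y = i ∧ y * x = i := by
  obtain ⟨hif, hii, hi0, hprim⟩ := hi
  have hint : IsIntegral (ResField M) x :=
    (Algebra.IsIntegral.of_finite (ResField M) (MonoidAlgebra (ResField M) G)).isIntegral x
  obtain ⟨q, hq, hndvd⟩ := exists_eq_pow_rootMultiplicity_mul_and_not_dvd (minpoly (ResField M) x)
    (minpoly.ne_zero hint) 0
  set m := (minpoly (ResField M) x).rootMultiplicity 0 with hm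
  rw [C_0, sub_zero] at hq hndvd
  have hc : q.coeff 0 ≠ 0 := fun h => hndvd (X_dvd_iff.2 h)
  obtain ⟨w, hw⟩ : ∃ w, w = aeval x (-(C (q.coeff 0)⁻¹) * q.divX) := ⟨_, rfl⟩
  have hwf : IsFixedBy S w := hw ▸ hx.aeval _
  have hxw : Commute x w := by
    rw [hw]
    have := congrArg (aeval x) (mul_comm (X : (ResField M)[X]) (-(C (q.coeff 0)⁻¹) * q.divX))
    simp only [map_mul, aeval_X] at this ⊢
    exact this
  have hiw : Commute i w := by
    rw [hw]
    generalize -(C (q.coeff 0)⁻¹) * q.divX = r
    induction r using Polynomial.induction_on' with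
    | add a b ha hb => rw [map_add]; exact ha.add_right hb
    | monomial n c =>
      rw [aeval_monomial, ← Algebra.smul_def]
      exact ((show Commute i x from hix.trans hxi.symm).pow_right n).smul_right c
  have hstep : x ^ m = x ^ (m + 1) * w := by
    have h0 : aeval x (X ^ m * q) = 0 := by rw [← hq]; exact minpoly.aeval _ _
    have hid : (X : (ResField M)[X]) ^ m =
        X ^ (m + 1) * (-(C (q.coeff 0)⁻¹) * q.divX) + C (q.coeff 0)⁻¹ * (X ^ m * q) := by
      have hqd := X_mul_divX_add q
      have hcc : C (q.coeff 0)⁻¹ * C (q.coeff 0) = (1 : (ResField M)[X]) := by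
        rw [← C_mul, inv_mul_cancel₀ hc, C_1]
      generalize q.divX = d at hqd ⊢
      generalize C (q.coeff 0)⁻¹ = a at hcc ⊢
      generalize C (q.coeff 0) = b at hcc hqd
      rw [← hqd, pow_succ]
      linear_combination (-(X ^ m)) * hcc
    have := congrArg (aeval x) hid
    rw [map_add, map_mul (aeval x) (C _), h0, mul_zero, add_zero, map_mul, map_pow, map_pow,
      aeval_X, ← hw] at this
    exact this
  have hiter : ∀ k, x ^ m = x ^ (m + k) * w ^ k := by
    intro k
    induction k with
    | zero => simp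
    | succ k ih =>
      rw [ih]
      calc x ^ (m + k) * w ^ k = x ^ k * x ^ m * w ^ k := by rw [← pow_add, add_comm]
        _ = x ^ k * (x ^ (m + 1) * w) * w ^ k := by rw [← hstep]
        _ = x ^ (m + (k + 1)) * w ^ (k + 1) := by
          rw [← mul_assoc, ← pow_add, mul_assoc, ← pow_succ']
          congr 2
          omega
  obtain ⟨e, he⟩ : ∃ e, e = i * (x ^ m * w ^ m) := ⟨_, rfl⟩
  have hixw : Commute i (x ^ m * w ^ m) :=
    ((show Commute i x from hix.trans hxi.symm).pow_right m).mul_right (hiw.pow_right m)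
  have hee : e * e = e := by
    rw [he]
    calc i * (x ^ m * w ^ m) * (i * (x ^ m * w ^ m))
        = i * (i * (x ^ m * w ^ m)) * (x ^ m * w ^ m) := by
          conv_lhs => rw [mul_assoc i, ← mul_assoc (x ^ m * w ^ m) i, ← hixw.eq]
          simp only [mul_assoc]
      _ = i * (x ^ m * x ^ m * w ^ m * w ^ m) := by
          rw [← mul_assoc i i, hii]
          simp only [mul_assoc]
          rw [← mul_assoc (w ^ m) (x ^ m), ← (hxw.pow_pow m m).eq, mul_assoc]
      _ = i * (x ^ m * w ^ m) := by rw [← pow_add, ← hiter m]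
  have hief : IsFixedBy S e := he ▸ hif.mul ((hx.pow m).mul (hwf.pow m))
  have hie : i * e = e := by rw [he, ← mul_assoc, hii]
  have hei : e * i = e := by rw [he, hixw.eq, mul_assoc, hii]
  rcases hprim e hief hee hie hei with h | h
  · left
    rcases Nat.eq_zero_or_pos m with hm0 | hm0
    · rw [he, hm0, pow_zero, pow_zero, mul_one, mul_one] at h
      exact absurd h hi0
    refine ⟨m, ?_⟩
    have h1 : i * x ^ m = x ^ m := by
      obtain ⟨m', hm'⟩ : ∃ m', m = m' + 1 := ⟨m - 1, by omega⟩
      rw [hm', pow_succ', ← mul_assoc, hix]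
    rw [← h1]
    calc i * x ^ m = i * (x ^ m * w ^ m) * x ^ m := by
          conv_lhs => rw [hiter m, pow_add, mul_assoc, (hxw.pow_pow m m).eq, ← mul_assoc (x ^ m)]
          simp only [mul_assoc]
      _ = 0 := by rw [← he, h, zero_mul]
  · right
    rcases Nat.eq_zero_or_pos m with hm0 | hm0
    · rw [hm0, pow_zero, zero_add, pow_one] at hstep
      refine ⟨i * w, hif.mul hwf, by rw [← mul_assoc, hii], by rw [hiw.eq, mul_assoc, hii], ?_, ?_⟩
      · rw [← mul_assoc, hxi, ← hstep]
        have : i * (x * w) = x * w := by rw [← mul_assoc, hix]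
        rw [← hstep, mul_one] at this
        exact this.symm
      · rw [mul_assoc, ← hxw.eq, ← hstep, mul_one]
    obtain ⟨m', hm'⟩ : ∃ m', m = m' + 1 := ⟨m - 1, by omega⟩
    have hxy : x * (x ^ m' * w ^ m) = x ^ m * w ^ m := by rw [← mul_assoc, ← pow_succ', ← hm']
    have hcy : Commute i (x ^ m' * w ^ m) :=
      ((show Commute i x from hix.trans hxi.symm).pow_right m').mul_right (hiw.pow_right m)
    refine ⟨i * (x ^ m' * w ^ m), hif.mul ((hx.pow m').mul (hwf.pow m)),
      by rw [← mul_assoc, hii], by rw [hcy.eq, mul_assoc, hii], ?_, ?_⟩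
    · rw [← mul_assoc, hxi, hxy]
      have h3 : i * (x * (x ^ m' * w ^ m)) = x * (x ^ m' * w ^ m) := by rw [← mul_assoc, hix]
      rw [hxy, ← he, h] at h3
      exact h3.symm
    · have hc2 : Commute (x ^ m' * w ^ m) x :=
        ((Commute.refl x).pow_left m').mul_left (hxw.symm.pow_left m)
      rw [mul_assoc, hc2.eq, hxy, ← he, h]

/-- The residue scalar of an element of the corner. -/
theorem IsPrimIn.exists_scalar {i : MonoidAlgebra (ResField M) G} (hi : IsPrimIn S i)
    {x : MonoidAlgebra (ResField M) G} (hx : IsFixedBy S x) (hix : i * x = x) (hxi : x * i = x) :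
    ∃ c : ResField M, IsNilpotent (x - c • i) := by
  set W := LinearMap.range (LinearMap.mulLeft (ResField M) i) with hW
  have hmap : ∀ z ∈ W, LinearMap.mulLeft (ResField M) x z ∈ W := by
    rintro - ⟨y, rfl⟩
    exact ⟨x * (i * y), by simp only [LinearMap.mulLeft_apply, ← mul_assoc, hix]⟩
  haveI : Nontrivial W := by
    refine ⟨⟨⟨i, i, ?_⟩, 0, fun h => hi.2.2.1 (congrArg Subtype.val h)⟩⟩
    exact hi.2.1
  obtain ⟨c, hc⟩ := Module.End.exists_eigenvalue ((LinearMap.mulLeft (ResField M) x).restrict hmap)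
  obtain ⟨⟨v, hvW⟩, hv⟩ := hc.exists_hasEigenvector
  have hxv : x * v = c • v := congrArg Subtype.val hv.apply_eq_smul
  have hv0 : v ≠ 0 := fun h => hv.2 (Subtype.ext h)
  have hiv : i * v = v := by
    obtain ⟨y, rfl⟩ := hvW
    simp only [LinearMap.mulLeft_apply, ← mul_assoc, hi.2.1]
  refine ⟨c, (hi.dichotomy (hx.sub (hi.1.smul c)) ?_ ?_).resolve_right ?_⟩
  · rw [mul_sub, hix, mul_smul_comm, hi.2.1]
  · rw [sub_mul, hxi, smul_mul_assoc, hi.2.1]
  · rintro ⟨y, -, -, -, -, hyx⟩
    have := congrArg (· * v) hyx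
    simp only [mul_assoc, sub_mul, smul_mul_assoc, hiv, hxv, sub_self, mul_zero] at this
    exact hv0 this.symm

open scoped Classical in
/-- The residue of a corner element, `0` outside the fixed points. -/
noncomputable def residueAt (S : Subgroup G) (i x : MonoidAlgebra (ResField M) G) : ResField M :=
  if h : ∃ c : ResField M, IsNilpotent (i * x * i - c • i) then h.choose else 0

theorem IsPrimIn.residueAt_spec {i : MonoidAlgebra (ResField M) G} (hi : IsPrimIn S i)
    {x : MonoidAlgebra (ResField M) G} (hx : IsFixedBy S x) :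
    IsNilpotent (i * x * i - residueAt S i x • i) := by
  have h : ∃ c : ResField M, IsNilpotent (i * x * i - c • i) :=
    hi.exists_scalar ((hi.1.mul hx).mul hi.1) (by rw [← mul_assoc, ← mul_assoc, hi.2.1])
      (by rw [mul_assoc, hi.2.1])
  rw [residueAt, dif_pos h]
  exact h.choose_spec

theorem IsPrimIn.commute_self {i : MonoidAlgebra (ResField M) G} (hi : IsPrimIn S i)
    (x : MonoidAlgebra (ResField M) G) : Commute (i * x * i) i := by
  show i * x * i * i = i * (i * x * i)
  rw [mul_assoc, hi.2.1, ← mul_assoc, ← mul_assoc, hi.2.1]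

theorem IsPrimIn.residueAt_unique {i : MonoidAlgebra (ResField M) G} (hi : IsPrimIn S i)
    {x : MonoidAlgebra (ResField M) G} (hx : IsFixedBy S x) {c : ResField M}
    (hc : IsNilpotent (i * x * i - c • i)) : residueAt S i x = c := by
  by_contra hne
  have h := hi.residueAt_spec hx
  have hcomm : Commute (i * x * i - c • i) (i * x * i - residueAt S i x • i) :=
    (((Commute.refl _).sub_right ((hi.commute_self x).smul_right _))).sub_left
      (((hi.commute_self x).symm.smul_left c).sub_right
        (((Commute.refl i).smul_left c).smul_right _))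
  obtain ⟨n, hn⟩ := hcomm.isNilpotent_sub hc h
  have e : i * x * i - c • i - (i * x * i - residueAt S i x • i) = (residueAt S i x - c) • i := by
    rw [sub_sub_sub_cancel_left, sub_smul]
  rw [e] at hn
  rcases Nat.eq_zero_or_pos n with rfl | hn0
  · rw [pow_zero] at hn
    exact hi.2.2.1 (by rw [← mul_one i, hn, mul_zero])
  obtain ⟨k, rfl⟩ : ∃ k, n = k + 1 := ⟨n - 1, by omega⟩
  rw [_root_.smul_pow, IsIdempotentElem.pow_succ_eq k (show IsIdempotentElem i from hi.2.1)] at hn
  rcases smul_eq_zero.1 hn with h' | h'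
  · exact hne (sub_eq_zero.1 (eq_zero_of_pow_eq_zero h'))
  · exact hi.2.2.1 h'

theorem IsPrimIn.residueAt_add {i : MonoidAlgebra (ResField M) G} (hi : IsPrimIn S i)
    {x y : MonoidAlgebra (ResField M) G} (hx : IsFixedBy S x) (hy : IsFixedBy S y) :
    residueAt S i (x + y) = residueAt S i x + residueAt S i y := by
  refine hi.residueAt_unique (hx.add hy) ?_
  obtain ⟨n1, h1⟩ : ∃ n, n = i * x * i - residueAt S i x • i := ⟨_, rfl⟩
  have hn1 : IsNilpotent n1 := h1 ▸ hi.residueAt_spec hx
  obtain ⟨n2, h2⟩ : ∃ n, n = i * y * i - residueAt S i y • i := ⟨_, rfl⟩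
  have hn2 : IsNilpotent n2 := h2 ▸ hi.residueAt_spec hy
  have e : i * (x + y) * i - (residueAt S i x + residueAt S i y) • i = n1 + n2 := by
    rw [h1, h2, mul_add, add_mul, add_smul]; abel
  rw [e]
  by_contra hne
  have hf1 : IsFixedBy S n1 := h1 ▸ ((hi.1.mul hx).mul hi.1).sub (hi.1.smul _)
  have hf2 : IsFixedBy S n2 := h2 ▸ ((hi.1.mul hy).mul hi.1).sub (hi.1.smul _)
  have hl : ∀ z : MonoidAlgebra (ResField M) G, ∀ c : ResField M,
      i * (i * z * i - c • i) = i * z * i - c • i ∧ (i * z * i - c • i) * i = i * z * i - c • i := by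
    intro z c
    refine ⟨?_, ?_⟩
    · rw [mul_sub, mul_smul_comm, hi.2.1, ← mul_assoc, ← mul_assoc, hi.2.1]
    · rw [sub_mul, smul_mul_assoc, hi.2.1, mul_assoc, hi.2.1]
  have hi1 := hl x (residueAt S i x)
  have hi2 := hl y (residueAt S i y)
  rw [← h1] at hi1
  rw [← h2] at hi2
  rcases hi.dichotomy (hf1.add hf2) (by rw [mul_add, hi1.1, hi2.1])
    (by rw [add_mul, hi1.2, hi2.2]) with h | ⟨v, hvf, hiv, hvi, -, hvn⟩
  · exact hne h
  -- a nilpotent element of the corner has no left inverse there
  have key : ∀ z u : MonoidAlgebra (ResField M) G, IsNilpotent z → i * z = z → u * z = i → False := by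
    intro z u ⟨k, hk⟩ hzi hu
    have hpow : ∀ j, u ^ (j + 1) * z ^ (j + 1) = i := by
      intro j
      induction j with
      | zero => rw [zero_add, pow_one, pow_one, hu]
      | succ j ih =>
        have hiz : i * z ^ (j + 1) = z ^ (j + 1) := by rw [pow_succ', ← mul_assoc, hzi]
        rw [pow_succ u (j + 1), pow_succ' z (j + 1), mul_assoc, ← mul_assoc u z, hu, hiz, ih]
    apply hi.2.2.1
    rw [← hpow k, pow_succ z k, hk, zero_mul, mul_zero]
  obtain ⟨N, hN⟩ : ∃ N, N = v * n1 := ⟨_, rfl⟩
  have hiN : i * N = N := by rw [hN, ← mul_assoc, hiv]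
  have hNi : N * i = N := by rw [hN, mul_assoc, hi1.2]
  rcases hi.dichotomy (hN ▸ hvf.mul hf1) hiN hNi with ⟨k, hk⟩ | ⟨y', -, -, -, -, hy'⟩
  · have hvn2 : v * n2 = i - N := by
      rw [hN, eq_sub_iff_add_eq, ← mul_add, add_comm, hvn]
    refine key n2 (i * (∑ j ∈ Finset.range k, N ^ j) * v) hn2 hi2.1 ?_
    rw [mul_assoc, hvn2, show i - N = (1 - N) * i by rw [sub_mul, one_mul, hNi], mul_assoc i,
      ← mul_assoc _ (1 - N), geom_sum_mul_neg, hk, sub_zero, one_mul, hi.2.1]
  · exact key n1 (y' * v) hn1 hi1.1 (by rw [mul_assoc, ← hN, hy'])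

theorem IsPrimIn.residueAt_eq_zero {i : MonoidAlgebra (ResField M) G} (hi : IsPrimIn S i)
    {x : MonoidAlgebra (ResField M) G} (hx : IsFixedBy S x) (h : IsNilpotent (i * x * i)) :
    residueAt S i x = 0 :=
  hi.residueAt_unique hx (by rwa [zero_smul, sub_zero])

theorem IsPrimIn.residueAt_zero {i : MonoidAlgebra (ResField M) G} (hi : IsPrimIn S i) :
    residueAt S i (0 : MonoidAlgebra (ResField M) G) = 0 :=
  hi.residueAt_eq_zero IsFixedBy.zero (by rw [mul_zero, zero_mul]; exact IsNilpotent.zero)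

theorem IsPrimIn.residueAt_self {i : MonoidAlgebra (ResField M) G} (hi : IsPrimIn S i) :
    residueAt S i i = 1 :=
  hi.residueAt_unique hi.1 (by rw [hi.2.1, hi.2.1, one_smul, sub_self]; exact IsNilpotent.zero)

theorem IsPrimIn.residueAt_sum {i : MonoidAlgebra (ResField M) G} (hi : IsPrimIn S i) {ι : Type*}
    (s : Finset ι) {F : ι → MonoidAlgebra (ResField M) G} (hF : ∀ k ∈ s, IsFixedBy S (F k)) :
    residueAt S i (∑ k ∈ s, F k) = ∑ k ∈ s, residueAt S i (F k) := by
  classical
  induction s using Finset.induction_on with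
  | empty => simpa using hi.residueAt_zero
  | insert a t ha ih =>
    rw [Finset.sum_insert ha, Finset.sum_insert ha, hi.residueAt_add (hF a (by simp))
      (IsFixedBy.sum t fun k hk => hF k (Finset.mem_insert_of_mem hk)),
      ih fun k hk => hF k (Finset.mem_insert_of_mem hk)]

theorem isNilpotent_mul_swap {A : Type*} [Ring A] {a b : A} (h : IsNilpotent (a * b)) :
    IsNilpotent (b * a) := by
  obtain ⟨n, hn⟩ := h
  refine ⟨n + 1, ?_⟩
  have : ∀ k, (b * a) ^ (k + 1) = b * (a * b) ^ k * a := by
    intro k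
    induction k with
    | zero => simp
    | succ k ih => rw [pow_succ, ih, pow_succ (a * b) k]; simp only [mul_assoc]
  rw [this, hn, mul_zero, zero_mul]

/-- Two primitive idempotents linked by a non-nilpotent product are equivalent. -/
theorem IsPrimIn.exists_equiv {i l : MonoidAlgebra (ResField M) G} (hi : IsPrimIn S i)
    (hl : IsPrimIn S l) {a b : MonoidAlgebra (ResField M) G} (ha : IsFixedBy S a)
    (hb : IsFixedBy S b) (hia : i * a = a) (hal : a * l = a) (hlb : l * b = b) (hbi : b * i = b)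
    (h : ¬ IsNilpotent (a * b)) :
    ∃ u v, IsFixedBy S u ∧ IsFixedBy S v ∧ u * v = i ∧ v * u = l := by
  obtain ⟨y, hyf, hiy, hyi, hy1, hy2⟩ := (hi.dichotomy (ha.mul hb) (by rw [← mul_assoc, hia])
    (by rw [mul_assoc, hbi])).resolve_left h
  refine ⟨a, b * y, ha, hb.mul hyf, by rw [← mul_assoc, hy1], ?_⟩
  have hid : b * y * a * (b * y * a) = b * y * a := by
    rw [show b * y * a * (b * y * a) = b * (y * (a * b)) * (y * a) by simp only [mul_assoc], hy2,
      hbi, mul_assoc b y a]
  refine (hl.2.2.2 (b * y * a) ((hb.mul hyf).mul ha) hid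
    (by rw [← mul_assoc, ← mul_assoc, hlb]) (by rw [mul_assoc, hal])).resolve_left fun h0 => ?_
  apply hi.2.2.1
  calc i = a * b * y := hy1.symm
    _ = a * b * y * (a * b * y) := by rw [hy1, hi.2.1]
    _ = a * (b * y * a) * (b * y) := by simp only [mul_assoc]
    _ = 0 := by rw [h0, mul_zero, zero_mul]

/-- The residues of `a * b` and `b * a` agree. -/
theorem IsPrimIn.residueAt_mul_comm {i l : MonoidAlgebra (ResField M) G} (hi : IsPrimIn S i)
    (hl : IsPrimIn S l) {a b : MonoidAlgebra (ResField M) G} (ha : IsFixedBy S a)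
    (hb : IsFixedBy S b) (hia : i * a = a) (hal : a * l = a) (hlb : l * b = b) (hbi : b * i = b) :
    residueAt S i (a * b) = residueAt S l (b * a) := by
  have e1 : i * (a * b) * i = a * b := by rw [← mul_assoc, hia, mul_assoc, hbi]
  have e2 : l * (b * a) * l = b * a := by rw [← mul_assoc, hlb, mul_assoc, hal]
  by_cases hnil : IsNilpotent (a * b)
  · rw [hi.residueAt_eq_zero (ha.mul hb) (by rwa [e1]),
      hl.residueAt_eq_zero (hb.mul ha) (by rw [e2]; exact isNilpotent_mul_swap hnil)]
  have h1 := hi.residueAt_spec (ha.mul hb)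
  rw [e1] at h1
  symm
  refine hl.residueAt_unique (hb.mul ha) ?_
  rw [e2]
  set c := residueAt S i (a * b)
  by_contra hq
  obtain ⟨q', -, -, -, hqq, -⟩ := (hl.dichotomy ((hb.mul ha).sub (hl.1.smul c))
    (by rw [mul_sub, ← mul_assoc, hlb, mul_smul_comm, hl.2.1])
    (by rw [sub_mul, mul_assoc, hal, smul_mul_assoc, hl.2.1])).resolve_left hq
  have hswap : a * (b * a - c • l) = (a * b - c • i) * a := by
    rw [mul_sub, sub_mul, mul_smul_comm, hal, smul_mul_assoc, hia, mul_assoc]
  have hrec : a = (a * b - c • i) * (a * q') := by rw [← mul_assoc, ← hswap, mul_assoc, hqq, hal]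
  obtain ⟨n, hn⟩ := h1
  have hz : ∀ k, a = (a * b - c • i) ^ k * (a * q' ^ k) := by
    intro k
    induction k with
    | zero => simp
    | succ k ih =>
      calc a = (a * b - c • i) ^ k * (a * q' ^ k) := ih
        _ = (a * b - c • i) ^ k * ((a * b - c • i) * (a * q') * q' ^ k) := by rw [← hrec]
        _ = (a * b - c • i) ^ (k + 1) * (a * q' ^ (k + 1)) := by
          rw [pow_succ, pow_succ']; simp only [mul_assoc]
  exact hnil ⟨1, by rw [pow_one, hz n, hn, zero_mul, zero_mul]⟩

theorem exists_proper_of_not_prim {a : MonoidAlgebra (ResField M) G} (ha : IsFixedBy S a)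
    (haa : a * a = a) (ha0 : a ≠ 0) (h : ¬ IsPrimIn S a) :
    ∃ e, IsFixedBy S e ∧ e * e = e ∧ a * e = e ∧ e * a = e ∧ e ≠ 0 ∧ e ≠ a := by
  by_contra hcon
  refine h ⟨ha, haa, ha0, fun e h1 h2 h3 h4 => ?_⟩
  by_contra h5
  rw [not_or] at h5
  exact hcon ⟨e, h1, h2, h3, h4, h5.1, h5.2⟩

/-- Induction over the fixed idempotents through primitive ones. -/
theorem idem_induction {C : MonoidAlgebra (ResField M) G → Prop} (h0 : C 0)
    (hp : ∀ i, IsPrimIn S i → C i)
    (hadd : ∀ a b, IsFixedBy S a → IsFixedBy S b → a * a = a → b * b = b → a * b = 0 → b * a = 0 →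
      C a → C b → C (a + b)) :
    ∀ a, IsFixedBy S a → a * a = a → C a := by
  intro a
  induction hn : Module.finrank (ResField M) (LinearMap.range (LinearMap.mulLeft (ResField M) a))
    using Nat.strong_induction_on generalizing a with
  | _ n ih =>
    intro ha haa
    by_cases ha0 : a = 0
    · exact ha0 ▸ h0
    by_cases hprim : IsPrimIn S a
    · exact hp a hprim
    obtain ⟨e, hef, hee, hae, hea, he0, hne⟩ := exists_proper_of_not_prim ha haa ha0 hprim
    have hlt : ∀ f, f * f = f → a * f = f → f * a = f → f ≠ a →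
        Module.finrank (ResField M) (LinearMap.range (LinearMap.mulLeft (ResField M) f)) < n := by
      intro f hff haf hfa hfne
      rw [← hn]
      refine Submodule.finrank_lt_finrank_of_lt (lt_of_le_of_ne ?_ fun heq => hfne ?_)
      · rintro - ⟨y, rfl⟩
        exact ⟨f * y, by simp only [LinearMap.mulLeft_apply, ← mul_assoc, haf]⟩
      · obtain ⟨z, hz⟩ := heq.ge (show a * 1 ∈ _ from ⟨1, rfl⟩)
        rw [mul_one, LinearMap.mulLeft_apply] at hz
        rw [← hfa, ← hz, ← mul_assoc, hff]
    have hfa : a * (a - e) = a - e := by rw [mul_sub, haa, hae]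
    have hfa' : (a - e) * a = a - e := by rw [sub_mul, haa, hea]
    have hff : (a - e) * (a - e) = a - e := by
      rw [sub_mul, mul_sub, mul_sub, haa, hae, hea, hee, sub_self, sub_zero]
    rw [show a = e + (a - e) by abel]
    exact hadd e (a - e) hef (ha.sub hef) hee hff (by rw [mul_sub, hea, hee, sub_self])
      (by rw [sub_mul, hae, hee, sub_self]) (ih _ (hlt e hee hae hea hne) e rfl hef hee)
      (ih _ (hlt (a - e) hff hfa hfa' (fun h => he0 (by simpa using h))) (a - e) rfl (ha.sub hef) hff)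

/-- Every fixed idempotent is a sum of orthogonal primitive idempotents. -/
theorem exists_decomp {a : MonoidAlgebra (ResField M) G} (ha : IsFixedBy S a) (haa : a * a = a) :
    ∃ (n : ℕ) (f : Fin n → MonoidAlgebra (ResField M) G), (∀ k, IsPrimIn S (f k)) ∧
      (∀ j k, j ≠ k → f j * f k = 0) ∧ ∑ k, f k = a := by
  refine idem_induction (C := fun a => ∃ (n : ℕ) (f : Fin n → MonoidAlgebra (ResField M) G),
    (∀ k, IsPrimIn S (f k)) ∧ (∀ j k, j ≠ k → f j * f k = 0) ∧ ∑ k, f k = a)
    ⟨0, Fin.elim0, fun k => k.elim0, fun j => j.elim0, by simp⟩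
    (fun i hi => ⟨1, fun _ => i, fun _ => hi, fun j k h => absurd (Subsingleton.elim j k) h,
      by simp⟩) ?_ a ha haa
  intro a b _ _ _ _ hab hba ⟨m, f, hf, hfo, hfs⟩ ⟨n, g, hg, hgo, hgs⟩
  have hfa : ∀ k, f k * a = f k ∧ a * f k = f k := by
    intro k
    rw [← hfs]
    constructor
    · rw [Finset.mul_sum, Finset.sum_eq_single k (fun l _ h => hfo k l h.symm) (by simp), (hf k).2.1]
    · rw [Finset.sum_mul, Finset.sum_eq_single k (fun l _ h => hfo l k h) (by simp), (hf k).2.1]
  have hgb : ∀ k, g k * b = g k ∧ b * g k = g k := by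
    intro k
    rw [← hgs]
    constructor
    · rw [Finset.mul_sum, Finset.sum_eq_single k (fun l _ h => hgo k l h.symm) (by simp), (hg k).2.1]
    · rw [Finset.sum_mul, Finset.sum_eq_single k (fun l _ h => hgo l k h) (by simp), (hg k).2.1]
  refine ⟨m + n, Fin.append f g, fun k => ?_, fun j k hjk => ?_, ?_⟩
  · induction k using Fin.addCases with
    | left k => rw [Fin.append_left]; exact hf k
    | right k => rw [Fin.append_right]; exact hg k
  · induction j using Fin.addCases with
    | left j =>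
      induction k using Fin.addCases with
      | left k => simp only [Fin.append_left]; exact hfo j k fun h => hjk (by rw [h])
      | right k =>
        rw [Fin.append_left, Fin.append_right, ← (hfa j).1, ← (hgb k).2, mul_assoc,
          ← mul_assoc a, hab, zero_mul, mul_zero]
    | right j =>
      induction k using Fin.addCases with
      | left k =>
        rw [Fin.append_left, Fin.append_right, ← (hgb j).1, ← (hfa k).2, mul_assoc,
          ← mul_assoc b, hba, zero_mul, mul_zero]
      | right k => simp only [Fin.append_right]; exact hgo j k fun h => hjk (by rw [h])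
  · rw [Fin.sum_univ_add]
    simp only [Fin.append_left, Fin.append_right]
    rw [hfs, hgs]

variable {p : ℕ} [Fact p.Prime]

/-- **Rosenberg's lemma**: a primitive fixed idempotent with zero Brauer image is a relative
trace from a subgroup of index `p`. -/
theorem IsPrimIn.exists_trOver (hS : IsPGroup p S) {i : MonoidAlgebra (ResField M) G}
    (hi : IsPrimIn S i) (h0 : cut (Subgroup.centralizer (S : Set G) : Set G) i = 0) :
    ∃ (T : Subgroup G) (a : MonoidAlgebra (ResField M) G), T < S ∧
      S ≤ Subgroup.normalizer (T : Set G) ∧ Nat.card S = p * Nat.card T ∧ IsFixedBy T a ∧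
      i = trOver S T a := by
  classical
  obtain ⟨Ts, c, hc, hsum⟩ := exists_trOver_of_cut_eq_zero hS hi.1 h0
  have hdec : i = ∑ T ∈ Ts, trOver S T (i * c T * i) := by
    calc i = i * i * i := by rw [hi.2.1, hi.2.1]
      _ = i * (∑ T ∈ Ts, trOver S T (c T)) * i := by rw [← hsum]
      _ = ∑ T ∈ Ts, trOver S T (i * c T * i) := by
        rw [Finset.mul_sum, Finset.sum_mul]
        exact Finset.sum_congr rfl fun T _ => by rw [trOver_mul_left hi.1, trOver_mul_right hi.1]
  have hcf : ∀ T ∈ Ts, IsFixedBy T (i * c T * i) := fun T hT =>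
    ((hi.1.mono (hc T hT).1.le).mul (hc T hT).2.2.2).mul (hi.1.mono (hc T hT).1.le)
  by_contra hcon
  have hzero : residueAt S i i = 0 := by
    conv_lhs => arg 3; rw [hdec]
    rw [hi.residueAt_sum Ts fun T hT => isFixedBy_trOver (hcf T hT)]
    refine Finset.sum_eq_zero fun T hT => hi.residueAt_eq_zero (isFixedBy_trOver (hcf T hT)) ?_
    have e : i * trOver S T (i * c T * i) * i = trOver S T (i * c T * i) := by
      rw [trOver_mul_left hi.1, trOver_mul_right hi.1]
      congr 1
      simp only [← mul_assoc, hi.2.1]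
      rw [mul_assoc, hi.2.1]
    rw [e]
    refine (hi.dichotomy (isFixedBy_trOver (hcf T hT))
      (by rw [trOver_mul_left hi.1, ← mul_assoc, ← mul_assoc, hi.2.1])
      (by rw [trOver_mul_right hi.1, mul_assoc, hi.2.1])).resolve_right ?_
    rintro ⟨y, hy, -, -, h1, -⟩
    exact hcon ⟨T, i * c T * i * y, (hc T hT).1, (hc T hT).2.1, (hc T hT).2.2.1,
      (hcf T hT).mul (hy.mono (hc T hT).1.le), by rw [← trOver_mul_right hy, h1]⟩
  rw [hi.residueAt_self] at hzero
  exact one_ne_zero hzero

end CfsgLib.Blocks
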