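import Cfsg.Agent.Lib.Blocks.ThirdMain
import Cfsg.Agent.Lib.Blocks.PrincipalBlock
import Mathlib.GroupTheory.Transfer

/-!
# The sum of the idempotent of the principal block over a normal subgroup is a local unit
-/

set_option linter.unusedSectionVars false
set_option linter.style.haveILetI false

namespace CfsgLib.Blocks

open Cfsg Chars

variable {G : Type*} [Group G] [Fintype G] {M : Ideal AlgInt} [M.IsPrime] {p : ℕ} [Fact p.Prime]

/-- At the centralizer of a `p`-subgroup, the truncation of the principal idempotent is the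
principal idempotent, modulo the local ideal. -/
theorem blockCoeff_principal_centralizer (hpM : (p : AlgInt) ∈ M) {Q : Subgroup G}
    (hQ : IsPGroup p Q) [Fintype (Subgroup.centralizer (Q : Set G))]
    : ∀ x : Subgroup.centralizer (Q : Set G),
    MemLocalIdeal M (blockCoeff (principalBlock M G) (x : G) -
      blockCoeff (principalBlock M (Subgroup.centralizer (Q : Set G))) x) := by
  classical
  haveI := charP_resField (M := M) (Fact.out (p := p.Prime)) hpM
  set C := Subgroup.centralizer (Q : Set G) with hC
  haveI := Fintype.ofFinite (ConjClasses C)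
  set B := principalBlock M G
  have hB : IsPBlock M B := isPBlock_principalBlock M
  set e := blockCoeff (principalBlock M C)
  have he : IsLocClassFun M e := isLocClassFun_blockCoeff (isPBlock_principalBlock M)
  set a : C → ℂ := resFun C (blockCoeff B) with ha_def
  have ha : IsLocClassFun M a := isLocClassFun_resFun _ (isLocClassFun_blockCoeff hB)
  -- `red a` is idempotent
  set A := redFun a ha.2 with hA
  have hAA : A * A = A := by
    apply MonoidAlgebra.ext
    ext c
    have h1 := congrArg (fun f : MonoidAlgebra (ResField M) G => f.coeff (c : G))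
      ((cut_mul p hQ (isFixedBy_blockIdem hB Q) (isFixedBy_blockIdem hB Q)).symm.trans
        (congrArg (cut (C : Set G)) (blockIdem_mul_self hB)))
    have hcoef : ∀ y : C, (cut (C : Set G) (blockIdem hB)).coeff (y : G) = A.coeff y := fun y => by
      rw [coeff_cut_of_mem _ (show (y : G) ∈ (C : Set G) from y.2), hA, blockIdem, coeff_redFun,
        coeff_redFun]
      rfl
    rw [hcoef] at h1
    rw [← h1, coeff_mul_eq_sum, coeff_mul_eq_sum,
      ← Finset.sum_filter_add_sum_filter_not Finset.univ (fun y => y ∈ C)
        (fun y => (cut (C : Set G) (blockIdem hB)).coeff y *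
          (cut (C : Set G) (blockIdem hB)).coeff (y⁻¹ * (c : G))),
      Finset.sum_eq_zero (s := Finset.univ.filter fun y => ¬ y ∈ C) (fun y hy => by
        rw [coeff_cut_of_notMem _ (show y ∉ (C : Set G) from (Finset.mem_filter.1 hy).2), zero_mul]),
      add_zero,
      Finset.sum_subtype (p := fun y => y ∈ C) (Finset.univ.filter fun y => y ∈ C) (by simp)
        (fun y => (cut (C : Set G) (blockIdem hB)).coeff y *
          (cut (C : Set G) (blockIdem hB)).coeff (y⁻¹ * (c : G)))]
    refine Finset.sum_congr rfl fun y _ => ?_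
    rw [hcoef, show ((y : G)⁻¹ * (c : G)) = ((y⁻¹ * c : C) : G) from rfl, hcoef]
  -- the central characters of `a`
  have hω : ∀ ξ : IrrCharacter C, MemLocalIdeal M
      (omega (ξ : C → ℂ) a - omega (ξ : C → ℂ) e) := by
    intro ξ
    rw [omega_blockCoeff]
    have hint : omega (ξ : C → ℂ) a ∈ loc M := omega_mem_loc ξ ha
    have hsq : MemLocalIdeal M (omega (ξ : C → ℂ) a * (omega (ξ : C → ℂ) a - 1)) := by
      have hcv := IsLocClassFun.conv ha ha
      have hred : ∀ y, red ⟨conv a a y, hcv.2 y⟩ = red ⟨a y, ha.2 y⟩ := fun y => by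
        have h1 := congrArg (fun f : MonoidAlgebra (ResField M) C => f.coeff y) hAA
        rw [hA, redFun, ← map_mul, toAlg_conv ha.2 ha.2 hcv.2] at h1
        rw [← redFun, ← redFun, coeff_redFun, coeff_redFun] at h1
        exact h1
      have hd : ∀ y, MemLocalIdeal M (conv a a y - a y) := fun y => by
        have h1 := hred y
        rw [← sub_eq_zero, ← map_sub, red_eq_zero_iff] at h1
        simpa using h1
      rw [mul_sub, mul_one, ← omega_conv ξ ha.1, omega_eq_sum_centralChar ξ hcv.1,
        omega_eq_sum_centralChar ξ ha.1, ← Finset.sum_sub_distrib]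
      refine MemLocalIdeal.sum' fun K _ => ?_
      rw [← sub_mul]
      exact MemLocalIdeal.mul_right' (hd _) (centralChar_mem_loc ξ _)
    have hpair := isBrauerPairOf_principalPair (G := G) hpM hQ
    have hcong : ∀ ζ : IrrCharacter C, SameBlock M (ξ : C → ℂ) (ζ : C → ℂ) →
        MemLocalIdeal M (omega (ξ : C → ℂ) a - omega (ζ : C → ℂ) a) := fun ζ h => omega_sub_mem h ha
    by_cases hξ : ξ ∈ principalBlock M C
    · rw [if_pos hξ]
      have := hpair.2.2 ξ hξ
      rwa [brauerOmega_eq] at this
    · rw [if_neg hξ, sub_zero]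
      refine (MemLocalIdeal.mem_or_mem hint (sub_mem hint (one_mem _)) hsq).resolve_right fun h1 => ?_
      refine hξ ?_
      have h3 := third_main (G := G) hpM (Q := Q) (e := blockOf M (ξ : C → ℂ))
        ⟨⟨hQ, isPBlock_blockOf ξ⟩, hB, fun ζ hζ => by
          rw [brauerOmega_eq]
          have h4 := MemLocalIdeal.sub' h1 (hcong ζ hζ)
          convert h4 using 1
          show omega (ζ : C → ℂ) a - 1 = _
          ring⟩
      exact h3 ▸ mem_blockOf_self ξ
  -- the difference is an idempotent-difference and nilpotent
  have hd : IsLocClassFun M (a + (-1 : ℂ) • e) :=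
    ha.add (he.smul (neg_mem (one_mem _)))
  have hnil := isNilpotent_redFun hd fun ξ => by
    rw [omega_add, omega_smul]
    simpa [sub_eq_add_neg] using hω ξ
  set E := redFun e he.2
  have hEE : E * E = E := blockIdem_mul_self (isPBlock_principalBlock (G := C) M)
  have hdiff : redFun (a + (-1 : ℂ) • e) hd.2 = A - E := by
    apply MonoidAlgebra.ext
    ext y
    rw [MonoidAlgebra.coeff_sub, Finsupp.sub_apply, coeff_redFun, coeff_redFun, coeff_redFun,
      ← map_sub]
    congr 1
    exact Subtype.ext (by simp [sub_eq_add_neg])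
  rw [hdiff] at hnil
  have hcomm : Commute A E := commute_blockIdem (isPBlock_principalBlock (G := C) M) A |>.symm
  have hcube : (A - E) * (A - E) * (A - E) = A - E := by
    have h1 : E * A = A * E := hcomm.symm.eq
    have hAEA : A * E * A = A * E := by rw [mul_assoc, h1, ← mul_assoc, hAA]
    have hAEE : A * E * E = A * E := by rw [mul_assoc, hEE]
    simp only [sub_mul, mul_sub, hAA, hEE, h1, hAEA, hAEE]
    abel
  have hzero : A - E = 0 := by
    obtain ⟨n, hn⟩ := hnil
    have hpow : ∀ j : ℕ, (A - E) ^ (2 * j + 1) = A - E := by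
      intro j
      induction j with
      | zero => simp
      | succ j ih => rw [show 2 * (j + 1) + 1 = 2 * j + 1 + 2 by ring, pow_add, ih, pow_two,
          ← mul_assoc, hcube]
    rw [← hpow n, show 2 * n + 1 = n + (n + 1) by ring, pow_add, hn, zero_mul]
  intro x
  have h1 := congrArg (fun f : MonoidAlgebra (ResField M) C => f.coeff x) hzero
  simp only [MonoidAlgebra.coeff_sub, Finsupp.sub_apply, MonoidAlgebra.coeff_zero,
    Finsupp.coe_zero, Pi.zero_apply] at h1
  rw [hA, coeff_redFun, coeff_redFun, ← map_sub, red_eq_zero_iff] at h1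
  simpa [ha_def, resFun] using h1

/-- The sum of the principal idempotent over a normal subgroup is not in the local ideal. -/
theorem sum_blockCoeff_principal_not_mem (hpM : (p : AlgInt) ∈ M) (N : Subgroup G) [N.Normal]
    [Fintype N] : ¬ MemLocalIdeal M (∑ n : N, blockCoeff (principalBlock M G) (n : G)) := by
  classical
  obtain ⟨P⟩ : Nonempty (Sylow p G) := inferInstance
  set C := Subgroup.centralizer ((P : Subgroup G) : Set G) with hC
  haveI := Fintype.ofFinite C
  set B := principalBlock M G
  have hB : IsLocClassFun M (blockCoeff B) := isLocClassFun_blockCoeff (isPBlock_principalBlock M)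
  -- a normal complement in `C`
  set S₀ := (P : Subgroup G).subgroupOf C with hS₀
  have hS₀c : ∀ s ∈ S₀, ∀ c : C, c * s = s * c := fun s hs c => Subtype.ext
    (Subgroup.mem_centralizer_iff.1 c.2 _ (Subgroup.mem_subgroupOf.1 hs)).symm
  have hS₀p : IsPGroup p S₀ := P.2.comap_of_injective C.subtype C.subtype_injective
  obtain ⟨S, hS⟩ := hS₀p.exists_le_sylow
  have hSle : (S : Subgroup C) ≤ S₀ := by
    intro s hs
    rw [hS₀, Subgroup.mem_subgroupOf]
    -- `P` is normalised by `s`, so contains it
    have hp' : IsPGroup p ((P : Subgroup G) ⊔ (S : Subgroup C).map C.subtype : Subgroup G) := by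
      refine IsPGroup.to_sup_of_normal_left' P.2 (S.2.map _) fun x hx => ?_
      obtain ⟨c, -, rfl⟩ := hx
      exact Subgroup.centralizer_le_normalizer _ c.2
    exact (P.3 hp' le_sup_left).le (Subgroup.mem_sup_right ⟨s, hs, rfl⟩)
  have hcentral : Subgroup.normalizer ((S : Subgroup C) : Set C) ≤
      Subgroup.centralizer ((S : Subgroup C) : Set C) := fun c _ =>
    Subgroup.mem_centralizer_iff.2 fun s hs => (hS₀c s (hSle hs) c).symm
  set O := (MonoidHom.transferSylow S hcentral).ker with hO
  have hcompl := MonoidHom.ker_transferSylow_isComplement' S hcentral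
  have hOp : ¬ p ∣ Nat.card O := by
    have := hcompl.index_eq_card.symm
    intro hd
    refine S.not_dvd_index ?_
    rwa [hcompl.index_eq_card]
  obtain ⟨k, hk⟩ : ∃ k, O.index = p ^ k := by
    rw [hcompl.symm.index_eq_card]
    exact IsPGroup.iff_card.1 S.2
  -- reduce to the centralizer
  set β : G → ℂ := fun g => if g ∈ N then blockCoeff B g else 0 with hβ
  have hβl : ∀ g, β g ∈ loc M := fun g => by
    simp only [hβ]; split_ifs
    · exact hB.2 g
    · exact zero_mem _
  have hsum := sum_centralizer_congr hpM P.2 hβl fun u _ g => by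
    simp only [hβ, hB.1 g u]
    congr 1
    exact propext ⟨fun h => by simpa [mul_assoc] using Subgroup.Normal.conj_mem ‹N.Normal› _ h u⁻¹,
      fun h => Subgroup.Normal.conj_mem ‹N.Normal› _ h u⟩
  intro hbad
  have e1 : ∑ g, β g = ∑ n : N, blockCoeff B (n : G) := by
    simp only [hβ]
    rw [← Finset.sum_filter]
    exact Finset.sum_subtype (p := fun g => g ∈ N) _ (by simp) fun g => blockCoeff B g
  rw [e1] at hsum
  have h2 := MemLocalIdeal.add' hsum hbad
  rw [sub_add_cancel] at h2
  -- the idempotent on the centralizer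
  have hav : blockCoeff (principalBlock M C) = avgInd O := by
    refine (eq_blockCoeff (isClassFunction_avgInd O) fun χ => ?_).symm
    split_ifs with h
    · exact (omega_avgInd_eq_one_iff O χ).2 ((mem_principalBlock_iff_of_pow_index hpM hOp hk χ).1 h)
    · exact (omega_avgInd_eq_zero_or_one O χ).resolve_right fun h1 =>
        h ((mem_principalBlock_iff_of_pow_index hpM hOp hk χ).2 ((omega_avgInd_eq_one_iff O χ).1 h1))
  have h3 : MemLocalIdeal M (∑ x : C, (if (x : G) ∈ N then avgInd O x else 0)) := by
    have h4 : MemLocalIdeal M (∑ x : C, ((if (x : G) ∈ N then avgInd O x else 0) - β x)) := by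
      refine MemLocalIdeal.sum' fun x _ => ?_
      simp only [hβ]
      split_ifs
      · rw [← neg_sub, ← hav]
        exact MemLocalIdeal.neg' (blockCoeff_principal_centralizer hpM P.2 x)
      · rw [sub_self]; exact MemLocalIdeal.zero'
    have h5 := MemLocalIdeal.add' h4 h2
    rwa [Finset.sum_sub_distrib, sub_add_cancel] at h5
  have h6 : ∑ x : C, (if (x : G) ∈ N then avgInd O x else 0) =
      (Nat.card (O ⊓ N.subgroupOf C : Subgroup C) : ℂ) * (Nat.card O : ℂ)⁻¹ := by
    rw [Nat.card_eq_fintype_card, Fintype.card_subtype]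
    simp only [avgInd_apply, ← ite_and]
    rw [Finset.card_filter, Nat.cast_sum, Finset.sum_mul]
    refine Finset.sum_congr rfl fun x _ => ?_
    by_cases hx : x ∈ O <;> by_cases hx' : (x : G) ∈ N <;>
      simp [Subgroup.mem_inf, Subgroup.mem_subgroupOf, hx, hx']
  rw [h6] at h3
  have hO0 : (Nat.card O : ℂ) ≠ 0 := Nat.cast_ne_zero.2 Nat.card_pos.ne'
  have h7 := MemLocalIdeal.mul_right' h3 (natCast_mem_loc (M := M) (Nat.card O))
  rw [mul_assoc, inv_mul_cancel₀ hO0, mul_one, memLocalIdeal_natCast_iff Fact.out hpM] at h7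
  exact hOp (h7.trans (Subgroup.card_dvd_of_le inf_le_left))

end CfsgLib.Blocks
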