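import Cfsg.Agent.Lib.Blocks.PrincipalExtension
import Cfsg.Agent.Lib.Blocks.QuotientP
import Cfsg.Agent.Lib.BlockOrth.PPart

/-!
# Extensions lying in the principal block of every intermediate subgroup
-/

set_option linter.unusedSectionVars false
set_option linter.style.haveILetI false

namespace CfsgLib.Blocks

open Cfsg Chars BlockOrth
open scoped ComplexConjugate

namespace PrincExt

universe u

variable {M : Ideal AlgInt} [M.IsPrime] {p : ℕ} [Fact p.Prime]

/-- The `p'`-part is multiplicative on commuting pairs. -/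
theorem pPrimePart_mul_of_commute {E : Type u} [Group E] [Finite E] {a b : E} (h : Commute a b) :
    pPrimePart p (a * b) = pPrimePart p a * pPrimePart p b := by
  obtain ⟨n, hn⟩ := (isPPrimePart_pPrimePart (p := p) a).exists_pow
  obtain ⟨m, hm⟩ := (isPPrimePart_pPrimePart (p := p) b).exists_pow
  obtain ⟨u, hu1, hu2, ⟨i, hi⟩, hu4⟩ := isPPrimePart_pPrimePart (p := p) a
  obtain ⟨v, hv1, hv2, ⟨j, hj⟩, hv4⟩ := isPPrimePart_pPrimePart (p := p) b
  generalize hA : pPrimePart p a = A at hn hu1 hu2 hu4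
  generalize hB : pPrimePart p b = B at hm hv1 hv2 hv4
  have hAb : Commute A b := hn ▸ h.pow_left n
  have haB : Commute a B := hm ▸ h.pow_right m
  have hAB : Commute A B := hm ▸ hAb.pow_right m
  have hvA : Commute v A := by
    rw [← mul_inv_eq_iff_eq_mul.2 hv1.symm]
    exact hAb.symm.mul_left hAB.symm.inv_left
  have huB : Commute u B := by
    rw [← mul_inv_eq_iff_eq_mul.2 hu1.symm]
    exact haB.mul_left hAB.inv_left
  have huv : Commute u v := by
    rw [← mul_inv_eq_iff_eq_mul.2 hu1.symm, ← mul_inv_eq_iff_eq_mul.2 hv1.symm]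
    exact (h.mul_right haB.inv_right).mul_left (hAb.mul_right hAB.inv_right).inv_left
  refine IsPPrimePart.eq_pPrimePart ⟨u * v, ?_, ?_, ?_, ?_⟩
  · rw [← hu1, ← hv1, mul_assoc, mul_assoc, ← mul_assoc v, hvA.eq, mul_assoc]
  · exact (hu2.mul_right huB).mul_left (hvA.mul_right hv2)
  · have hd := huv.orderOf_mul_dvd_mul_orderOf
    rw [hi, hj, ← pow_add] at hd
    obtain ⟨k, -, hk⟩ := (Nat.dvd_prime_pow (Fact.out : p.Prime)).1 hd
    exact ⟨k, hk⟩
  · intro hd
    exact ((Fact.out : p.Prime).dvd_mul.1 (hd.trans hAB.orderOf_mul_dvd_mul_orderOf)).elim hu4 hv4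

/-- The `p'`-part is multiplicative on an elementary group. -/
theorem pPrimePart_mul_of_elementary {q : ℕ} [Fact q.Prime] {E : Type u} [Group E] [Finite E]
    (hE : IsElementary q E) (a b : E) :
    pPrimePart p (a * b) = pPrimePart p a * pPrimePart p b := by
  obtain ⟨x, hx, hcop, k, hk⟩ := hE
  have hc : ∀ z ∈ Subgroup.zpowers x, ∀ e : E, Commute z e := fun z hz e =>
    (Subgroup.mem_center_iff.1 ((Subgroup.zpowers_le.2 hx) hz) e).symm
  obtain ⟨S⟩ : Nonempty (Sylow q E) := inferInstance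
  haveI : (Subgroup.zpowers x).Normal := ⟨fun z hz g => by
    rwa [← (hc z hz g).eq, mul_inv_cancel_right]⟩
  have htop : Subgroup.zpowers x ⊔ (S : Subgroup E) = ⊤ := by
    rw [← Subgroup.index_eq_one]
    have h1 : (Subgroup.zpowers x ⊔ (S : Subgroup E)).index ∣ q ^ k :=
      hk ▸ Subgroup.index_dvd_of_le le_sup_left
    obtain ⟨i, -, hi⟩ := (Nat.dvd_prime_pow (Fact.out : q.Prime)).1 h1
    cases i with
    | zero => simpa using hi
    | succ i =>
      exact absurd (((dvd_pow_self q i.succ_ne_zero).trans (dvd_of_eq hi.symm)).trans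
        (Subgroup.index_dvd_of_le le_sup_right)) S.not_dvd_index
  have hdec : ∀ e : E, ∃ z ∈ Subgroup.zpowers x, ∃ s ∈ (S : Subgroup E), z * s = e := fun e =>
    Subgroup.mem_sup_of_normal_left.1 (htop ▸ Subgroup.mem_top e)
  have hS : ∀ s ∈ (S : Subgroup E), ∀ t ∈ (S : Subgroup E),
      pPrimePart p (s * t) = pPrimePart p s * pPrimePart p t := by
    have hord : ∀ s ∈ (S : Subgroup E), ∃ i, orderOf s = q ^ i := fun s hs => by
      obtain ⟨i, hi⟩ := IsPGroup.iff_orderOf.1 S.2 ⟨s, hs⟩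
      exact ⟨i, by rwa [Subgroup.orderOf_mk] at hi⟩
    by_cases hqp : q = p
    · subst hqp
      have h1 : ∀ s ∈ (S : Subgroup E), pPrimePart q s = 1 := fun s hs =>
        IsPPrimePart.eq_pPrimePart ⟨s, mul_one s, Commute.one_right s, hord s hs,
          by rw [orderOf_one]; exact (Fact.out : q.Prime).not_dvd_one⟩
      intro s hs t ht
      rw [h1 s hs, h1 t ht, h1 _ (mul_mem hs ht), mul_one]
    · have h1 : ∀ s ∈ (S : Subgroup E), pPrimePart p s = s := fun s hs => by
        obtain ⟨i, hi⟩ := hord s hs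
        refine pPrimePart_of_regular fun hd => hqp ?_
        rw [hi] at hd
        exact ((Nat.prime_dvd_prime_iff_eq Fact.out Fact.out).1
          ((Fact.out : p.Prime).dvd_of_dvd_pow hd)).symm
      intro s hs t ht
      rw [h1 s hs, h1 t ht, h1 _ (mul_mem hs ht)]
  obtain ⟨z, hz, s, hs, rfl⟩ := hdec a
  obtain ⟨w, hw, t, ht, rfl⟩ := hdec b
  have e : z * s * (w * t) = z * w * (s * t) := by
    rw [mul_assoc, ← mul_assoc s, ← (hc w hw s).eq, mul_assoc w, ← mul_assoc]
  obtain ⟨m, hm⟩ := (isPPrimePart_pPrimePart (p := p) w).exists_pow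
  have hcw : ∀ e : E, Commute (pPrimePart p w) e := fun e => hm ▸ (hc w hw e).pow_left m
  rw [e, pPrimePart_mul_of_commute (hc _ (mul_mem hz hw) _),
    pPrimePart_mul_of_commute (hc z hz w), pPrimePart_mul_of_commute (hc z hz s),
    pPrimePart_mul_of_commute (hc w hw t), hS s hs t ht]
  rw [mul_assoc, mul_assoc, ← mul_assoc (pPrimePart p w), (hcw _).eq, mul_assoc]

section Twist

variable {G : Type u} [Group G] [Fintype G] {N : Subgroup G} [N.Normal] [Fintype N]
  (P : Sylow p N) (θ : IrrCharacter N) (ψ : IrrCharacter G)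

/-- The centralizer of the Sylow subgroup of `N`. -/
abbrev cent : Subgroup G :=
  Subgroup.centralizer (((P : Subgroup N).map N.subtype : Subgroup G) : Set G)

/-- Data on a subgroup with quotient of order prime to `p`. -/
structure Twist (M : Ideal AlgInt) (K : Subgroup G) (ξ : IrrCharacter K) (l : K →* ℂˣ) : Prop where
  ext : HasExt N (θ : N → ℂ) K (ξ : K → ℂ)
  ratio : ∀ x : K, (x : G) ∈ cent P → MemLocalIdeal M ((ξ : K → ℂ) x / (ξ : K → ℂ) 1 - 1)
  triv : ∀ k : K, (k : G) ∈ N → l k = 1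
  eq : ∀ k : K, (ψ : G → ℂ) k = (l k : ℂ) * (ξ : K → ℂ) k

variable {P θ ψ}
variable (hpM : (p : AlgInt) ∈ M) (hcov : ∀ g : G, ¬ p ∣ orderOf g → g ∈ N ⊔ cent P) (hθ : θ ∈ principalBlock M N)
  (hψ : ∀ n : N, (ψ : G → ℂ) n = (θ : N → ℂ) n)

theorem exists_cent_rep {g : G} (h : g ∈ N ⊔ cent P) : ∃ x ∈ cent P, g⁻¹ * x ∈ N := by
  obtain ⟨n, hn, c, hc, rfl⟩ := Subgroup.mem_sup_of_normal_left.1 h
  refine ⟨c, hc, ?_⟩
  have := Subgroup.Normal.conj_mem (H := N) inferInstance n⁻¹ (N.inv_mem hn) c⁻¹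
  simpa [mul_inv_rev, mul_assoc] using this

include hcov in
theorem le_sup_cent {K : Subgroup G} (hK : ¬ p ∣ (N.subgroupOf K).index) : K ≤ N ⊔ cent P := by
  intro k hk
  obtain ⟨i, hi⟩ := (isPPrimePart_pPrimePart (p := p) k).exists_pow
  obtain ⟨u, hu, -, ⟨j, hj⟩, hreg⟩ := isPPrimePart_pPrimePart (p := p) k
  rw [← hu]
  refine mul_mem (Subgroup.mem_sup_left ?_) (hcov _ hreg)
  have hu' : u ∈ K := by
    rw [← mul_inv_eq_iff_eq_mul.2 hu.symm, ← hi]
    exact mul_mem hk (inv_mem (pow_mem hk i))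
  suffices h : (⟨u, hu'⟩ : K) ∈ N.subgroupOf K from Subgroup.mem_subgroupOf.1 h
  rw [← QuotientGroup.eq_one_iff, ← orderOf_eq_one_iff]
  refine Nat.eq_one_of_dvd_coprimes
    (Nat.Coprime.pow_left j ((Fact.out : p.Prime).coprime_iff_not_dvd.2 hK)) ?_ ?_
  · rw [← hj]
    exact (orderOf_map_dvd (QuotientGroup.mk' (N.subgroupOf K)) (⟨u, hu'⟩ : K)).trans
      (dvd_of_eq (Subgroup.orderOf_mk u hu'))
  · rw [Subgroup.index_eq_card]
    exact orderOf_dvd_natCard _

include hcov in
theorem exists_sylow_over {K : Subgroup G} (hNK : N ≤ K) (hK : ¬ p ∣ (N.subgroupOf K).index) :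
    ∃ R : Sylow p K, N.subgroupOf K ⊔ Subgroup.centralizer ((R : Subgroup K) : Set K) = ⊤ ∧
      ∀ x : K, (x : G) ∈ cent P → x ∈ Subgroup.centralizer ((R : Subgroup K) : Set K) := by
  set Q := ((P : Subgroup N).map N.subtype : Subgroup G) with hQ
  have hQN : Q ≤ N := Subgroup.map_subtype_le _
  have hp' : IsPGroup p (Q.subgroupOf K) :=
    (P.2.map N.subtype).comap_of_injective K.subtype K.subtype_injective
  have hi : ¬ p ∣ (Q.subgroupOf K).index := by
    have : (Q.subgroupOf K).index = (P : Subgroup N).index * (N.subgroupOf K).index := by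
      show Q.relIndex K = _
      rw [← Subgroup.relIndex_mul_relIndex Q N K hQN hNK]
      congr 1
      show (Q.subgroupOf N).index = _
      rw [hQ, Subgroup.subgroupOf, Subgroup.comap_map_eq_self_of_injective N.subtype_injective]
    rw [this]
    exact fun hd => ((Fact.out : p.Prime).dvd_mul.1 hd).elim P.not_dvd_index hK
  have key : ∀ x : K, (x : G) ∈ cent P →
      x ∈ Subgroup.centralizer ((Q.subgroupOf K : Subgroup K) : Set K) := fun x hx =>
    Subgroup.mem_centralizer_iff.2 fun r hr =>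
      Subtype.ext (Subgroup.mem_centralizer_iff.1 hx r (Subgroup.mem_subgroupOf.1 hr))
  refine ⟨hp'.toSylow hi, ?_, fun x hx => by rw [IsPGroup.toSylow_coe]; exact key x hx⟩
  rw [IsPGroup.toSylow_coe, eq_top_iff]
  intro k _
  obtain ⟨x, hx, hxN⟩ := exists_cent_rep (le_sup_cent hcov hK k.2)
  have hxK : x ∈ K := by simpa using K.mul_mem k.2 (hNK hxN)
  have e : k = ⟨x, hxK⟩ * (⟨x, hxK⟩⁻¹ * k) := by group
  rw [e]
  refine mul_mem (Subgroup.mem_sup_right (key _ hx)) (Subgroup.mem_sup_left ?_)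
  rw [Subgroup.mem_subgroupOf]
  simpa using N.inv_mem hxN

include hpM hcov hθ hψ

theorem exists_twist {K : Subgroup G} [Fintype K] (hNK : N ≤ K)
    (hK : ¬ p ∣ (N.subgroupOf K).index) :
    ∃ (ξ : IrrCharacter K) (l : K →* ℂˣ), ξ ∈ principalBlock M K ∧ Twist P θ ψ M K ξ l := by
  classical
  haveI := Fintype.ofFinite (N.subgroupOf K)
  haveI := irrFintype K
  obtain ⟨R, hR, hRc⟩ := exists_sylow_over hcov hNK hK
  obtain ⟨ξ, ⟨hξ, hξe⟩, -⟩ := (restriction_bijection (P := R) hpM hK hR).2 _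
    (pullIrr_mem_principal (Subgroup.subgroupOfEquivOfLe hNK) hθ)
  have hext : HasExt N (θ : N → ℂ) K (ξ : K → ℂ) := fun n hn hk => by
    have := hξe ⟨⟨n, hk⟩, Subgroup.mem_subgroupOf.2 hn⟩
    rw [pullIrr_apply] at this
    exact this
  have e : (fun n : N.subgroupOf K => (ξ : K → ℂ) n) =
      (pullIrr (Subgroup.subgroupOfEquivOfLe hNK) θ : N.subgroupOf K → ℂ) := funext hξe
  have hψK : IsIrrCharacter K (fun k : K => (ψ : G → ℂ) k) := by
    have := isIrr_comp (Subgroup.inclusion hNK) K.subtype (χ := ψ) (by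
      rw [show (fun n : N => (ψ : G → ℂ) (K.subtype (Subgroup.inclusion hNK n))) = (θ : N → ℂ)
        from funext hψ]
      exact θ.2)
    exact this
  have e' : (fun n : N.subgroupOf K => (ψ : G → ℂ) (n : K)) =
      (pullIrr (Subgroup.subgroupOfEquivOfLe hNK) θ : N.subgroupOf K → ℂ) := by
    funext n
    rw [pullIrr_apply, ← hψ]
    rfl
  obtain ⟨β, hβ, hβe⟩ := CharsMore.gallagher_exists (N.subgroupOf K) ξ.2 (e ▸ (pullIrr _ θ).2)
    hψK (by rw [e, e', inner_irr_self]; exact one_ne_zero)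
  have hβ1 : (β : K → ℂ) 1 = 1 := by
    have h1 := congrFun hβe 1
    have h2 : (ξ : K → ℂ) 1 = (θ : N → ℂ) 1 := hext 1 N.one_mem K.one_mem
    rw [Pi.mul_apply, h2, OneMemClass.coe_one, ← OneMemClass.coe_one N, hψ] at h1
    exact (mul_eq_right₀ (irr_degree_ne_zero θ.2)).1 h1.symm
  obtain ⟨l, hl⟩ := exists_hom_of_degree_one (isCharacter_of_irr β.2) hβ1
  refine ⟨ξ, l, hξ, hext, fun x hx => ?_, fun k hk => ?_, fun k => ?_⟩
  · exact ratio_of_mem hpM hξ fun hd => R.not_dvd_index (hd.trans (Subgroup.index_dvd_of_le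
      fun u hu => Subgroup.mem_centralizer_singleton_iff.2
        (Subgroup.mem_centralizer_iff.1 (hRc x hx) u hu)))
  · refine Units.ext ?_
    rw [← congrFun hl k, Units.val_one, ← hβ1]
    simpa using CharsMore.quotIrr_mul (N.subgroupOf K) hβ ⟨k, Subgroup.mem_subgroupOf.2 hk⟩ 1
  · rw [← congrFun hl k]
    exact congrFun hβe k

theorem twist_unique {K : Subgroup G} [Fintype K] (hNK : N ≤ K)
    (hK : ¬ p ∣ (N.subgroupOf K).index) {ξ ξ' : IrrCharacter K} {l l' : K →* ℂˣ}
    (h : Twist P θ ψ M K ξ l) (h' : Twist P θ ψ M K ξ' l') : ξ' = ξ ∧ l' = l := by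
  classical
  haveI := Fintype.ofFinite (N.subgroupOf K)
  obtain ⟨R, hR, hRc⟩ := exists_sylow_over hcov hNK hK
  have e : ∀ {η : IrrCharacter K}, HasExt N (θ : N → ℂ) K (η : K → ℂ) →
      (fun n : N.subgroupOf K => (η : K → ℂ) n) =
      (pullIrr (Subgroup.subgroupOfEquivOfLe hNK) θ : N.subgroupOf K → ℂ) := fun hη =>
    funext fun n => by
      rw [pullIrr_apply]
      exact hη ((n : K) : G) (Subgroup.mem_subgroupOf.1 n.2) (n : K).2
  have hξ : ξ' = ξ := by
    refine eq_of_ratio hpM (N.subgroupOf K) hK (e h.ext ▸ (pullIrr _ θ).2) ?_ fun k => ?_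
    · rw [e h.ext, e h'.ext, inner_irr_self]; exact one_ne_zero
    · obtain ⟨x, hx, hxN⟩ := exists_cent_rep (le_sup_cent hcov hK k.2)
      have hxK : x ∈ K := by simpa using K.mul_mem k.2 (hNK hxN)
      exact ⟨⟨x, hxK⟩, Subgroup.mem_subgroupOf.2 hxN, h.ratio ⟨x, hxK⟩ hx, h'.ratio ⟨x, hxK⟩ hx,
        fun hd => R.not_dvd_index (hd.trans (Subgroup.index_dvd_of_le fun u hu =>
          Subgroup.mem_centralizer_singleton_iff.2
            (Subgroup.mem_centralizer_iff.1 (hRc ⟨x, hxK⟩ hx) u hu)))⟩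
  refine ⟨hξ, MonoidHom.ext fun k => ?_⟩
  subst hξ
  obtain ⟨x, hx, hxN⟩ := exists_cent_rep (le_sup_cent hcov hK k.2)
  have hxK : x ∈ K := by simpa using K.mul_mem k.2 (hNK hxN)
  have h1 : l' ⟨x, hxK⟩ = l ⟨x, hxK⟩ := Units.ext (mul_right_cancel₀
    (ne_zero_of_ratio (h.ratio ⟨x, hxK⟩ hx)) ((h'.eq _).symm.trans (h.eq _)))
  have e : (⟨x, hxK⟩ : K) = k * (k⁻¹ * ⟨x, hxK⟩) := by group
  have hm : ((k⁻¹ * ⟨x, hxK⟩ : K) : G) ∈ N := by simpa using hxN
  rwa [e, map_mul l', map_mul l, h.triv _ hm, h'.triv _ hm, mul_one, mul_one] at h1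

omit hpM hcov hθ in
theorem twist_restrict {K L : Subgroup G} [Fintype K] [Fintype L] (hNL : N ≤ L) (hLK : L ≤ K)
    {ξ : IrrCharacter K} {l : K →* ℂˣ} (h : Twist P θ ψ M K ξ l) :
    ∃ η : IrrCharacter L, Twist P θ ψ M L η (l.comp (Subgroup.inclusion hLK)) := by
  have hirr : IsIrrCharacter L (fun v => (ξ : K → ℂ) (Subgroup.inclusion hLK v)) :=
    isIrr_comp (Subgroup.inclusion hNL) (Subgroup.inclusion hLK) (χ := ξ) (by
      rw [show (fun n : N => (ξ : K → ℂ) (Subgroup.inclusion hLK (Subgroup.inclusion hNL n))) =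
        (θ : N → ℂ) from funext fun n => h.ext n n.2 _]
      exact θ.2)
  exact ⟨⟨_, hirr⟩, fun n hn hl => h.ext n hn (hLK hl),
    fun x hx => by simpa using h.ratio (Subgroup.inclusion hLK x) hx,
    fun k hk => h.triv _ hk, fun k => h.eq (Subgroup.inclusion hLK k)⟩

omit hpM hcov hθ hψ in
theorem not_dvd_index_sup {R : Subgroup G} (hR : ∀ r ∈ R, ¬ p ∣ orderOf r) :
    ¬ p ∣ (N.subgroupOf (N ⊔ R)).index := by
  intro hd
  have h1 : (N.subgroupOf (N ⊔ R)).index ∣ Nat.card R := by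
    show N.relIndex (N ⊔ R) ∣ _
    rw [sup_comm, Subgroup.relIndex_sup_right]
    exact Subgroup.relIndex_dvd_card _ _
  haveI : Fintype R := Fintype.ofFinite R
  obtain ⟨r, hr⟩ := exists_prime_orderOf_dvd_card' p (hd.trans h1)
  exact hR r r.2 (by rw [Subgroup.orderOf_coe, hr])

omit hpM hcov hθ hψ in
theorem not_dvd_index_cyclic {g : G} (hg : ¬ p ∣ orderOf g) :
    ¬ p ∣ (N.subgroupOf (N ⊔ Subgroup.zpowers g)).index :=
  not_dvd_index_sup fun r hr => by
    obtain ⟨i, rfl⟩ := hr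
    exact fun hd => hg (hd.trans (orderOf_dvd_of_pow_eq_one (by
      rw [← zpow_natCast, ← zpow_mul, mul_comm, zpow_mul, zpow_natCast, pow_orderOf_eq_one,
        one_zpow])))

/-- The linear twist at the `p'`-parts. -/
theorem exists_twist_hom :
    ∃ m : G →* ℂˣ, (∀ n ∈ N, m n = 1) ∧ (∀ g, m g = m (pPrimePart p g)) ∧ ∀ (K : Subgroup G) [Fintype K] (ξ : IrrCharacter K)
      (l : K →* ℂˣ), N ≤ K → ¬ p ∣ (N.subgroupOf K).index → Twist P θ ψ M K ξ l →
      ∀ k : K, ¬ p ∣ orderOf k → m k = l k := by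
  classical
  have hreg : ∀ g : G, ¬ p ∣ orderOf (pPrimePart p g) := not_dvd_orderOf_pPrimePart
  let F : G → Subgroup G := fun g => N ⊔ Subgroup.zpowers (pPrimePart p g)
  haveI : ∀ g, Fintype (F g) := fun g => Fintype.ofFinite _
  choose ξ l hB hT using fun g => exists_twist hpM hcov hθ hψ (K := F g) le_sup_left
    (not_dvd_index_cyclic (hreg g))
  let μ : G → ℂ := fun g =>
    (l g ⟨pPrimePart p g, Subgroup.mem_sup_right (Subgroup.mem_zpowers _)⟩ : ℂ)
  have hspec : ∀ (K : Subgroup G) [Fintype K] (η : IrrCharacter K) (m : K →* ℂˣ), N ≤ K →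
      ¬ p ∣ (N.subgroupOf K).index → Twist P θ ψ M K η m → ∀ (g : G) (k : K),
      pPrimePart p g = k → μ g = (m k : ℂ) := by
    intro K _ η m hNK hK hT' g k hgk
    have hle : F g ≤ K := sup_le hNK (Subgroup.zpowers_le.2 (hgk ▸ k.2))
    obtain ⟨η', hη'⟩ := twist_restrict hψ le_sup_left hle hT'
    obtain ⟨-, hl⟩ := twist_unique hpM hcov hθ hψ le_sup_left (not_dvd_index_cyclic (hreg g))
      (hT g) hη'
    show ((l g _ : ℂˣ) : ℂ) = _
    rw [← hl, MonoidHom.comp_apply]
    exact congrArg (fun z : K => ((m z : ℂˣ) : ℂ)) (Subtype.ext hgk)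
  have hinv : ∀ (c n : G) (hn : n ∈ N) (hn' : c * n * c⁻¹ ∈ N),
      (θ : N → ℂ) ⟨c * n * c⁻¹, hn'⟩ = (θ : N → ℂ) ⟨n, hn⟩ := fun c n hn hn' => by
    rw [← hψ, ← hψ]
    exact isClassFunction_irr ψ n c
  have hcl : IsClassFunction G μ := by
    have hC : ∀ c ∈ Subgroup.normalizer (((P : Subgroup N).map N.subtype : Subgroup G) : Set G),
        ∀ g, μ (c * g * c⁻¹) = μ g := by
      intro c hc g
      let K := F g
      let K' := F (c * g * c⁻¹)
      have hmap : K.map (MulAut.conj c).toMonoidHom = K' := by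
        show (N ⊔ Subgroup.zpowers (pPrimePart p g)).map (MulAut.conj c).toMonoidHom = _
        rw [Subgroup.map_sup, MonoidHom.map_zpowers]
        show _ ⊔ _ = N ⊔ Subgroup.zpowers (pPrimePart p (c * g * c⁻¹))
        rw [pPrimePart_conj]
        congr 1
        exact map_conj_eq_of_mem_normalizer (Subgroup.le_normalizer_of_normal (Subgroup.mem_top c))
      let e : K ≃* K' := (K.equivMapOfInjective _ (MulAut.conj c).injective).trans
        (MulEquiv.subgroupCongr hmap)
      have he : ∀ v : K, ((e v : K') : G) = c * v * c⁻¹ := fun v => rfl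
      have hT' := hT (c * g * c⁻¹)
      have hnew : Twist P θ ψ M K (pullIrr e (ξ (c * g * c⁻¹)))
          ((l (c * g * c⁻¹)).comp e.toMonoidHom) := by
        refine ⟨fun n hn hk => ?_, fun x hx => ?_, fun k hk => ?_, fun k => ?_⟩
        · rw [pullIrr_apply]
          have hn' : c * n * c⁻¹ ∈ N := Subgroup.Normal.conj_mem inferInstance n hn c
          rw [← hinv c n hn hn', ← hT'.ext _ hn' (Subgroup.mem_sup_left hn')]
          exact congrArg _ (Subtype.ext (he ⟨n, hk⟩))
        · rw [pullIrr_apply, pullIrr_apply, map_one]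
          exact hT'.ratio _ (by rw [he]; exact (conj_mem_centralizer_iff hc _).2 hx)
        · refine hT'.triv (e k) ?_
          rw [he]; exact Subgroup.Normal.conj_mem inferInstance _ hk c
        · rw [pullIrr_apply, ← isClassFunction_irr ψ (k : G) c, ← he k]
          exact hT'.eq (e k)
      rw [hspec K _ _ le_sup_left (not_dvd_index_cyclic (hreg g)) hnew g
        ⟨pPrimePart p g, Subgroup.mem_sup_right (Subgroup.mem_zpowers _)⟩ rfl,
        MonoidHom.comp_apply]
      refine hspec K' _ _ le_sup_left (not_dvd_index_cyclic (hreg _)) hT' _ _ ?_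
      rw [pPrimePart_conj]
      exact (he ⟨pPrimePart p g, Subgroup.mem_sup_right (Subgroup.mem_zpowers _)⟩).symm
    have hNinv : ∀ n ∈ N, ∀ g, μ (n * g * n⁻¹) = μ g := by
      intro n hn g
      have hnF : n ∈ F g := Subgroup.mem_sup_left hn
      let k : F g := ⟨pPrimePart p g, Subgroup.mem_sup_right (Subgroup.mem_zpowers _)⟩
      rw [hspec (F g) (ξ g) (l g) le_sup_left (not_dvd_index_cyclic (hreg g)) (hT g)
        (n * g * n⁻¹) (⟨n, hnF⟩ * k * ⟨n, hnF⟩⁻¹) (pPrimePart_conj n g), map_mul, map_mul,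
        map_inv, (hT g).triv ⟨n, hnF⟩ hn, one_mul, inv_one, mul_one]
    intro g c
    obtain ⟨n, hn, x, hx, rfl⟩ := Subgroup.mem_sup_of_normal_left.1
      (show c ∈ N ⊔ _ by rw [sup_comm, P.normalizer_sup_eq_top]; exact Subgroup.mem_top c)
    rw [show n * x * g * (n * x)⁻¹ = n * (x * g * x⁻¹) * n⁻¹ by group, hNinv n hn, hC x hx]
  have hgen : IsGeneralizedCharacter G μ := by
    refine CharsMore.isGeneralized_of_elementary hcl fun E q hq hE => ?_
    haveI : Fact q.Prime := ⟨hq⟩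
    let π : E →* G := E.subtype.comp
      { toFun := fun e => pPrimePart p e
        map_one' := pPrimePart_of_regular (by
          rw [orderOf_one]; exact (Fact.out : p.Prime).not_dvd_one)
        map_mul' := fun a b => pPrimePart_mul_of_elementary hE a b }
    have hπ : ∀ e : E, π e = pPrimePart p (e : G) := fun e =>
      (((isPPrimePart_pPrimePart (p := p) e).map E.subtype E.subtype_injective).eq_pPrimePart).symm
    have hr : ∀ r ∈ π.range, ¬ p ∣ orderOf r := by
      rintro r ⟨e, rfl⟩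
      rw [hπ]
      exact hreg _
    haveI := Fintype.ofFinite (N ⊔ π.range : Subgroup G)
    obtain ⟨η, m, -, hηT⟩ := exists_twist hpM hcov hθ hψ (K := N ⊔ π.range) le_sup_left
      (not_dvd_index_sup hr)
    let πK : E →* (N ⊔ π.range : Subgroup G) := π.codRestrict _ fun e =>
      Subgroup.mem_sup_right ⟨e, rfl⟩
    refine ⟨fun e => ((m.comp πK e : ℂˣ) : ℂ), 0, isCharacter_of_irr
      (isIrrCharacter_linear (m.comp πK)), isCharacter_zero, funext fun e => ?_⟩
    rw [Pi.sub_apply, Pi.zero_apply, sub_zero]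
    exact hspec _ η m le_sup_left (not_dvd_index_sup hr) hηT _ (πK e) (hπ e).symm
  have hnorm : classInner μ μ = 1 := by
    rw [inner_def, Finset.sum_congr rfl (g := fun _ => (1 : ℂ)) fun g _ => ?_, Finset.sum_const,
      Finset.card_univ, nsmul_one, ← Nat.card_eq_fintype_card,
      inv_mul_cancel₀ (Nat.cast_ne_zero.2 Nat.card_pos.ne')]
    rw [Complex.mul_conj, Complex.normSq_eq_norm_sq]
    have : ‖μ g‖ = 1 := Complex.norm_eq_one_of_pow_eq_one (n := Nat.card (F g)) (by
      show ((l g _ : ℂˣ) : ℂ) ^ _ = 1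
      rw [← Units.val_pow_eq_pow_val, ← map_pow, pow_card_eq_one', map_one, Units.val_one])
      Nat.card_pos.ne'
    rw [this]; norm_num
  have hμN : ∀ n ∈ N, μ n = 1 := fun n hn => by
    obtain ⟨i, hi⟩ := (isPPrimePart_pPrimePart (p := p) n).exists_pow
    show ((l n _ : ℂˣ) : ℂ) = 1
    rw [(hT n).triv ⟨pPrimePart p n, Subgroup.mem_sup_right (Subgroup.mem_zpowers _)⟩
      (show pPrimePart p n ∈ N by rw [← hi]; exact N.pow_mem hn i), Units.val_one]
  have hμ1 : μ 1 = 1 := hμN 1 N.one_mem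
  have hirr : IsIrrCharacter G μ := irr_of_norm_one hgen hnorm (by rw [hμ1]; norm_num)
  obtain ⟨m, hm⟩ := exists_hom_of_degree_one (isCharacter_of_irr hirr) hμ1
  refine ⟨m, fun n hn => Units.ext ?_, fun g => Units.ext ?_, fun K _ ξ' l' hNK hK hT' k hk => Units.ext ?_⟩
  · rw [← congrFun hm n, hμN n hn, Units.val_one]
  · rw [← congrFun hm g, ← congrFun hm (pPrimePart p g),
      hspec (F g) (ξ g) (l g) le_sup_left (not_dvd_index_cyclic (hreg g)) (hT g) g
        ⟨pPrimePart p g, Subgroup.mem_sup_right (Subgroup.mem_zpowers _)⟩ rfl,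
      hspec (F g) (ξ g) (l g) le_sup_left (not_dvd_index_cyclic (hreg g)) (hT g) (pPrimePart p g)
        ⟨pPrimePart p g, Subgroup.mem_sup_right (Subgroup.mem_zpowers _)⟩ (pPrimePart_idem g)]
  · rw [← congrFun hm k]
    exact hspec K ξ' l' hNK hK hT' k k (pPrimePart_of_regular (by rwa [Subgroup.orderOf_coe]))

/-- An extension whose restriction to every intermediate subgroup lies in the principal block. -/
theorem exists_ext_all :
    ∃ (χ : IrrCharacter G) (m : G →* ℂˣ), χ ∈ principalBlock M G ∧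
      (∀ x : N, (χ : G → ℂ) x = (θ : N → ℂ) x) ∧
      ((∀ g, (χ : G → ℂ) g = ((m⁻¹ g : ℂˣ) : ℂ) * (ψ : G → ℂ) g) ∧
        ∀ g, m g = m (pPrimePart p g)) ∧
      ∀ J : Subgroup G, N ≤ J → ∃ ξ : IrrCharacter J, ξ ∈ principalBlock M J ∧
        ∀ y : J, (ξ : J → ℂ) y = (χ : G → ℂ) y := by
  classical
  obtain ⟨m, hmN, hmp, hm⟩ := exists_twist_hom hpM hcov hθ hψ
  have hirr : IsIrrCharacter G ((fun g => ((m⁻¹ g : ℂˣ) : ℂ)) * (ψ : G → ℂ)) :=
    isIrrCharacter_linear_mul m⁻¹ ψ.2
  set χ : IrrCharacter G := ⟨_, hirr⟩ with hχ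
  have hχN : ∀ x : N, (χ : G → ℂ) x = (θ : N → ℂ) x := fun x => by
    rw [hχ]
    show ((m⁻¹ (x : G) : ℂˣ) : ℂ) * (ψ : G → ℂ) x = _
    rw [MonoidHom.inv_apply, hmN x x.2, inv_one, Units.val_one, one_mul, hψ]
  have hloc : ∀ (y : G) [Fintype (N ⊔ Subgroup.zpowers y : Subgroup G)], ¬ p ∣ orderOf y →
      ∃ ξ ∈ principalBlock M (N ⊔ Subgroup.zpowers y : Subgroup G),
        ∀ k : (N ⊔ Subgroup.zpowers y : Subgroup G),
          (ξ : _ → ℂ) k = (χ : G → ℂ) (k : G) := by
    intro y _ hy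
    obtain ⟨ξ, l, hξ, hT⟩ := exists_twist hpM hcov hθ hψ (K := N ⊔ Subgroup.zpowers y) le_sup_left
      (not_dvd_index_cyclic hy)
    refine ⟨ξ, hξ, fun k => ?_⟩
    have hml : m.comp (N ⊔ Subgroup.zpowers y).subtype = l := by
      refine MonoidHom.ext fun k => ?_
      have hle : N ⊔ Subgroup.zpowers y ≤
          ((m.comp (N ⊔ Subgroup.zpowers y).subtype).eqLocus l).map
            (N ⊔ Subgroup.zpowers y).subtype := by
        refine sup_le (fun n hn => ⟨⟨n, Subgroup.mem_sup_left hn⟩, ?_, rfl⟩)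
          (Subgroup.zpowers_le.2 ⟨⟨y, Subgroup.mem_sup_right (Subgroup.mem_zpowers y)⟩, ?_, rfl⟩)
        · show m n = l _
          rw [hmN n hn, hT.triv _ hn]
        · show m y = l _
          exact hm _ ξ l le_sup_left (not_dvd_index_cyclic hy) hT
            ⟨y, Subgroup.mem_sup_right (Subgroup.mem_zpowers y)⟩ (by rwa [← Subgroup.orderOf_coe])
      obtain ⟨w, hw, hwe⟩ := hle k.2
      obtain rfl : w = k := Subtype.ext hwe
      exact hw
    show _ = ((m⁻¹ (k : G) : ℂˣ) : ℂ) * (ψ : G → ℂ) k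
    rw [hT.eq k, ← hml, MonoidHom.inv_apply, MonoidHom.comp_apply, Subgroup.coe_subtype,
      Units.inv_mul_cancel_left]
  have hJ : ∀ J : Subgroup G, N ≤ J → ∃ ξ : IrrCharacter J, ξ ∈ principalBlock M J ∧
      ∀ y : J, (ξ : J → ℂ) y = (χ : G → ℂ) y := by
    intro J hNJ
    haveI := Fintype.ofFinite J
    have hirrJ : IsIrrCharacter J (fun y : J => (χ : G → ℂ) y) :=
      isIrr_comp (Subgroup.inclusion hNJ) J.subtype (χ := χ) (by
        rw [show (fun n : N => (χ : G → ℂ) (J.subtype (Subgroup.inclusion hNJ n))) = (θ : N → ℂ)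
          from funext hχN]
        exact θ.2)
    refine ⟨⟨_, hirrJ⟩, ?_, fun _ => rfl⟩
    rw [principalBlock_eq, mem_blockOf]
    refine sameBlock_of_regular (χ := principal J) hpM fun y hy => ?_
    rw [← omega_classInd, ← omega_classInd, omega_principal]
    show MemLocalIdeal M (∑ x, classInd y x - omega (fun z : J => (χ : G → ℂ) z) (classInd y))
    rw [omega, Finset.sum_div, ← Finset.sum_sub_distrib,
      ← Finset.sum_fiberwise Finset.univ (fun x : J => ((x : G) : G ⧸ N))]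
    refine MemLocalIdeal.sum' fun q _ => ?_
    by_cases hq : ∃ t : J, ((t : G) : G ⧸ N) = q ∧ classInd y t ≠ 0
    swap
    · rw [Finset.sum_eq_zero fun x hx => ?_]
      · exact MemLocalIdeal.zero'
      · rw [show classInd y x = 0 from
          by_contra fun h => hq ⟨x, (Finset.mem_filter.1 hx).2, h⟩]
        simp
    obtain ⟨t, rfl, ht⟩ := hq
    have hty : IsConj y t := by
      by_contra h
      refine ht ?_
      simp only [classInd]
      rw [if_neg]
      exact h
    have htreg : ¬ p ∣ orderOf (t : G) := by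
      obtain ⟨c, hc⟩ := isConj_iff.1 hty
      have := orderOf_injective (MulAut.conj c).toMonoidHom (MulAut.conj c).injective y
      rw [MulEquiv.toMonoidHom_eq_coe, MonoidHom.coe_coe, MulAut.conj_apply, hc] at this
      rwa [Subgroup.orderOf_coe, this]
    let L : Subgroup G := N ⊔ Subgroup.zpowers (t : G)
    have hLJ : L ≤ J := sup_le hNJ (Subgroup.zpowers_le.2 t.2)
    haveI := Fintype.ofFinite L
    haveI := Fintype.ofFinite (L.subgroupOf J)
    obtain ⟨ξ, hξ, hξe⟩ := hloc (t : G) htreg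
    let e := Subgroup.subgroupOfEquivOfLe hLJ
    let K : Subgroup J := L.subgroupOf J
    let a : J → ℂ := fun x => if ((x : G) : G ⧸ N) = ((t : G) : G ⧸ N) then classInd y x else 0
    have hKq : ∀ k : K, Commute (((k : J) : G) : G ⧸ N) ((t : G) : G ⧸ N) := by
      intro k
      have h1 : (((k : J) : G) : G ⧸ N) ∈ L.map (QuotientGroup.mk' N) :=
        ⟨_, Subgroup.mem_subgroupOf.1 k.2, rfl⟩
      rw [Subgroup.map_sup, QuotientGroup.map_mk'_self, bot_sup_eq, MonoidHom.map_zpowers] at h1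
      obtain ⟨i, hi⟩ := h1
      rw [← hi]
      exact Commute.zpow_self _ i
    have ha : IsLocClassFun M (resFun K a) := by
      refine ⟨fun x k => ?_, fun x => ?_⟩
      · have hconj : ((((k : J) : G) * ((x : J) : G) * ((k : J) : G)⁻¹ : G) : G ⧸ N) =
            ((t : G) : G ⧸ N) ↔ (((x : J) : G) : G ⧸ N) = ((t : G) : G ⧸ N) := by
          rw [QuotientGroup.mk_mul, QuotientGroup.mk_mul, QuotientGroup.mk_inv,
            mul_inv_eq_iff_eq_mul, ← (hKq k).eq, mul_right_inj]
        simp only [resFun, a, Subgroup.coe_mul, Subgroup.coe_inv]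
        exact if_congr hconj (isClassFunction_classInd y (x : J) (k : J)) rfl
      · simp only [resFun, a]
        split_ifs
        · exact (isLocClassFun_classInd y).2 _
        · exact zero_mem _
    have h2 := omega_sub_mem (χ := (principal K : IrrCharacter K)) (ψ := pullIrr e ξ)
      (IsPBlock.sameBlock (isPBlock_principalBlock M) (principal_mem_principalBlock M)
        (pullIrr_mem_principal e hξ)) ha
    rw [omega_principal, omega, Finset.sum_div, ← Finset.sum_sub_distrib] at h2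
    convert h2 using 1
    have hsupp : ∀ x : J, x ∉ K →
        (if ((x : G) : G ⧸ N) = ((t : G) : G ⧸ N) then
          classInd y x - classInd y x * (χ : G → ℂ) x / (χ : G → ℂ) (1 : J) else 0) = 0 := by
      intro x hx
      rw [if_neg]
      intro h'
      apply hx
      rw [Subgroup.mem_subgroupOf]
      have : (t : G)⁻¹ * x ∈ N := QuotientGroup.eq.1 h'.symm
      simpa using mul_mem (Subgroup.mem_sup_right (Subgroup.mem_zpowers (t : G)) : (t : G) ∈ L)
        (Subgroup.mem_sup_left this)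
    rw [Finset.sum_filter, sum_eq_sum_of_support K hsupp]
    refine Finset.sum_congr rfl fun x _ => ?_
    rw [pullIrr_apply, pullIrr_apply, hξe, hξe, map_one]
    simp only [resFun, a, OneMemClass.coe_one]
    split_ifs <;> simp <;> rfl
  refine ⟨χ, m, ?_, hχN, ⟨fun g => rfl, hmp⟩, hJ⟩
  obtain ⟨ξ, hξ, hξe⟩ := hJ ⊤ le_top
  haveI := Fintype.ofFinite (⊤ : Subgroup G)
  have := pullIrr_mem_principal (Subgroup.topEquiv (G := G)).symm hξ
  convert this using 1
  exact Subtype.ext (funext fun g => by rw [pullIrr_apply, hξe]; rfl)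

end Twist

end PrincExt

end CfsgLib.Blocks
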