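import Cfsg.Agent.Lib.Blocks.QuotientP
import Cfsg.Agent.Lib.Blocks.NormalBlocks
import Cfsg.Agent.Lib.Blocks.PrincipalBlock
import Cfsg.Agent.Lib.Blocks.NormalHeights
import Cfsg.Agent.Lib.CharsMore.CliffordDegree
import Cfsg.Agent.Lib.CharsMore.ItoDegree
import Cfsg.Agent.Lib.Chars.Permutation
import Cfsg.Agent.Lib.Chars.Quotient
import Cfsg.Agent.Lib.Coprime.Action
import Cfsg.Agent.Lib.FgsB.Basic
import Cfsg.Agent.Lib.PLocal.Constrained

/-!
# Heights in the principal block of a `p`-solvable group
-/

set_option linter.unusedSectionVars false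
set_option linter.style.haveILetI false

namespace CfsgLib.Blocks

open Cfsg Chars BlockOrth

namespace PrincHeights

variable {p : ℕ} [Fact p.Prime]

/-- All degrees prime to `p`. -/
def AllPrime (p : ℕ) (G : Type*) [Group G] : Prop :=
  ∀ χ : IrrCharacter G, ¬ p ∣ charDegree (χ : G → ℂ)

theorem allPrime_normal {G : Type*} [Group G] [Finite G] (h : AllPrime p G) (N : Subgroup G)
    [N.Normal] : AllPrime p N := by
  classical
  haveI := Fintype.ofFinite G
  haveI := Fintype.ofFinite N
  intro θ
  obtain ⟨χ, hχ⟩ := CharsMore.exists_over N θ.2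
  obtain ⟨k, -, hk, -⟩ := CharsMore.degree_quotient N χ.2 θ.2 hχ
  rw [irr_apply_one, irr_apply_one] at hk
  have hk' : charDegree (χ : G → ℂ) = k * charDegree (θ : N → ℂ) := by exact_mod_cast hk
  exact fun hd => h χ (hk' ▸ hd.mul_left k)

theorem allPrime_quotient {G : Type*} [Group G] [Finite G] (h : AllPrime p G) (N : Subgroup G)
    [N.Normal] : AllPrime p (G ⧸ N) := by
  intro χ hd
  refine h ⟨_, isIrrCharacter_inflate N χ.2⟩ ?_
  have e : charDegree ((χ : G ⧸ N → ℂ) ∘ QuotientGroup.mk) = charDegree (χ : G ⧸ N → ℂ) := by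
    simp [charDegree]
  show p ∣ charDegree ((χ : G ⧸ N → ℂ) ∘ QuotientGroup.mk)
  rwa [e]

/-- Points of a group, for the conjugation action. -/
structure ConjPt (K : Type*) where
  /-- The element. -/
  val : K

instance {K : Type*} [Group K] : MulAction K (ConjPt K) where
  smul g y := ⟨g * y.val * g⁻¹⟩
  one_smul y := by
    obtain ⟨y⟩ := y
    show (⟨1 * y * 1⁻¹⟩ : ConjPt K) = ⟨y⟩
    simp
  mul_smul g h y := by
    obtain ⟨y⟩ := y
    show (⟨g * h * y * (g * h)⁻¹⟩ : ConjPt K) = ⟨g * (h * y * h⁻¹) * g⁻¹⟩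
    simp [mul_assoc]

theorem conjPt_smul {K : Type*} [Group K] (g : K) (y : K) :
    g • (⟨y⟩ : ConjPt K) = ⟨g * y * g⁻¹⟩ := rfl

/-- A group with all degrees prime to `p` and a normal `p'`-subgroup of `p`-power index. -/
theorem centralizes_of_allPrime {K : Type*} [Group K] [Finite K] (h : AllPrime p K)
    (N : Subgroup K) [N.Normal] (hN : (Nat.card N).Coprime p) {i : ℕ} (hi : N.index = p ^ i)
    {u : K} {j : ℕ} (hu : orderOf u = p ^ j) : u ∈ Subgroup.centralizer (N : Set K) := by
  classical
  haveI := Fintype.ofFinite K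
  haveI := Fintype.ofFinite N
  have hp : p.Prime := Fact.out
  -- every character of `N` is invariant
  have hinv : ∀ θ : IrrCharacter N, CharsMore.conjFn N u (θ : N → ℂ) = (θ : N → ℂ) := by
    intro θ
    obtain ⟨χ, hχ⟩ := CharsMore.exists_over N θ.2
    have hdeg := CharsMore.clifford_degree N χ.2 θ.2 hχ
    obtain ⟨m, hm⟩ := inner_irr_right_nat (isCharacter_restrict N (isCharacter_of_irr χ.2)) θ
    rw [hm, irr_apply_one, irr_apply_one] at hdeg
    have hd' : charDegree (χ : K → ℂ) =
        m * (CharsMore.inertia N (θ : N → ℂ)).index * charDegree (θ : N → ℂ) := by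
      exact_mod_cast hdeg
    have hle := CharsMore.le_inertia N (isClassFunction_irr θ)
    obtain ⟨k, -, hk⟩ := (Nat.dvd_prime_pow hp).1 (hi ▸ Subgroup.index_dvd_of_le hle)
    cases k with
    | zero =>
      rw [pow_zero, Subgroup.index_eq_one] at hk
      exact (hk ▸ Subgroup.mem_top u : u ∈ CharsMore.inertia N (θ : N → ℂ))
    | succ k =>
      exact absurd (hd' ▸ Dvd.dvd.mul_right (Dvd.dvd.mul_left
        (hk ▸ dvd_pow_self p k.succ_ne_zero) m) _) (h χ)
  -- hence every class of `N` is invariant
  let α : N ≃* N := MulAut.conjNormal u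
  have hα : ∀ v : N, α v = CharsMore.conjBy N u v := fun v => Subtype.ext (by simp [α])
  have hall : ∀ θ : IrrCharacter N, (θ : N → ℂ) ∘ α = (θ : N → ℂ) := fun θ => funext fun v => by
    rw [Function.comp_apply, hα]
    exact congrFun (hinv θ) v
  have hcard := card_fixed_classes_eq_card_fixed_irr α
  rw [Nat.card_congr (Equiv.subtypeUnivEquiv hall), card_irr_eq_card_classes] at hcard
  haveI := Fintype.ofFinite (ConjClasses N)
  have hfix : ∀ C : ConjClasses N, ConjClasses.map α.toMonoidHom C = C := by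
    intro C
    by_contra hC
    have hlt : Nat.card {C : ConjClasses N // ConjClasses.map α.toMonoidHom C = C} <
        Nat.card (ConjClasses N) := by
      rw [Nat.card_eq_fintype_card, Nat.card_eq_fintype_card]
      exact Fintype.card_subtype_lt hC
    omega
  -- Glauberman's lemma
  have htop : (N ⊓ Subgroup.centralizer ({u} : Set K)).subgroupOf N = ⊤ := by
    refine FgsB.eq_top_of_forall_exists_conj_mem fun x => ?_
    have hcop : (Nat.card (Subgroup.zpowers u)).Coprime (Nat.card N) := by
      rw [Nat.card_zpowers, hu]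
      exact Nat.Coprime.pow_left j hN.symm
    have hsolv : Group.IsSolvable (Subgroup.zpowers u) := by
      haveI : IsMulCommutative (Subgroup.zpowers u) := inferInstance
      infer_instance
    obtain ⟨k, hk, hkx⟩ := Coprime.exists_fixed_point (A := Subgroup.zpowers u) (K := N)
      (fun a _ => Subgroup.le_normalizer_of_normal (Subgroup.mem_top a)) hcop (Or.inl hsolv) (⟨(x : K)⟩ : ConjPt K)
      (fun a ha => by
        have hclass : ∀ i : ℕ, ∀ y : N, ∃ k ∈ N, k * (y : K) * k⁻¹ = u ^ i * y * (u ^ i)⁻¹ := by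
          intro i
          induction i with
          | zero => exact fun y => ⟨1, N.one_mem, by simp⟩
          | succ i ih =>
            intro y
            obtain ⟨k, hk, hky⟩ := ih y
            have := hfix (ConjClasses.mk (⟨k * y * k⁻¹, mul_mem (mul_mem hk y.2) (inv_mem hk)⟩ : N))
            rw [show ConjClasses.map α.toMonoidHom (ConjClasses.mk _) =
              ConjClasses.mk (α _) from rfl, ConjClasses.mk_eq_mk_iff_isConj] at this
            obtain ⟨c, hc⟩ := isConj_iff.1 this.symm
            have hc' := congrArg Subtype.val hc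
            simp only [Subgroup.coe_mul, Subgroup.coe_inv, α, MulAut.conjNormal_apply] at hc'
            refine ⟨(c : K) * k, mul_mem c.2 hk, ?_⟩
            rw [pow_succ', mul_inv_rev,
              show (c : K) * k * y * (k⁻¹ * (c : K)⁻¹) = c * (k * y * k⁻¹) * (c : K)⁻¹ by group,
              hc', hky]
            group
        obtain ⟨i, rfl⟩ := (Submonoid.mem_powers_iff _ _).1 (mem_powers_iff_mem_zpowers.2 ha)
        obtain ⟨k, hk, hky⟩ := hclass i x
        exact ⟨k, hk, by rw [conjPt_smul, conjPt_smul, hky]⟩)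
    refine ⟨(⟨k, hk⟩ : N)⁻¹, Subgroup.mem_subgroupOf.2
      ⟨SetLike.coe_mem _, Subgroup.mem_centralizer_singleton_iff.2 ?_⟩⟩
    have := hkx u (Subgroup.mem_zpowers u)
    rw [conjPt_smul, conjPt_smul, ConjPt.mk.injEq, mul_inv_eq_iff_eq_mul] at this
    simp only [inv_inv, Subgroup.coe_mul, Subgroup.coe_inv]
    exact this.symm
  rw [Subgroup.subgroupOf_eq_top] at htop
  exact Subgroup.mem_centralizer_iff.2 fun y hy =>
    Subgroup.mem_centralizer_singleton_iff.1 (htop hy).2

/-- Itô–Michler for `p`-solvable groups. -/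
theorem normal_sylow_of_allPrime {G : Type*} [Group G] [Finite G] (hG : IsPSolvable p G)
    (h : AllPrime p G) (P : Sylow p G) : (P : Subgroup G).Normal := by
  induction hn : Nat.card G using Nat.strong_induction_on generalizing G with
  | _ n ih =>
  subst hn
  have hp : p.Prime := Fact.out
  rcases subsingleton_or_nontrivial G with hs | hnt
  · exact ⟨fun x hx g => by rwa [Subsingleton.elim (g * x * g⁻¹) x]⟩
  obtain ⟨N, hNn, hNne, hN⟩ : ∃ N : Subgroup G, N.Normal ∧ N ≠ ⊥ ∧
      (IsPGroup p N ∨ (Nat.card N).Coprime p) := by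
    rcases PLocal.pCore_ne_bot_or_pPrimeCore_ne_bot hG with h1 | h1
    · exact ⟨_, inferInstance, h1, Or.inl (Base.isPGroup_pCore p G)⟩
    · exact ⟨_, inferInstance, h1, Or.inr (Base.pPrimeCore_coprime p G)⟩
  have hlt : Nat.card (G ⧸ N) < Nat.card G := by
    have h1 : 1 < Nat.card N := (Subgroup.one_lt_card_iff_ne_bot N).2 hNne
    have h2 := N.card_mul_index
    rw [Subgroup.index_eq_card] at h2
    have h3 : 0 < Nat.card (G ⧸ N) := Nat.card_pos
    nlinarith
  have hQ := ih _ hlt (PLocal.isPSolvable_quotient hG N) (allPrime_quotient h N)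
    (P.mapSurjective (QuotientGroup.mk'_surjective N)) rfl
  set K := (P : Subgroup G) ⊔ N with hK
  haveI hKn : K.Normal := by
    have e : K = ((P : Subgroup G).map (QuotientGroup.mk' N)).comap (QuotientGroup.mk' N) := by
      rw [Subgroup.comap_map_eq, QuotientGroup.ker_mk']
    rw [e]
    exact Subgroup.Normal.comap (by simpa using hQ) _
  rcases hN with hN | hN
  · have : K = P := P.3 (P.2.to_sup_of_normal_right hN) le_sup_left
    exact this ▸ hKn
  · haveI := Fintype.ofFinite K
    have hidx : ∃ i, (N.subgroupOf K).index = p ^ i := by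
      obtain ⟨j, hj⟩ := IsPGroup.iff_card.1 P.2
      have h1 : N.relIndex K ∣ Nat.card (P : Subgroup G) := by
        rw [hK, Subgroup.relIndex_sup_right]
        exact Subgroup.relIndex_dvd_card _ _
      obtain ⟨i, -, hi⟩ := (Nat.dvd_prime_pow hp).1 (hj ▸ h1)
      exact ⟨i, hi⟩
    obtain ⟨i, hi⟩ := hidx
    have hcen : ∀ u ∈ (P : Subgroup G), ∀ v ∈ N, v * u = u * v := by
      intro u hu v hv
      obtain ⟨j, hj⟩ := IsPGroup.iff_orderOf.1 P.2 ⟨u, hu⟩
      have := centralizes_of_allPrime (allPrime_normal h K) (N.subgroupOf K)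
        (by rwa [Base.card_subgroupOf (le_sup_right : N ≤ K)]) hi
        (u := ⟨u, Subgroup.mem_sup_left hu⟩) (j := j)
        (by rw [Subgroup.orderOf_mk] at hj ⊢; exact hj)
      exact congrArg Subtype.val (Subgroup.mem_centralizer_iff.1 this ⟨v, Subgroup.mem_sup_right hv⟩
        (Subgroup.mem_subgroupOf.2 hv))
    have hKP : K ≤ Subgroup.normalizer ((P : Subgroup G) : Set G) := by
      refine sup_le Subgroup.le_normalizer fun v hv => ?_
      rw [Subgroup.mem_normalizer_iff]
      intro u
      constructor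
      · intro hu
        rwa [hcen u hu v hv, mul_inv_cancel_right]
      · intro hu
        have h1 : v⁻¹ * (v * u * v⁻¹) = (v * u * v⁻¹) * v⁻¹ := hcen _ hu _ (N.inv_mem hv)
        have e : u = v * u * v⁻¹ := by
          have h2 := congrArg (· * v) h1
          simpa [mul_assoc] using h2
        rwa [e]
    rw [← Subgroup.normalizer_eq_top_iff]
    have := P.normalizer_sup_eq_top' (le_sup_left : (P : Subgroup G) ≤ K)
    exact top_unique ((le_of_eq this.symm).trans (sup_le le_rfl hKP))

/-- With all degrees prime to `p`, a normal Sylow subgroup is commutative. -/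
theorem comm_of_allPrime {G : Type*} [Group G] [Finite G] (h : AllPrime p G) {P : Subgroup G}
    [P.Normal] (hP : IsPGroup p P) (a b : P) : a * b = b * a := by
  classical
  haveI := Fintype.ofFinite P
  refine comm_of_all_linear (fun θ => ?_) a b
  obtain ⟨n, -, hn, hdvd⟩ := irr_degree_dvd_card θ.2
  rw [irr_apply_one] at hn
  have hn' : charDegree (θ : P → ℂ) = n := by exact_mod_cast hn
  obtain ⟨j, hj⟩ := IsPGroup.iff_card.1 hP
  obtain ⟨i, -, rfl⟩ := (Nat.dvd_prime_pow (Fact.out : p.Prime)).1 (hj ▸ hdvd)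
  cases i with
  | zero => simpa using hn'
  | succ i => exact absurd (hn' ▸ dvd_pow_self p i.succ_ne_zero) (allPrime_normal h P θ)

section Main

variable {M : Ideal AlgInt} [M.IsPrime] {G : Type*} [Group G] [Fintype G]

/-- A congruence of central characters passes to inflations. -/
theorem sameBlock_inflate (N : Subgroup G) [N.Normal] {f f' : G ⧸ N → ℂ}
    (h : SameBlock M f f') : SameBlock M (f ∘ QuotientGroup.mk) (f' ∘ QuotientGroup.mk) := by
  intro y
  have hd : (Subgroup.centralizer ({(y : G ⧸ N)} : Set (G ⧸ N))).index ∣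
      (Subgroup.centralizer ({y} : Set G)).index := by
    rw [← Subgroup.index_comap_of_surjective _ (QuotientGroup.mk'_surjective N)]
    refine Subgroup.index_dvd_of_le fun c hc => ?_
    rw [Subgroup.mem_comap, Subgroup.mem_centralizer_singleton_iff]
    exact (congrArg (QuotientGroup.mk' N) (Subgroup.mem_centralizer_singleton_iff.1 hc) :)
  obtain ⟨c, hc⟩ := hd
  have e : ∀ f : G ⧸ N → ℂ, centralChar (f ∘ QuotientGroup.mk) y =
      (c : ℂ) * centralChar f (y : G ⧸ N) := fun f => by
    simp only [centralChar, Function.comp_apply, hc, Nat.cast_mul, QuotientGroup.mk_one]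
    ring
  rw [e, e, ← mul_sub]
  exact MemLocalIdeal.mul_left' (natCast_mem _ c) (h _)

/-- A self-centralizing normal `p`-subgroup forces a single block. -/
theorem sameBlock_of_selfcentralizing (hpM : (p : AlgInt) ∈ M) {D : Subgroup G} [D.Normal]
    (hD : IsPGroup p D) (hC : Subgroup.centralizer (D : Set G) ≤ D) (χ ψ : IrrCharacter G) :
    SameBlock M (χ : G → ℂ) (ψ : G → ℂ) := by
  refine sameBlock_of_regular hpM fun y hy => ?_
  by_cases h1 : y = 1
  · subst h1
    have e : ∀ φ : IrrCharacter G, centralChar (φ : G → ℂ) 1 = 1 := fun φ => by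
      rw [centralChar, mul_div_assoc, div_self (irr_degree_ne_zero φ.2), mul_one]
      simp
    rw [e, e, sub_self]
    exact MemLocalIdeal.zero'
  · have hnot : ∀ x, IsConj y x → x ∉ Subgroup.centralizer (D : Set G) := by
      intro x hx hxC
      obtain ⟨c, rfl⟩ := isConj_iff.1 hx
      obtain ⟨j, hj⟩ := IsPGroup.iff_orderOf.1 hD ⟨_, hC hxC⟩
      rw [Subgroup.orderOf_mk] at hj
      have ho := orderOf_injective (MulAut.conj c).toMonoidHom (MulAut.conj c).injective y
      simp only [MulEquiv.toMonoidHom_eq_coe, MonoidHom.coe_coe, MulAut.conj_apply] at ho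
      rw [hj] at ho
      cases j with
      | zero => exact h1 (orderOf_eq_one_iff.1 (by rw [← ho, pow_zero]))
      | succ j => exact hy (ho ▸ dvd_pow_self p j.succ_ne_zero)
    exact MemLocalIdeal.sub' (centralChar_mem_of_not_meet hpM hD hnot χ)
      (centralChar_mem_of_not_meet hpM hD hnot ψ)

theorem height_zero_iff {χ : IrrCharacter G} :
    blockHeight p (principalBlock M G) (χ : G → ℂ) = 0 ↔ ¬ p ∣ charDegree (χ : G → ℂ) := by
  have h0 : (charDegree ((principal G : IrrCharacter G) : G → ℂ)).factorization p = 0 := by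
    have h1 := irr_apply_one (principal G : IrrCharacter G)
    rw [principal_apply] at h1
    have h2 : charDegree ((principal G : IrrCharacter G) : G → ℂ) = 1 := by exact_mod_cast h1.symm
    rw [h2, Nat.factorization_one, Finsupp.zero_apply]
  have hmin : sInf ((fun ψ : IrrCharacter G => (charDegree (ψ : G → ℂ)).factorization p) ''
      principalBlock M G) = 0 :=
    Nat.sInf_eq_zero.2 (Or.inl ⟨_, principal_mem_principalBlock M, h0⟩)
  rw [blockHeight, hmin, Nat.sub_zero, Nat.factorization_eq_zero_iff]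
  simp [(Fact.out : p.Prime), irr_charDegree_ne_zero χ]

/-- The Sylow subgroups of a `p`-solvable group are commutative iff the principal block has
all heights zero. -/
theorem abelian_iff (hpM : (p : AlgInt) ∈ M) (hsolv : IsPSolvable p G) (P : Sylow p G) :
    IsMulCommutative P ↔
      ∀ χ ∈ principalBlock M G, blockHeight p (principalBlock M G) (χ : G → ℂ) = 0 := by
  classical
  have hp : p.Prime := Fact.out
  set N := pPrimeCore p G with hN
  haveI := Fintype.ofFinite (G ⧸ N)
  have hsQ : IsPSolvable p (G ⧸ N) := PLocal.isPSolvable_quotient hsolv N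
  have hC : Subgroup.centralizer (pCore p (G ⧸ N) : Set (G ⧸ N)) ≤ pCore p (G ⧸ N) :=
    PLocal.centralizer_pCore_le hsQ (Base.pPrimeCore_quotient_pPrimeCore p G)
  have hNp : ¬ p ∣ Nat.card N := (hp.coprime_iff_not_dvd.1 (Base.pPrimeCore_coprime p G).symm)
  set P' := P.mapSurjective (QuotientGroup.mk'_surjective N) with hP'
  have hinj : Function.Injective ((QuotientGroup.mk' N).comp (P : Subgroup G).subtype) := by
    rw [injective_iff_map_eq_one]
    intro u hu
    rw [MonoidHom.comp_apply, Subgroup.coe_subtype, QuotientGroup.mk'_apply,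
      QuotientGroup.eq_one_iff] at hu
    obtain ⟨j, hj⟩ := IsPGroup.iff_orderOf.1 P.2 u
    rw [← orderOf_eq_one_iff, hj]
    have h1 : p ^ j ∣ Nat.card N := by
      rw [← hj, ← Subgroup.orderOf_coe, ← Subgroup.orderOf_mk (u : G) hu]
      exact orderOf_dvd_natCard _
    cases j with
    | zero => simp
    | succ j => exact absurd ((dvd_pow_self p j.succ_ne_zero).trans h1) hNp
  constructor
  · intro hP χ hχ
    rw [height_zero_iff]
    obtain ⟨f, hf, hfe⟩ := exists_deflate_irr N χ.2 fun n hn =>
      principalBlock_apply_normal hpM hNp hχ hn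
    set D := pCore p (G ⧸ N) with hDdef
    have hDP : D ≤ (P' : Subgroup (G ⧸ N)) := by
      have := P'.3 (P'.2.to_sup_of_normal_right (Base.isPGroup_pCore p (G ⧸ N))) le_sup_left
      exact this ▸ le_sup_right
    have hcomm : ∀ a ∈ (P' : Subgroup (G ⧸ N)), ∀ b ∈ (P' : Subgroup (G ⧸ N)), a * b = b * a := by
      intro a ha b hb
      rw [hP', Sylow.coe_mapSurjective] at ha hb
      obtain ⟨a, ha, rfl⟩ := ha
      obtain ⟨b, hb, rfl⟩ := hb
      rw [← map_mul, ← map_mul]
      exact congrArg _ (congrArg Subtype.val (hP.is_comm.comm ⟨a, ha⟩ ⟨b, hb⟩))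
    have hPD : (P' : Subgroup (G ⧸ N)) ≤ D := fun a ha => hC (Subgroup.mem_centralizer_iff.2
      fun b hb => hcomm b (hDP hb) a ha)
    haveI := Fintype.ofFinite D
    obtain ⟨k, hk, hdvd⟩ := CharsMore.ito_degree_dvd (N := D)
      (fun a ha b hb => hcomm a (hDP ha) b (hDP hb)) hf
    have e : charDegree (χ : G → ℂ) = k := by
      have h1 := irr_apply_one χ
      rw [hfe] at h1
      simp only [QuotientGroup.mk_one] at h1
      rw [hk] at h1
      rw [hfe]
      exact_mod_cast h1.symm
    rw [e]
    exact fun hd => P'.not_dvd_index ((hd.trans hdvd).trans (Subgroup.index_dvd_of_le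
      (le_antisymm hDP hPD).ge))
  · intro hht
    have hall : AllPrime p (G ⧸ N) := by
      intro χ hd
      have hmem : (⟨_, isIrrCharacter_inflate N χ.2⟩ : IrrCharacter G) ∈ principalBlock M G := by
        rw [principalBlock_eq, mem_blockOf]
        exact sameBlock_inflate N (sameBlock_of_selfcentralizing hpM (Base.isPGroup_pCore p _) hC
          (principal (G ⧸ N)) χ)
      have h1 := height_zero_iff.1 (hht _ hmem)
      apply h1
      have e : charDegree ((χ : G ⧸ N → ℂ) ∘ QuotientGroup.mk) = charDegree (χ : G ⧸ N → ℂ) := by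
        simp [charDegree]
      show p ∣ charDegree ((χ : G ⧸ N → ℂ) ∘ QuotientGroup.mk)
      rwa [e]
    haveI := normal_sylow_of_allPrime hsQ hall P'
    refine ⟨⟨fun a b => hinj ?_⟩⟩
    rw [map_mul, map_mul]
    have hmem : ∀ u : P, ((u : G) : G ⧸ N) ∈ (P' : Subgroup (G ⧸ N)) := fun u => by
      rw [hP', Sylow.coe_mapSurjective]; exact ⟨u, u.2, rfl⟩
    exact congrArg Subtype.val (comm_of_allPrime hall P'.2 ⟨_, hmem a⟩ ⟨_, hmem b⟩)

end Main

end PrincHeights

end CfsgLib.Blocks
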