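import Cfsg.Agent.Lib.Blocks.Q8Fusion
import Cfsg.Agent.Lib.Involutions.ZStar.Q8Block
import Cfsg.Agent.Lib.Involutions.ZStar.BrauerSuzuki
import Cfsg.Agent.Lib.BlockOrth.Subsection
import Mathlib.LinearAlgebra.FiniteDimensional.Lemmas

/-!
# The principal block for a quaternion Sylow subgroup of order eight
-/

set_option autoImplicit false
set_option linter.style.haveILetI false
set_option linter.unusedSectionVars false

namespace CfsgLib.Blocks

open Cfsg Chars BlockOrth Involutions Involutions.ZStar Involutions.ZStar.Q8Hyp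
open scoped ComplexConjugate

universe u

variable {G : Type u} [Group G]

theorem q8Hyp_of_oddCore [Finite G] (S : Sylow 2 G) (e : (S : Subgroup G) ≃* QuaternionGroup 2)
    (hO : oddCore G = ⊥) (hG : (S : Subgroup G) ≠ ⊤) : ∃ z : G, Q8Hyp G z S := by
  haveI : Fact (Nat.Prime 2) := ⟨Nat.prime_two⟩
  have hnc : ¬ HasNormalPComplement 2 G := by
    intro h
    obtain ⟨N, hN, hc⟩ := exists_complement_sylow h S
    haveI := hN
    refine hG ?_
    have hodd : Odd (Nat.card N) := by
      rw [← hc.index_eq_card]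
      exact Nat.odd_iff.2 (Nat.two_dvd_ne_zero.1 S.not_dvd_index)
    have hb : N = ⊥ := le_bot_iff.1 (hO ▸ Base.le_oddCore hodd)
    rw [hb] at hc
    exact Subgroup.isComplement'_bot_left.1 hc
  obtain ⟨g, hg, φ, hφ, hcyc⟩ := exists_q8_normalizer_aut S e hnc
  have hc2 := Involutions.ZStar.card_center_eq_two S 0 e hO
  obtain ⟨z, hz⟩ := exists_prime_orderOf_dvd_card' (G := Subgroup.center G) 2 (by rw [hc2])
  refine ⟨z, ⟨z.2, by rw [Subgroup.orderOf_coe, hz], ⟨e⟩, ?_⟩⟩
  have into : ∀ s : G, orderOf s = 4 → ∃ a : (S : Subgroup G), a * a ≠ 1 ∧ IsConj s (a : G) := by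
    intro s hs
    obtain ⟨T, hT⟩ := (IsPGroup.of_card (p := 2) (n := 2) (G := Subgroup.zpowers s)
      (by rw [Nat.card_zpowers, hs]; rfl)).exists_le_sylow
    obtain ⟨c, hc⟩ := MulAction.exists_smul_eq G T S
    have hmem : c * s * c⁻¹ ∈ (S : Subgroup G) := by
      rw [← hc, Sylow.coe_subgroup_smul]
      exact ⟨_, hT (Subgroup.mem_zpowers s), rfl⟩
    refine ⟨⟨_, hmem⟩, fun h => ?_, isConj_iff.2 ⟨c, rfl⟩⟩
    have h2 : c * s * c⁻¹ * (c * s * c⁻¹) = 1 := congrArg Subtype.val h
    rw [show c * s * c⁻¹ * (c * s * c⁻¹) = c * (s * s) * c⁻¹ by group, conj_eq_one_iff, ← sq] at h2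
    have := orderOf_dvd_of_pow_eq_one h2
    rw [hs] at this
    norm_num at this
  intro s t hs ht
  obtain ⟨a, ha, hsa⟩ := into s hs
  obtain ⟨b, hb, htb⟩ := into t ht
  obtain ⟨k, hk⟩ := hcyc a b ha hb
  refine (hsa.trans ?_).trans htb.symm
  rcases hk with hk | hk
  · exact isConj_iff.2 ⟨g ^ k, by rw [← hφ, hk]⟩
  · obtain ⟨c, hc⟩ := q8_isConj_inv S e b
    refine (isConj_iff.2 ⟨g ^ k, (hφ k a).symm.trans (congrArg Subtype.val hk)⟩).trans
      (isConj_iff.2 ⟨(c : G)⁻¹, ?_⟩)
    rw [inv_inv, ← hc]
    simp only [Subgroup.coe_mul, Subgroup.coe_inv]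
    group

variable [Fintype G] {M : Ideal AlgInt}

open Classical in
theorem card_principalBlock_q8 [Fact (Nat.Prime 2)] {z : G} {S : Sylow 2 G} (h : Q8Hyp G z S)
    (hM : IsPModular 2 M) : Nat.card (principalBlock M G) = 7 := by
  haveI := isPrime_of_isPModular hM
  haveI := irrFintype G
  obtain ⟨D⟩ := h.nonempty_data hM
  have hB := isPBlock_principalBlock (G := G) M
  set B := principalBlock M G with hBdef
  set F := Finset.univ.filter (fun χ : IrrCharacter G => χ ∈ B) with hF
  have hreg : ∀ g : G, twoPart g = z → twoPart (z * g) = 1 := fun g hg => by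
    rw [(h.parts_z_mul g).1, hg, h.zz]
  have hzg : ∀ g : G, z * (z * g) = g := fun g => by rw [← mul_assoc, h.zz, one_mul]
  have pR : ∀ (f : G → ℂ) g, pRegularPart 2 f g = if twoPart g = 1 then f g else 0 := fun f g => by
    rw [pRegularPart_apply]
    simp only [regular_iff]
  have cls : ∀ χ : IrrCharacter G, IsClassFunction G (χ : G → ℂ) := isClassFunction_irr
  -- the odd extension of the regular part
  set Od : (G → ℂ) → (G → ℂ) := fun f g => pRegularPart 2 f g - pRegularPart 2 f (z * g) with hOd
  have hOdz : ∀ f g, Od f (z * g) = -Od f g := fun f g => by simp only [hOd, hzg, neg_sub]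
  have hOdreg : ∀ f g, twoPart g = 1 → Od f g = f g := fun f g hg => by
    simp only [hOd, pR, hg, if_true, (h.parts_z_mul g).1, mul_one,
      if_neg (invol_ne_one h.invol), sub_zero]
  have hOdcls : ∀ f, IsClassFunction G f → IsClassFunction G (Od f) := fun f hf g c => by
    have hc := isClassFunction_pRegularPart (p := 2) hf
    simp only [hOd]
    rw [hc g c, show z * (c * g * c⁻¹) = c * (z * g) * c⁻¹ by
      rw [← mul_assoc, ← mul_assoc, (h.comm c).eq, mul_assoc c z g], hc (z * g) c]
  have hoff : ∀ χ η : IrrCharacter G, χ ∈ B → η ∉ B →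
      classInner (pRegularPart 2 (χ : G → ℂ)) (η : G → ℂ) = 0 := by
    intro χ η hχ hη
    have e := pInt_spec (p := 2) χ η
    rw [pInt_eq_zero hM.2.2 hB hχ hη, pInner, Int.cast_zero] at e
    exact (mul_eq_zero.mp e).resolve_left (by simp)
  have hOdoff : ∀ χ η : IrrCharacter G, χ ∈ B → η ∉ B →
      classInner (Od (χ : G → ℂ)) (η : G → ℂ) = 0 := by
    intro χ η hχ hη
    have e0 := hoff χ η hχ hη
    have e1 : classInner (fun g => pRegularPart 2 (χ : G → ℂ) (z * g)) (η : G → ℂ) = 0 := by
      rw [inner_def, ← Equiv.sum_comp (Equiv.mulLeft z)]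
      simp only [Equiv.coe_mulLeft, hzg]
      rw [inner_def] at e0
      rcases irr_central_invol h.central h.zz η with e | e
      · simp only [e]; exact e0
      · simp only [e, map_neg, mul_neg, Finset.sum_neg_distrib, e0, neg_zero]
    rw [inner_def] at e0 e1 ⊢
    simp only [hOd, sub_mul, Finset.sum_sub_distrib, mul_sub, e0, e1, sub_zero]
  -- the sets
  set O := F.filter (fun χ : IrrCharacter G => ∀ g, (χ : G → ℂ) (z * g) = -(χ : G → ℂ) g) with hOdef
  set E : Finset (IrrCharacter G) := {principal G, D.X, D.Y, D.Z} with hE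
  obtain ⟨s, -, hs⟩ := h.exists_four
  have hpe : ∀ g, (principal G : G → ℂ) (z * g) = (principal G : G → ℂ) g := fun g => by
    simp [principal_apply]
  have hnotOdd : ∀ χ : IrrCharacter G, (∀ g, (χ : G → ℂ) (z * g) = (χ : G → ℂ) g) →
      ¬ ∀ g, (χ : G → ℂ) (z * g) = -(χ : G → ℂ) g := fun χ he ho => by
    have h1 := ho 1
    rw [he, CharZero.eq_neg_self_iff] at h1
    exact irr_degree_ne_zero χ.2 h1
  have heven4 : ∀ χ : IrrCharacter G, (∀ g, (χ : G → ℂ) (z * g) = (χ : G → ℂ) g) → χ ∈ B →
      χ ∈ E := by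
    intro χ he hχ
    by_contra hn
    simp only [hE, Finset.mem_insert, Finset.mem_singleton, not_or] at hn
    obtain ⟨a, b, c, d⟩ := hn
    have e := D.expand (χ : G → ℂ) he 1
    rw [inner_irr_ne a, inner_irr_ne b, inner_irr_ne c, inner_irr_ne d, zero_mul, zero_mul,
      zero_mul, zero_add, zero_add, zero_add, blockPart_apply_eq_sum,
      Finset.sum_eq_single χ (fun η _ hne => by rw [inner_irr_ne hne.symm, zero_mul])
        (fun hc => absurd (Finset.mem_filter.2 ⟨Finset.mem_univ _, hχ⟩) hc), inner_irr_self,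
      one_mul] at e
    exact irr_degree_ne_zero χ.2 e
  have hEB : ∀ χ ∈ E, χ ∈ B ∧ ∀ g, (χ : G → ℂ) (z * g) = (χ : G → ℂ) g := by
    have key : ∀ χ : IrrCharacter G, (∀ g, (χ : G → ℂ) (z * g) = (χ : G → ℂ) g) →
        classInner (χ : G → ℂ) (principal G : G → ℂ) * 1 +
          classInner (χ : G → ℂ) (D.X : G → ℂ) * (D.X : G → ℂ) 1 +
          classInner (χ : G → ℂ) (D.Y : G → ℂ) * (D.Y : G → ℂ) 1 +
          classInner (χ : G → ℂ) (D.Z : G → ℂ) * (D.Z : G → ℂ) 1 ≠ 0 → χ ∈ B := by
      intro χ he hne
      by_contra hχ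
      apply hne
      rw [mul_one, ← D.expand (χ : G → ℂ) he 1, blockPart_apply_eq_sum]
      refine Finset.sum_eq_zero fun η hη => ?_
      rw [inner_irr_ne (fun e => hχ (by rw [e]; exact (Finset.mem_filter.1 hη).2)), zero_mul]
    intro χ hχ
    simp only [hE, Finset.mem_insert, Finset.mem_singleton] at hχ
    rcases hχ with rfl | rfl | rfl | rfl
    · exact ⟨principal_mem_principalBlock M, hpe⟩
    · refine ⟨key _ D.evenX ?_, D.evenX⟩
      rw [inner_irr_ne D.X_ne, inner_irr_self, inner_irr_ne D.XY, inner_irr_ne D.XZ]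
      simpa using irr_degree_ne_zero D.X.2
    · refine ⟨key _ D.evenY ?_, D.evenY⟩
      rw [inner_irr_ne D.Y_ne, inner_irr_self, inner_irr_ne D.XY.symm, inner_irr_ne D.YZ]
      simpa using irr_degree_ne_zero D.Y.2
    · refine ⟨key _ D.evenZ ?_, D.evenZ⟩
      rw [inner_irr_ne D.Z_ne, inner_irr_self, inner_irr_ne D.XZ.symm, inner_irr_ne D.YZ.symm]
      simpa using irr_degree_ne_zero D.Z.2
  have hsplit : F = E ∪ O := by
    ext χ
    simp only [Finset.mem_union, hOdef, Finset.mem_filter, hF, Finset.mem_univ, true_and]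
    refine ⟨fun hχ => ?_, ?_⟩
    · rcases irr_central_invol h.central h.zz χ with he | ho
      · exact Or.inl (heven4 χ he hχ)
      · exact Or.inr ⟨hχ, ho⟩
    · rintro (hχ | hχ)
      · exact (hEB χ hχ).1
      · exact hχ.1
  have hdisj : Disjoint E O := Finset.disjoint_left.2 fun χ hχ hχ' =>
    hnotOdd χ (hEB χ hχ).2 (Finset.mem_filter.1 hχ').2
  have hE4 : E.card = 4 := by
    rw [hE, Finset.card_insert_of_notMem (by simp [D.X_ne.symm, D.Y_ne.symm, D.Z_ne.symm]),
      Finset.card_insert_of_notMem (by simp [D.XY, D.XZ]), Finset.card_pair D.YZ]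
  -- the odd ones
  set v : O → (G → ℂ) := fun η => pRegularPart 2 ((η : IrrCharacter G) : G → ℂ) with hv
  set w : Fin 3 → (G → ℂ) := fun i =>
    pRegularPart 2 (((![principal G, D.X, D.Y] i) : IrrCharacter G) : G → ℂ) with hw
  have hfour : ∀ η : O, ∀ g, orderOf (twoPart g) = 4 → ((η : IrrCharacter G) : G → ℂ) g = 0 := by
    intro η g hg
    obtain ⟨hmem, ho⟩ := Finset.mem_filter.1 η.2
    have hmem' := (Finset.mem_filter.1 hmem).2
    have e := ho g
    rw [h.block_apply_four hM hmem' hs ((h.four_z_mul g).2 hg),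
      ← h.block_apply_four hM hmem' hs hg, CharZero.eq_neg_self_iff] at e
    exact e
  have vli : LinearIndependent ℂ v := by
    rw [Fintype.linearIndependent_iff]
    intro a ha η₀
    have hzero : ∀ g, ∑ η : O, a η * ((η : IrrCharacter G) : G → ℂ) g = 0 := by
      have hr : ∀ g, twoPart g = 1 → ∑ η : O, a η * ((η : IrrCharacter G) : G → ℂ) g = 0 := by
        intro g hg
        have e := congrFun ha g
        simpa [hv, pR, hg, Finset.sum_apply] using e
      intro g
      rcases h.cases_twoPart g with hg | hg | hg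
      · exact hr g hg
      · have e := hr _ (hreg g hg)
        rw [← neg_eq_zero, ← e, ← Finset.sum_neg_distrib]
        refine Finset.sum_congr rfl fun η _ => ?_
        rw [(Finset.mem_filter.1 η.2).2 g, mul_neg]
      · exact Finset.sum_eq_zero fun η _ => by rw [hfour η g hg, mul_zero]
    have e : classInner (∑ η : O, a η • ((η : IrrCharacter G) : G → ℂ))
        ((η₀ : IrrCharacter G) : G → ℂ) = 0 := by
      rw [show (∑ η : O, a η • ((η : IrrCharacter G) : G → ℂ)) = 0 from funext fun g => by
        simpa [Finset.sum_apply] using hzero g, Chars.inner_zero_left]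
    rw [Chars.inner_sum_left, Finset.sum_eq_single η₀ (fun η _ hne => by
      rw [Chars.inner_smul_left, inner_irr_ne (fun e => hne (Subtype.ext e)), mul_zero])
      (by simp), Chars.inner_smul_left, inner_irr_self, mul_one] at e
    exact e
  have wli : LinearIndependent ℂ w := by
    rw [Fintype.linearIndependent_iff]
    intro a ha
    set f : G → ℂ := fun g => a 0 * (principal G : G → ℂ) g + a 1 * (D.X : G → ℂ) g +
      a 2 * (D.Y : G → ℂ) g with hf
    set c : ℂ := a 0 + a 1 + a 2 * D.nY with hc
    have hr : ∀ g, twoPart g = 1 → f g = 0 := by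
      intro g hg
      have e := congrFun ha g
      simpa [hw, hf, pR, hg, Fin.sum_univ_three, Finset.sum_apply] using e
    have hval : f = (c / 4) • phi (K := G) := by
      funext g
      rcases h.cases_twoPart g with hg | hg | hg
      · rw [hr g hg, Pi.smul_apply, phi_ne (by rw [hg, orderOf_one]; omega), smul_zero]
      · have e := hr _ (hreg g hg)
        simp only [hf, hpe, D.evenX, D.evenY] at e
        rw [Pi.smul_apply, phi_ne (by rw [hg, h.invol]; omega), smul_zero]
        exact e
      · rw [Pi.smul_apply, phi_four hg, smul_eq_mul]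
        simp only [hf, hc, principal_apply, D.fourX g hg, D.fourY g hg]
        ring
    have hsm : f = a 0 • (principal G : G → ℂ) + a 1 • (D.X : G → ℂ) + a 2 • (D.Y : G → ℂ) := rfl
    have ip : ∀ η : IrrCharacter G, classInner f (η : G → ℂ) =
        a 0 * classInner (principal G : G → ℂ) (η : G → ℂ) +
        a 1 * classInner (D.X : G → ℂ) (η : G → ℂ) +
        a 2 * classInner (D.Y : G → ℂ) (η : G → ℂ) := fun η => by
      rw [hsm]
      simp only [Chars.inner_add_left, Chars.inner_smul_left]
    have e := ip D.Z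
    rw [inner_irr_ne D.Z_ne.symm, inner_irr_ne D.XZ, inner_irr_ne D.YZ, hval, Chars.inner_smul_left,
      h.inner_phi (D.Z : G → ℂ) (-1) D.fourZ] at e
    simp only [map_neg, map_one, mul_neg, mul_one, mul_zero, add_zero, neg_eq_zero] at e
    rw [e, zero_smul] at hval
    have e0 := ip (principal G)
    have e1 := ip D.X
    have e2 := ip D.Y
    rw [hval, Chars.inner_zero_left, inner_irr_self, inner_irr_ne D.X_ne, inner_irr_ne D.Y_ne] at e0
    rw [hval, Chars.inner_zero_left, inner_irr_self, inner_irr_ne D.X_ne.symm,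
      inner_irr_ne D.XY.symm] at e1
    rw [hval, Chars.inner_zero_left, inner_irr_self, inner_irr_ne D.Y_ne.symm, inner_irr_ne D.XY] at e2
    intro i
    fin_cases i
    · simpa using e0.symm
    · simpa using e1.symm
    · simpa using e2.symm
  have hspan : Submodule.span ℂ (Set.range v) = Submodule.span ℂ (Set.range w) := by
    apply le_antisymm <;> rw [Submodule.span_le]
    · rintro _ ⟨η, rfl⟩
      obtain ⟨hmem, ho⟩ := Finset.mem_filter.1 η.2
      have hmem' := (Finset.mem_filter.1 hmem).2
      set θ : G → ℂ := fun g => pRegularPart 2 ((η : IrrCharacter G) : G → ℂ) g +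
        pRegularPart 2 ((η : IrrCharacter G) : G → ℂ) (z * g) with hθdef
      have hθz : ∀ g, θ (z * g) = θ g := fun g => by simp only [hθdef, hzg, add_comm]
      have hθcls : IsClassFunction G θ := fun g c => by
        have hc := isClassFunction_pRegularPart (p := 2) (cls η)
        simp only [hθdef]
        rw [hc g c, show z * (c * g * c⁻¹) = c * (z * g) * c⁻¹ by
          rw [← mul_assoc, ← mul_assoc, (h.comm c).eq, mul_assoc c z g], hc (z * g) c]
      have hθoff : ∀ ξ : IrrCharacter G, ξ ∉ B → classInner θ (ξ : G → ℂ) = 0 := by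
        intro ξ hξ
        have e0 := hoff η ξ hmem' hξ
        have e1 : classInner (fun g => pRegularPart 2 ((η : IrrCharacter G) : G → ℂ) (z * g))
            (ξ : G → ℂ) = 0 := by
          rw [inner_def, ← Equiv.sum_comp (Equiv.mulLeft z)]
          simp only [Equiv.coe_mulLeft, hzg]
          rw [inner_def] at e0
          rcases irr_central_invol h.central h.zz ξ with e | e
          · simp only [e]; exact e0
          · simp only [e, map_neg, mul_neg, Finset.sum_neg_distrib, e0, neg_zero]
        rw [inner_def] at e0 e1 ⊢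
        simp only [hθdef, add_mul, Finset.sum_add_distrib, mul_add, e0, e1, add_zero]
      have hbp : ∀ g, blockPart B θ g = θ g := fun g => by
        conv_rhs => rw [classFun_eq_sum hθcls]
        rw [blockPart_apply_eq_sum, Finset.sum_apply]
        simp only [Pi.smul_apply, smul_eq_mul]
        refine Finset.sum_subset (Finset.subset_univ _) fun ξ _ hξ => ?_
        rw [hθoff ξ (by simpa using hξ), zero_mul]
      rw [SetLike.mem_coe, Submodule.mem_span_range_iff_exists_fun]
      refine ⟨![classInner θ (principal G : G → ℂ) + classInner θ (D.Z : G → ℂ),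
        classInner θ (D.X : G → ℂ) + classInner θ (D.Z : G → ℂ),
        classInner θ (D.Y : G → ℂ) + classInner θ (D.Z : G → ℂ) * D.nY], funext fun g => ?_⟩
      simp only [Fin.sum_univ_three, hw, hv, Pi.add_apply, Pi.smul_apply, smul_eq_mul, pR]
      by_cases hg : twoPart g = 1
      · have e := (hbp g).symm.trans (D.expand θ hθz g)
        have hθg : θ g = ((η : IrrCharacter G) : G → ℂ) g := by
          simp only [hθdef, pR, hg, if_true, (h.parts_z_mul g).1, mul_one,
            if_neg (invol_ne_one h.invol), add_zero]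
        rw [hθg, D.regZ g hg] at e
        generalize classInner θ (principal G : G → ℂ) = c0 at e ⊢
        generalize classInner θ (D.X : G → ℂ) = c1 at e ⊢
        generalize classInner θ (D.Y : G → ℂ) = c2 at e ⊢
        generalize classInner θ (D.Z : G → ℂ) = c3 at e ⊢
        simp [hg, principal_apply]
        linear_combination -e
      · simp [hg]
    · have hgen : ∀ χ : IrrCharacter G, χ ∈ B →
          pRegularPart 2 (χ : G → ℂ) ∈ Submodule.span ℂ (Set.range v) := by
        intro χ hχ
        rw [Submodule.mem_span_range_iff_exists_fun]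
        refine ⟨fun η => classInner (Od (χ : G → ℂ)) ((η : IrrCharacter G) : G → ℂ),
          funext fun g => ?_⟩
        simp only [Finset.sum_apply, Pi.smul_apply, smul_eq_mul, hv, pR]
        by_cases hg : twoPart g = 1
        · simp only [hg, if_true]
          rw [← hOdreg (χ : G → ℂ) g hg]
          conv_rhs => rw [classFun_eq_sum (hOdcls _ (cls χ)), Finset.sum_apply]
          simp only [Pi.smul_apply, smul_eq_mul]
          rw [Finset.sum_coe_sort O (fun η : IrrCharacter G =>
            classInner (Od (χ : G → ℂ)) (η : G → ℂ) * (η : G → ℂ) g)]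
          refine Finset.sum_subset (Finset.subset_univ _) fun η _ hη => ?_
          by_cases hηB : η ∈ B
          · rcases irr_central_invol h.central h.zz η with he | ho
            · have e0 : classInner (η : G → ℂ) (Od (χ : G → ℂ)) = 0 :=
                h.inner_even_odd he (hOdz _)
              rw [← inner_conj, e0, map_zero, zero_mul]
            · exact absurd (Finset.mem_filter.2
                ⟨Finset.mem_filter.2 ⟨Finset.mem_univ _, hηB⟩, ho⟩) hη
          · rw [hOdoff χ η hχ hηB, zero_mul]
        · simp [hg]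
      rintro _ ⟨i, rfl⟩
      refine hgen _ ((hEB _ ?_).1)
      fin_cases i <;> simp [hE]
  have hO3 : O.card = 3 := by
    have e1 := finrank_span_eq_card vli
    rw [hspan, finrank_span_eq_card wli, Fintype.card_fin, Fintype.card_coe] at e1
    exact e1.symm
  rw [← Nat.card_congr (Equiv.subtypeEquivRight (p := fun χ => χ ∈ F)
      (q := fun χ => χ ∈ B) fun χ => by simp [hF]), Nat.card_eq_fintype_card, Fintype.card_coe,
    hsplit, Finset.card_union_of_disjoint hdisj, hE4, hO3]

end CfsgLib.Blocks
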