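import Cfsg.Agent.Lib.Blocks.SecondMain
import Cfsg.Agent.Lib.Blocks.Degree

/-!
# The second main theorem for block parts of class functions
-/

set_option linter.unusedSectionVars false
set_option linter.style.haveILetI false

namespace CfsgLib.Blocks

open Cfsg Chars

variable {G : Type*} [Group G] [Fintype G] {M : Ideal AlgInt} [M.IsPrime] {p : ℕ} [Fact p.Prime]

omit [Fintype G] in
theorem isClassFunction_mul_left {z : G} {θ : G → ℂ} (hθ : IsClassFunction G θ) :
    IsClassFunction (Subgroup.centralizer ({z} : Set G))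
      (fun c : Subgroup.centralizer ({z} : Set G) => θ (z * c)) := fun c d => by
  have hd : Commute (d : G) z := Subgroup.mem_centralizer_singleton_iff.1 d.2
  have : z * ((d : G) * (c : G) * (d : G)⁻¹) = (d : G) * (z * c) * (d : G)⁻¹ := by
    rw [← mul_assoc, ← mul_assoc, ← hd.eq]; group
  push_cast
  rw [this, hθ]

/-- Every block of the centralizer of a `p`-element induces a block. -/
theorem exists_isInducedBlock_centralizer (hpM : (p : AlgInt) ∈ M) {z : G}
    (hz : ∃ k, orderOf z = p ^ k) {b : Set (IrrCharacter (Subgroup.centralizer ({z} : Set G)))}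
    (hb : IsPBlock M b) : InducedBlockDefined M (Subgroup.centralizer ({z} : Set G)) b := by
  obtain ⟨k, hk⟩ := hz
  have hP : IsPGroup p (Subgroup.zpowers z) :=
    IsPGroup.of_card (n := k) (by rw [Nat.card_zpowers, hk])
  have hzH : z ∈ Subgroup.centralizer ({z} : Set G) := Subgroup.mem_centralizer_singleton_iff.2 rfl
  have hCC : Subgroup.centralizer ({z} : Set G) =
      Subgroup.centralizer (Subgroup.zpowers z : Set G) := by
    rw [Subgroup.zpowers_eq_closure, Subgroup.centralizer_closure]
  exact exists_isInducedBlock hpM hP (Subgroup.zpowers_le.2 hzH) hCC.ge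
    (hCC.le.trans (Subgroup.centralizer_le_normalizer _)) hb

/-- Sum of the primitive idempotents in one block. -/
theorem sum_filter_idemCoeff {H : Type*} [Group H] [Fintype H] [Fintype (IrrCharacter H)]
    {b : Set (IrrCharacter H)} [DecidablePred fun ξ : IrrCharacter H => blockOf M (ξ : H → ℂ) = b]
    (hb : IsPBlock M b) (u : H) :
    ∑ ξ ∈ Finset.univ.filter (fun ξ : IrrCharacter H => blockOf M (ξ : H → ℂ) = b),
        idemCoeff (ξ : H → ℂ) u = blockCoeff b u := by
  classical
  rw [blockCoeff_eq, Finset.sum_filter]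
  refine Finset.sum_congr rfl fun ξ _ => ?_
  by_cases h : ξ ∈ b
  · rw [if_pos h, if_pos (IsPBlock.eq_blockOf hb h).symm, one_mul]
  · have h2 : ¬ blockOf M (ξ : H → ℂ) = b := fun h' => h (by rw [← h']; exact mem_blockOf_self ξ)
    rw [if_neg h, if_neg h2, zero_mul]

/-- All primitive idempotents sum to one. -/
theorem sum_idemCoeff_all {H : Type*} [Group H] [Fintype H] [Fintype (IrrCharacter H)] (u : H) :
    ∑ ξ : IrrCharacter H, idemCoeff (ξ : H → ℂ) u = classInd (1 : H) u := by
  rw [classFun_eq_sum_omega (isClassFunction_classInd 1) u]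
  simp [omega_classInd, centralChar_one]

/-- Core of the second main theorem for one block of the centralizer. -/
theorem sum_blockCoeff_twisted (hpM : (p : AlgInt) ∈ M) {B : Set (IrrCharacter G)}
    (hB : IsPBlock M B) {θ : G → ℂ} (hθ : IsClassFunction G θ) {z : G}
    (hz : ∃ k, orderOf z = p ^ k) {y : Subgroup.centralizer ({z} : Set G)}
    (hy : ¬ p ∣ orderOf y) [Fintype (Subgroup.centralizer ({z} : Set G))]
    [DecidablePred fun b : Set (IrrCharacter (Subgroup.centralizer ({z} : Set G))) =>
      IsInducedBlock M (Subgroup.centralizer ({z} : Set G)) b B]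
    {b : Set (IrrCharacter (Subgroup.centralizer ({z} : Set G)))} (hb : IsPBlock M b) :
    ∑ k : Subgroup.centralizer ({z} : Set G), blockCoeff b k *
        ∑ g, blockCoeff B g * θ (g * ((k : G) * (z * (y : G)))) =
      if IsInducedBlock M (Subgroup.centralizer ({z} : Set G)) b B then
        ∑ k : Subgroup.centralizer ({z} : Set G), blockCoeff b k * θ ((k : G) * (z * (y : G)))
      else 0 := by
  classical
  have hzpow : ∃ k : ℕ, z ^ p ^ k = 1 := by
    obtain ⟨k, hk⟩ := hz
    exact ⟨k, by rw [← hk]; exact pow_orderOf_eq_one z⟩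
  have hzH : z ∈ Subgroup.centralizer ({z} : Set G) := Subgroup.mem_centralizer_singleton_iff.2 rfl
  have hy' : ¬ p ∣ orderOf (y : G) := by rwa [Subgroup.orderOf_coe]
  have hcomm : Commute (y : G) z := Subgroup.mem_centralizer_singleton_iff.1 y.2
  obtain ⟨B', hind⟩ := exists_isInducedBlock_centralizer hpM hz hb
  obtain ⟨e, he0⟩ : ∃ e : G → ℂ, e = blockCoeff B := ⟨_, rfl⟩
  have he : IsLocClassFun M e := he0 ▸ isLocClassFun_blockCoeff hB
  rw [← he0]
  by_cases hne : IsInducedBlock M (Subgroup.centralizer ({z} : Set G)) b B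
  · rw [if_pos hne]
    obtain ⟨a, ha0⟩ : ∃ a : G → ℂ, a = classInd (1 : G) + (-1 : ℂ) • e := ⟨_, rfl⟩
    have hal : IsLocClassFun M a :=
      ha0 ▸ (isLocClassFun_classInd 1).add (he.smul (neg_mem (one_mem _)))
    have hωa : ∀ χ : IrrCharacter G, omega (χ : G → ℂ) a = if χ ∈ B then 0 else 1 := by
      intro χ
      rw [ha0, omega_add, omega_smul, he0, omega_blockCoeff, omega_classInd, centralChar_one]
      split_ifs <;> norm_num
    have hidem : conv a a = a := by
      refine classFun_ext_omega (hal.conv hal).1 hal.1 fun χ => ?_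
      rw [omega_conv χ hal.1, hωa]
      split_ifs <;> simp
    have h1 := second_main_core hpM hb hal hidem (fun ξ hξ => ?_) hzpow hy' hcomm hzH le_rfl hθ
    swap
    · obtain ⟨ψ, hψ⟩ := IsPBlock.nonempty hne.2.1
      have h1 := IsInducedBlock.omega_sub hne hξ hψ hal
      rwa [hωa, if_pos hψ, sub_zero] at h1
    have hsum : ∀ v : G, ∑ g, a g * θ (g * (v * (z * (y : G)))) =
        θ (v * (z * (y : G))) - ∑ g, e g * θ (g * (v * (z * (y : G)))) := by
      intro v
      rw [ha0, sub_eq_add_neg, ← Finset.sum_neg_distrib]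
      simp only [Pi.add_apply, Pi.smul_apply, smul_eq_mul, add_mul, Finset.sum_add_distrib]
      congr 1
      · rw [Finset.sum_eq_single (1 : G)]
        · rw [classInd_apply, if_pos (IsConj.refl 1), one_mul, one_mul]
        · intro g _ hg
          rw [classInd_apply, if_neg (fun h => hg (isConj_one_right.1 h)), zero_mul]
        · simp
      · simp
    simp only [hsum, mul_sub, Finset.sum_sub_distrib, sub_eq_zero] at h1
    exact h1.symm
  · rw [if_neg hne]
    refine second_main_core hpM hb he ?_ (fun ξ hξ => ?_) hzpow hy' hcomm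
      hzH le_rfl hθ
    · rw [he0]; exact conv_blockCoeff_self B
    obtain ⟨ψ, hψ⟩ := IsPBlock.nonempty hind.2.1
    have h1 := IsInducedBlock.omega_sub hind hξ hψ he
    rw [he0, omega_blockCoeff, if_neg, sub_zero, ← he0] at h1
    · exact h1
    · intro hψ'
      exact hne (IsPBlock.eq_of_mem hind.2.1 hB hψ hψ' ▸ hind)

/-- **Second main theorem for block parts.** On the `p`-section of `z` the `B`-part of a class
function is computed in `C(z)` by the blocks inducing `B`. -/
theorem blockPart_centralizer (hpM : (p : AlgInt) ∈ M) {B : Set (IrrCharacter G)}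
    (hB : IsPBlock M B) {θ : G → ℂ} (hθ : IsClassFunction G θ) {z : G}
    (hz : ∃ k, orderOf z = p ^ k) {y : Subgroup.centralizer ({z} : Set G)}
    (hy : ¬ p ∣ orderOf y) :
    blockPart B θ (z * y) =
      blockPart {ξ : IrrCharacter (Subgroup.centralizer ({z} : Set G)) |
          IsInducedBlock M (Subgroup.centralizer ({z} : Set G))
            (blockOf M (ξ : Subgroup.centralizer ({z} : Set G) → ℂ)) B}
        (fun c : Subgroup.centralizer ({z} : Set G) => θ (z * c)) y := by
  classical
  haveI := Fintype.ofFinite (Subgroup.centralizer ({z} : Set G))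
  haveI := irrFintype (Subgroup.centralizer ({z} : Set G))
  obtain ⟨S, hS⟩ : ∃ S : Set (IrrCharacter (Subgroup.centralizer ({z} : Set G))),
      S = {ξ : IrrCharacter (Subgroup.centralizer ({z} : Set G)) | IsInducedBlock M (Subgroup.centralizer ({z} : Set G))
            (blockOf M (ξ : Subgroup.centralizer ({z} : Set G) → ℂ)) B} := ⟨_, rfl⟩
  rw [← hS, blockPart_eq_sum B hθ, blockPart_eq_sum S (isClassFunction_mul_left hθ)]
  obtain ⟨T, hT⟩ : ∃ T : G → ℂ, T = fun v => ∑ g, blockCoeff B g * θ (g * (v * (z * (y : G)))) :=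
    ⟨_, rfl⟩
  have hu : ∀ u : Subgroup.centralizer ({z} : Set G),
      θ (z * ((u * y : Subgroup.centralizer ({z} : Set G)) : G)) = θ ((u : G) * (z * (y : G))) := by
    intro u
    have huz : Commute (u : G) z := Subgroup.mem_centralizer_singleton_iff.1 u.2
    rw [Subgroup.coe_mul, ← mul_assoc, ← huz.eq, mul_assoc]
  simp only [hu]
  have hper : ∀ ξ₀ : IrrCharacter (Subgroup.centralizer ({z} : Set G)),
      ∑ ξ ∈ Finset.univ.filter (fun ξ : IrrCharacter (Subgroup.centralizer ({z} : Set G)) =>
          blockOf M (ξ : Subgroup.centralizer ({z} : Set G) → ℂ) =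
            blockOf M (ξ₀ : Subgroup.centralizer ({z} : Set G) → ℂ)),
          ∑ u : Subgroup.centralizer ({z} : Set G), idemCoeff (ξ : _ → ℂ) u * T u =
      ∑ ξ ∈ Finset.univ.filter (fun ξ : IrrCharacter (Subgroup.centralizer ({z} : Set G)) =>
          blockOf M (ξ : Subgroup.centralizer ({z} : Set G) → ℂ) =
            blockOf M (ξ₀ : Subgroup.centralizer ({z} : Set G) → ℂ)),
          ∑ u : Subgroup.centralizer ({z} : Set G), (if ξ ∈ S then (1 : ℂ) else 0) *
            idemCoeff (ξ : _ → ℂ) u * θ ((u : G) * (z * (y : G))) := by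
    intro ξ₀
    have hb := isPBlock_blockOf (M := M) ξ₀
    rw [Finset.sum_comm]
    simp only [← Finset.sum_mul, sum_filter_idemCoeff hb, hT]
    rw [sum_blockCoeff_twisted hpM hB hθ hz hy hb, Finset.sum_comm]
    have hmem : ∀ ξ ∈ Finset.univ.filter (fun ξ : IrrCharacter (Subgroup.centralizer ({z} : Set G)) =>
          blockOf M (ξ : Subgroup.centralizer ({z} : Set G) → ℂ) =
            blockOf M (ξ₀ : Subgroup.centralizer ({z} : Set G) → ℂ)),
        (ξ ∈ S ↔ IsInducedBlock M (Subgroup.centralizer ({z} : Set G))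
          (blockOf M (ξ₀ : Subgroup.centralizer ({z} : Set G) → ℂ)) B) := by
      intro ξ hξ
      rw [hS, Set.mem_setOf_eq, (Finset.mem_filter.1 hξ).2]
    split_ifs with hi
    · refine Finset.sum_congr rfl fun u _ => ?_
      rw [← sum_filter_idemCoeff hb, Finset.sum_mul]
      exact Finset.sum_congr rfl fun ξ hξ => by rw [if_pos ((hmem ξ hξ).2 hi), one_mul]
    · symm
      exact Finset.sum_eq_zero fun u _ => Finset.sum_eq_zero fun ξ hξ => by
        rw [if_neg (mt (hmem ξ hξ).1 hi), zero_mul, zero_mul]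
  have htot : ∑ ξ : IrrCharacter (Subgroup.centralizer ({z} : Set G)),
      ∑ u : Subgroup.centralizer ({z} : Set G), idemCoeff (ξ : _ → ℂ) u * T u =
      ∑ ξ : IrrCharacter (Subgroup.centralizer ({z} : Set G)),
        ∑ u : Subgroup.centralizer ({z} : Set G), (if ξ ∈ S then (1 : ℂ) else 0) *
            idemCoeff (ξ : _ → ℂ) u * θ ((u : G) * (z * (y : G))) := by
    rw [← Finset.sum_fiberwise Finset.univ (fun ξ : IrrCharacter (Subgroup.centralizer ({z} : Set G)) =>
        blockOf M (ξ : Subgroup.centralizer ({z} : Set G) → ℂ)),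
      ← Finset.sum_fiberwise Finset.univ (fun ξ : IrrCharacter (Subgroup.centralizer ({z} : Set G)) =>
        blockOf M (ξ : Subgroup.centralizer ({z} : Set G) → ℂ))
        (fun ξ => ∑ u : Subgroup.centralizer ({z} : Set G), (if ξ ∈ S then (1 : ℂ) else 0) *
            idemCoeff (ξ : _ → ℂ) u * θ ((u : G) * (z * (y : G))))]
    refine Finset.sum_congr rfl fun b _ => ?_
    by_cases hb : ∃ ξ₀ : IrrCharacter (Subgroup.centralizer ({z} : Set G)),
        blockOf M (ξ₀ : Subgroup.centralizer ({z} : Set G) → ℂ) = b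
    · obtain ⟨ξ₀, rfl⟩ := hb
      exact hper ξ₀
    · rw [Finset.sum_eq_zero (fun ξ hξ => absurd ⟨ξ, (Finset.mem_filter.1 hξ).2⟩ hb),
        Finset.sum_eq_zero (fun ξ hξ => absurd ⟨ξ, (Finset.mem_filter.1 hξ).2⟩ hb)]
  rw [Finset.sum_comm, Finset.sum_comm (f := fun (ξ : IrrCharacter (Subgroup.centralizer ({z} : Set G)))
      (u : Subgroup.centralizer ({z} : Set G)) => (if ξ ∈ S then (1 : ℂ) else 0) *
        idemCoeff (ξ : _ → ℂ) u * θ ((u : G) * (z * (y : G))))] at htot
  simp only [← Finset.sum_mul, sum_idemCoeff_all, ← blockCoeff_eq] at htot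
  rw [← htot, Finset.sum_eq_single (1 : Subgroup.centralizer ({z} : Set G))]
  · rw [classInd_apply, if_pos (IsConj.refl 1), one_mul, hT]
    simp
  · intro u _ hu'
    rw [classInd_apply, if_neg (fun h => hu' (isConj_one_right.1 h)), zero_mul]
  · simp

end CfsgLib.Blocks
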