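import Cfsg.Agent.Lib.BlockOrth.SubsectionCount
import Cfsg.Agent.Lib.Blocks.NilpotentPrincipal
import Cfsg.Agent.Lib.Blocks.PairInduced
import Cfsg.Agent.Lib.Blocks.TrivialInertia
import Cfsg.Agent.Lib.Blocks.PSolvableFong
import Cfsg.Agent.Lib.Blocks.FongReynolds
import Cfsg.Agent.Lib.Blocks.Correspondence
import Cfsg.Agent.Lib.PLocal.Constrained
import Cfsg.Agent.Lib.CharsMore.Chains.LocalRanks
import Mathlib.GroupTheory.FixedPointFree

/-!
# Blocks with `k(B) = l(B) + 1`

All nonidentity `p`-elements carrying a subsection of such a block are conjugate; in the principal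
block, and in a `p`-solvable group, this makes the defect groups elementary abelian.
-/

set_option autoImplicit false
set_option linter.unusedSectionVars false
set_option linter.style.haveILetI false

namespace CfsgLib.Blocks.RankGap

open Cfsg CfsgLib.Chars CfsgLib.Blocks

universe u

variable {G : Type u} [Group G] [Fintype G] {M : Ideal AlgInt} [M.IsPrime] {p : ℕ} [hp : Fact p.Prime]

theorem induced_congr {H K : Subgroup G} (h : H = K) {B : Set (IrrCharacter G)}
    (hb : IsInducedBlock M H (principalBlock M H) B) :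
    IsInducedBlock M K (principalBlock M K) B := by
  subst h; exact hb

theorem exists_induced_congr {H K : Subgroup G} (h : H = K) {B : Set (IrrCharacter G)}
    (hb : ∃ b, IsInducedBlock M H b B) : ∃ b, IsInducedBlock M K b B := by
  subst h; exact hb

/-- **The count**: with at most one character more than Brauer characters, the nonidentity
`p`-elements with a subsection form one class and carry rank one. -/
theorem single_section (hM : IsPModular p M) {B : Set (IrrCharacter G)} (hB : IsPBlock M B)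
    (hk : Nat.card B ≤ blockRank p B + 1) {x y : G} (hx : ∃ k, orderOf x = p ^ k) (hx1 : x ≠ 1)
    {b : Set (IrrCharacter (Subgroup.centralizer ({x} : Set G)))}
    (hb : IsInducedBlock M (Subgroup.centralizer ({x} : Set G)) b B)
    (hy : ∃ k, orderOf y = p ^ k) (hy1 : y ≠ 1)
    (hby : ∃ b', IsInducedBlock M (Subgroup.centralizer ({y} : Set G)) b' B) :
    IsConj x y ∧ blockRank p b = 1 := by
  classical
  haveI := irrFintype G
  haveI := fun H : Subgroup G => Fintype.ofFinite H
  haveI := fun H : Subgroup G => irrFintype H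
  let r : G → G := fun g =>
    if IsConj g x then x else if IsConj g y then y else (ConjClasses.mk g).out
  have hout : ∀ g : G, IsConj g (ConjClasses.mk g).out := fun g =>
    ConjClasses.mk_eq_mk_iff_isConj.1 (Quotient.out_eq (ConjClasses.mk g)).symm
  have hr : ∀ g, IsConj g (r g) := by
    intro g
    simp only [r]
    split_ifs with h1 h2
    · exact h1
    · exact h2
    · exact hout g
  have hrc : ∀ g g', IsConj g g' → r g = r g' := by
    intro g g' h
    simp only [r]
    rw [ConjClasses.mk_eq_mk_iff_isConj.2 h]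
    exact if_congr ⟨h.symm.trans, h.trans⟩ rfl (if_congr ⟨h.symm.trans, h.trans⟩ rfl rfl)
  let X : Finset G := (Finset.univ.filter fun g : G => ∃ k, orderOf g = p ^ k).image r
  have hX : ∀ z ∈ X, ∃ k, orderOf z = p ^ k := by
    intro z hz
    obtain ⟨g, hg, rfl⟩ := Finset.mem_image.1 hz
    obtain ⟨c, hc⟩ := isConj_iff.1 (hr g)
    obtain ⟨k, hk⟩ := (Finset.mem_filter.1 hg).2
    exact ⟨k, by rw [← hc, ← hk]; exact (MulAut.conj c).orderOf_eq g⟩
  have hrep : ∀ g : G, (∃ k, orderOf g = p ^ k) → ∃! z, z ∈ X ∧ IsConj g z := by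
    intro g hg
    refine ⟨r g, ⟨Finset.mem_image.2 ⟨g, Finset.mem_filter.2 ⟨Finset.mem_univ _, hg⟩, rfl⟩, hr g⟩,
      ?_⟩
    rintro z ⟨hz, hgz⟩
    obtain ⟨g', -, rfl⟩ := Finset.mem_image.1 hz
    exact hrc g' g ((hr g').trans hgz.symm)
  have hmemX : ∀ g, (∃ k, orderOf g = p ^ k) → r g ∈ X := fun g hg =>
    Finset.mem_image.2 ⟨g, Finset.mem_filter.2 ⟨Finset.mem_univ _, hg⟩, rfl⟩
  have h1X : (1 : G) ∈ X := by
    have h := hmemX 1 ⟨0, by simp⟩
    rwa [isConj_one_right.1 (hr 1)] at h
  have hrx : r x = x := if_pos (IsConj.refl x)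
  have hxX : x ∈ X := hrx ▸ hmemX x hx
  let T : G → ℕ := fun z => ∑ᶠ c ∈ {c : Set (IrrCharacter (Subgroup.centralizer ({z} : Set G))) |
    IsInducedBlock M (Subgroup.centralizer ({z} : Set G)) c B}, blockRank p c
  have hsum : Nat.card B = ∑ z ∈ X, T z := BlockOrth.card_block_eq_sum_ranks hM hB hX hrep
  have hT1 : T 1 = blockRank p B := by
    have key : ∀ H K : Subgroup G, H = K →
        (∑ᶠ c ∈ {c : Set (IrrCharacter H) | IsInducedBlock M H c B}, blockRank p c) =
          ∑ᶠ c ∈ {c : Set (IrrCharacter K) | IsInducedBlock M K c B}, blockRank p c := by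
      rintro H K rfl; rfl
    have h := key _ _ (show Subgroup.centralizer ({(1 : G)} : Set G) = ⊤ from
      eq_top_iff.2 fun g _ => Subgroup.mem_centralizer_singleton_iff.2 (by simp))
    exact h.trans (CfsgLib.CharsMore.Chains.localRank_top (p := p) (M := M) B hB)
  have hle : ∀ z : G, ∀ c, IsInducedBlock M (Subgroup.centralizer ({z} : Set G)) c B →
      blockRank p c ≤ T z := by
    intro z c hc
    simp only [T]
    rw [finsum_mem_eq_finite_toFinset_sum _ (Set.toFinite _)]
    exact Finset.single_le_sum (f := fun d => blockRank p d) (fun _ _ => Nat.zero_le _)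
      ((Set.Finite.mem_toFinset _).2 hc)
  have hbx := hle x b hb
  have hone := one_le_blockRank (p := p) (M := M) hb.1
  constructor
  · by_contra hne
    have hry : r y = y := by
      simp only [r]
      rw [if_neg fun h => hne h.symm, if_pos (IsConj.refl y)]
    have hyX : y ∈ X := hry ▸ hmemX y hy
    obtain ⟨b', hb'⟩ := hby
    have hby' := hle y b' hb'
    have hone' := one_le_blockRank (p := p) (M := M) hb'.1
    have hxy : x ≠ y := fun h => hne (h ▸ IsConj.refl x)
    have h3 : ({1, x, y} : Finset G) ⊆ X := by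
      simp [Finset.insert_subset_iff, h1X, hxX, hyX]
    have h4 := Finset.sum_le_sum_of_subset (f := T) h3
    rw [← hsum, Finset.sum_insert (by simp [hx1.symm, hy1.symm]), Finset.sum_pair hxy, hT1] at h4
    omega
  · have h3 : ({1, x} : Finset G) ⊆ X := by
      simp [Finset.insert_subset_iff, h1X, hxX]
    have h4 := Finset.sum_le_sum_of_subset (f := T) h3
    rw [← hsum, Finset.sum_pair hx1.symm, hT1] at h4
    omega

/-- In a group whose principal block has one Brauer character, a regular element normalizing a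
`p`-subgroup centralizes it. -/
theorem centralizes_of_rank_one (hpM : (p : AlgInt) ∈ M) {C Q : Subgroup G}
    (h : blockRank p (principalBlock M C) = 1) (hQ : IsPGroup p Q) (hQC : Q ≤ C) {c : G}
    (hc : c ∈ C) (hN : c ∈ Subgroup.normalizer (Q : Set G)) (hreg : ¬ p ∣ orderOf c) {q : G}
    (hq : q ∈ Q) : q * c = c * q := by
  haveI := Fintype.ofFinite C
  have hn := (isNilpotentBlock_principal_iff (G := C) hpM).1
    ((isNilpotentBlock_principal_iff_rank hpM).2 h) (Q.subgroupOf C)
    (isPGroup_subgroupOf hQ hQC) ⟨c, hc⟩ (by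
      rw [Subgroup.mem_normalizer_iff]
      intro u
      simp only [Subgroup.mem_subgroupOf, Subgroup.coe_mul, Subgroup.coe_inv]
      exact Subgroup.mem_normalizer_iff.1 hN u)
    (by rwa [IsPRegular, Subgroup.orderOf_mk])
  exact congrArg Subtype.val (Subgroup.mem_centralizer_iff.1 hn ⟨q, hQC hq⟩
    (Subgroup.mem_subgroupOf.2 hq))

omit [M.IsPrime] in
theorem pow_eq_one_of_conj {P : Subgroup G} (hP : IsPGroup p P)
    (hone : ∀ x ∈ P, ∀ y ∈ P, x ≠ 1 → y ≠ 1 → IsConj x y) {x : G} (hx : x ∈ P) : x ^ p = 1 := by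
  rcases eq_or_ne x 1 with rfl | hx1
  · simp
  obtain ⟨k, hk⟩ := hP.exists_card_eq
  have hd : p ∣ Nat.card P := by
    rw [hk]
    refine dvd_pow_self p fun h0 => hx1 ?_
    rw [h0, pow_zero] at hk
    exact (Subgroup.eq_bot_of_card_eq P hk ▸ hx : x ∈ (⊥ : Subgroup G))
  obtain ⟨y, hy⟩ := exists_prime_orderOf_dvd_card' p hd
  have hy' : orderOf (y : G) = p := by rw [Subgroup.orderOf_coe, hy]
  have hy1 : (y : G) ≠ 1 := fun h => hp.out.ne_one (by rw [← hy', h, orderOf_one])
  obtain ⟨c, hc⟩ := isConj_iff.1 (hone _ y.2 x hx hy1 hx1)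
  rw [← hc, conj_pow, show (y : G) ^ p = 1 by rw [← hy']; exact pow_orderOf_eq_one _]
  simp

/-- The Sylow subgroups, from one class of `p`-elements with `p`-nilpotent centralisers. -/
theorem sylow_elementary (hpM : (p : AlgInt) ∈ M) (P : Sylow p G)
    (hone : ∀ x ∈ (P : Subgroup G), ∀ y ∈ (P : Subgroup G), x ≠ 1 → y ≠ 1 → IsConj x y)
    (hrank : ∀ x ∈ (P : Subgroup G), x ≠ 1 →
      blockRank p (principalBlock M (Subgroup.centralizer ({x} : Set G))) = 1) :
    IsElementaryAbelian p (P : Subgroup G) := by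
  have hexp : ∀ x ∈ (P : Subgroup G), x ^ p = 1 := fun x hx => pow_eq_one_of_conj P.2 hone hx
  refine ⟨?_, hexp⟩
  have hmain : ∀ a ∈ (P : Subgroup G), ∀ b ∈ (P : Subgroup G), a * b = b * a := by
    by_cases hbot : (P : Subgroup G) = ⊥
    · intro a ha b hb
      rw [hbot, Subgroup.mem_bot] at ha hb
      rw [ha, hb]
    rcases hp.out.eq_two_or_odd' with h2 | hodd
    · intro a ha b hb
      have hsq : ∀ u ∈ (P : Subgroup G), u⁻¹ = u := fun u hu => by
        rw [inv_eq_iff_mul_eq_one, ← sq]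
        simpa [h2] using hexp u hu
      have hab := hsq (a * b) ((P : Subgroup G).mul_mem ha hb)
      rwa [mul_inv_rev, hsq a ha, hsq b hb, eq_comm] at hab
    -- a central element and an element inverting it
    haveI : Nontrivial (P : Subgroup G) := (Subgroup.nontrivial_iff_ne_bot _).2 hbot
    haveI : Nontrivial (Subgroup.center (P : Subgroup G)) := IsPGroup.center_nontrivial P.2
    obtain ⟨⟨⟨z, hzP⟩, hzc⟩, hz1⟩ := exists_ne (1 : Subgroup.center (P : Subgroup G))
    have hz : z ≠ 1 := fun h => hz1 (Subtype.ext (Subtype.ext h))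
    have hzC : ∀ u ∈ (P : Subgroup G), u * z = z * u := fun u hu =>
      congrArg Subtype.val (Subgroup.mem_center_iff.1 hzc ⟨u, hu⟩)
    have hzz : z⁻¹ ≠ z := by
      intro h
      have h2 : z ^ 2 = 1 := by rw [sq]; nth_rewrite 1 [← h]; exact inv_mul_cancel z
      have hd : orderOf z ∣ Nat.gcd 2 p :=
        Nat.dvd_gcd (orderOf_dvd_of_pow_eq_one h2) (orderOf_dvd_of_pow_eq_one (hexp z hzP))
      rw [(Nat.coprime_two_left.2 hodd).gcd_eq_one, Nat.dvd_one, orderOf_eq_one_iff] at hd
      exact hz hd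
    obtain ⟨g, hg⟩ := isConj_iff.1
      (hone z hzP z⁻¹ (inv_mem hzP) hz (inv_ne_one.2 hz))
    obtain ⟨n, hn, hne⟩ := P.conj_eq_normalizer_conj_of_mem_centralizer z g⁻¹
      (Subgroup.mem_centralizer_iff.2 hzC) (by
        rw [inv_inv, hg]
        exact inv_mem (Subgroup.mem_centralizer_iff.2 hzC))
    rw [inv_inv, hg] at hne
    set c : G := n⁻¹ with hcdef
    have hcN : c ∈ Subgroup.normalizer ((P : Subgroup G) : Set G) := inv_mem hn
    have hcz : c * z * c⁻¹ = z⁻¹ := by rw [hcdef, inv_inv]; exact hne.symm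
    -- the `2`-part
    obtain ⟨a, m, hm, hord⟩ := Nat.exists_eq_two_pow_mul_odd (orderOf_pos c).ne'
    set α : G := c ^ m with hαdef
    have hpow : ∀ j : ℕ, (c ^ (2 * j)) * z * (c ^ (2 * j))⁻¹ = z := by
      intro j
      induction j with
      | zero => simp
      | succ j ih =>
        have h2 : c * (c * z * c⁻¹) * c⁻¹ = z := by
          rw [hcz]
          calc c * z⁻¹ * c⁻¹ = (c * z * c⁻¹)⁻¹ := by group
            _ = z := by rw [hcz, inv_inv]
        calc c ^ (2 * (j + 1)) * z * (c ^ (2 * (j + 1)))⁻¹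
            = c ^ (2 * j) * (c * (c * z * c⁻¹) * c⁻¹) * (c ^ (2 * j))⁻¹ := by
              rw [show 2 * (j + 1) = 2 * j + 2 by ring, pow_add]; group
          _ = z := by rw [h2, ih]
    have hαz : α * z * α⁻¹ = z⁻¹ := by
      obtain ⟨j, rfl⟩ := hm
      calc α * z * α⁻¹ = c * (c ^ (2 * j) * z * (c ^ (2 * j))⁻¹) * c⁻¹ := by
            rw [hαdef, pow_succ']; group
        _ = z⁻¹ := by rw [hpow, hcz]
    have hαord : orderOf α ∣ 2 ^ a := orderOf_dvd_of_pow_eq_one (by
      rw [hαdef, ← pow_mul, mul_comm, ← hord, pow_orderOf_eq_one])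
    have hreg : ∀ u : G, orderOf u ∣ 2 ^ a → ¬ p ∣ orderOf u := fun u hu hd => by
      have h := (Nat.prime_dvd_prime_iff_eq hp.out Nat.prime_two).1
        (hp.out.dvd_of_dvd_pow (hd.trans hu))
      exact (Nat.not_odd_iff_even.2 even_two) (h ▸ hodd)
    have hαN : α ∈ Subgroup.normalizer ((P : Subgroup G) : Set G) := pow_mem hcN m
    have hα2 : ∀ u ∈ (P : Subgroup G), u * α ^ 2 = α ^ 2 * u := by
      intro u hu
      refine centralizes_of_rank_one (M := M) hpM (hrank z hzP hz) P.2 ?_ ?_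
        (pow_mem hαN 2) (hreg _ ((orderOf_pow_dvd 2).trans hαord)) hu
      · intro w hw
        exact Subgroup.mem_centralizer_singleton_iff.2 (hzC w hw)
      · rw [Subgroup.mem_centralizer_singleton_iff]
        have : α ^ 2 * z * (α ^ 2)⁻¹ = z := by
          rw [sq, mul_inv_rev]
          calc α * α * z * (α⁻¹ * α⁻¹) = α * (α * z * α⁻¹) * α⁻¹ := by group
            _ = (α * z * α⁻¹)⁻¹ := by conv_lhs => rw [hαz]
                                      group
            _ = z := by rw [hαz, inv_inv]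
        exact mul_inv_eq_iff_eq_mul.1 this
    have hfix : ∀ u ∈ (P : Subgroup G), α * u * α⁻¹ = u → u = 1 := by
      intro u hu hau
      by_contra hu1
      have hua : α * u = u * α := mul_inv_eq_iff_eq_mul.1 hau
      have hαC : α ∈ Subgroup.centralizer ({u} : Set G) :=
        Subgroup.mem_centralizer_singleton_iff.2 hua
      let Q : Subgroup G := (P : Subgroup G) ⊓ Subgroup.centralizer ({u} : Set G)
      have hzQ : z ∈ Q :=
        ⟨hzP, Subgroup.mem_centralizer_singleton_iff.2 (hzC u hu).symm⟩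
      have hαQ : α ∈ Subgroup.normalizer (Q : Set G) := by
        rw [Subgroup.mem_normalizer_iff]
        intro w
        simp only [Q, Subgroup.mem_inf]
        refine and_congr (Subgroup.mem_normalizer_iff.1 hαN w) ?_
        exact ⟨fun h => mul_mem (mul_mem hαC h) (inv_mem hαC),
          fun h => by simpa [mul_assoc] using mul_mem (mul_mem (inv_mem hαC) h) hαC⟩
      have h1 := centralizes_of_rank_one (M := M) hpM (hrank u hu hu1) (P.2.to_le inf_le_left)
        (show Q ≤ _ from inf_le_right) hαC hαQ (hreg _ hαord) hzQ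
      apply hzz
      rw [← hαz, ← h1, mul_inv_cancel_right]
    let σ : (P : Subgroup G) →* (P : Subgroup G) :=
      { toFun := fun u => ⟨α * u * α⁻¹, (Subgroup.mem_normalizer_iff.1 hαN u).1 u.2⟩
        map_one' := Subtype.ext (by simp)
        map_mul' := fun u v => Subtype.ext (by simp [mul_assoc]) }
    have hσ : MonoidHom.FixedPointFree (⇑σ) := fun u hu =>
      Subtype.ext (hfix u u.2 (congrArg Subtype.val hu))
    have hσ2 : Function.Involutive (⇑σ) := fun u =>
      Subtype.ext (by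
        show α * (α * u * α⁻¹) * α⁻¹ = u
        calc α * (α * u * α⁻¹) * α⁻¹ = α ^ 2 * u * (α ^ 2)⁻¹ := by rw [sq]; group
          _ = u := mul_inv_eq_iff_eq_mul.2 (hα2 u u.2).symm)
    intro a ha b hb
    exact congrArg Subtype.val (hσ.commute_all_of_involutive hσ2 ⟨a, ha⟩ ⟨b, hb⟩)
  exact ⟨⟨fun a b => Subtype.ext (hmain a a.2 b b.2)⟩⟩

omit [M.IsPrime] hp in
theorem elementary_of_le {A B : Subgroup G} (h : A ≤ B) (hB : IsElementaryAbelian p B) :
    IsElementaryAbelian p A :=
  ⟨⟨⟨fun a b => Subtype.ext (congrArg Subtype.val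
    (hB.1.1.1 (⟨a, h a.2⟩ : B) ⟨b, h b.2⟩) :)⟩⟩, fun a ha => hB.2 a (h ha)⟩

omit [M.IsPrime] hp in
theorem elementary_map {H : Type*} [Group H] (f : H →* G) {A : Subgroup H}
    (hA : IsElementaryAbelian p A) : IsElementaryAbelian p (A.map f) := by
  refine ⟨⟨⟨fun a b => ?_⟩⟩, ?_⟩
  · obtain ⟨x, hx, hxa⟩ := a.2
    obtain ⟨y, hy, hyb⟩ := b.2
    apply Subtype.ext
    show (a : G) * b = b * a
    rw [← hxa, ← hyb, ← map_mul, ← map_mul]
    exact congrArg f (congrArg Subtype.val (hA.1.1.1 (⟨x, hx⟩ : A) ⟨y, hy⟩))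
  · rintro _ ⟨x, hx, rfl⟩
    rw [← map_pow, hA.2 x hx, map_one]

theorem isPGroup_zpowers_of_orderOf {x : G} (hx : ∃ k, orderOf x = p ^ k) :
    IsPGroup p (Subgroup.zpowers x) := by
  obtain ⟨k, hk⟩ := hx
  exact IsPGroup.of_card (n := k) (by rw [Nat.card_zpowers, hk])

/-- The principal case. -/
theorem principal_case (hM : IsPModular p M)
    (hk : Nat.card (principalBlock M G) ≤ blockRank p (principalBlock M G) + 1) (P : Sylow p G) :
    IsElementaryAbelian p (P : Subgroup G) := by
  have hord : ∀ x ∈ (P : Subgroup G), ∃ k, orderOf x = p ^ k := fun x hx => by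
    obtain ⟨k, hk'⟩ := IsPGroup.iff_orderOf.1 P.2 ⟨x, hx⟩
    exact ⟨k, by rw [← hk', Subgroup.orderOf_mk]⟩
  have hind : ∀ x : G, (∃ k, orderOf x = p ^ k) → IsInducedBlock M
      (Subgroup.centralizer ({x} : Set G)) (principalBlock M (Subgroup.centralizer ({x} : Set G)))
      (principalBlock M G) := fun x hx =>
    induced_congr (centralizer_zpowers_eq x) (isInducedBlock_centralizer_of_pair hM.2.2
      (isBrauerPairOf_principalPair hM.2.2 (isPGroup_zpowers_of_orderOf hx)))
  refine sylow_elementary hM.2.2 P (fun x hx y hy hx1 hy1 => ?_) fun x hx hx1 => ?_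
  · exact (single_section hM (isPBlock_principalBlock M) hk (hord x hx) hx1 (hind x (hord x hx))
      (hord y hy) hy1 ⟨_, hind y (hord y hy)⟩).1
  · exact (single_section hM (isPBlock_principalBlock M) hk (hord x hx) hx1 (hind x (hord x hx))
      (hord x hx) hx1 ⟨_, hind x (hord x hx)⟩).2

/-- A `p`-solvable group with one class of nonidentity `p`-elements. -/
theorem solvable_one_class (hsolv : IsPSolvable p G) (S : Sylow p G)
    (hone : ∀ x ∈ (S : Subgroup G), ∀ y ∈ (S : Subgroup G), x ≠ 1 → y ≠ 1 → IsConj x y) :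
    IsElementaryAbelian p (S : Subgroup G) := by
  refine ⟨?_, fun x hx => pow_eq_one_of_conj S.2 hone hx⟩
  suffices h : ∀ a ∈ (S : Subgroup G), ∀ b ∈ (S : Subgroup G), a * b = b * a from
    ⟨⟨fun a b => Subtype.ext (h a a.2 b b.2)⟩⟩
  by_cases hbot : (S : Subgroup G) = ⊥
  · intro a ha b hb
    rw [hbot, Subgroup.mem_bot] at ha hb
    rw [ha, hb]
  set N := pPrimeCore p G with hNdef
  let q := QuotientGroup.mk' N
  have hq : Function.Surjective q := QuotientGroup.mk'_surjective N
  let S' : Sylow p (G ⧸ N) := S.mapSurjective hq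
  have hS' : (S' : Subgroup (G ⧸ N)) = (S : Subgroup G).map q := rfl
  have hcopN : (Nat.card N).Coprime p := Base.pPrimeCore_coprime p G
  -- `q` is injective on `S`
  have hinj : ∀ u ∈ (S : Subgroup G), q u = 1 → u = 1 := by
    intro u hu h
    have huN : u ∈ N := (QuotientGroup.eq_one_iff u).1 h
    obtain ⟨k, hk⟩ := IsPGroup.iff_orderOf.1 S.2 ⟨u, hu⟩
    rw [Subgroup.orderOf_mk] at hk
    have hd : orderOf u ∣ Nat.card N := by
      rw [← Subgroup.orderOf_mk u huN]; exact orderOf_dvd_natCard _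
    exact orderOf_eq_one_iff.1 (Nat.eq_one_of_dvd_coprimes
      (Nat.Coprime.pow_right k hcopN) hd (hk ▸ dvd_rfl))
  obtain ⟨⟨u₀, hu₀⟩, hu₀1⟩ := Subgroup.ne_bot_iff_exists_ne_one.1 hbot
  haveI : Nontrivial (G ⧸ N) :=
    ⟨q u₀, 1, fun h => hu₀1 (Subtype.ext (hinj u₀ hu₀ h))⟩
  have hcore : pCore p (G ⧸ N) ≠ ⊥ :=
    (CfsgLib.PLocal.pCore_ne_bot_or_pPrimeCore_ne_bot
      (CfsgLib.PLocal.isPSolvable_quotient hsolv N)).resolve_right
      fun h => h (Base.pPrimeCore_quotient_pPrimeCore p G)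
  haveI hnorm : (pCore p (G ⧸ N)).Normal := inferInstance
  have hcp : IsPGroup p (pCore p (G ⧸ N)) := Base.isPGroup_pCore p _
  have hle : pCore p (G ⧸ N) ≤ (S' : Subgroup (G ⧸ N)) := Base.pCore_le_sylow S'
  have hge : (S : Subgroup G).map q ≤ pCore p (G ⧸ N) := by
    obtain ⟨⟨w, hw⟩, hw1⟩ := Subgroup.ne_bot_iff_exists_ne_one.1 hcore
    have hw' : w ∈ (S : Subgroup G).map q := hS' ▸ hle hw
    obtain ⟨v, hv, rfl⟩ := hw'
    rintro _ ⟨u, hu, rfl⟩
    rcases eq_or_ne u 1 with rfl | hu1
    · rw [map_one]; exact one_mem _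
    obtain ⟨g, rfl⟩ := isConj_iff.1 (hone v hv u hu
      (fun h => hw1 (Subtype.ext (by simp [h]))) hu1)
    rw [map_mul, map_mul, map_inv]
    exact hnorm.conj_mem _ hw (q g)
  have heq : (S : Subgroup G).map q = pCore p (G ⧸ N) := le_antisymm hge (hS' ▸ hle)
  haveI : Nontrivial (S : Subgroup G) := (Subgroup.nontrivial_iff_ne_bot _).2 hbot
  haveI : Nontrivial (Subgroup.center (S : Subgroup G)) := IsPGroup.center_nontrivial S.2
  obtain ⟨⟨⟨z, hzS⟩, hzc⟩, hz1⟩ := exists_ne (1 : Subgroup.center (S : Subgroup G))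
  have hz : z ≠ 1 := fun h => hz1 (Subtype.ext (Subtype.ext h))
  intro a ha b hb
  rcases eq_or_ne a 1 with rfl | ha1
  · simp
  obtain ⟨g, hg⟩ := isConj_iff.1 (hone z hzS a ha hz ha1)
  have h1 : q (g⁻¹ * b * g) ∈ (S : Subgroup G).map q := by
    rw [heq, map_mul, map_mul, map_inv]
    have h2 := hnorm.conj_mem (q b) (heq ▸ ⟨b, hb, rfl⟩) (q g)⁻¹
    rwa [inv_inv] at h2
  obtain ⟨w, hw, hwq⟩ := h1
  have hzw : w * z = z * w := congrArg Subtype.val (Subgroup.mem_center_iff.1 hzc ⟨w, hw⟩)
  have hc : q a * q b = q b * q a := by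
    have h2 : q b = q g * q w * (q g)⁻¹ := by
      rw [hwq, map_mul, map_mul, map_inv]; group
    rw [← hg, h2, map_mul, map_mul, map_inv]
    calc q g * q z * (q g)⁻¹ * (q g * q w * (q g)⁻¹) = q g * (q z * q w) * (q g)⁻¹ := by group
      _ = q g * (q w * q z) * (q g)⁻¹ := by rw [← map_mul, ← hzw, map_mul]
      _ = _ := by group
  have h3 := hinj (a * b * (b * a)⁻¹) (mul_mem (mul_mem ha hb) (inv_mem (mul_mem hb ha)))
    (by rw [map_mul, map_inv, map_mul, map_mul, hc, mul_inv_cancel])
  exact mul_inv_eq_one.1 h3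

/-- Restricting to regular elements commutes with induction. -/
theorem pRegularPart_indFun (T : Subgroup G) [Fintype T] (f : T → ℂ) :
    pRegularPart p (indFun T f) = indFun T (pRegularPart p f) := by
  classical
  funext g
  simp only [pRegularPart, Chars.indFun_apply]
  split_ifs with hg
  · refine congrArg _ (Finset.sum_congr rfl fun x _ => ?_)
    by_cases hT : x⁻¹ * g * x ∈ T
    · rw [Chars.extendByZero_of_mem T _ hT, Chars.extendByZero_of_mem T _ hT]
      simp only [pRegularPart]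
      rw [if_pos]
      rw [IsPRegular, Subgroup.orderOf_mk]
      simpa [mul_assoc, IsPRegular] using
        (show ¬ p ∣ orderOf (MulAut.conj x⁻¹ g) by rwa [MulEquiv.orderOf_eq])
    · rw [Chars.extendByZero_of_not_mem T _ hT, Chars.extendByZero_of_not_mem T _ hT]
  · rw [Finset.sum_eq_zero fun x _ => ?_, mul_zero]
    by_cases hT : x⁻¹ * g * x ∈ T
    · rw [Chars.extendByZero_of_mem T _ hT]
      simp only [pRegularPart]
      rw [if_neg]
      rw [IsPRegular, Subgroup.orderOf_mk]
      intro h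
      apply hg
      rw [IsPRegular, ← (MulAut.conj x⁻¹).orderOf_eq g]
      simpa [mul_assoc] using h
    · rw [Chars.extendByZero_of_not_mem T _ hT]

/-- Induction does not raise the rank. -/
theorem blockRank_le_of_indFun (T : Subgroup G) [Fintype T] {B : Set (IrrCharacter G)}
    {B' : Set (IrrCharacter T)}
    (h : ∀ χ ∈ B, ∃ ψ ∈ B', (χ : G → ℂ) = indFun T (ψ : T → ℂ)) :
    blockRank p B ≤ blockRank p B' := by
  let Λ : (T → ℂ) →ₗ[ℂ] (G → ℂ) :=
    { toFun := indFun T
      map_add' := fun a b => Chars.indFun_add T a b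
      map_smul' := fun c a => Chars.indFun_smul T c a }
  rw [blockRank, blockRank]
  refine le_trans (Submodule.finrank_mono (?_ : _ ≤ (Submodule.span ℂ
    ((fun ψ : IrrCharacter T => pRegularPart p (ψ : T → ℂ)) '' B')).map Λ))
    (Submodule.finrank_map_le Λ _)
  rw [Submodule.map_span, Submodule.span_le]
  rintro _ ⟨χ, hχ, rfl⟩
  obtain ⟨ψ, hψ, he⟩ := h χ hχ
  refine Submodule.subset_span ⟨_, ⟨ψ, hψ, rfl⟩, ?_⟩
  show indFun T (pRegularPart p (ψ : T → ℂ)) = pRegularPart p (χ : G → ℂ)
  rw [he, pRegularPart_indFun]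

/-- Each element of a defect group carries a subsection of the block. -/
theorem exists_induced_of_mem_defect (hpM : (p : AlgInt) ∈ M) {B : Set (IrrCharacter G)}
    (hB : IsPBlock M B) {D : Subgroup G} (hD : IsDefectGroup p M B D) {x : G} (hx : x ∈ D) :
    ∃ b, IsInducedBlock M (Subgroup.centralizer ({x} : Set G)) b B := by
  obtain ⟨e, he⟩ := exists_pair_on_defectGroup hpM hB hD
  obtain ⟨f, hf⟩ := exists_below (b := ⟨D, e⟩) hpM he.1 (Subgroup.zpowers x)
    (Subgroup.zpowers_le.2 hx)
  exact exists_induced_congr (centralizer_zpowers_eq x)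
    ⟨f, isInducedBlock_centralizer_of_pair hpM ((isBrauerPairOf_iff_of_below hpM hf B).2 he)⟩

theorem solvable_case_aux : ∀ n : ℕ, ∀ {G : Type u} [Group G] [Fintype G],
    Nat.card G = n → IsPModular p M → IsPSolvable p G →
    ∀ B : Set (IrrCharacter G), IsPBlock M B → Nat.card B ≤ blockRank p B + 1 →
      ∀ D : Subgroup G, IsDefectGroup p M B D → IsElementaryAbelian p D := by
  intro n
  induction n using Nat.strong_induction_on with
  | _ n ih =>
  intro G _ _ hn hM hsolv B hB hk D hD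
  classical
  have hpM := hM.2.2
  set N := pPrimeCore p G with hNdef
  haveI := Fintype.ofFinite N
  have hcard : ¬ p ∣ Nat.card N := Base.not_dvd_card_pPrimeCore p G
  obtain ⟨χ, hχ⟩ := IsPBlock.nonempty hB
  obtain ⟨θ, hθ⟩ := exists_constituent_restrict N χ
  let T : Subgroup G :=
    { carrier := {g | conjIrr N g θ = θ}
      mul_mem' := fun {g h} hg hh => by
        simp only [Set.mem_ofPred_eq] at hg hh ⊢
        rw [conjIrr_mul, hg, hh]
      one_mem' := conjIrr_one N θ
      inv_mem' := fun {g} hg => by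
        simp only [Set.mem_ofPred_eq] at hg ⊢
        conv_lhs => rw [← hg]
        rw [← conjIrr_mul, mul_inv_cancel, conjIrr_one] }
  have hb : IsPBlock M ({θ} : Set (IrrCharacter N)) := isPBlock_singleton_of_pPrime hpM hcard θ
  have hTmem : ∀ g : G, g ∈ T ↔ conjIrr N g θ = θ := fun g => Iff.rfl
  have hT' : ∀ g : G, g ∈ T ↔ ∀ φ ∈ ({θ} : Set (IrrCharacter N)),
      conjIrr N g φ ∈ ({θ} : Set (IrrCharacter N)) := fun g => by simp [hTmem]
  by_cases htop : T = ⊤
  · have hinv : ∀ (g : G) (m : N), (θ : N → ℂ) (CharsMore.conjBy N g m) = (θ : N → ℂ) m :=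
      fun g m => congrFun (congrArg Subtype.val ((hTmem g).1 (htop ▸ Subgroup.mem_top g))) m
    haveI := CfsgLib.PLocal.pPrimePCore_normal p G
    obtain ⟨R⟩ : Nonempty (Sylow p ↥(pPrimePCore p G)) := inferInstance
    obtain ⟨k, hk'⟩ := IsPGroup.iff_card.mp (CfsgLib.Base.isPGroup_pCore p (G ⧸ pPrimeCore p G))
    have hrel : N.relIndex (pPrimePCore p G) = p ^ k := by
      rw [hNdef, ← hk', ← CfsgLib.PLocal.card_map_mk'_eq_relIndex, pPrimePCore,
        Subgroup.map_comap_eq_self_of_surjective (QuotientGroup.mk'_surjective _)]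
    have hRS : ¬ p ∣ ((R : Subgroup ↥(pPrimePCore p G)).map (pPrimePCore p G).subtype).relIndex
        (pPrimePCore p G) := by
      rw [Subgroup.relIndex, Subgroup.subgroupOf,
        Subgroup.comap_map_eq_self_of_injective (pPrimePCore p G).subtype_injective]
      exact R.not_dvd_index
    obtain ⟨hB₁, hS⟩ := fong_single_block hpM N hcard (pPrimePCore p G)
      (CfsgLib.Base.pPrimeCore_le_pPrimePCore p G) hrel (Subgroup.map_subtype_le _) (R.2.map _) hRS
      ((CfsgLib.PLocal.isPConstrained_of_isPSolvable hsolv) R) θ hinv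
    have hBeq := IsPBlock.eq_of_mem hB hB₁ hχ hθ
    obtain ⟨S⟩ : Nonempty (Sylow p G) := inferInstance
    have hSdef : IsDefectGroup p M B (S : Subgroup G) := hBeq ▸ hS S
    have hel : IsElementaryAbelian p (S : Subgroup G) := by
      refine solvable_one_class hsolv S fun x hx y hy hx1 hy1 => ?_
      have hord : ∀ u ∈ (S : Subgroup G), ∃ k, orderOf u = p ^ k := fun u hu => by
        obtain ⟨j, hj⟩ := IsPGroup.iff_orderOf.1 S.2 ⟨u, hu⟩
        exact ⟨j, by rw [← hj, Subgroup.orderOf_mk]⟩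
      obtain ⟨b, hbx⟩ := exists_induced_of_mem_defect hpM hB hSdef hx
      exact (single_section hM hB hk (hord x hx) hx1 hbx (hord y hy) hy1
        (exists_induced_of_mem_defect hpM hB hSdef hy)).1
    obtain ⟨c, rfl⟩ := IsDefectGroup.exists_conj_eq hpM hB hSdef hD
    exact elementary_map _ hel
  · haveI := Fintype.ofFinite T
    have hNT : N ≤ T := fun m hm => by
      rw [hTmem]
      refine Subtype.ext (funext fun u => ?_)
      rw [coe_conjIrr, CharsMore.conjFn]
      have e : CharsMore.conjBy N m u = (⟨m, hm⟩ : N) * u * (⟨m, hm⟩ : N)⁻¹ :=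
        Subtype.ext (by simp)
      rw [e]
      exact isClassFunction_irr θ _ _
    obtain ⟨ψ, hψ, he⟩ := exists_overBlock_indFun_eq hT' hb hNT (χ := χ)
      ⟨θ, Set.mem_singleton θ, hθ⟩
    have hB' := isPBlock_blockOf (M := M) ψ
    have hind := isInducedBlock_indFun hT' hb hNT hB' (mem_blockOf_self ψ) hψ
    rw [he, ← IsPBlock.eq_blockOf hB hχ] at hind
    set B' := blockOf M (ψ : T → ℂ) with hB'def
    have hiff := mem_induced_iff hT' hb hNT hB' (mem_blockOf_self ψ) hψ hind
    have hov : ∀ ψ' ∈ B', OverBlock hNT ({θ} : Set (IrrCharacter N)) (ψ' : T → ℂ) :=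
      fun ψ' hψ' => OverBlock.of_sameBlock hT' hb hNT
        (IsPBlock.sameBlock hB' (mem_blockOf_self ψ) hψ') hψ
    have hkle : Nat.card B' ≤ Nat.card B := by
      haveI := irrFintype G
      refine Nat.card_le_card_of_injective
        (fun ψ' : B' => (⟨⟨_, isIrr_indFun_of_overBlock hT' hb hNT (hov _ ψ'.2)⟩,
          (hiff _).2 ⟨ψ'.1, ψ'.2, rfl⟩⟩ : B)) fun a b hab => ?_
      exact Subtype.ext (indFun_injective_overBlock hT' hb hNT (hov _ a.2) (hov _ b.2)
        (congrArg (fun c : B => ((c : IrrCharacter G) : G → ℂ)) hab))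
    have hlle : blockRank p B ≤ blockRank p B' :=
      blockRank_le_of_indFun T fun χ' hχ' => (hiff χ').1 hχ'
    have hlt : Nat.card T < n := hn ▸ lt_of_le_of_ne (Subgroup.card_le_card_group _)
      fun h => htop ((Subgroup.card_eq_iff_eq_top _).1 h)
    obtain ⟨D', hD'⟩ := exists_isDefectGroup (p := p) hB'
    have hel := ih _ hlt (G := T) rfl hM (CfsgLib.PLocal.isPSolvable_subgroup hsolv T) B' hB'
      (by omega) D' hD'
    obtain ⟨E, hE, hle⟩ := IsInducedBlock.exists_defect_le hpM hind hD'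
    have hdef : blockDefect p B = blockDefect p B' := by
      have hdeg : ∀ χ' : IrrCharacter G, ∀ ψ' : IrrCharacter T,
          (χ' : G → ℂ) = indFun T (ψ' : T → ℂ) →
          BlockOrth.degVal p χ' = T.index.factorization p + BlockOrth.degVal p ψ' := by
        intro χ' ψ' he'
        have : charDegree (χ' : G → ℂ) = T.index * charDegree (ψ' : T → ℂ) := by
          have h := BlockOrth.irr_apply_one χ'
          rw [he', indFun_one_apply, BlockOrth.irr_apply_one, ← he'] at h
          exact_mod_cast h.symm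
        rw [BlockOrth.degVal, this, Nat.factorization_mul Subgroup.index_ne_zero_of_finite
          (BlockOrth.irr_charDegree_ne_zero ψ')]
        rfl
      obtain ⟨χ₁, hχ₁, hχm⟩ := BlockOrth.exists_degVal_eq_blockMin (p := p) (IsPBlock.nonempty hB)
      obtain ⟨ψ₁, hψ₁, he₁⟩ := (hiff χ₁).1 hχ₁
      obtain ⟨ψ₂, hψ₂, hψm⟩ :=
        BlockOrth.exists_degVal_eq_blockMin (p := p) (IsPBlock.nonempty hB')
      have h1 := BlockOrth.blockMin_le (p := p) hψ₁
      have hmem := (hiff ⟨_, isIrr_indFun_of_overBlock hT' hb hNT (hov _ hψ₂)⟩).2 ⟨ψ₂, hψ₂, rfl⟩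
      have h2 := BlockOrth.blockMin_le (p := p) hmem
      rw [hdeg ⟨_, isIrr_indFun_of_overBlock hT' hb hNT (hov _ hψ₂)⟩ ψ₂ rfl] at h2
      rw [hdeg χ₁ ψ₁ he₁] at hχm
      rw [BlockOrth.blockDefect_eq, BlockOrth.blockDefect_eq, ← T.index_mul_card,
        Nat.factorization_mul Subgroup.index_ne_zero_of_finite Nat.card_pos.ne', Finsupp.add_apply]
      omega
    have hEc : Nat.card (D'.map T.subtype) = Nat.card E := by
      rw [Subgroup.card_map_of_injective T.subtype_injective,
        BlockOrth.card_defectGroup hpM hB' hD', BlockOrth.card_defectGroup hpM hB hE, hdef]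
    obtain ⟨c, rfl⟩ := IsDefectGroup.exists_conj_eq hpM hB hE hD
    rw [← Subgroup.eq_of_le_of_card_ge hle hEc.ge]
    exact elementary_map _ (elementary_map _ hel)

/-- The `p`-solvable case. -/
theorem solvable_case (hM : IsPModular p M) (hsolv : IsPSolvable p G) {B : Set (IrrCharacter G)}
    (hB : IsPBlock M B) (hk : Nat.card B ≤ blockRank p B + 1) {D : Subgroup G}
    (hD : IsDefectGroup p M B D) : IsElementaryAbelian p D :=
  solvable_case_aux _ rfl hM hsolv B hB hk D hD

end CfsgLib.Blocks.RankGap
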