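import Cfsg.Agent.Lib.Blocks.PrincipalBlock
import Cfsg.Agent.Lib.Blocks.RootLift
import Cfsg.Agent.Lib.Blocks.RegularTwist
import Cfsg.Agent.Lib.Blocks.Center
import Cfsg.Agent.Lib.Blocks.SubRed
import Mathlib.LinearAlgebra.Matrix.Rank

/-!
# Independence and ranks lifted from the residue field

Families over the local ring which are independent modulo the local ideal are independent over
`ℂ`. In particular symmetric linear forms on a block algebra are at most as many as the
irreducible characters of the block, and an idempotent matrix over the local ring has as its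
trace a natural number no larger than the rank of its reduction.
-/

set_option autoImplicit false
set_option linter.unusedSectionVars false
set_option linter.style.haveILetI false

namespace CfsgLib.Blocks

open Cfsg Chars Module

variable {M : Ideal AlgInt} [M.IsPrime]

/-- Families with independent reductions are independent over `ℂ`. -/
theorem linearIndependent_of_red {ι n : Type*} [Fintype ι] [Fintype n] (f : ι → n → loc M)
    (h : LinearIndependent (ResField M) fun i j => red (f i j)) :
    LinearIndependent ℂ fun i j => ((f i j : loc M) : ℂ) := by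
  classical
  choose lift hlift using (IsLocalRing.residue_surjective (R := loc M))
  set fr : ι → n → ResField M := fun i j => red (f i j) with hfr
  obtain ⟨L, hL⟩ := (Fintype.linearCombination (ResField M) fr).exists_leftInverse_of_injective
    (LinearMap.ker_eq_bot'.2 fun c hc => funext (Fintype.linearIndependent_iff.1 h c
      (by simpa [Fintype.linearCombination_apply] using hc)))
  rw [Fintype.linearIndependent_iff]
  intro c hc
  let A : Matrix ι ι (loc M) := fun i j => ∑ x : n, lift (L (Pi.single x 1) i) * f j x
  have hAred : A.map red = 1 := by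
    ext i j
    show red (∑ x : n, lift (L (Pi.single x 1) i) * f j x) = _
    simp only [map_sum, map_mul]
    have h1 : fr j = ∑ x, red (f j x) • (Pi.single x 1 : n → ResField M) := by
      funext x
      rw [Finset.sum_apply]
      simp [hfr, Pi.single_apply]
    have h2 : L (fr j) i = (if i = j then 1 else 0) := by
      have h3 := congrFun (LinearMap.congr_fun hL (Pi.single j 1)) i
      simpa [Fintype.linearCombination_apply, Pi.single_apply] using h3
    rw [h1, map_sum, Finset.sum_apply] at h2
    simp only [map_smul, Pi.smul_apply, smul_eq_mul] at h2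
    rw [Matrix.one_apply, ← h2]
    refine Finset.sum_congr rfl fun x _ => ?_
    rw [show red (lift (L (Pi.single x 1) i)) = L (Pi.single x 1) i from hlift _, mul_comm]
  have hdet : A.det ≠ 0 := fun h => by
    have := RingHom.map_det (red (M := M)) A
    rw [h, map_zero, RingHom.mapMatrix_apply, hAred, Matrix.det_one] at this
    exact zero_ne_one this
  have hAc : (A.map (Subring.subtype (loc M))).mulVec c = 0 := by
    funext i
    show ∑ j, ((∑ x : n, lift (L (Pi.single x 1) i) * f j x : loc M) : ℂ) * c j = 0
    push_cast
    simp only [Finset.sum_mul]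
    rw [Finset.sum_comm]
    refine Finset.sum_eq_zero fun x _ => ?_
    have h := congrFun hc x
    simp only [Finset.sum_apply, Pi.smul_apply, smul_eq_mul, Pi.zero_apply] at h
    rw [← mul_zero ((lift (L (Pi.single x 1) i) : loc M) : ℂ), ← h, Finset.mul_sum]
    exact Finset.sum_congr rfl fun j _ => by ring
  have hdetC : (A.map (Subring.subtype (loc M))).det ≠ 0 := by
    rw [← RingHom.mapMatrix_apply, ← RingHom.map_det]
    exact fun h => hdet (Subtype.ext h)
  exact congrFun (Matrix.eq_zero_of_mulVec_eq_zero hdetC hAc)

variable {G : Type*} [Group G] [Fintype G] {B : Set (IrrCharacter G)}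

/-- Independent symmetric linear forms of the block algebra are no more than the characters
of the block. -/
theorem card_symm_le (hB : IsPBlock M B) {ι : Type*} [Fintype ι]
    (μ : ι → MonoidAlgebra (ResField M) G →ₗ[ResField M] ResField M)
    (hμ : ∀ i x y, μ i (x * y) = μ i (y * x))
    (he : ∀ i x, μ i (blockIdem hB * x) = μ i x)
    (hind : LinearIndependent (ResField M) μ) : Fintype.card ι ≤ Nat.card B := by
  classical
  haveI := irrFintype G
  choose lift hlift using (IsLocalRing.residue_surjective (R := loc M))
  let val : ι → G → ResField M := fun i g => μ i (MonoidAlgebra.single g 1)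
  have hval : ∀ i g h, val i (h * g * h⁻¹) = val i g := fun i g h => by
    show μ i (MonoidAlgebra.single (h * g * h⁻¹) 1) = _
    have e1 : MonoidAlgebra.single (h * g * h⁻¹) (1 : ResField M) =
        MonoidAlgebra.single h 1 * MonoidAlgebra.single (g * h⁻¹) 1 := by
      rw [MonoidAlgebra.single_mul_single, one_mul, mul_assoc]
    rw [e1, hμ, MonoidAlgebra.single_mul_single, one_mul, inv_mul_cancel_right]
  let F : ι → G → ℂ := fun i g => (lift (val i (classRep (ConjClasses.mk g))) : ℂ)
  have hFloc : ∀ i g, F i g ∈ loc M := fun i g => Subtype.coe_prop _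
  have hFred : ∀ i g, red ⟨F i g, hFloc i g⟩ = val i g := fun i g => by
    show red (lift (val i (classRep (ConjClasses.mk g)))) = _
    rw [show red (lift (val i (classRep (ConjClasses.mk g)))) = _ from hlift _]
    obtain ⟨c, hc⟩ := isConj_iff.1
      (ConjClasses.mk_eq_mk_iff_isConj.1 (mk_classRep (ConjClasses.mk g)))
    conv_rhs => rw [← hc, hval]
  have hFclass : ∀ i, IsClassFunction G (F i) := fun i g h => by
    show (lift (val i (classRep (ConjClasses.mk (h * g * h⁻¹)))) : ℂ) = _
    rw [ConjClasses.mk_eq_mk_iff_isConj.2
      (isConj_iff.2 ⟨h⁻¹, by group⟩ : IsConj (h * g * h⁻¹) g)]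
  let Gf : ι → G → loc M := fun i g =>
    ∑ h, (⟨_, blockCoeff_mem_loc hB h⟩ : loc M) * ⟨F i (h * g), hFloc i (h * g)⟩
  have hGred : ∀ i g, red (Gf i g) = val i g := fun i g => by
    show red (∑ h, _) = _
    simp only [map_sum, map_mul, hFred]
    show _ = μ i (MonoidAlgebra.single g 1)
    conv_rhs => rw [← he i, sum_single_coeff (blockIdem hB), Finset.sum_mul, map_sum]
    refine Finset.sum_congr rfl fun h _ => ?_
    rw [MonoidAlgebra.single_mul_single,
      show MonoidAlgebra.single (h * g) ((blockIdem hB).coeff h * 1) =
          (blockIdem hB).coeff h • MonoidAlgebra.single (h * g) (1 : ResField M) from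
        (MonoidAlgebra.smul_single' _ _ _).symm,
      map_smul, smul_eq_mul, blockIdem, coeff_redFun]
  have hcomb : ∀ (c : ι → ResField M) (x : MonoidAlgebra (ResField M) G),
      ∑ i, c i * μ i x = ∑ g, x.coeff g * ∑ i, c i * val i g := fun c x => by
    conv_lhs => rw [sum_single_coeff x]
    simp only [map_sum, Finset.mul_sum]
    rw [Finset.sum_comm]
    refine Finset.sum_congr rfl fun g _ => Finset.sum_congr rfl fun i _ => ?_
    rw [show MonoidAlgebra.single g (x.coeff g) =
          x.coeff g • MonoidAlgebra.single g (1 : ResField M) by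
        rw [MonoidAlgebra.smul_single', mul_one], map_smul, smul_eq_mul]
    simp only [val]
    ring
  have hv : LinearIndependent (ResField M) fun i g => red (Gf i g) := by
    rw [Fintype.linearIndependent_iff]
    intro c hc
    refine Fintype.linearIndependent_iff.1 hind c (LinearMap.ext fun x => ?_)
    simp only [LinearMap.coe_sum, Finset.sum_apply, LinearMap.smul_apply, smul_eq_mul,
      LinearMap.zero_apply]
    rw [hcomb]
    refine Finset.sum_eq_zero fun g _ => ?_
    have h1 := congrFun hc g
    simp only [Finset.sum_apply, Pi.smul_apply, smul_eq_mul, Pi.zero_apply, hGred] at h1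
    rw [h1, mul_zero]
  have hC := linearIndependent_of_red Gf hv
  set S := Submodule.span ℂ ((fun χ : IrrCharacter G => (χ : G → ℂ)) '' B) with hS
  have hmem : ∀ i, (fun g => ((Gf i g : loc M) : ℂ)) ∈ S := by
    intro i
    have h1 : (fun g => ((Gf i g : loc M) : ℂ)) =
        ∑ χ ∈ Finset.univ.filter (· ∈ B), classInner (F i) (χ : G → ℂ) • (χ : G → ℂ) := by
      funext g
      simp only [Gf, AddSubmonoidClass.coe_finsetSum, MulMemClass.coe_mul]
      rw [← blockPart_eq_sum B (hFclass i), blockPart_apply_eq_sum, Finset.sum_apply]
      exact Finset.sum_congr rfl fun χ _ => rfl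
    rw [h1]
    exact Submodule.sum_mem _ fun χ hχ =>
      Submodule.smul_mem _ _ (Submodule.subset_span ⟨χ, (Finset.mem_filter.1 hχ).2, rfl⟩)
  have hv' : LinearIndependent ℂ fun i => (⟨_, hmem i⟩ : S) :=
    LinearIndependent.of_comp (Submodule.subtype _) hC
  refine hv'.fintype_card_le_finrank.trans ?_
  rw [hS, Set.image_eq_range, Nat.card_eq_fintype_card]
  exact finrank_range_le_card _

/-- An idempotent matrix over the local ring: its trace is a natural number, zero only for the
zero matrix, and no larger than the rank of the reduction. -/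
theorem exists_trace_le_rank {n : Type*} [Fintype n] [DecidableEq n] {T : Matrix n n (loc M)}
    (hT : T * T = T) :
    ∃ r : ℕ, (T.map (Subring.subtype (loc M))).trace = (r : ℂ) ∧
      r ≤ (T.map red).rank ∧ (r = 0 → T = 0) := by
  classical
  have htr : ∀ U : Matrix n n (loc M), U * U = U →
      (U.map (Subring.subtype (loc M))).trace = ((U.map (Subring.subtype (loc M))).rank : ℂ) := by
    intro U hU
    set C := U.map (Subring.subtype (loc M)) with hC
    have hCC : C * C = C := by rw [hC, ← Matrix.map_mul, hU]
    rw [← Matrix.trace_toLin'_eq, Matrix.rank]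
    have hP : LinearMap.IsProj (LinearMap.range C.mulVecLin) (Matrix.toLin' C) := by
      refine ⟨fun v => ⟨v, rfl⟩, fun v hv => ?_⟩
      obtain ⟨w, rfl⟩ := hv
      show C.mulVec (C.mulVec w) = C.mulVec w
      rw [Matrix.mulVec_mulVec, hCC]
    exact hP.trace
  have hle : ∀ U : Matrix n n (loc M),
      (U.map red).rank ≤ (U.map (Subring.subtype (loc M))).rank := by
    intro U
    obtain ⟨κ, a, ha, hspan, hli⟩ := exists_linearIndependent' (ResField M) (U.map red).col
    haveI : Finite κ := Finite.of_injective a ha
    haveI := Fintype.ofFinite κ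
    rw [Matrix.rank_eq_finrank_span_cols, ← hspan, finrank_span_eq_card hli,
      Matrix.rank_eq_finrank_span_cols]
    have h2 := linearIndependent_of_red (fun i j => U j (a i)) hli
    have h3 : LinearIndependent ℂ fun i => (⟨_, Submodule.subset_span ⟨a i, rfl⟩⟩ :
        Submodule.span ℂ (Set.range (U.map (Subring.subtype (loc M))).col)) :=
      LinearIndependent.of_comp (Submodule.subtype _) h2
    exact h3.fintype_card_le_finrank
  have h1 : (1 - T) * (1 - T) = 1 - T := by
    rw [mul_sub, mul_one, sub_mul, one_mul, hT, sub_self, sub_zero]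
  set C := T.map (Subring.subtype (loc M)) with hC
  set K := T.map red with hK
  have hC1 : (1 - T).map (Subring.subtype (loc M)) = 1 - C := by
    rw [hC, Matrix.map_sub _ (map_sub _), Matrix.map_one _ (map_zero _) (map_one _)]
  have hK1 : (1 - T).map red = 1 - K := by
    rw [hK, Matrix.map_sub _ (map_sub _), Matrix.map_one _ (map_zero _) (map_one _)]
  have hsumC : C.rank + (1 - C).rank = Fintype.card n := by
    apply Nat.cast_injective (R := ℂ)
    push_cast
    rw [← htr T hT, ← hC1, ← htr _ h1, hC1, Matrix.trace_sub, Matrix.trace_one]
    ring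
  have hsumK : Fintype.card n ≤ K.rank + (1 - K).rank := by
    rw [← Matrix.rank_one (R := ResField M) (n := n)]
    have e : Matrix.mulVecLin (1 : Matrix n n (ResField M)) =
        K.mulVecLin + (1 - K).mulVecLin := by
      rw [← Matrix.mulVecLin_add, add_sub_cancel]
    unfold Matrix.rank
    refine le_trans (Submodule.finrank_mono (le_trans (le_of_eq (congrArg LinearMap.range e))
      (LinearMap.range_add_le _ _))) (Submodule.finrank_add_le_finrank_add_finrank _ _)
  refine ⟨C.rank, htr T hT, ?_, fun h0 => ?_⟩
  · have := hle (1 - T)
    rw [hC1, hK1] at this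
    omega
  · rw [Matrix.rank, Submodule.finrank_eq_zero, LinearMap.range_eq_bot] at h0
    ext i j
    have h2 := congrFun (LinearMap.congr_fun h0 (Pi.single j 1)) i
    simpa [hC] using h2

end CfsgLib.Blocks
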