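import Cfsg.Agent.Lib.Blocks.StarIntegral
import Cfsg.Agent.Lib.Blocks.NilpotentFusion

/-!
# The product with a linear character trivial on the focal subgroup permutes the block
-/

set_option linter.unusedSectionVars false
set_option linter.style.haveILetI false

namespace CfsgLib.Blocks

open Cfsg Chars BlockOrth
open scoped ComplexConjugate

variable {G : Type*} [Group G] [Fintype G] {M : Ideal AlgInt} [M.IsPrime] {p : ℕ} [Fact p.Prime]
variable {B : Set (IrrCharacter G)} {P : Subgroup G}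
  {e : Set (IrrCharacter (Subgroup.centralizer (P : Set G)))} {F : FusionSystem P}

/-- A linear character of a subgroup, as a function on the group. -/
noncomputable def linExt (P : Subgroup G) (l : P →* ℂˣ) : G → ℂ := extFun P fun u => (l u : ℂ)

theorem linExt_coe (l : P →* ℂˣ) (u : P) : linExt P l (u : G) = (l u : ℂ) := extFun_coe _ _ _

theorem linExt_one_apply (l : P →* ℂˣ) : linExt P l 1 = 1 := by
  have := linExt_coe l 1
  simpa using this

theorem mor_mem_hom (hF : IsBlockFusionSystemOn p M B P e F) {a : BrauerPairIdx G} {g : G}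
    (ha : Below p M a ⟨P, e⟩) (hga : Below p M (conjPair g a) ⟨P, e⟩) :
    conjHom a.1 g ∈ F.Hom a.1 :=
  (hF.2 _ _).2 ⟨below_le ha, g, fun _ => rfl, below_le hga, a.2, ha, hga⟩

theorem isPairStable_linExt (hF : IsBlockFusionSystemOn p M B P e F) (l : P →* ℂˣ)
    (hl : ∀ u : P, (u : G) ∈ F.focalSubgroup → l u = 1) :
    IsPairStable p M ⟨P, e⟩ (linExt P l) := by
  intro a g ha hga u hu
  have huP : u ∈ P := below_le ha hu
  have hgP : g * u * g⁻¹ ∈ P := below_le hga ⟨u, hu, rfl⟩
  rw [show linExt P l (g * u * g⁻¹) = (l ⟨_, hgP⟩ : ℂ) from linExt_coe l ⟨_, hgP⟩,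
    show linExt P l u = (l ⟨_, huP⟩ : ℂ) from linExt_coe l ⟨_, huP⟩]
  congr 1
  have h := hl (⟨u, huP⟩⁻¹ * ⟨g * u * g⁻¹, hgP⟩)
    (Subgroup.subset_closure ⟨a.1, conjHom a.1 g, ⟨u, hu⟩, mor_mem_hom hF ha hga, rfl⟩)
  rw [map_mul, map_inv, inv_mul_eq_one] at h
  exact h.symm

/-- In a nilpotent block every class function of the defect group is stable. -/
theorem isPairStable_of_nilpotent (hpM : (p : AlgInt) ∈ M) (hmax : IsMaximalBrauerPair p M B P e)
    (hnil : IsNilpotentBlock p M B) {φ : P → ℂ} (hφ : IsClassFunction P φ) :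
    IsPairStable p M ⟨P, e⟩ (extFun P φ) := by
  intro a g ha hga u hu
  have hF := isBlockFusionSystemOn_blockFusion hpM hmax
  obtain ⟨v, hv, hact⟩ := act_eq_of_inner hF (inner_of_nilpotent hpM hF hnil)
    (Q := a.1) (g := g) ⟨a.2, ha, hga⟩
  rw [hact u hu, extFun_conj hφ hv]

theorem isGeneralized_linExt (l : P →* ℂˣ) :
    IsGeneralizedCharacter P (fun u : P => linExt P l u) := by
  refine ⟨fun u => (l u : ℂ), 0, isCharacter_of_irr (isIrrCharacter_linear l), isCharacter_zero, ?_⟩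
  funext u
  simp [linExt_coe]

theorem norm_linExt (l : P →* ℂˣ) (u : P) : (l u : ℂ) * conj (l u : ℂ) = 1 := by
  rw [Complex.mul_conj, Complex.normSq_eq_norm_sq, Complex.norm_eq_one_of_pow_eq_one
    (n := Nat.card P) ?_ Nat.card_pos.ne', one_pow, Complex.ofReal_one]
  rw [← Units.val_pow_eq_pow_val, ← map_pow, pow_card_eq_one', map_one, Units.val_one]

variable {c : BrauerPairIdx G} {η θ : G → ℂ}

theorem pairWeight_congr {η' : G → ℂ} {a : BrauerPairIdx G} {s : G} (hs : s ∈ a.1)
    (h : ∀ u ∈ c.1, η u = η' u) : pairWeight p M c η a s = pairWeight p M c η' a s := by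
  by_cases hx : ∃ x : G, Relation.ReflTransGen (NormalSubpairRel p M) (conjPair x a) c
  · rw [pairWeight, pairWeight, dif_pos hx, dif_pos hx]
    exact h _ (below_le hx.choose_spec ⟨s, hs, rfl⟩)
  · rw [pairWeight_of_not hx, pairWeight_of_not hx]

theorem starFun_congr {η' : G → ℂ} (h : ∀ u ∈ c.1, η u = η' u) :
    starFun M p c η θ = starFun M p c η' θ := by
  funext g
  refine Finset.sum_congr rfl fun a ha => ?_
  rw [pairWeight_congr (by rw [(mem_pairsAt.1 ha).1]; exact Subgroup.mem_zpowers _) h]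

theorem starFun_const (r : ℂ) : starFun M p c (fun _ => r) θ = fun g => r * starFun M p c (fun _ => 1) θ g := by
  funext g
  rw [← starFun_smul_left]
  simp

/-- On the elements without `p`-part the product multiplies by the value at `1`. -/
theorem starFun_regular (hpM : (p : AlgInt) ∈ M) (hmax : IsMaximalBrauerPair p M B c.1 c.2)
    {χ : IrrCharacter G} (hχ : χ ∈ B) {g : G} (hg : ¬ p ∣ orderOf g) :
    starFun M p c η (χ : G → ℂ) g = η 1 * (χ : G → ℂ) g := by
  have hx : pPartElt p g = 1 := by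
    have := pPartElt_mul (p := p) (x := 1) (y := g) (Commute.one_left g) ⟨0, one_pow _⟩ hg
    rwa [one_mul] at this
  have h : starFun M p c η (χ : G → ℂ) g = starFun M p c (fun _ => η 1) (χ : G → ℂ) g := by
    refine Finset.sum_congr rfl fun a _ => ?_
    congr 1
    rw [hx, pairWeight, pairWeight]
    split_ifs <;> simp
  rw [h, starFun_const, starFun_one hpM hmax hχ]

theorem starFun_apply_one (hpM : (p : AlgInt) ∈ M) (hmax : IsMaximalBrauerPair p M B c.1 c.2)
    {χ : IrrCharacter G} (hχ : χ ∈ B) :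
    starFun M p c η (χ : G → ℂ) 1 = η 1 * (χ : G → ℂ) 1 :=
  starFun_regular hpM hmax hχ (by simp [(Fact.out : p.Prime).not_dvd_one])

theorem secPair_eq_zero_of_block (hpM : (p : AlgInt) ∈ M) {B' : Set (IrrCharacter G)}
    (hB' : IsPBlock M B') {ξ : IrrCharacter G} (hξ : ξ ∈ B') {x : G}
    (hx : ∃ k : ℕ, x ^ p ^ k = 1) {a : BrauerPairIdx G} (ha : a ∈ pairsAt M x)
    (hnot : ¬ IsBrauerPairOf p M B' a.1 a.2) (θ : G → ℂ) :
    secPair p x a θ (ξ : G → ℂ) = 0 := by
  classical
  refine Finset.sum_eq_zero fun y hy => ?_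
  rw [secVal_eq_zero hpM hB' hξ (Finset.mem_filter.1 hy).2.1 hx (Finset.mem_filter.1 hy).2.2 ha hnot,
    map_zero, mul_zero]

/-- The product lies in the span of the block. -/
theorem inner_starFun_eq_zero (hpM : (p : AlgInt) ∈ M) (hmax : IsMaximalBrauerPair p M B c.1 c.2)
    (χ : IrrCharacter G) {ξ : IrrCharacter G} (hξ : ξ ∉ B) :
    classInner (starFun M p c η (χ : G → ℂ)) (ξ : G → ℂ) = 0 := by
  classical
  obtain ⟨B', hB', hξ'⟩ : ∃ B', IsPBlock M B' ∧ ξ ∈ B' :=
    ⟨_, isPBlock_blockOf ξ, mem_blockOf_self ξ⟩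
  rw [inner_starFun_fun hpM (isClassFunction_irr χ) (isClassFunction_irr ξ)]
  refine mul_eq_zero_of_right _ (Finset.sum_eq_zero fun x hx => Finset.sum_eq_zero fun a ha => ?_)
  have hx' := (Finset.mem_filter.1 hx).2
  by_cases hw : ∃ y : G, Relation.ReflTransGen (NormalSubpairRel p M) (conjPair y a) c
  · refine mul_eq_zero_of_right _ (secPair_eq_zero_of_block hpM hB' hξ' hx' ha (fun h => ?_) _)
    obtain ⟨y, hy⟩ := hw
    have h1 := isBrauerPairOf_conj ((isBrauerPairOf_iff_of_below hpM hy B).2 hmax.1) y⁻¹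
    rw [conjPair_mul, inv_mul_cancel, conjPair_one] at h1
    exact hξ ((existsUnique_block_of_pair hpM h.1).unique h h1 ▸ hξ')
  · rw [pairWeight_of_not hw, zero_mul]

/-- A product with a function of absolute value one keeps the norm. -/
theorem inner_starFun_self (hpM : (p : AlgInt) ∈ M) (hmax : IsMaximalBrauerPair p M B c.1 c.2)
    (h1 : ∀ u ∈ c.1, η u * conj (η u) = 1) {χ : IrrCharacter G} (hχ : χ ∈ B) :
    classInner (starFun M p c η (χ : G → ℂ)) (starFun M p c η (χ : G → ℂ)) = 1 := by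
  classical
  rw [← inner_irr_self χ]
  conv_rhs => rw [← starFun_one hpM hmax hχ]
  rw [inner_starFun hpM (isClassFunction_irr χ) (isClassFunction_irr χ),
    inner_starFun hpM (isClassFunction_irr χ) (isClassFunction_irr χ)]
  refine congrArg _ (Finset.sum_congr rfl fun x _ => Finset.sum_congr rfl fun a ha => ?_)
  congr 1
  by_cases hw : ∃ y : G, Relation.ReflTransGen (NormalSubpairRel p M) (conjPair y a) c
  · rw [pairWeight, pairWeight, dif_pos hw, dif_pos hw, map_one, one_mul]
    refine h1 _ (below_le hw.choose_spec ⟨x, ?_, rfl⟩)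
    rw [(mem_pairsAt.1 ha).1]
    exact Subgroup.mem_zpowers x
  · rw [pairWeight_of_not hw, pairWeight_of_not hw]

/-- **Broué–Puig**: a linear character trivial on the focal subgroup carries each character of the
block to one of the same degree. -/
theorem exists_irr_starFun_linear (hpM : (p : AlgInt) ∈ M)
    (hF : IsBlockFusionSystemOn p M B P e F) (l : P →* ℂˣ)
    (hl : ∀ u : P, (u : G) ∈ F.focalSubgroup → l u = 1) {χ : IrrCharacter G} (hχ : χ ∈ B) :
    ∃ ψ : IrrCharacter G, ψ ∈ B ∧ (ψ : G → ℂ) = starFun M p ⟨P, e⟩ (linExt P l) (χ : G → ℂ) ∧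
      (ψ : G → ℂ) 1 = (χ : G → ℂ) 1 := by
  have hmax : IsMaximalBrauerPair p M B (⟨P, e⟩ : BrauerPairIdx G).1 (⟨P, e⟩ : BrauerPairIdx G).2 :=
    hF.1
  have hη := isPairStable_linExt hF l hl
  have hgen := isGeneralized_starFun hpM hmax hη (isGeneralized_linExt l) χ
  have h1 : starFun M p ⟨P, e⟩ (linExt P l) (χ : G → ℂ) 1 = (χ : G → ℂ) 1 := by
    rw [starFun_apply_one hpM hmax hχ, linExt_one_apply, one_mul]
  have hirr : IsIrrCharacter G (starFun M p ⟨P, e⟩ (linExt P l) (χ : G → ℂ)) := by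
    refine irr_of_norm_one hgen (inner_starFun_self hpM hmax (fun u hu => ?_) hχ) ?_
    · rw [show linExt P l u = (l ⟨u, hu⟩ : ℂ) from linExt_coe l ⟨u, hu⟩, norm_linExt]
    · obtain ⟨n, hn⟩ := character_degree_nat (isCharacter_of_irr χ.2)
      rw [h1, hn]
      simp
  refine ⟨⟨_, hirr⟩, ?_, rfl, h1⟩
  by_contra h
  have h0 := inner_starFun_eq_zero (η := linExt P l) hpM hmax χ h
  rw [inner_irr_self ⟨_, hirr⟩] at h0
  exact one_ne_zero h0

end CfsgLib.Blocks
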