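import Cfsg.Agent.Lib.Blocks.StarNonzero
import Mathlib.RingTheory.RootsOfUnity.AlgebraicallyClosed
import Mathlib.GroupTheory.GroupAction.Quotient

/-!
# The numbers of characters of given height and the focal subgroup
-/

set_option linter.unusedSectionVars false
set_option linter.style.haveILetI false

namespace CfsgLib.Blocks

open Cfsg Chars BlockOrth

variable {G : Type*} [Group G] [Fintype G] {M : Ideal AlgInt} [M.IsPrime] {p : ℕ} [Fact p.Prime]
variable {B : Set (IrrCharacter G)} {P : Subgroup G}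
  {e : Set (IrrCharacter (Subgroup.centralizer (P : Set G)))} {F : FusionSystem P}

theorem commutator_mem_focal (g h : P) : g * h * g⁻¹ * h⁻¹ ∈ F.focalSubgroup.subgroupOf P := by
  rw [Subgroup.mem_subgroupOf]
  refine Subgroup.subset_closure ⟨P, conjHom P (h : G), g⁻¹, F.conj_mem le_rfl h.2, ?_⟩
  show ((g * h * g⁻¹ * h⁻¹ : P) : G) = ((g⁻¹ : P) : G)⁻¹ * ((h : G) * ((g⁻¹ : P) : G) * (h : G)⁻¹)
  push_cast
  group

theorem normal_focal : (F.focalSubgroup.subgroupOf P).Normal := ⟨fun n hn g => by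
  have := Subgroup.mul_mem _ (commutator_mem_focal (F := F) g n) hn
  rwa [inv_mul_cancel_right] at this⟩

theorem exists_dvd_orbit {Λ X : Type*} [Group Λ] [Finite Λ] [MulAction Λ X] [Finite X] {n : ℕ}
    {K : Subgroup Λ} (hn : n ∣ K.index) (hK : ∀ x : X, MulAction.stabilizer Λ x ≤ K) :
    n ∣ Nat.card X := by
  classical
  haveI := Fintype.ofFinite (MulAction.orbitRel.Quotient Λ X)
  rw [Nat.card_congr (MulAction.selfEquivSigmaOrbits Λ X), Nat.card_sigma]
  refine Finset.dvd_sum fun ω _ => hn.trans ((Subgroup.index_dvd_of_le (hK ω.out)).trans ?_)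
  rw [MulAction.index_stabilizer, Nat.card_coe_set_eq]

/-- The characters of given height fall into orbits of size divisible by the index in `Z` of the
focal subgroup, when every character has parts at all elements of `Z`. -/
theorem relIndex_focal_dvd_card (hpM : (p : AlgInt) ∈ M) (hF : IsBlockFusionSystemOn p M B P e F)
    (h : ℕ) (Z : Subgroup P)
    (hne : ∀ χ : IrrCharacter G, χ ∈ B → blockHeight p B (χ : G → ℂ) = h → ∀ u ∈ Z, ∀ b,
      Below p M ⟨Subgroup.zpowers ((u : P) : G), b⟩ ⟨P, e⟩ → ∃ y : G, Commute ((u : P) : G) y ∧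
        ¬ p ∣ orderOf y ∧
          secVal ⟨Subgroup.zpowers ((u : P) : G), b⟩ (χ : G → ℂ) (((u : P) : G) * y) ≠ 0) :
    (F.focalSubgroup.subgroupOf P).relIndex Z ∣
      Nat.card {χ : IrrCharacter G // χ ∈ B ∧ blockHeight p B (χ : G → ℂ) = h} := by
  classical
  haveI : Finite (IrrCharacter G) := @Finite.of_fintype _ (irrFintype G)
  set N := F.focalSubgroup.subgroupOf P with hN
  haveI : N.Normal := normal_focal
  letI : CommGroup (P ⧸ N) :=
    { QuotientGroup.Quotient.group N with
      mul_comm := fun a b => by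
        induction a using QuotientGroup.induction_on with
        | H g =>
          induction b using QuotientGroup.induction_on with
          | H k =>
            rw [← QuotientGroup.mk_mul, ← QuotientGroup.mk_mul, QuotientGroup.eq]
            have := commutator_mem_focal (F := F) k⁻¹ g⁻¹
            simpa [mul_assoc, hN] using this }
  haveI : HasEnoughRootsOfUnity ℂ (Monoid.exponent (P ⧸ N)) := by
    haveI : NeZero (Monoid.exponent (P ⧸ N) : ℂ) :=
      ⟨Nat.cast_ne_zero.2 Monoid.exponent_ne_zero_of_finite⟩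
    infer_instance
  have hker : ∀ (l : P ⧸ N →* ℂˣ) (u : P), (u : G) ∈ F.focalSubgroup →
      l.comp (QuotientGroup.mk' N) u = 1 := fun l u hu => by
    rw [MonoidHom.comp_apply, QuotientGroup.mk'_apply, (QuotientGroup.eq_one_iff u).2 hu, map_one]
  have hmax : IsMaximalBrauerPair p M B (⟨P, e⟩ : BrauerPairIdx G).1 (⟨P, e⟩ : BrauerPairIdx G).2 :=
    hF.1
  choose ψ hψB hψval hψ1 using fun (l : P ⧸ N →* ℂˣ)
    (χ : {χ : IrrCharacter G // χ ∈ B ∧ blockHeight p B (χ : G → ℂ) = h}) =>
    exists_irr_starFun_linear hpM hF (l.comp (QuotientGroup.mk' N)) (hker l) χ.2.1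
  have hht : ∀ l χ, blockHeight p B (ψ l χ : G → ℂ) = h := fun l χ => by
    conv_rhs => rw [← χ.2.2]
    unfold blockHeight charDegree
    rw [hψ1 l χ]
  letI : MulAction (P ⧸ N →* ℂˣ) {χ : IrrCharacter G // χ ∈ B ∧ blockHeight p B (χ : G → ℂ) = h} :=
    { smul := fun l χ => ⟨ψ l χ, hψB l χ, hht l χ⟩
      one_smul := fun χ => Subtype.ext (Subtype.ext (by
        show (ψ 1 χ : G → ℂ) = _
        rw [hψval, starFun_congr (η' := fun _ => 1) fun u hu => ?_, starFun_one hpM hmax χ.2.1]
        rw [show u = ((⟨u, hu⟩ : P) : G) from rfl, linExt_coe]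
        simp))
      mul_smul := fun l l' χ => Subtype.ext (Subtype.ext (by
        show (ψ (l * l') χ : G → ℂ) = (ψ l ⟨ψ l' χ, hψB l' χ, hht l' χ⟩ : G → ℂ)
        rw [hψval, hψval l ⟨ψ l' χ, hψB l' χ, hht l' χ⟩]
        show _ = starFun M p ⟨P, e⟩ (linExt P (l.comp (QuotientGroup.mk' N))) (ψ l' χ : G → ℂ)
        rw [hψval l' χ, starFun_starFun hpM (isPairStable_linExt hF _ (hker l'))
          (isPairStable_linExt hF _ (hker l)) (isClassFunction_irr χ.1)]
        refine starFun_congr fun u hu => ?_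
        show linExt P _ u = linExt P _ u * linExt P _ u
        rw [show u = ((⟨u, hu⟩ : P) : G) from rfl, linExt_coe, linExt_coe, linExt_coe]
        simp)) }
  have hsurj := MonoidHom.domRestrict_surjective (G := P ⧸ N) (M := ℂ) (Z.map (QuotientGroup.mk' N))
  refine exists_dvd_orbit (K := (MonoidHom.domRestrictHom (Z.map (QuotientGroup.mk' N)) ℂˣ).ker)
    ?_ fun χ l hl => ?_
  · rw [Subgroup.index_ker, MonoidHom.range_eq_top.2 hsurj, Nat.card_congr Subgroup.topEquiv.toEquiv]
    haveI : HasEnoughRootsOfUnity ℂ (Monoid.exponent (Z.map (QuotientGroup.mk' N))) :=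
      HasEnoughRootsOfUnity.of_dvd ℂ
        (Monoid.exponent_submonoid_dvd (Z.map (QuotientGroup.mk' N)).toSubmonoid)
    rw [CommGroup.card_monoidHom_of_hasEnoughRootsOfUnity]
    conv_lhs => rw [← QuotientGroup.ker_mk' N, Subgroup.relIndex_ker]
  · rw [MonoidHom.mem_ker]
    refine MonoidHom.ext fun z => ?_
    obtain ⟨u, hu, huz⟩ := z.2
    show l z.1 = 1
    rw [← huz]
    have hfix : (ψ l χ : G → ℂ) = (χ.1 : G → ℂ) := by
      have := congrArg (fun w : {χ : IrrCharacter G // χ ∈ B ∧ blockHeight p B (χ : G → ℂ) = h} =>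
        (w.1 : G → ℂ)) (MulAction.mem_stabilizer_iff.1 hl)
      exact this
    rw [hψval] at hfix
    exact linear_eq_one_of_fixed hpM hF (hker l) hfix u (hne χ.1 χ.2.1 χ.2.2 u hu)

end CfsgLib.Blocks
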