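import Mathlib

/-!
# Tate cohomology of the endomorphisms of an indecomposable lattice

For a Sylow subgroup of prime order, a lattice over the `p`-adic integers whose only commuting
endomorphisms are zero or injective has both Tate groups of dimension at most one in the trivial
part of the local subgroup.
-/

set_option autoImplicit false
set_option linter.style.haveILetI false
set_option linter.unusedSectionVars false

namespace CfsgLib.Blocks

open Finset

/-- In a finite monoid a power of every element is idempotent. -/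
theorem exists_pow_idempotent {M : Type*} [Monoid M] [Finite M] (a : M) :
    ∃ k, 0 < k ∧ a ^ k * a ^ k = a ^ k := by
  obtain ⟨i, j, hij, h⟩ : ∃ i j, i < j ∧ a ^ i = a ^ j := by
    obtain ⟨i, j, hne, h⟩ := Finite.exists_ne_map_eq_of_infinite fun n : ℕ => a ^ n
    rcases lt_or_gt_of_ne hne with h1 | h1
    · exact ⟨i, j, h1, h⟩
    · exact ⟨j, i, h1, h.symm⟩
  obtain ⟨d, rfl⟩ : ∃ d, j = i + d := ⟨j - i, by omega⟩
  have hper : ∀ m l, i ≤ l → a ^ (l + m * d) = a ^ l := by
    intro m
    induction m with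
    | zero => intro l _; simp
    | succ m ih =>
      intro l hl
      rw [show l + (m + 1) * d = (l + m * d - i) + (i + d) by
        have : (m + 1) * d = m * d + d := by ring
        omega, pow_add, ← h, ← pow_add, show l + m * d - i + i = l + m * d by omega, ih l hl]
  refine ⟨(i + 1) * d, Nat.mul_pos (by omega) (by omega), ?_⟩
  rw [← pow_add]
  exact hper _ _ (le_trans (Nat.le_succ i) (Nat.le_mul_of_pos_right _ (by omega)))

variable {p : ℕ} [Fact p.Prime]

open Filter Topology in
/-- An element which is idempotent modulo `p` lifts to an idempotent in the centralizer. -/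
theorem exists_idempotent_lift {ι : Type*} [Fintype ι] [DecidableEq ι]
    (S : Set (Matrix ι ι ℤ_[p])) (A : Matrix ι ι ℤ_[p]) (hA : ∀ X ∈ S, A * X = X * A)
    (hidem : ∃ B : Matrix ι ι ℤ_[p], A * A - A = (p : ℤ_[p]) • B) :
    ∃ E : Matrix ι ι ℤ_[p], E * E = E ∧ (∀ X ∈ S, E * X = X * E) ∧
      ∀ i j, (p : ℤ_[p]) ∣ E i j - A i j := by
  let step : Matrix ι ι ℤ_[p] → Matrix ι ι ℤ_[p] := fun x => 3 • (x * x) - 2 • (x * x * x)
  let x : ℕ → Matrix ι ι ℤ_[p] := fun k => step^[k] A
  have hsucc : ∀ k, x (k + 1) = step (x k) := fun k => Function.iterate_succ_apply' step k A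
  have hcomm : ∀ k, ∀ X ∈ S, x k * X = X * x k := by
    intro k
    induction k with
    | zero => exact hA
    | succ k ih =>
      intro X hX
      have h : Commute (x k) X := ih X hX
      rw [hsucc]
      exact (((h.mul_left h).smul_left 3).sub_left (((h.mul_left h).mul_left h).smul_left 2)).eq
  have herr : ∀ k, ∃ B, x k * x k - x k = (p : ℤ_[p]) ^ (k + 1) • B := by
    intro k
    induction k with
    | zero => simpa [x] using hidem
    | succ k ih =>
      obtain ⟨B, hB⟩ := ih
      refine ⟨(p : ℤ_[p]) ^ k • (B * B * ((4 : Matrix ι ι ℤ_[p]) * (x k * x k - x k) - 3)), ?_⟩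
      have e : x (k + 1) * x (k + 1) - x (k + 1) = (x k * x k - x k) * (x k * x k - x k) *
          ((4 : Matrix ι ι ℤ_[p]) * (x k * x k - x k) - 3) := by
        rw [hsucc]
        simp only [step]
        noncomm_ring
      rw [e]
      conv_lhs => arg 1; rw [hB]
      rw [smul_mul_smul_comm, smul_mul_assoc, smul_smul, ← pow_add, ← pow_add]
      congr 2
      omega
  have hdiff : ∀ k i j, ‖x (k + 1) i j - x k i j‖ ≤ ((p : ℝ)⁻¹) ^ (k + 1) := by
    intro k i j
    obtain ⟨B, hB⟩ := herr k
    have e : x (k + 1) - x k = (x k * x k - x k) * (1 - 2 • x k) := by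
      rw [hsucc]
      simp only [step]
      noncomm_ring
    have e2 : x (k + 1) i j - x k i j = (p : ℤ_[p]) ^ (k + 1) * ((B * (1 - 2 • x k) : Matrix ι ι ℤ_[p]) i j) := by
      rw [← Matrix.sub_apply, e, hB, smul_mul_assoc, Matrix.smul_apply, smul_eq_mul]
    rw [e2, norm_mul, norm_pow, PadicInt.norm_p]
    exact mul_le_of_le_one_right (by positivity) (PadicInt.norm_le_one _)
  have hlt : ((p : ℝ)⁻¹) < 1 := inv_lt_one_of_one_lt₀ (by exact_mod_cast (Fact.out : p.Prime).one_lt)
  have hcau : ∀ i j, CauchySeq fun k => x k i j := fun i j => by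
    refine cauchySeq_of_le_geometric ((p : ℝ)⁻¹) ((p : ℝ)⁻¹) hlt fun k => ?_
    rw [dist_eq_norm, ← neg_sub, norm_neg, ← pow_succ']
    exact hdiff k i j
  choose E hE using fun i j => cauchySeq_tendsto_of_complete (hcau i j)
  have hlim : Tendsto x atTop (𝓝 (Matrix.of E)) :=
    tendsto_pi_nhds.2 fun i => tendsto_pi_nhds.2 fun j => hE i j
  have hzero : Tendsto (fun k => x k * x k - x k) atTop (𝓝 0) := by
    refine tendsto_pi_nhds.2 fun i => tendsto_pi_nhds.2 fun j => ?_
    refine squeeze_zero_norm' (Eventually.of_forall fun k => ?_)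
      (tendsto_pow_atTop_nhds_zero_of_lt_one (by positivity) hlt)
    obtain ⟨B, hB⟩ := herr k
    show ‖(x k * x k - x k) i j‖ ≤ _
    rw [hB, Matrix.smul_apply, smul_eq_mul, norm_mul, norm_pow, PadicInt.norm_p]
    refine (mul_le_of_le_one_right (by positivity) (PadicInt.norm_le_one _)).trans ?_
    exact pow_le_pow_of_le_one (by positivity) hlt.le (Nat.le_succ k)
  have hsq : Tendsto (fun k => x k * x k - x k) atTop (𝓝 (Matrix.of E * Matrix.of E - Matrix.of E)) :=
    (hlim.mul hlim).sub hlim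
  refine ⟨Matrix.of E, sub_eq_zero.1 (tendsto_nhds_unique hsq hzero), fun X hX => ?_, fun i j => ?_⟩
  · exact tendsto_nhds_unique (hlim.mul_const X)
      ((hlim.const_mul X).congr fun k => (hcomm k X hX).symm)
  · have hall : ∀ k, ‖x k i j - A i j‖ ≤ (p : ℝ)⁻¹ := by
      intro k
      induction k with
      | zero => simp [x]
      | succ k ih =>
        rw [show x (k + 1) i j - A i j = (x (k + 1) i j - x k i j) + (x k i j - A i j) by ring]
        refine (PadicInt.nonarchimedean _ _).trans (max_le ((hdiff k i j).trans ?_) ih)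
        exact pow_le_of_le_one (by positivity) hlt.le (Nat.succ_ne_zero k)
    have h : ‖Matrix.of E i j - A i j‖ ≤ (p : ℝ)⁻¹ :=
      le_of_tendsto ((hE i j).sub_const (A i j)).norm (Eventually.of_forall hall)
    have h' : ‖Matrix.of E i j - A i j‖ ≤ (p : ℝ) ^ (-((1 : ℕ) : ℤ)) := by simpa using h
    rw [PadicInt.norm_le_pow_iff_mem_span_pow, Ideal.mem_span_singleton, pow_one] at h'
    exact h'

/-- The index of the multiples of `p` in a free module. -/
theorem index_range_nsmul {V : Type*} [AddCommGroup V] [Module ℤ_[p] V] [Module.Free ℤ_[p] V]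
    [Module.Finite ℤ_[p] V] :
    (nsmulAddMonoidHom (α := V) p).range.index = p ^ Module.finrank ℤ_[p] V := by
  set r := Module.finrank ℤ_[p] V
  set b := Module.finBasis ℤ_[p] V with hb
  set q : V →+ (Fin r → ZMod p) :=
    { toFun := fun v i => PadicInt.toZMod (b.repr v i)
      map_zero' := by funext i; simp
      map_add' := fun v w => by funext i; simp } with hq
  have hsurj : Function.Surjective q := fun f => by
    refine ⟨b.equivFun.symm fun i => ((f i).val : ℤ_[p]), funext fun i => ?_⟩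
    show PadicInt.toZMod (b.equivFun (b.equivFun.symm fun i => ((f i).val : ℤ_[p])) i) = _
    rw [LinearEquiv.apply_symm_apply, map_natCast, ZMod.natCast_zmod_val]
  have hker : q.ker = (nsmulAddMonoidHom (α := V) p).range := by
    ext v
    constructor
    · intro hv
      have h : ∀ i, (p : ℤ_[p]) ∣ b.repr v i := fun i => by
        rw [← Ideal.mem_span_singleton, ← PadicInt.maximalIdeal_eq_span_p, ← PadicInt.ker_toZMod]
        exact congrFun hv i
      choose c hc using h
      refine ⟨b.equivFun.symm c, b.equivFun.injective (funext fun i => ?_)⟩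
      show b.equivFun (p • b.equivFun.symm c) i = _
      rw [map_nsmul, LinearEquiv.apply_symm_apply, Pi.smul_apply, nsmul_eq_mul, ← hc i]
      rfl
    · rintro ⟨w, rfl⟩
      funext i
      show PadicInt.toZMod (b.repr (p • w) i) = 0
      rw [map_nsmul, Finsupp.smul_apply, map_nsmul]
      simp
  rw [← hker, AddSubgroup.index_ker, AddMonoidHom.range_eq_top.2 hsurj, AddSubgroup.card_top,
    Nat.card_fun, Nat.card_zmod, Nat.card_eq_fintype_card, Fintype.card_fin]

theorem exists_div {V : Type*} [AddCommGroup V] [Module ℤ_[p] V] (φ : V →ₗ[ℤ_[p]] ℤ_[p])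
    (h : ∀ x, (p : ℤ_[p]) ∣ φ x) : ∃ φ' : V →ₗ[ℤ_[p]] ℤ_[p], ∀ x, (p : ℤ_[p]) * φ' x = φ x := by
  have h0 : (p : ℤ_[p]) ≠ 0 := by exact_mod_cast (Fact.out : p.Prime).ne_zero
  choose c hc using h
  refine ⟨{ toFun := c, map_add' := fun x y => ?_, map_smul' := fun r x => ?_ }, fun x => (hc x).symm⟩
  · refine mul_left_cancel₀ h0 ?_
    rw [← hc, map_add, hc, hc, mul_add]
  · refine mul_left_cancel₀ h0 ?_
    rw [← hc, map_smul, hc]
    simp only [RingHom.id_apply, smul_eq_mul]
    ring

universe u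

variable {G : Type u} [Group G] [Fintype G]

/-- The local subgroup at an element of order `p`. -/
structure CyclicLocal (p : ℕ) (G : Type u) [Group G] where
  u : G
  V : Subgroup G
  n₀ : G
  order_u : orderOf u = p
  commute_V : ∀ v ∈ V, Commute u v
  not_dvd : ¬ p ∣ Nat.card V
  split : ∀ c : G, Commute u c → ∃ y ∈ Subgroup.zpowers u, ∃ v ∈ V, c = y * v
  norm_V : ∀ n : G, n * u * n⁻¹ ∈ Subgroup.zpowers u → ∀ v, v ∈ V ↔ n * v * n⁻¹ ∈ V
  n₀_mem : n₀ * u * n₀⁻¹ ∈ Subgroup.zpowers u
  gen : ∀ n : G, n * u * n⁻¹ ∈ Subgroup.zpowers u → ∃ i : ℕ, Commute u (n * (n₀ ^ i)⁻¹)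
  pow_n₀ : Commute u (n₀ ^ (p - 1))

variable {n : ℕ} (ρ : Representation ℤ_[p] G (Fin n → ℤ_[p])) (L : CyclicLocal p G)

open Classical in
/-- The trace sum over the powers. -/
noncomputable def sumP : Module.End ℤ_[p] (Fin n → ℤ_[p]) := ∑ y : Subgroup.zpowers L.u, ρ y

open Classical in
/-- The averaging idempotent of the normal complement. -/
noncomputable def avgV : Module.End ℤ_[p] (Fin n → ℤ_[p]) :=
  Ring.inverse ((Nat.card L.V : ℕ) : ℤ_[p]) • ∑ v : L.V, ρ v

theorem isUnit_natCast {m : ℕ} (hm : ¬ p ∣ m) : IsUnit (m : ℤ_[p]) := by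
  rw [PadicInt.isUnit_iff]
  by_contra h
  have h2 : ‖((m : ℤ) : ℤ_[p])‖ < 1 := by
    push_cast
    exact lt_of_le_of_ne (PadicInt.norm_le_one _) h
  rw [PadicInt.norm_intCast_lt_one_iff] at h2
  exact hm (Int.natCast_dvd_natCast.1 h2)

theorem avgV_mul_of_mem {v : G} (hv : v ∈ L.V) : avgV ρ L * ρ v = avgV ρ L := by
  classical
  rw [avgV, smul_mul_assoc, Finset.sum_mul]
  congr 1
  exact Fintype.sum_equiv (Equiv.mulRight (⟨v, hv⟩ : L.V)) _ _ fun a => by simp

theorem mul_avgV_of_mem {v : G} (hv : v ∈ L.V) : ρ v * avgV ρ L = avgV ρ L := by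
  classical
  rw [avgV, mul_smul_comm, Finset.mul_sum]
  congr 1
  exact Fintype.sum_equiv (Equiv.mulLeft (⟨v, hv⟩ : L.V)) _ _ fun a => by simp

theorem avgV_idem : avgV ρ L * avgV ρ L = avgV ρ L := by
  classical
  conv_lhs => arg 1; rw [avgV]
  rw [smul_mul_assoc, Finset.sum_mul, Finset.sum_congr rfl fun v _ => mul_avgV_of_mem ρ L v.2,
    Finset.sum_const, Finset.card_univ, ← Nat.cast_smul_eq_nsmul ℤ_[p], smul_smul,
    ← Nat.card_eq_fintype_card, Ring.inverse_mul_cancel _ (isUnit_natCast L.not_dvd), one_smul]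

theorem avgV_conj {g : G} (hg : g * L.u * g⁻¹ ∈ Subgroup.zpowers L.u) :
    ρ g * avgV ρ L = avgV ρ L * ρ g := by
  classical
  rw [avgV, mul_smul_comm, smul_mul_assoc, Finset.mul_sum, Finset.sum_mul]
  congr 1
  refine Fintype.sum_equiv ((MulAut.conj g).toEquiv.subtypeEquiv fun v => L.norm_V g hg v) _ _
    fun v => ?_
  show ρ g * ρ v = ρ (g * v * g⁻¹) * ρ g
  rw [← map_mul, ← map_mul, inv_mul_cancel_right]

theorem sumP_mul_of_mem {y : G} (hy : y ∈ Subgroup.zpowers L.u) : sumP ρ L * ρ y = sumP ρ L := by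
  classical
  rw [sumP, Finset.sum_mul]
  exact Fintype.sum_equiv (Equiv.mulRight (⟨y, hy⟩ : Subgroup.zpowers L.u)) _ _ fun a => by simp

theorem mul_sumP_of_mem {y : G} (hy : y ∈ Subgroup.zpowers L.u) : ρ y * sumP ρ L = sumP ρ L := by
  classical
  rw [sumP, Finset.mul_sum]
  exact Fintype.sum_equiv (Equiv.mulLeft (⟨y, hy⟩ : Subgroup.zpowers L.u)) _ _ fun a => by simp

theorem zpowers_conj {g : G} (hg : g * L.u * g⁻¹ ∈ Subgroup.zpowers L.u) (y : G) :
    y ∈ Subgroup.zpowers L.u ↔ g * y * g⁻¹ ∈ Subgroup.zpowers L.u := by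
  have hmap : (Subgroup.zpowers L.u).map (MulAut.conj g).toMonoidHom = Subgroup.zpowers L.u := by
    refine Subgroup.eq_of_le_of_card_ge ?_ ?_
    · rw [MonoidHom.map_zpowers, Subgroup.zpowers_le]
      exact hg
    · rw [Subgroup.card_map_of_injective (MulAut.conj g).injective]
  conv_rhs => rw [← hmap]
  exact (Subgroup.mem_map_iff_mem (MulAut.conj g).injective).symm

theorem sumP_conj {g : G} (hg : g * L.u * g⁻¹ ∈ Subgroup.zpowers L.u) :
    ρ g * sumP ρ L = sumP ρ L * ρ g := by
  classical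
  rw [sumP, Finset.mul_sum, Finset.sum_mul]
  refine Fintype.sum_equiv ((MulAut.conj g).toEquiv.subtypeEquiv fun y => zpowers_conj L hg y) _ _
    fun y => ?_
  show ρ g * ρ y = ρ (g * y * g⁻¹) * ρ g
  rw [← map_mul, ← map_mul, inv_mul_cancel_right]

theorem normalizes_of_mem {y : G} (hy : y ∈ Subgroup.zpowers L.u) :
    y * L.u * y⁻¹ ∈ Subgroup.zpowers L.u :=
  mul_mem (mul_mem hy (Subgroup.mem_zpowers _)) (inv_mem hy)

theorem avgV_comm_P {y : G} (hy : y ∈ Subgroup.zpowers L.u) :
    ρ y * avgV ρ L = avgV ρ L * ρ y :=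
  avgV_conj ρ L (normalizes_of_mem L hy)

theorem card_zpowers_u : Nat.card (Subgroup.zpowers L.u) = p := by
  rw [Nat.card_zpowers, L.order_u]

/-- The two relevant sublattices and their boundaries. -/
structure TateLayer where
  S : Submodule ℤ_[p] (Fin n → ℤ_[p])
  I : Submodule ℤ_[p] (Fin n → ℤ_[p])
  le : I ≤ S
  fix : ∀ x ∈ S, avgV ρ L x = x
  p_smul : ∀ x ∈ S, (p : ℤ_[p]) • x ∈ I
  sat : ∀ x, avgV ρ L x = x → (p : ℤ_[p]) • x ∈ S → (p : ℤ_[p]) • x ∈ I
  inv_S : ∀ g, g * L.u * g⁻¹ ∈ Subgroup.zpowers L.u → ∀ x ∈ S, ρ g x ∈ S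
  inv_I : ∀ g, g * L.u * g⁻¹ ∈ Subgroup.zpowers L.u → ∀ x ∈ I, ρ g x ∈ I
  triv : ∀ y ∈ Subgroup.zpowers L.u, ∀ x ∈ S, ρ y x - x ∈ I
  mackey : ∀ h : Module.End ℤ_[p] (Fin n → ℤ_[p]), ∀ x ∈ S,
    (∑ y : Subgroup.zpowers L.u, ρ y (avgV ρ L (h (ρ (y : G)⁻¹ x)))) ∈ I
  lift : ∀ ψ : S →ₗ[ℤ_[p]] ℤ_[p], (∀ x : S, (x : Fin n → ℤ_[p]) ∈ I → (p : ℤ_[p]) ∣ ψ x) →
    ∀ w ∈ S, ∃ f : Module.End ℤ_[p] (Fin n → ℤ_[p]),
      (∀ y ∈ Subgroup.zpowers L.u, f * ρ y = ρ y * f) ∧ f * avgV ρ L = f ∧ avgV ρ L * f = f ∧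
      ∀ x : S, f x - ψ x • w ∈ I

variable {ρ L}

/-- A lifted endomorphism commutes with the centralizer. -/
theorem lift_commute {f : Module.End ℤ_[p] (Fin n → ℤ_[p])}
    (h1 : ∀ y ∈ Subgroup.zpowers L.u, f * ρ y = ρ y * f) (h2 : f * avgV ρ L = f)
    (h3 : avgV ρ L * f = f) {c : G} (hc : Commute L.u c) : f * ρ c = ρ c * f := by
  obtain ⟨y, hy, v, hv, rfl⟩ := L.split c hc
  have hv1 : f * ρ v = f := by
    conv_lhs => rw [← h2, mul_assoc, avgV_mul_of_mem ρ L hv, h2]
  have hv2 : ρ v * f = f := by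
    conv_lhs => rw [← h3, ← mul_assoc, mul_avgV_of_mem ρ L hv, h3]
  rw [map_mul, ← mul_assoc, h1 y hy, mul_assoc, hv1, mul_assoc, hv2]

namespace TateLayer

variable (T : TateLayer ρ L) (hρ : ∀ F : Module.End ℤ_[p] (Fin n → ℤ_[p]),
  (∀ g, F * ρ g = ρ g * F) → F = 0 ∨ Function.Injective F)

/-- The boundaries inside the layer. -/
noncomputable abbrev bd : Submodule ℤ_[p] T.S := T.I.comap T.S.subtype

/-- The Tate group. -/
noncomputable abbrev U : Type := T.S ⧸ T.bd

theorem p_nsmul_U (x : T.U) : p • x = 0 := by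
  obtain ⟨x, rfl⟩ := Submodule.Quotient.mk_surjective _ x
  rw [← Nat.cast_smul_eq_nsmul ℤ_[p], ← Submodule.Quotient.mk_smul, Submodule.Quotient.mk_eq_zero]
  exact T.p_smul x x.2

/-- The action of a normalizing element on the Tate group. -/
noncomputable def act (g : G) (hg : g * L.u * g⁻¹ ∈ Subgroup.zpowers L.u) :
    T.U →ₗ[ℤ_[p]] T.U :=
  Submodule.mapQ T.bd T.bd ((ρ g).restrict (T.inv_S g hg)) fun x hx => T.inv_I g hg _ hx

theorem act_mk (g : G) (hg : g * L.u * g⁻¹ ∈ Subgroup.zpowers L.u) (x : T.S) :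
    T.act g hg (Submodule.Quotient.mk x) = Submodule.Quotient.mk ⟨ρ g x, T.inv_S g hg _ x.2⟩ := rfl

theorem smul_zmod [Module (ZMod p) T.U] (r : ℤ_[p]) (x : T.U) :
    r • x = (PadicInt.toZMod r) • x := by
  obtain ⟨c, hc⟩ : (p : ℤ_[p]) ∣ r - ((PadicInt.toZMod r).val : ℤ_[p]) := by
    rw [← Ideal.mem_span_singleton, ← PadicInt.maximalIdeal_eq_span_p, ← PadicInt.ker_toZMod,
      RingHom.mem_ker, map_sub, map_natCast, ZMod.natCast_zmod_val, sub_self]
  conv_lhs => rw [show r = ((PadicInt.toZMod r).val : ℤ_[p]) + (p : ℤ_[p]) * c by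
    rw [← hc]; ring]
  rw [add_smul, mul_smul, Nat.cast_smul_eq_nsmul ℤ_[p] p, p_nsmul_U, add_zero,
    Nat.cast_smul_eq_nsmul, ← Nat.cast_smul_eq_nsmul (ZMod p), ZMod.natCast_zmod_val]

/-- Every endomorphism of the Tate group is induced by an endomorphism commuting with the
centralizer. -/
theorem exists_lift (E : T.U →+ T.U) : ∃ f : Module.End ℤ_[p] (Fin n → ℤ_[p]),
    (∀ c, Commute L.u c → f * ρ c = ρ c * f) ∧ avgV ρ L * f = f ∧
    ∀ x : T.S, ∃ h : f x ∈ T.S, (Submodule.Quotient.mk ⟨f x, h⟩ : T.U) =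
      E (Submodule.Quotient.mk x) := by
  classical
  haveI : Module (ZMod p) T.U := AddCommGroup.zmodModule T.p_nsmul_U
  haveI : Module.Free ℤ_[p] T.S := Module.free_of_finite_type_torsion_free'
  haveI : Module.Finite (ZMod p) T.U := by
    obtain ⟨s, hs⟩ := Module.Finite.fg_top (R := ℤ_[p]) (M := T.U)
    refine Module.Finite.of_fg_top ⟨s, top_le_iff.1 fun x hxt => ?_⟩
    have hx : x ∈ Submodule.span ℤ_[p] (s : Set T.U) := hs.symm ▸ Submodule.mem_top
    clear hxt
    induction hx using Submodule.span_induction with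
    | mem a ha => exact Submodule.subset_span ha
    | zero => exact zero_mem _
    | add a b _ _ ha hb => exact add_mem ha hb
    | smul r a _ ha => rw [T.smul_zmod]; exact Submodule.smul_mem _ _ ha
  set bU := Module.finBasis (ZMod p) T.U
  set bS := Module.Free.chooseBasis ℤ_[p] T.S
  let ψ : Fin (Module.finrank (ZMod p) T.U) → (T.S →ₗ[ℤ_[p]] ℤ_[p]) := fun i =>
    bS.constr ℤ_[p] fun j => (((bU.repr (Submodule.Quotient.mk (bS j))) i).val : ℤ_[p])
  have hψ : ∀ i x, PadicInt.toZMod (ψ i x) = bU.repr (Submodule.Quotient.mk x) i := by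
    intro i x
    conv_rhs => rw [← bS.sum_repr x]
    simp only [ψ, Module.Basis.constr_apply_fintype, Module.Basis.equivFun_apply,
      ← Submodule.mkQ_apply, map_sum, map_smul, smul_eq_mul, map_mul, map_natCast,
      ZMod.natCast_zmod_val, T.smul_zmod, Finsupp.coe_finset_sum, Finset.sum_apply,
      Finsupp.smul_apply]
  have hψI : ∀ i, ∀ x : T.S, (x : Fin n → ℤ_[p]) ∈ T.I → (p : ℤ_[p]) ∣ ψ i x := by
    intro i x hx
    have hx0 : (Submodule.Quotient.mk x : T.U) = 0 := (Submodule.Quotient.mk_eq_zero _).2 hx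
    rw [← Ideal.mem_span_singleton, ← PadicInt.maximalIdeal_eq_span_p, ← PadicInt.ker_toZMod,
      RingHom.mem_ker, hψ, hx0, map_zero, Finsupp.zero_apply]
  choose w hw using fun i => Submodule.Quotient.mk_surjective T.bd (E (bU i))
  choose f hf1 hf2 hf3 hf4 using fun i => T.lift (ψ i) (hψI i) (w i) (w i).2
  refine ⟨∑ i, f i, fun c hc => ?_, ?_, fun x => ?_⟩
  · rw [Finset.sum_mul, Finset.mul_sum]
    exact Finset.sum_congr rfl fun i _ => lift_commute (hf1 i) (hf2 i) (hf3 i) hc
  · rw [Finset.mul_sum]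
    exact Finset.sum_congr rfl fun i _ => hf3 i
  have hmem : ∀ i, f i x ∈ T.S := fun i => by
    have := add_mem (T.le (hf4 i x)) (T.S.smul_mem (ψ i x) (w i).2)
    rwa [sub_add_cancel] at this
  refine ⟨by rw [LinearMap.sum_apply]; exact T.S.sum_mem fun i _ => hmem i, ?_⟩
  have e1 : ∀ i, (Submodule.Quotient.mk (⟨f i x, hmem i⟩ : T.S) : T.U) =
      bU.repr (Submodule.Quotient.mk x) i • E (bU i) := fun i => by
    rw [← hψ, ← T.smul_zmod, ← hw, ← Submodule.Quotient.mk_smul, Submodule.Quotient.eq]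
    exact hf4 i x
  conv_rhs => rw [← bU.sum_repr (Submodule.Quotient.mk x)]
  rw [map_sum]
  have hlin : ∀ (c : ZMod p) (a : T.U), E (c • a) = c • E a := fun c a => by
    conv_lhs => rw [← ZMod.natCast_zmod_val c, Nat.cast_smul_eq_nsmul, map_nsmul]
    conv_rhs => rw [← ZMod.natCast_zmod_val c, Nat.cast_smul_eq_nsmul]
  simp only [hlin, ← e1]
  show _ = ∑ i, Submodule.mkQ T.bd (⟨f i x, hmem i⟩ : T.S)
  rw [← map_sum (Submodule.mkQ T.bd)]
  exact congrArg (Submodule.mkQ T.bd) (Subtype.ext (by simp [LinearMap.sum_apply]))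

include hρ in
/-- Every idempotent commuting with the normalizer is trivial. -/
theorem idempotent_trivial (E : T.U →+ T.U) (hE : ∀ x, E (E x) = E x)
    (hN : ∀ g (hg : g * L.u * g⁻¹ ∈ Subgroup.zpowers L.u) x, E (T.act g hg x) = T.act g hg (E x)) :
    (∀ x, E x = 0) ∨ ∀ x, E x = x := by
  classical
  obtain ⟨f, hfC, hef, hf⟩ := T.exists_lift E
  set C := Subgroup.centralizer ({L.u} : Set G) with hC
  have hCc : ∀ {c}, c ∈ C → Commute L.u c := fun hc =>
    (Subgroup.mem_centralizer_singleton_iff.1 hc).symm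
  haveI := Fintype.ofFinite (G ⧸ C)
  let term : G → Module.End ℤ_[p] (Fin n → ℤ_[p]) := fun g => ρ g * f * ρ g⁻¹
  have hterm : ∀ g c : G, c ∈ C → term (g * c) = term g := fun g c hc => by
    simp only [term, map_mul, mul_inv_rev]
    rw [mul_assoc (ρ g), ← hfC c (hCc hc), mul_assoc (ρ g), mul_assoc f, ← mul_assoc (ρ c),
      ← map_mul, mul_inv_cancel, map_one, one_mul, mul_assoc]
  have hout : ∀ g : G, term (Quotient.out (QuotientGroup.mk g : G ⧸ C)) = term g := fun g => by
    obtain ⟨c, hc⟩ := QuotientGroup.mk_out_eq_mul C g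
    rw [hc, hterm g c c.2]
  have htermconj : ∀ g h : G, ρ g * term h * ρ g⁻¹ = term (g * h) := fun g h => by
    simp only [term, map_mul, mul_inv_rev, mul_assoc]
  let t : G ⧸ C → Module.End ℤ_[p] (Fin n → ℤ_[p]) := fun q => term (Quotient.out q)
  have ht : ∀ (g : G) (q : G ⧸ C), t (g • q) = ρ g * t q * ρ g⁻¹ := fun g q => by
    obtain ⟨h, rfl⟩ := QuotientGroup.mk_surjective q
    show term (Quotient.out (QuotientGroup.mk (g * h) : G ⧸ C)) = _
    rw [hout, ← htermconj, ← hout h]
  set F := ∑ q : G ⧸ C, t q with hF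
  have hFcomm : ∀ g, F * ρ g = ρ g * F := fun g => by
    have h1 : ρ g * F * ρ g⁻¹ = F := by
      rw [hF, Finset.mul_sum, Finset.sum_mul]
      exact Fintype.sum_equiv (MulAction.toPerm g) _ _ fun q => (ht g q).symm
    conv_lhs => rw [← h1]
    rw [mul_assoc, ← map_mul, inv_mul_cancel, map_one, mul_one]
  -- the fixed cosets
  set X := (Finset.univ : Finset (G ⧸ C)).filter
    (fun q => ∀ y ∈ Subgroup.zpowers L.u, y • q = q) with hX
  have hXiff : ∀ q, q ∈ X ↔ (Quotient.out q) * L.u * (Quotient.out q)⁻¹ ∈ Subgroup.zpowers L.u := by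
    intro q
    simp only [hX, Finset.mem_filter, Finset.mem_univ, true_and]
    set g := Quotient.out q with hg
    have hgq : (QuotientGroup.mk g : G ⧸ C) = q := QuotientGroup.out_eq' q
    constructor
    · intro h
      have h1 : g⁻¹ * (L.u⁻¹ * g) ∈ C := by
        rw [← QuotientGroup.eq, hgq]
        have := h L.u⁻¹ (inv_mem (Subgroup.mem_zpowers _))
        rw [← hgq, MulAction.Quotient.smul_mk, smul_eq_mul] at this
        exact (hgq.symm.trans this.symm).trans rfl
      have h2 : g⁻¹ * L.u * g ∈ C := by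
        have := inv_mem h1
        rwa [show (g⁻¹ * (L.u⁻¹ * g))⁻¹ = g⁻¹ * L.u * g by group] at this
      obtain ⟨y, hy, v, hv, e⟩ := L.split _ (hCc h2)
      obtain ⟨k, rfl⟩ := hy
      simp only at e
      have hv1 : v = 1 := by
        have hup : L.u ^ p = 1 :=
          (congrArg (L.u ^ ·) L.order_u.symm).trans (pow_orderOf_eq_one L.u)
        have e1 : (g⁻¹ * L.u * g) ^ p = 1 := by
          rw [show g⁻¹ * L.u * g = g⁻¹ * L.u * g⁻¹⁻¹ by group, conj_pow, hup]
          group
        rw [e, ((L.commute_V v hv).zpow_left k).mul_pow, ← zpow_natCast (L.u ^ k), ← zpow_mul,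
          mul_comm k, zpow_mul, zpow_natCast, hup, one_zpow, one_mul] at e1
        rw [← orderOf_eq_one_iff]
        refine Nat.eq_one_of_dvd_coprimes
          ((Fact.out : p.Prime).coprime_iff_not_dvd.2 L.not_dvd) (orderOf_dvd_of_pow_eq_one e1) ?_
        rw [← Subgroup.orderOf_mk v hv]
        exact orderOf_dvd_natCard _
      rw [hv1, mul_one] at e
      have hin : g⁻¹ * L.u * g⁻¹⁻¹ ∈ Subgroup.zpowers L.u := by
        rw [inv_inv, e]; exact ⟨k, rfl⟩
      have := (zpowers_conj L hin (g * L.u * g⁻¹)).2 (by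
        rw [show g⁻¹ * (g * L.u * g⁻¹) * g⁻¹⁻¹ = L.u by group]; exact Subgroup.mem_zpowers _)
      exact this
    · intro h y hy
      rw [← hgq, MulAction.Quotient.smul_mk, smul_eq_mul, QuotientGroup.eq]
      have h1 : g⁻¹ * y * g ∈ Subgroup.zpowers L.u := by
        rw [zpowers_conj L h, show g * (g⁻¹ * y * g) * g⁻¹ = y by group]; exact hy
      rw [show (y * g)⁻¹ * g = (g⁻¹ * y * g)⁻¹ by group, inv_mem_iff]
      obtain ⟨k, hk⟩ := h1
      rw [← hk, hC, Subgroup.mem_centralizer_singleton_iff]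
      exact ((Commute.refl L.u).zpow_left k).eq
  -- fixed terms induce E
  have hfixed : ∀ q ∈ X, ∀ x : T.S, ∃ h : t q x ∈ T.S,
      (Submodule.Quotient.mk ⟨t q x, h⟩ : T.U) = E (Submodule.Quotient.mk x) := by
    intro q hq x
    set g := Quotient.out q
    have hg := (hXiff q).1 hq
    have hg' : g⁻¹ * L.u * g⁻¹⁻¹ ∈ Subgroup.zpowers L.u := by
      rw [inv_inv, zpowers_conj L hg, show g * (g⁻¹ * L.u * g) * g⁻¹ = L.u by group]
      exact Subgroup.mem_zpowers _
    obtain ⟨hm, he⟩ := hf ⟨ρ g⁻¹ x, T.inv_S _ hg' _ x.2⟩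
    refine ⟨T.inv_S g hg _ hm, ?_⟩
    show (Submodule.Quotient.mk (⟨ρ g (f (ρ g⁻¹ x)), _⟩ : T.S) : T.U) = _
    rw [← T.act_mk g hg ⟨_, hm⟩, he, ← hN g hg, T.act_mk]
    congr 2
    apply Subtype.ext
    show ρ g (ρ g⁻¹ x) = x
    rw [← Module.End.mul_apply, ← map_mul, mul_inv_cancel, map_one, Module.End.one_apply]
  -- the other cosets
  have hfree : ∀ q, q ∉ X → ∀ y z : Subgroup.zpowers L.u, (y : G) • q = (z : G) • q → y = z := by
    intro q hq y z hyz
    by_contra hne
    apply hq
    simp only [hX, Finset.mem_filter, Finset.mem_univ, true_and]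
    haveI : Fact (Nat.card (Subgroup.zpowers L.u)).Prime :=
      ⟨by rw [card_zpowers_u]; exact Fact.out⟩
    set K := (MulAction.stabilizer G q).subgroupOf (Subgroup.zpowers L.u)
    have hmem : z⁻¹ * y ∈ K := by
      show ((z : G)⁻¹ * (y : G)) • q = q
      rw [mul_smul, hyz, inv_smul_smul]
    have hK : K = ⊤ := by
      rcases K.eq_bot_or_eq_top_of_prime_card with h | h
      · rw [h, Subgroup.mem_bot, inv_mul_eq_one] at hmem
        exact absurd hmem.symm hne
      · exact h
    intro w hw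
    have hwK : (⟨w, hw⟩ : Subgroup.zpowers L.u) ∈ K := hK ▸ Subgroup.mem_top _
    exact hwK
  set P := Subgroup.zpowers L.u
  let wgt : G ⧸ C → ℤ_[p] := fun q =>
    if q ∉ X ∧ Quotient.out (Quotient.mk (MulAction.orbitRel P (G ⧸ C)) q) = q then 1 else 0
  have hwgt : ∀ q, q ∉ X → ∑ y : P, wgt ((y : G)⁻¹ • q) = 1 := by
    intro q hq
    obtain ⟨r, hr⟩ := Quotient.mk_out (s := MulAction.orbitRel P (G ⧸ C)) q
    have hr' : (r : G) • q = Quotient.out (Quotient.mk (MulAction.orbitRel P (G ⧸ C)) q) := hr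
    have hout' : ∀ y : P, Quotient.out (Quotient.mk (MulAction.orbitRel P (G ⧸ C)) ((y : G)⁻¹ • q))
        = (r : G) • q := fun y => by
      rw [hr']
      exact congrArg Quotient.out (Quotient.sound ⟨y⁻¹, rfl⟩)
    have hnX : ∀ y : P, (y : G)⁻¹ • q ∉ X := fun y hy => hq (by
      simp only [hX, Finset.mem_filter, Finset.mem_univ, true_and] at hy ⊢
      have e1 := hy y y.2
      rw [smul_inv_smul] at e1
      intro w hw
      have e2 := hy w hw
      rwa [← e1] at e2)
    rw [Finset.sum_eq_single r⁻¹]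
    · simp only [wgt]
      refine if_pos ⟨hnX _, ?_⟩
      rw [hout']
      simp
    · intro y _ hy
      simp only [wgt]
      rw [if_neg]
      rintro ⟨-, h⟩
      rw [hout'] at h
      have := hfree q hq r y⁻¹ (by simpa using h)
      exact hy (by rw [this, inv_inv])
    · exact fun h => absurd (Finset.mem_univ _) h
  have hFmod : ∀ x : T.S, ∃ h : F x ∈ T.S,
      (Submodule.Quotient.mk ⟨F x, h⟩ : T.U) = X.card • E (Submodule.Quotient.mk x) := by
    intro x
    set h : Module.End ℤ_[p] (Fin n → ℤ_[p]) := ∑ q, wgt q • t q with hh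
    have hnon : ∑ q ∈ Finset.univ.filter (· ∉ X), t q =
        ∑ y : P, ρ (y : G) * h * ρ (y : G)⁻¹ := by
      have e : ∀ y : P, ρ (y : G) * h * ρ (y : G)⁻¹ = ∑ q, wgt ((y : G)⁻¹ • q) • t q := fun y => by
        rw [hh, Finset.mul_sum, Finset.sum_mul]
        exact Fintype.sum_equiv (MulAction.toPerm (y : G)) _ _ fun q => by
          simp [mul_smul_comm, smul_mul_assoc, ht]
      rw [Finset.sum_congr rfl fun y _ => e y, Finset.sum_comm, Finset.sum_filter]
      refine Finset.sum_congr rfl fun q _ => ?_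
      rw [← Finset.sum_smul]
      by_cases hq : q ∈ X
      · rw [if_neg (not_not.2 hq), Finset.sum_eq_zero fun y _ => ?_, zero_smul]
        simp only [wgt]
        rw [if_neg]
        rintro ⟨h1, -⟩
        apply h1
        rw [(Finset.mem_filter.1 hq).2 _ (inv_mem y.2)]
        exact hq
      · rw [if_pos hq, hwgt q hq, one_smul]
    have hFx : F x = avgV ρ L (∑ q ∈ X, t q x) +
        ∑ y : P, ρ (y : G) (avgV ρ L (h (ρ (y : G)⁻¹ x))) := by
      have hfix : avgV ρ L (F x) = F x := by
        have hc : avgV ρ L * F = F * avgV ρ L := by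
          rw [avgV, smul_mul_assoc, mul_smul_comm, Finset.sum_mul, Finset.mul_sum]
          congr 1
          exact Finset.sum_congr rfl fun v _ => (hFcomm v).symm
        rw [← Module.End.mul_apply, hc, Module.End.mul_apply, T.fix x x.2]
      rw [← hfix]
      conv_lhs => rw [hF, ← Finset.sum_filter_add_sum_filter_not Finset.univ (· ∈ X), hnon]
      simp only [Finset.filter_univ_mem, LinearMap.add_apply, map_add, LinearMap.sum_apply,
        map_sum, Module.End.mul_apply]
      congr 1
      refine Finset.sum_congr rfl fun y _ => ?_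
      exact (LinearMap.congr_fun (avgV_comm_P ρ L y.2) _).symm
    have hS1 : ∀ q ∈ X, t q x ∈ T.S := fun q hq => (hfixed q hq x).1
    have hI := T.mackey h x x.2
    have hfix1 : avgV ρ L (∑ q ∈ X, t q x) = ∑ q ∈ X, t q x := T.fix _ (T.S.sum_mem hS1)
    rw [hfix1] at hFx
    refine ⟨hFx ▸ add_mem (T.S.sum_mem hS1) (T.le hI), ?_⟩
    rw [← Finset.sum_const,
      Finset.sum_congr rfl (g := fun q => if hq : q ∈ X then
        (Submodule.Quotient.mk (⟨t q x, hS1 q hq⟩ : T.S) : T.U) else 0)
        fun q hq => by rw [dif_pos hq]; exact (hfixed q hq x).2.symm]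
    have e2 : ∀ q, (if hq : q ∈ X then (Submodule.Quotient.mk (⟨t q x, hS1 q hq⟩ : T.S) : T.U)
        else 0) = Submodule.mkQ T.bd (if hq : q ∈ X then ⟨t q x, hS1 q hq⟩ else 0) := fun q => by
      split_ifs <;> simp
    rw [Finset.sum_congr rfl fun q _ => e2 q, ← map_sum, Submodule.mkQ_apply, Submodule.Quotient.eq]
    show F x - _ ∈ T.I
    simp only [Submodule.subtype_apply, Submodule.coe_sum]
    rw [hFx, Finset.sum_congr rfl fun q hq => show ((if hq : q ∈ X then (⟨t q x, hS1 q hq⟩ : T.S)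
      else 0 : T.S) : Fin n → ℤ_[p]) = t q x by rw [dif_pos hq], add_sub_cancel_left]
    exact hI
  -- the number of fixed cosets is prime to p
  have hXp : ¬ p ∣ X.card := by
    have hsub : X ⊆ (Finset.range (p - 1)).image fun i => (QuotientGroup.mk (L.n₀ ^ i) : G ⧸ C) := by
      intro q hq
      have hg := (hXiff q).1 hq
      obtain ⟨i, hi⟩ := L.gen _ hg
      refine Finset.mem_image.2 ⟨i % (p - 1), Finset.mem_range.2 (Nat.mod_lt _ (by
        have := (Fact.out : p.Prime).two_le; omega)), ?_⟩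
      rw [← QuotientGroup.out_eq' q, QuotientGroup.eq]
      set g := Quotient.out q
      have h1 : L.n₀ ^ (i - i % (p - 1)) ∈ C := by
        rw [hC, Subgroup.mem_centralizer_singleton_iff,
          show i - i % (p - 1) = (p - 1) * (i / (p - 1)) by
            have := Nat.div_add_mod i (p - 1); omega, pow_mul]
        exact (L.pow_n₀.pow_right _).eq.symm
      set a := L.n₀ ^ i
      have ha : a * L.u * a⁻¹ ∈ Subgroup.zpowers L.u := by
        have : ∀ m : ℕ, L.n₀ ^ m * L.u * (L.n₀ ^ m)⁻¹ ∈ Subgroup.zpowers L.u := by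
          intro m
          induction m with
          | zero => simp
          | succ m ih =>
            rw [pow_succ', show L.n₀ * L.n₀ ^ m * L.u * (L.n₀ * L.n₀ ^ m)⁻¹ =
              L.n₀ * (L.n₀ ^ m * L.u * (L.n₀ ^ m)⁻¹) * L.n₀⁻¹ by group]
            exact (zpowers_conj L L.n₀_mem _).1 ih
        exact this i
      have h2 : a⁻¹ * g ∈ C := by
        obtain ⟨k, hk⟩ := ha
        simp only at hk
        have h3 : Commute (a * L.u * a⁻¹) (g * a⁻¹) := hk ▸ hi.zpow_left k
        have h4 := (Commute.conj_iff a⁻¹).2 h3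
        rw [show a⁻¹ * (a * L.u * a⁻¹) * a⁻¹⁻¹ = L.u by group,
          show a⁻¹ * (g * a⁻¹) * a⁻¹⁻¹ = a⁻¹ * g by group] at h4
        exact Subgroup.mem_centralizer_singleton_iff.2 h4.eq.symm
      have e : L.n₀ ^ (i % (p - 1)) = a * (L.n₀ ^ (i - i % (p - 1)))⁻¹ := by
        rw [eq_mul_inv_iff_mul_eq, ← pow_add,
          show i % (p - 1) + (i - i % (p - 1)) = i by
            have := Nat.mod_le i (p - 1); omega]
      rw [e, show (a * (L.n₀ ^ (i - i % (p - 1)))⁻¹)⁻¹ * g =
        L.n₀ ^ (i - i % (p - 1)) * (a⁻¹ * g) by group]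
      exact mul_mem h1 h2
    have h1 := (Finset.card_le_card hsub).trans Finset.card_image_le
    rw [Finset.card_range] at h1
    have h2 : 0 < X.card := Finset.card_pos.2 ⟨QuotientGroup.mk 1, by
      simp only [hX, Finset.mem_filter, Finset.mem_univ, true_and]
      intro y hy
      rw [MulAction.Quotient.smul_mk, smul_eq_mul, mul_one, QuotientGroup.eq, mul_one, inv_mem_iff]
      obtain ⟨k, rfl⟩ := hy
      exact Subgroup.mem_centralizer_singleton_iff.2 ((Commute.refl L.u).zpow_left k).eq⟩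
    intro hd
    have := Nat.le_of_dvd h2 hd
    omega
  set F' := Ring.inverse (X.card : ℤ_[p]) • F with hF'
  have hF'comm : ∀ g, F' * ρ g = ρ g * F' := fun g => by
    rw [hF', smul_mul_assoc, hFcomm, mul_smul_comm]
  have hF'mod : ∀ x : T.S, ∃ h : F' x ∈ T.S,
      (Submodule.Quotient.mk ⟨F' x, h⟩ : T.U) = E (Submodule.Quotient.mk x) := fun x => by
    obtain ⟨h1, h2⟩ := hFmod x
    refine ⟨T.S.smul_mem _ h1, ?_⟩
    show (Submodule.Quotient.mk (Ring.inverse (X.card : ℤ_[p]) • (⟨F x, h1⟩ : T.S)) : T.U) = _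
    rw [Submodule.Quotient.mk_smul, h2, ← Nat.cast_smul_eq_nsmul ℤ_[p], smul_smul,
      Ring.inverse_mul_cancel _ (isUnit_natCast hXp), one_smul]
  -- powers
  set A := LinearMap.toMatrixAlgEquiv' F' with hA
  obtain ⟨k, hk, hidem⟩ := exists_pow_idempotent (A.map PadicInt.toZMod)
  have hkF : ∀ x : T.S, ∃ h : (F' ^ k) x ∈ T.S,
      (Submodule.Quotient.mk ⟨(F' ^ k) x, h⟩ : T.U) = E (Submodule.Quotient.mk x) := by
    have hall : ∀ j, ∀ x : T.S, ∃ h : (F' ^ (j + 1)) x ∈ T.S,
        (Submodule.Quotient.mk ⟨(F' ^ (j + 1)) x, h⟩ : T.U) = E (Submodule.Quotient.mk x) := by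
      intro j
      induction j with
      | zero => simpa using hF'mod
      | succ j ih =>
        intro x
        obtain ⟨h1, h2⟩ := ih x
        obtain ⟨h3, h4⟩ := hF'mod ⟨_, h1⟩
        have e : (F' ^ (j + 1 + 1)) x = F' ((F' ^ (j + 1)) x) := by
          rw [pow_succ' F' (j + 1), Module.End.mul_apply]
        refine ⟨e ▸ h3, ?_⟩
        simp only [e]
        rw [h4, h2, hE]
    intro x
    obtain ⟨j, rfl⟩ : ∃ j, k = j + 1 := ⟨k - 1, by omega⟩
    exact hall j x
  have hdvd : ∀ i j, (p : ℤ_[p]) ∣ (A ^ k * A ^ k - A ^ k) i j := fun i j => by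
    rw [← Ideal.mem_span_singleton, ← PadicInt.maximalIdeal_eq_span_p, ← PadicInt.ker_toZMod,
      RingHom.mem_ker]
    have e : (A.map PadicInt.toZMod) ^ k = (A ^ k).map PadicInt.toZMod :=
      (map_pow (PadicInt.toZMod (p := p)).mapMatrix A k).symm
    rw [e, ← Matrix.map_mul] at hidem
    have := congrFun (congrFun hidem i) j
    simp only [Matrix.map_apply] at this
    rw [Matrix.sub_apply, map_sub, this, sub_self]
  choose B hB using hdvd
  obtain ⟨E₁, hE1, hE2, hE3⟩ := exists_idempotent_lift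
    (Set.range fun g => LinearMap.toMatrixAlgEquiv' (ρ g)) (A ^ k)
    (by
      rintro _ ⟨g, rfl⟩
      rw [hA, ← map_pow, ← map_mul, ← map_mul]
      congr 1
      exact (Commute.pow_left (show Commute F' (ρ g) from hF'comm g) k).eq)
    ⟨Matrix.of fun i j => B i j, by
      ext i j
      rw [hB]
      simp⟩
  set F₁ := LinearMap.toMatrixAlgEquiv'.symm E₁ with hF₁
  have hF1c : ∀ g, F₁ * ρ g = ρ g * F₁ := fun g => by
    apply LinearMap.toMatrixAlgEquiv'.injective
    rw [map_mul, map_mul, hF₁, AlgEquiv.apply_symm_apply]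
    exact hE2 _ ⟨g, rfl⟩
  have hF1i : F₁ * F₁ = F₁ := by
    apply LinearMap.toMatrixAlgEquiv'.injective
    rw [map_mul, hF₁, AlgEquiv.apply_symm_apply, hE1]
  choose D hD using hE3
  have hdiff : F₁ - F' ^ k = (p : ℤ_[p]) • LinearMap.toMatrixAlgEquiv'.symm (Matrix.of D) := by
    apply LinearMap.toMatrixAlgEquiv'.injective
    rw [map_sub, map_smul, hF₁, AlgEquiv.apply_symm_apply, AlgEquiv.apply_symm_apply, map_pow, ← hA]
    ext i j
    rw [Matrix.sub_apply, hD]
    simp
  have hcases : F₁ = 0 ∨ F₁ = 1 := by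
    rcases hρ F₁ hF1c with h | h
    · exact Or.inl h
    · refine Or.inr (LinearMap.ext fun x => h ?_)
      rw [← Module.End.mul_apply, hF1i, Module.End.one_apply]
  set D' := LinearMap.toMatrixAlgEquiv'.symm (Matrix.of D)
  have hfinal : ∀ x : T.S, ∀ y : T.S, (y : Fin n → ℤ_[p]) = F₁ x →
      E (Submodule.Quotient.mk x) = Submodule.Quotient.mk y := by
    intro x y hy
    obtain ⟨h1, h2⟩ := hkF x
    rw [← h2, Submodule.Quotient.eq]
    show (F' ^ k) x - y ∈ T.I
    have e : (p : ℤ_[p]) • D' x = F₁ x - (F' ^ k) x := by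
      rw [← LinearMap.smul_apply, ← hdiff]; rfl
    have hp0 : (p : ℤ_[p]) ≠ 0 := by exact_mod_cast (Fact.out : p.Prime).ne_zero
    have e2 : avgV ρ L (D' x) = D' x := by
      apply smul_right_injective (Fin n → ℤ_[p]) hp0
      show (p : ℤ_[p]) • avgV ρ L (D' x) = (p : ℤ_[p]) • D' x
      rw [← map_smul, e, map_sub, ← hy, T.fix _ y.2, T.fix _ h1]
    have h3 : (p : ℤ_[p]) • D' x ∈ T.I := T.sat _ e2 (by rw [e, ← hy]; exact sub_mem y.2 h1)
    rw [e, ← hy] at h3
    rw [← neg_sub]
    exact neg_mem h3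
  rcases hcases with h | h
  · left
    intro x
    obtain ⟨x, rfl⟩ := Submodule.Quotient.mk_surjective _ x
    rw [hfinal x 0 (by rw [h]; rfl)]
    rfl
  · right
    intro x
    obtain ⟨x, rfl⟩ := Submodule.Quotient.mk_surjective _ x
    rw [hfinal x x (by rw [h]; rfl)]

open Polynomial in
include hρ in
/-- The Tate group has at most `p` elements. -/
theorem card_U : Nat.card T.U = 1 ∨ Nat.card T.U = p := by
  classical
  haveI : Module (ZMod p) T.U := AddCommGroup.zmodModule T.p_nsmul_U
  haveI : Module.Finite (ZMod p) T.U := by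
    obtain ⟨s, hs⟩ := Module.Finite.fg_top (R := ℤ_[p]) (M := T.U)
    refine Module.Finite.of_fg_top ⟨s, top_le_iff.1 fun x hxt => ?_⟩
    have hx : x ∈ Submodule.span ℤ_[p] (s : Set T.U) := hs.symm ▸ Submodule.mem_top
    clear hxt
    induction hx using Submodule.span_induction with
    | mem a ha => exact Submodule.subset_span ha
    | zero => exact zero_mem _
    | add a b _ _ ha hb => exact add_mem ha hb
    | smul r a _ ha => rw [T.smul_zmod]; exact Submodule.smul_mem _ _ ha
  have hp := (Fact.out : p.Prime)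
  let τ : Module.End (ZMod p) T.U :=
    (T.act L.n₀ L.n₀_mem).toAddMonoidHom.toZModLinearMap p
  have hτ : ∀ x, τ x = T.act L.n₀ L.n₀_mem x := fun x => rfl
  have hconjC : ∀ c, Commute L.u c → c * L.u * c⁻¹ ∈ Subgroup.zpowers L.u := fun c hc => by
    rw [← hc.eq, mul_inv_cancel_right]; exact Subgroup.mem_zpowers _
  have hC : ∀ c (hc : Commute L.u c) (x : T.U), T.act c (hconjC c hc) x = x := by
    intro c hc x
    obtain ⟨x, rfl⟩ := Submodule.Quotient.mk_surjective _ x
    rw [act_mk, Submodule.Quotient.eq]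
    show ρ c x - x ∈ T.I
    obtain ⟨y, hy, v, hv, rfl⟩ := L.split c hc
    have e : ρ v x = x := by
      conv_lhs => rw [← T.fix x x.2, ← Module.End.mul_apply, mul_avgV_of_mem ρ L hv, T.fix x x.2]
    rw [map_mul, Module.End.mul_apply, e]
    exact T.triv y hy x x.2
  -- the powers of the generator
  have hmem : ∀ i : ℕ, L.n₀ ^ i * L.u * (L.n₀ ^ i)⁻¹ ∈ Subgroup.zpowers L.u := by
    intro i
    induction i with
    | zero => simp
    | succ i ih =>
      rw [pow_succ', show L.n₀ * L.n₀ ^ i * L.u * (L.n₀ * L.n₀ ^ i)⁻¹ =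
        L.n₀ * (L.n₀ ^ i * L.u * (L.n₀ ^ i)⁻¹) * L.n₀⁻¹ by group]
      exact (zpowers_conj L L.n₀_mem _).1 ih
  have hpow : ∀ i : ℕ, ∀ x, (τ ^ i) x = T.act (L.n₀ ^ i) (hmem i) x := by
    intro i
    induction i with
    | zero =>
      intro x
      obtain ⟨x, rfl⟩ := Submodule.Quotient.mk_surjective _ x
      rw [pow_zero, Module.End.one_apply, act_mk]
      congr 1
      apply Subtype.ext
      simp
    | succ i ih =>
      intro x
      obtain ⟨x, rfl⟩ := Submodule.Quotient.mk_surjective _ x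
      rw [pow_succ', Module.End.mul_apply, ih, hτ, act_mk, act_mk, act_mk]
      congr 1
      apply Subtype.ext
      simp [pow_succ' L.n₀ i]
  have hτp : τ ^ (p - 1) = 1 := by
    ext x
    rw [hpow, Module.End.one_apply]
    exact hC _ L.pow_n₀ x
  have htriv : ∀ E : Module.End (ZMod p) T.U, Commute E τ → E * E = E → E = 0 ∨ E = 1 := by
    intro E hE hEE
    have h := T.idempotent_trivial hρ E.toAddMonoidHom (fun x => LinearMap.congr_fun hEE x) ?_
    · rcases h with h | h
      · exact Or.inl (LinearMap.ext h)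
      · exact Or.inr (LinearMap.ext h)
    intro g hg x
    obtain ⟨i, hi⟩ := L.gen g hg
    have hg' : ∀ z, T.act g hg z = (τ ^ i) z := fun z => by
      rw [hpow]
      have e := hC _ hi (T.act (L.n₀ ^ i) (hmem i) z)
      rw [← e]
      obtain ⟨z, rfl⟩ := Submodule.Quotient.mk_surjective _ z
      rw [act_mk, act_mk, act_mk]
      congr 1
      apply Subtype.ext
      show ρ g z = ρ (g * (L.n₀ ^ i)⁻¹) (ρ (L.n₀ ^ i) z)
      rw [← Module.End.mul_apply, ← map_mul, inv_mul_cancel_right]
    show E (T.act g hg x) = T.act g hg (E x)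
    rw [hg', hg', ← Module.End.mul_apply, (hE.pow_right i).eq, Module.End.mul_apply]
  set d := Module.finrank (ZMod p) T.U with hd
  have hcard : Nat.card T.U = p ^ d := by
    rw [Nat.card_congr (Module.finBasis (ZMod p) T.U).equivFun.toEquiv, Nat.card_fun, Nat.card_zmod,
      Nat.card_eq_fintype_card, Fintype.card_fin]
  by_contra hno
  have hd2 : 2 ≤ d := by
    by_contra h2
    rcases (show d = 0 ∨ d = 1 by omega) with h3 | h3 <;> rw [h3] at hcard <;> simp at hcard <;>
      omega
  haveI : Nontrivial T.U := Module.nontrivial_of_finrank_pos (R := ZMod p) (by omega)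
  haveI : CharP (Module.End (ZMod p) T.U) p :=
    charP_of_injective_algebraMap' (ZMod p) p
  -- a scalar action
  obtain ⟨c, hc⟩ : ∃ c : ZMod p, τ = algebraMap (ZMod p) _ c := by
    by_contra hns
    push Not at hns
    have hone : ∀ c : ZMod p, (τ - algebraMap (ZMod p) _ c) ^ (p - 1) = 1 := by
      intro c
      set a := τ - algebraMap (ZMod p) (Module.End (ZMod p) T.U) c with ha
      have hap : a ^ p = a := by
        rw [ha, sub_pow_char_of_commute _ ((Algebra.commute_algebraMap_left _ _).symm),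
          ← map_pow, ZMod.pow_card]
        congr 1
        exact (congrArg (τ ^ ·) (show p = p - 1 + 1 by have := hp.two_le; omega)).trans
          (by rw [pow_succ, hτp, one_mul])
      have hidem : (1 - a ^ (p - 1)) * (1 - a ^ (p - 1)) = 1 - a ^ (p - 1) := by
        have e : a ^ (p - 1) * a ^ (p - 1) = a ^ (p - 1) := by
          rw [← pow_add, show p - 1 + (p - 1) = p + (p - 2) by have := hp.two_le; omega, pow_add,
            hap, ← pow_succ', show p - 2 + 1 = p - 1 by have := hp.two_le; omega]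
        rw [mul_sub, mul_one, sub_mul, one_mul, e, sub_self, sub_zero]
      have hca : Commute a τ := (Commute.refl τ).sub_left (Algebra.commute_algebraMap_left _ _)
      rcases htriv _ ((Commute.one_left τ).sub_left (hca.pow_left _)) hidem with h | h
      · exact (sub_eq_zero.1 h).symm
      · exfalso
        apply hns c
        have h0 : a ^ (p - 1) = 0 := sub_eq_self.1 h
        have : a = 0 := by
          rw [← hap, congrArg (a ^ ·) (show p = p - 1 + 1 by have := hp.two_le; omega), pow_succ,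
            h0, zero_mul]
        exact sub_eq_zero.1 this
    have hunit : ∀ c : ZMod p, IsUnit (τ - algebraMap (ZMod p) _ c) := fun c =>
      IsUnit.of_pow_eq_one (hone c) (by have := hp.two_le; omega)
    have hpoly : (X ^ p - X : (ZMod p)[X]) = ∏ c : ZMod p, (X - C c) := by
      have hr : (X ^ p - X : (ZMod p)[X]).roots = Finset.univ.val := by
        have := FiniteField.roots_X_pow_card_sub_X (ZMod p)
        rwa [ZMod.card] at this
      have hm : (X ^ p - X : (ZMod p)[X]).Monic :=
        monic_X_pow_sub (by rw [degree_X]; exact_mod_cast hp.one_lt)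
      have hnd : (X ^ p - X : (ZMod p)[X]).natDegree = p :=
        FiniteField.X_pow_card_sub_X_natDegree_eq (ZMod p) hp.one_lt
      conv_lhs => rw [← prod_multiset_X_sub_C_of_monic_of_roots_card_eq hm (by
        rw [hr, hnd]; simp [ZMod.card])]
      rw [hr]
      rfl
    have h0 := congrArg (aeval τ) hpoly
    rw [map_sub, map_pow, aeval_X] at h0
    have hl : τ ^ p - τ = 0 := by
      rw [congrArg (τ ^ ·) (show p = p - 1 + 1 by have := hp.two_le; omega), pow_succ, hτp, one_mul]
      exact sub_self τ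
    rw [hl] at h0
    have hu : IsUnit (aeval τ (∏ c : ZMod p, (X - C c))) := by
      have hgen : ∀ s : Finset (ZMod p), IsUnit (aeval τ (∏ c ∈ s, (X - C c))) := by
        intro s
        induction s using Finset.induction_on with
        | empty => simp
        | insert a s has ih =>
          rw [Finset.prod_insert has, map_mul, map_sub, aeval_X, aeval_C]
          exact (hunit a).mul ih
      exact hgen _
    rw [← h0] at hu
    exact not_isUnit_zero hu
  -- a projection
  set b := Module.finBasis (ZMod p) T.U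
  set i0 : Fin d := ⟨0, by omega⟩
  set i1 : Fin d := ⟨1, by omega⟩
  set E : Module.End (ZMod p) T.U := (b.coord i0).smulRight (b i0) with hEdef
  have hEE : E * E = E := LinearMap.ext fun x => by simp [hEdef]
  have hEc : Commute E τ := by rw [hc]; exact (Algebra.commute_algebraMap_left _ _).symm
  rcases htriv E hEc hEE with h | h
  · have := LinearMap.congr_fun h (b i0)
    simp [hEdef] at this
    exact b.ne_zero i0 this
  · have := LinearMap.congr_fun h (b i1)
    simp [hEdef, i0, i1] at this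
    exact b.ne_zero i1 this.symm

end TateLayer

variable (ρ L)

open Classical in
/-- The fixed layer. -/
noncomputable def fixedLayer : TateLayer ρ L where
  S := (LinearMap.ker (avgV ρ L - 1)) ⊓ LinearMap.ker (ρ L.u - 1)
  I := LinearMap.range (sumP ρ L * avgV ρ L)
  le := by
    rintro _ ⟨x, rfl⟩
    refine ⟨?_, ?_⟩
    · have e : avgV ρ L * (sumP ρ L * avgV ρ L) = sumP ρ L * avgV ρ L := by
        have hc : avgV ρ L * sumP ρ L = sumP ρ L * avgV ρ L := by
          rw [sumP, Finset.mul_sum, Finset.sum_mul]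
          exact Finset.sum_congr rfl fun y _ => (avgV_comm_P ρ L y.2).symm
        rw [← mul_assoc, hc, mul_assoc, avgV_idem]
      simpa [sub_eq_zero] using LinearMap.congr_fun e x
    · have e := LinearMap.congr_fun (mul_sumP_of_mem ρ L (Subgroup.mem_zpowers L.u))
        (avgV ρ L x)
      simpa [sub_eq_zero] using e
  fix x hx := by simpa [sub_eq_zero] using hx.1
  p_smul x hx := by
    have hx1 : avgV ρ L x = x := by simpa [sub_eq_zero] using hx.1
    have hx2 : ρ L.u x = x := by simpa [sub_eq_zero] using hx.2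
    have hall : ∀ y ∈ Subgroup.zpowers L.u, ρ y x = x := fun y hy => by
      obtain ⟨k, rfl⟩ := mem_powers_iff_mem_zpowers.2 hy
      induction k with
      | zero => simp
      | succ k ih =>
        simp only at ih ⊢
        rw [pow_succ, map_mul, Module.End.mul_apply, hx2, ih (pow_mem (Subgroup.mem_zpowers _) k)]
    refine ⟨x, ?_⟩
    rw [Module.End.mul_apply, hx1, sumP, LinearMap.sum_apply,
      Finset.sum_congr rfl fun (y : Subgroup.zpowers L.u) _ => hall y y.2, Finset.sum_const,
      Finset.card_univ, ← Nat.card_eq_fintype_card, card_zpowers_u L, Nat.cast_smul_eq_nsmul]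
  sat x hx hpx := by
    have hx2 : ρ L.u x = x := by
      have h := LinearMap.mem_ker.1 hpx.2
      rw [map_smul, smul_eq_zero] at h
      have := h.resolve_left (by exact_mod_cast (Fact.out : p.Prime).ne_zero)
      simpa [sub_eq_zero] using this
    have hall : ∀ y ∈ Subgroup.zpowers L.u, ρ y x = x := fun y hy => by
      obtain ⟨k, rfl⟩ := mem_powers_iff_mem_zpowers.2 hy
      induction k with
      | zero => simp
      | succ k ih =>
        simp only at ih ⊢
        rw [pow_succ, map_mul, Module.End.mul_apply, hx2, ih (pow_mem (Subgroup.mem_zpowers _) k)]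
    refine ⟨x, ?_⟩
    rw [Module.End.mul_apply, hx, sumP, LinearMap.sum_apply,
      Finset.sum_congr rfl fun (y : Subgroup.zpowers L.u) _ => hall y y.2, Finset.sum_const,
      Finset.card_univ, ← Nat.card_eq_fintype_card, card_zpowers_u L, Nat.cast_smul_eq_nsmul]
  inv_S g hg x hx := by
    have hx1 : avgV ρ L x = x := by simpa [sub_eq_zero] using hx.1
    have hx2 : ρ L.u x = x := by simpa [sub_eq_zero] using hx.2
    refine ⟨?_, ?_⟩
    · have := LinearMap.congr_fun (avgV_conj ρ L hg) x
      simp only [Module.End.mul_apply, hx1] at this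
      simpa [sub_eq_zero] using this.symm
    · have hgy : g⁻¹ * L.u * g ∈ Subgroup.zpowers L.u := by
        rw [zpowers_conj L hg, show g * (g⁻¹ * L.u * g) * g⁻¹ = L.u by group]
        exact Subgroup.mem_zpowers _
      obtain ⟨k, hk⟩ := mem_powers_iff_mem_zpowers.2 hgy
      simp only at hk
      have hxk : ρ (L.u ^ k) x = x := by
        clear hk
        induction k with
        | zero => simp
        | succ k ih => rw [pow_succ, map_mul, Module.End.mul_apply, hx2, ih]
      have e : L.u * g = g * L.u ^ k := by rw [hk]; group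
      have : ρ L.u (ρ g x) = ρ g x := by
        rw [← Module.End.mul_apply, ← map_mul, e, map_mul, Module.End.mul_apply, hxk]
      simpa [sub_eq_zero] using this
  inv_I g hg := by
    rintro _ ⟨x, rfl⟩
    refine ⟨ρ g x, ?_⟩
    rw [← Module.End.mul_apply, ← Module.End.mul_apply (ρ g), mul_assoc, ← avgV_conj ρ L hg,
      ← mul_assoc, ← sumP_conj ρ L hg, mul_assoc]
  triv y hy x hx := by
    have hx2 : ρ L.u x = x := by simpa [sub_eq_zero] using hx.2
    obtain ⟨k, rfl⟩ := mem_powers_iff_mem_zpowers.2 hy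
    have : ρ (L.u ^ k) x = x := by
      clear hy
      induction k with
      | zero => simp
      | succ k ih => rw [pow_succ, map_mul, Module.End.mul_apply, hx2, ih]
    simp only [this, sub_self]
    exact zero_mem _
  mackey h x hx := by
    have hx2 : ρ L.u x = x := by simpa [sub_eq_zero] using hx.2
    have hfix : ∀ y : Subgroup.zpowers L.u, ρ (y : G)⁻¹ x = x := fun y => by
      obtain ⟨k, hk⟩ := mem_powers_iff_mem_zpowers.2 (inv_mem y.2)
      rw [← hk]
      clear hk
      induction k with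
      | zero => simp
      | succ k ih => simp only at ih ⊢; rw [pow_succ, map_mul, Module.End.mul_apply, hx2, ih]
    refine ⟨h x, ?_⟩
    simp only [Module.End.mul_apply, sumP, LinearMap.sum_apply]
    exact Finset.sum_congr rfl fun y _ => by rw [hfix]
  lift ψ hψ w hw := by
    let S := LinearMap.ker (avgV ρ L - 1) ⊓ LinearMap.ker (ρ L.u - 1)
    have hmem : ∀ l, (sumP ρ L * avgV ρ L) l ∈ S := fun l => by
      refine ⟨?_, ?_⟩
      · have hc : avgV ρ L * sumP ρ L = sumP ρ L * avgV ρ L := by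
          rw [sumP, Finset.mul_sum, Finset.sum_mul]
          exact Finset.sum_congr rfl fun y _ => (avgV_comm_P ρ L y.2).symm
        have e : avgV ρ L * (sumP ρ L * avgV ρ L) = sumP ρ L * avgV ρ L := by
          rw [← mul_assoc, hc, mul_assoc, avgV_idem]
        simpa [sub_eq_zero] using LinearMap.congr_fun e l
      · have e := LinearMap.congr_fun (mul_sumP_of_mem ρ L (Subgroup.mem_zpowers L.u))
          (avgV ρ L l)
        simpa [sub_eq_zero] using e
    obtain ⟨φ, hφ⟩ := exists_div (ψ.comp ((sumP ρ L * avgV ρ L).codRestrict S hmem))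
      fun l => hψ _ ⟨l, rfl⟩
    have hw1 : avgV ρ L w = w := by simpa [sub_eq_zero] using hw.1
    have hw2 : ρ L.u w = w := by simpa [sub_eq_zero] using hw.2
    have hp0 : (p : ℤ_[p]) ≠ 0 := by exact_mod_cast (Fact.out : p.Prime).ne_zero
    refine ⟨φ.smulRight w, fun y hy => ?_, ?_, ?_, fun x => ?_⟩
    · have hyw : ρ y w = w := by
        obtain ⟨k, rfl⟩ := mem_powers_iff_mem_zpowers.2 hy
        clear hy
        induction k with
        | zero => simp
        | succ k ih => simp only at ih ⊢; rw [pow_succ, map_mul, Module.End.mul_apply, hw2, ih]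
      refine LinearMap.ext fun l => ?_
      have e : φ (ρ y l) = φ l := by
        refine mul_left_cancel₀ hp0 ?_
        rw [hφ, hφ]
        simp only [LinearMap.comp_apply]
        congr 1
        apply Subtype.ext
        show (sumP ρ L * avgV ρ L) (ρ y l) = (sumP ρ L * avgV ρ L) l
        rw [← Module.End.mul_apply, mul_assoc, ← avgV_comm_P ρ L hy, ← mul_assoc,
          sumP_mul_of_mem ρ L hy]
      simp [e, hyw]
    · refine LinearMap.ext fun l => ?_
      have e : φ (avgV ρ L l) = φ l := by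
        refine mul_left_cancel₀ hp0 ?_
        rw [hφ, hφ]
        simp only [LinearMap.comp_apply]
        congr 1
        apply Subtype.ext
        show (sumP ρ L * avgV ρ L) (avgV ρ L l) = (sumP ρ L * avgV ρ L) l
        rw [← Module.End.mul_apply, mul_assoc, avgV_idem]
      simp [e]
    · exact LinearMap.ext fun l => by simp [hw1]
    · have hall : ∀ y ∈ Subgroup.zpowers L.u, ρ y (x : Fin n → ℤ_[p]) = x := fun y hy => by
        have hx2 : ρ L.u (x : Fin n → ℤ_[p]) = x := by simpa [sub_eq_zero] using x.2.2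
        obtain ⟨k, rfl⟩ := mem_powers_iff_mem_zpowers.2 hy
        clear hy
        induction k with
        | zero => simp
        | succ k ih => simp only at ih ⊢; rw [pow_succ, map_mul, Module.End.mul_apply, hx2, ih]
      have e : φ x = ψ x := by
        refine mul_left_cancel₀ hp0 ?_
        rw [hφ, LinearMap.comp_apply, ← smul_eq_mul (p : ℤ_[p]), ← map_smul]
        congr 1
        apply Subtype.ext
        show (sumP ρ L * avgV ρ L) x = (p : ℤ_[p]) • (x : Fin n → ℤ_[p])
        have hx1 : avgV ρ L (x : Fin n → ℤ_[p]) = x := by simpa [sub_eq_zero] using x.2.1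
        rw [Module.End.mul_apply, hx1, sumP, LinearMap.sum_apply,
          Finset.sum_congr rfl fun (y : Subgroup.zpowers L.u) _ => hall y y.2, Finset.sum_const,
          Finset.card_univ,
          ← Nat.card_eq_fintype_card, card_zpowers_u L, Nat.cast_smul_eq_nsmul]
      rw [LinearMap.smulRight_apply, e, sub_self]
      exact zero_mem _

theorem sumP_mul_avgV_comm : avgV ρ L * sumP ρ L = sumP ρ L * avgV ρ L := by
  classical
  rw [sumP, Finset.mul_sum, Finset.sum_mul]
  exact Finset.sum_congr rfl fun y _ => (avgV_comm_P ρ L y.2).symm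

theorem sub_one_mem_range {y : G} (hy : y ∈ Subgroup.zpowers L.u) (l : Fin n → ℤ_[p]) :
    ρ y (avgV ρ L l) - avgV ρ L l ∈ LinearMap.range ((1 - ρ L.u) * avgV ρ L) := by
  obtain ⟨k, rfl⟩ := mem_powers_iff_mem_zpowers.2 hy
  simp only
  clear hy
  induction k with
  | zero => simp
  | succ k ih =>
    obtain ⟨z, hz⟩ := ih
    refine ⟨z - ρ (L.u ^ k) l, ?_⟩
    have hc : avgV ρ L (ρ (L.u ^ k) l) = ρ (L.u ^ k) (avgV ρ L l) :=
      (LinearMap.congr_fun (avgV_comm_P ρ L (pow_mem (Subgroup.mem_zpowers _) k)) l).symm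
    rw [map_sub, hz, pow_succ', map_mul]
    simp only [Module.End.mul_apply, LinearMap.sub_apply, Module.End.one_apply, hc]
    abel

open Classical in
/-- The augmentation layer. -/
noncomputable def augLayer : TateLayer ρ L where
  S := (LinearMap.ker (avgV ρ L - 1)) ⊓ LinearMap.ker (sumP ρ L)
  I := LinearMap.range ((1 - ρ L.u) * avgV ρ L)
  le := by
    rintro _ ⟨x, rfl⟩
    refine ⟨?_, ?_⟩
    · have e : avgV ρ L * ((1 - ρ L.u) * avgV ρ L) = (1 - ρ L.u) * avgV ρ L := by
        rw [← mul_assoc, mul_sub, mul_one, ← avgV_comm_P ρ L (Subgroup.mem_zpowers _), sub_mul,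
          avgV_idem, mul_assoc, avgV_idem, sub_mul, one_mul]
      simpa [sub_eq_zero] using LinearMap.congr_fun e x
    · have e := LinearMap.congr_fun (sumP_mul_of_mem ρ L (Subgroup.mem_zpowers L.u)) (avgV ρ L x)
      simp only [Module.End.mul_apply] at e
      simp [e]
  fix x hx := by simpa [sub_eq_zero] using hx.1
  p_smul x hx := by
    have hx1 : avgV ρ L x = x := by simpa [sub_eq_zero] using hx.1
    have hx2 : sumP ρ L x = 0 := hx.2
    have e : (p : ℤ_[p]) • x = ∑ y : Subgroup.zpowers L.u, -(ρ (y : G) x - x) := by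
      simp only [neg_sub, Finset.sum_sub_distrib, Finset.sum_const, Finset.card_univ,
        ← Nat.card_eq_fintype_card, card_zpowers_u L, Nat.cast_smul_eq_nsmul]
      rw [sumP, LinearMap.sum_apply] at hx2
      rw [hx2, sub_zero]
    rw [e]
    refine Submodule.sum_mem _ fun y _ => neg_mem ?_
    rw [← hx1]
    exact sub_one_mem_range ρ L y.2 x
  sat x hx hpx := by
    have hx2 : sumP ρ L x = 0 := by
      have h := LinearMap.mem_ker.1 hpx.2
      rw [map_smul, smul_eq_zero] at h
      exact h.resolve_left (by exact_mod_cast (Fact.out : p.Prime).ne_zero)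
    have e : (p : ℤ_[p]) • x = ∑ y : Subgroup.zpowers L.u, -(ρ (y : G) x - x) := by
      simp only [neg_sub, Finset.sum_sub_distrib, Finset.sum_const, Finset.card_univ,
        ← Nat.card_eq_fintype_card, card_zpowers_u L, Nat.cast_smul_eq_nsmul]
      rw [sumP, LinearMap.sum_apply] at hx2
      rw [hx2, sub_zero]
    rw [e]
    refine Submodule.sum_mem _ fun y _ => neg_mem ?_
    rw [← hx]
    exact sub_one_mem_range ρ L y.2 x
  inv_S g hg x hx := by
    have hx1 : avgV ρ L x = x := by simpa [sub_eq_zero] using hx.1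
    have hx2 : sumP ρ L x = 0 := hx.2
    refine ⟨?_, ?_⟩
    · have := LinearMap.congr_fun (avgV_conj ρ L hg) x
      simp only [Module.End.mul_apply, hx1] at this
      simpa [sub_eq_zero] using this.symm
    · have := LinearMap.congr_fun (sumP_conj ρ L hg) x
      simp only [Module.End.mul_apply, hx2, map_zero] at this
      exact this.symm
  inv_I g hg := by
    rintro _ ⟨x, rfl⟩
    have e : ρ g * ((1 - ρ L.u) * avgV ρ L) = (1 - ρ (g * L.u * g⁻¹)) * avgV ρ L * ρ g := by
      rw [mul_assoc _ (avgV ρ L) (ρ g), ← avgV_conj ρ L hg, ← mul_assoc, ← mul_assoc _ (ρ g)]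
      congr 1
      rw [mul_sub, sub_mul, mul_one, one_mul, ← map_mul, ← map_mul, inv_mul_cancel_right]
    rw [← Module.End.mul_apply, e, Module.End.mul_apply, Module.End.mul_apply, LinearMap.sub_apply,
      Module.End.one_apply]
    have h := neg_mem (sub_one_mem_range ρ L hg (ρ g x))
    rwa [neg_sub] at h
  triv y hy x hx := by
    have hx1 : avgV ρ L x = x := by simpa [sub_eq_zero] using hx.1
    rw [← hx1]
    exact sub_one_mem_range ρ L hy x
  mackey h x hx := by
    have hx2 : sumP ρ L x = 0 := hx.2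
    have e : (∑ y : Subgroup.zpowers L.u, ρ y (avgV ρ L (h (ρ (y : G)⁻¹ x)))) =
        (∑ y : Subgroup.zpowers L.u, (ρ y (avgV ρ L (h (ρ (y : G)⁻¹ x))) -
          avgV ρ L (h (ρ (y : G)⁻¹ x)))) + avgV ρ L (h (sumP ρ L x)) := by
      rw [Finset.sum_sub_distrib, sumP, LinearMap.sum_apply, map_sum, map_sum,
        ← Equiv.sum_comp (Equiv.inv (Subgroup.zpowers L.u))
          (fun y : Subgroup.zpowers L.u => avgV ρ L (h (ρ (y : G) x)))]
      simp only [Equiv.inv_apply, Subgroup.coe_inv, sub_add_cancel]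
    rw [e, hx2, map_zero, map_zero, add_zero]
    exact Submodule.sum_mem _ fun y _ => sub_one_mem_range ρ L y.2 _
  lift ψ hψ w hw := by
    let S := LinearMap.ker (avgV ρ L - 1) ⊓ LinearMap.ker (sumP ρ L)
    have hw1 : avgV ρ L w = w := by simpa [sub_eq_zero] using hw.1
    have hw2 : sumP ρ L w = 0 := hw.2
    have hp0 : (p : ℤ_[p]) ≠ 0 := by exact_mod_cast (Fact.out : p.Prime).ne_zero
    have hmem : ∀ (y : Subgroup.zpowers L.u) (l : Fin n → ℤ_[p]),
        ((ρ (y : G)⁻¹ - 1) * avgV ρ L) l ∈ S := fun y l => by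
      refine ⟨?_, ?_⟩
      · have e : avgV ρ L * ((ρ (y : G)⁻¹ - 1) * avgV ρ L) = (ρ (y : G)⁻¹ - 1) * avgV ρ L := by
          rw [← mul_assoc, mul_sub, mul_one, ← avgV_comm_P ρ L (inv_mem y.2), sub_mul, avgV_idem,
            mul_assoc, avgV_idem, sub_mul, one_mul]
        simpa [sub_eq_zero] using LinearMap.congr_fun e l
      · have e := LinearMap.congr_fun (sumP_mul_of_mem ρ L (inv_mem y.2)) (avgV ρ L l)
        simp only [Module.End.mul_apply] at e
        simp [e]
    choose c hc using fun y : Subgroup.zpowers L.u =>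
      exists_div (ψ.comp (((ρ (y : G)⁻¹ - 1) * avgV ρ L).codRestrict S (hmem y))) fun l => hψ _ (by
        show ((ρ (y : G)⁻¹ - 1) * avgV ρ L) l ∈ _
        rw [Module.End.mul_apply, LinearMap.sub_apply, Module.End.one_apply]
        exact sub_one_mem_range ρ L (inv_mem y.2) l)
    set f : Module.End ℤ_[p] (Fin n → ℤ_[p]) :=
      -∑ y : Subgroup.zpowers L.u, (c y).smulRight (ρ (y : G) w) with hf
    refine ⟨f, fun z hz => ?_, ?_, ?_, fun x => ?_⟩
    · refine LinearMap.ext fun l => ?_
      set z' : Subgroup.zpowers L.u := ⟨z, hz⟩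
      have hcy : ∀ y : Subgroup.zpowers L.u, c y (ρ z l) = c (z'⁻¹ * y) l - c z'⁻¹ l := fun y => by
        refine mul_left_cancel₀ hp0 ?_
        rw [mul_sub, hc, hc, hc]
        simp only [LinearMap.comp_apply, ← map_sub]
        congr 1
        apply Subtype.ext
        simp only [Submodule.coe_sub, LinearMap.codRestrict_apply, Module.End.mul_apply,
          LinearMap.sub_apply, Module.End.one_apply, Subgroup.coe_mul, Subgroup.coe_inv, mul_inv_rev,
          inv_inv, map_mul, z']
        rw [← Module.End.mul_apply (avgV ρ L), ← avgV_comm_P ρ L hz, Module.End.mul_apply]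
        abel
      simp only [hf, Module.End.mul_apply, LinearMap.neg_apply, LinearMap.sum_apply,
        LinearMap.smulRight_apply, hcy, sub_smul, Finset.sum_sub_distrib, ← Finset.smul_sum,
        map_neg, map_sum, map_smul]
      have e0 : ∑ y : Subgroup.zpowers L.u, ρ (y : G) w = 0 := by
        rwa [sumP, LinearMap.sum_apply] at hw2
      rw [e0, smul_zero, sub_zero]
      congr 1
      refine Fintype.sum_equiv (Equiv.mulLeft z'⁻¹) _ _ fun y => ?_
      simp only [Equiv.coe_mulLeft]
      congr 1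
      rw [Subgroup.coe_mul, ← Module.End.mul_apply, ← map_mul, ← mul_assoc]
      simp [z']
    · refine LinearMap.ext fun l => ?_
      have e : ∀ y, c y (avgV ρ L l) = c y l := fun y => by
        refine mul_left_cancel₀ hp0 ?_
        rw [hc, hc]
        simp only [LinearMap.comp_apply]
        congr 1
        apply Subtype.ext
        show ((ρ (y : G)⁻¹ - 1) * avgV ρ L) (avgV ρ L l) = _
        rw [← Module.End.mul_apply, mul_assoc, avgV_idem]
        rfl
      simp [hf, e]
    · refine LinearMap.ext fun l => ?_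
      simp only [hf, Module.End.mul_apply, LinearMap.neg_apply, LinearMap.sum_apply,
        LinearMap.smulRight_apply, map_neg, map_sum, map_smul]
      congr 1
      refine Finset.sum_congr rfl fun y _ => ?_
      congr 1
      rw [← Module.End.mul_apply, ← avgV_comm_P ρ L y.2, Module.End.mul_apply, hw1]
    · have hx1 : avgV ρ L (x : Fin n → ℤ_[p]) = x := by simpa [sub_eq_zero] using x.2.1
      have hx2 : sumP ρ L (x : Fin n → ℤ_[p]) = 0 := x.2.2
      have hsum : ∑ y : Subgroup.zpowers L.u, c y x = -ψ x := by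
        refine mul_left_cancel₀ hp0 ?_
        rw [Finset.mul_sum, Finset.sum_congr rfl fun y _ => hc y x]
        simp only [LinearMap.comp_apply, ← map_sum, mul_neg, ← smul_eq_mul (p : ℤ_[p]),
          ← map_smul, ← map_neg]
        congr 1
        apply Subtype.ext
        simp only [Submodule.coe_sum, LinearMap.codRestrict_apply, Module.End.mul_apply, hx1,
          LinearMap.sub_apply, Module.End.one_apply, Finset.sum_sub_distrib, Finset.sum_const,
          Finset.card_univ, ← Nat.card_eq_fintype_card, card_zpowers_u L, Submodule.coe_neg,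
          Submodule.coe_smul, Nat.cast_smul_eq_nsmul]
        rw [← Equiv.sum_comp (Equiv.inv (Subgroup.zpowers L.u))
          (fun y : Subgroup.zpowers L.u => ρ (y : G)⁻¹ (x : Fin n → ℤ_[p]))]
        simp only [Equiv.inv_apply, Subgroup.coe_inv, inv_inv]
        simp only [sumP, LinearMap.sum_apply] at hx2
        rw [hx2, zero_sub]
        simp
      have e : f x - ψ x • w = -∑ y : Subgroup.zpowers L.u, c y x • (ρ (y : G) w - w) := by
        simp only [hf, LinearMap.neg_apply, LinearMap.sum_apply, LinearMap.smulRight_apply,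
          smul_sub, Finset.sum_sub_distrib, ← Finset.sum_smul, hsum, neg_smul]
        abel
      rw [e]
      refine neg_mem (Submodule.sum_mem _ fun y _ => Submodule.smul_mem _ _ ?_)
      rw [← hw1]
      exact sub_one_mem_range ρ L y.2 w

open Polynomial in
/-- The product of `1 - X ^ i` over the nonzero residues is `p` modulo the cyclotomic polynomial. -/
theorem cyclotomic_dvd_prod (p : ℕ) [hp : Fact p.Prime] :
    cyclotomic p ℤ ∣ (∏ i ∈ Finset.range (p - 1), (1 - X ^ (i + 1))) - C (p : ℤ) := by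
  obtain ⟨ζ, hζ⟩ : ∃ ζ : ℂ, IsPrimitiveRoot ζ p :=
    ⟨_, Complex.isPrimitiveRoot_exp p hp.out.ne_zero⟩
  rw [cyclotomic_eq_minpoly hζ hp.out.pos]
  refine minpoly.isIntegrallyClosed_dvd (hζ.isIntegral hp.out.pos) ?_
  have h := eval_one_cyclotomic_prime (R := ℂ) (p := p)
  rw [cyclotomic_eq_prod_X_sub_primitiveRoots hζ, eval_prod] at h
  simp only [map_sub, map_prod, map_one, map_pow, aeval_X, aeval_C, map_natCast]
  rw [sub_eq_zero, ← h]
  refine Finset.prod_bij (fun i _ => ζ ^ (i + 1)) (fun i hi => ?_) (fun i hi j hj e => ?_)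
    (fun a ha => ?_) fun i _ => by simp
  · rw [mem_primitiveRoots hp.out.pos]
    refine hζ.pow_of_coprime _ (((Nat.Prime.coprime_iff_not_dvd hp.out).2 fun hd => ?_).symm)
    have := Nat.le_of_dvd (Nat.succ_pos i) hd
    rw [Finset.mem_range] at hi
    omega
  · rw [Finset.mem_range] at hi hj
    have := hζ.pow_inj (by omega) (by omega) e
    omega
  · rw [mem_primitiveRoots hp.out.pos] at ha
    obtain ⟨i, hi, hcop, rfl⟩ := (hζ.isPrimitiveRoot_iff).1 ha
    have hi0 : i ≠ 0 := fun h0 => by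
      rw [h0, Nat.coprime_zero_left] at hcop
      exact hp.out.ne_one hcop
    exact ⟨i - 1, Finset.mem_range.2 (by omega), by rw [Nat.sub_add_cancel (by omega)]⟩

open Classical in
/-- The Tate bound: the common trace on the nontrivial elements is `0`, `1` or `-1`. -/
theorem tate_bound (hρ : ∀ F : Module.End ℤ_[p] (Fin n → ℤ_[p]),
    (∀ g, F * ρ g = ρ g * F) → F = 0 ∨ Function.Injective F) (c : ℤ_[p])
    (hc : ∀ y ∈ Subgroup.zpowers L.u, y ≠ 1 →
      ∑ v : L.V, LinearMap.trace ℤ_[p] _ (ρ (y * v)) = (Nat.card L.V : ℤ_[p]) * c) :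
    ∃ k : ℤ, (k = 0 ∨ k = 1 ∨ k = -1) ∧ c = k := by
  have hp := (Fact.out : p.Prime)
  have hp0 : (p : ℤ_[p]) ≠ 0 := by exact_mod_cast hp.ne_zero
  set e := avgV ρ L with he
  set Ts := sumP ρ L with hTs
  set B := (1 : Module.End ℤ_[p] (Fin n → ℤ_[p])) - ρ L.u with hB
  set T₀ := fixedLayer ρ L with hT₀
  set T₁ := augLayer ρ L with hT₁
  haveI : Module.Free ℤ_[p] T₀.S := Module.free_of_finite_type_torsion_free'
  haveI : Module.Free ℤ_[p] T₁.S := Module.free_of_finite_type_torsion_free'
  haveI : Module.Finite ℤ_[p] T₀.S := Module.Finite.of_fg (IsNoetherian.noetherian _)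
  haveI : Module.Finite ℤ_[p] T₁.S := Module.Finite.of_fg (IsNoetherian.noetherian _)
  set r₀ := Module.finrank ℤ_[p] T₀.S with hr₀
  set r₁ := Module.finrank ℤ_[p] T₁.S with hr₁
  have h0fix : ∀ x ∈ T₀.S, ρ L.u x = x := fun x hx => by simpa [sub_eq_zero] using hx.2
  have h0e : ∀ x ∈ T₀.S, e x = x := T₀.fix
  have h1e : ∀ x ∈ T₁.S, e x = x := T₁.fix
  have h1T : ∀ x ∈ T₁.S, Ts x = 0 := fun x hx => hx.2
  have h0T : ∀ x ∈ T₀.S, (Ts * e) x = p • x := fun x hx => by
    have hall : ∀ y ∈ Subgroup.zpowers L.u, ρ y x = x := fun y hy => by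
      obtain ⟨k, rfl⟩ := mem_powers_iff_mem_zpowers.2 hy
      simp only
      clear hy
      induction k with
      | zero => simp
      | succ k ih => rw [pow_succ, map_mul, Module.End.mul_apply, h0fix x hx, ih]
    rw [Module.End.mul_apply, h0e x hx, hTs, sumP, LinearMap.sum_apply,
      Finset.sum_congr rfl fun (y : Subgroup.zpowers L.u) _ => hall y y.2, Finset.sum_const, Finset.card_univ,
      ← Nat.card_eq_fintype_card, card_zpowers_u L]
  -- indices
  have hidx : ∀ (T : TateLayer ρ L) (fM : Module.End ℤ_[p] (Fin n → ℤ_[p])),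
      T.I = LinearMap.range fM →
      (T.S.toAddSubgroup.map fM.toAddMonoidHom).relIndex T.S.toAddSubgroup =
        (T.S.toAddSubgroup ⊔ fM.toAddMonoidHom.ker).index *
          T.I.toAddSubgroup.relIndex T.S.toAddSubgroup := by
    intro T fM hI
    have h2 : T.I.toAddSubgroup = (⊤ : AddSubgroup _).map fM.toAddMonoidHom := by
      rw [hI, ← AddMonoidHom.range_eq_map]
      exact (LinearMap.range_toAddSubgroup fM)
    rw [← AddSubgroup.relIndex_mul_relIndex (T.S.toAddSubgroup.map fM.toAddMonoidHom)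
      T.I.toAddSubgroup T.S.toAddSubgroup (h2 ▸ AddSubgroup.map_mono le_top) T.le]
    congr 1
    rw [h2, AddSubgroup.relIndex_map_map, top_sup_eq, AddSubgroup.relIndex_top_right]
  have hU : ∀ T : TateLayer ρ L, T.I.toAddSubgroup.relIndex T.S.toAddSubgroup = 1 ∨
      T.I.toAddSubgroup.relIndex T.S.toAddSubgroup = p := fun T => T.card_U hρ
  have hker : T₀.S.toAddSubgroup ⊔ (Ts * e).toAddMonoidHom.ker =
      T₁.S.toAddSubgroup ⊔ (B * e).toAddMonoidHom.ker := by
    have hkT : ∀ x, (Ts * e) x = 0 ↔ Ts (e x) = 0 := fun x => Iff.rfl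
    have hee : ∀ x, e (e x) = e x := fun x => LinearMap.congr_fun (avgV_idem ρ L) x
    refine le_antisymm (sup_le (fun x hx => ?_) fun x hx => ?_) (sup_le (fun x hx => ?_) fun x hx => ?_)
    · refine AddSubgroup.mem_sup_right ?_
      show B (e x) = 0
      rw [h0e x hx]
      simp [hB, h0fix x hx]
    · have hx' : Ts (e x) = 0 := hx
      have : x = e x + (x - e x) := by abel
      rw [this]
      refine add_mem (AddSubgroup.mem_sup_left ⟨?_, hx'⟩) (AddSubgroup.mem_sup_right ?_)
      · simp [sub_eq_zero, ← he]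
        exact hee x
      · show B (e (x - e x)) = 0
        rw [map_sub, hee, sub_self, map_zero]
    · refine AddSubgroup.mem_sup_right ?_
      show Ts (e x) = 0
      rw [h1e x hx, h1T x hx]
    · have hx' : B (e x) = 0 := hx
      have : x = e x + (x - e x) := by abel
      rw [this]
      refine add_mem (AddSubgroup.mem_sup_left ⟨?_, ?_⟩) (AddSubgroup.mem_sup_right ?_)
      · simp [sub_eq_zero, ← he, hee]
      · simp only [hB, LinearMap.sub_apply, Module.End.one_apply, sub_eq_zero] at hx'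
        simp [sub_eq_zero, ← hx']
      · show Ts (e (x - e x)) = 0
        rw [map_sub, hee, sub_self, map_zero]
  have hW0 : (T₀.S.toAddSubgroup.map (Ts * e).toAddMonoidHom).relIndex T₀.S.toAddSubgroup
      = p ^ r₀ := by
    rw [hr₀, ← index_range_nsmul (V := T₀.S), AddSubgroup.relIndex]
    congr 1
    ext x
    constructor
    · rintro ⟨y, hy, hxy⟩
      refine ⟨⟨y, hy⟩, Subtype.ext ?_⟩
      show p • y = _
      rw [← h0T y hy]; exact hxy
    · rintro ⟨y, rfl⟩
      exact ⟨(y : Fin n → ℤ_[p]), y.2, h0T y y.2⟩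
  -- the augmentation part
  have hb_mem : ∀ x ∈ T₁.S, ρ L.u x ∈ T₁.S := fun x hx =>
    T₁.inv_S L.u (normalizes_of_mem L (Subgroup.mem_zpowers _)) x hx
  set b : Module.End ℤ_[p] T₁.S := (ρ L.u).restrict hb_mem with hb
  have hbpow : ∀ (k : ℕ) (x : T₁.S), ((b ^ k) x : Fin n → ℤ_[p]) = ρ (L.u ^ k) x := by
    intro k
    induction k with
    | zero => intro x; simp
    | succ k ih =>
      intro x
      rw [pow_succ', Module.End.mul_apply, pow_succ', map_mul, Module.End.mul_apply, ← ih]
      rfl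
  have hbsum : ∑ i ∈ Finset.range p, b ^ i = 0 := by
    refine LinearMap.ext fun x => Subtype.ext ?_
    simp only [LinearMap.sum_apply, Submodule.coe_sum, hbpow, LinearMap.zero_apply,
      Submodule.coe_zero]
    have hx := h1T x x.2
    rw [hTs, sumP, LinearMap.sum_apply] at hx
    rw [← hx]
    refine Finset.sum_bij (fun i _ => (⟨L.u ^ i, pow_mem (Subgroup.mem_zpowers _) i⟩ :
      Subgroup.zpowers L.u)) (fun _ _ => Finset.mem_univ _) (fun i hi j hj h => ?_) (fun y _ => ?_)
      fun _ _ => rfl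
    · rw [Finset.mem_range] at hi hj
      exact pow_injOn_Iio_orderOf (by simpa [L.order_u] using hi) (by simpa [L.order_u] using hj)
        (congrArg Subtype.val h)
    · obtain ⟨k, hk⟩ := mem_powers_iff_mem_zpowers.2 y.2
      simp only at hk
      refine ⟨k % p, Finset.mem_range.2 (Nat.mod_lt _ hp.pos), Subtype.ext ?_⟩
      simp only
      rw [congrArg (k % ·) L.order_u.symm, pow_mod_orderOf, hk]
  have hbp : b ^ p = 1 := by
    refine LinearMap.ext fun x => Subtype.ext ?_
    rw [hbpow, (congrArg (L.u ^ ·) L.order_u.symm).trans (pow_orderOf_eq_one L.u), map_one]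
    rfl
  have hinjB : Function.Injective ⇑(1 - b : Module.End ℤ_[p] T₁.S) := by
    refine (injective_iff_map_eq_zero _).2 fun x hx => ?_
    have hfix : ∀ i, (b ^ i) x = x := fun i => by
      induction i with
      | zero => simp
      | succ i ih =>
        rw [pow_succ', Module.End.mul_apply, ih]
        exact (sub_eq_zero.1 (by simpa using hx)).symm
    have h := LinearMap.congr_fun hbsum x
    rw [LinearMap.sum_apply, Finset.sum_congr rfl fun i _ => hfix i, Finset.sum_const,
      Finset.card_range, LinearMap.zero_apply, ← Nat.cast_smul_eq_nsmul ℤ_[p], smul_eq_zero] at h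
    exact h.resolve_left hp0
  obtain ⟨W, W', hWW, hW'W, hprod⟩ : ∃ W W' : Module.End ℤ_[p] T₁.S, W * W' = 1 ∧ W' * W = 1 ∧
      (1 - b) ^ (p - 1) * W = (p : Module.End ℤ_[p] T₁.S) := by
    let X := Polynomial.X (R := ℤ)
    have hq : Polynomial.aeval b (Polynomial.cyclotomic p ℤ) = 0 := by
      rw [Polynomial.cyclotomic_prime, map_sum]
      simpa using hbsum
    obtain ⟨q, hq'⟩ := cyclotomic_dvd_prod p
    have h1 := congrArg (Polynomial.aeval b) hq'
    rw [map_mul, hq, zero_mul, map_sub, sub_eq_zero, Polynomial.aeval_C, map_natCast] at h1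
    let s : ℕ → Module.End ℤ_[p] T₁.S := fun i => ∑ k ∈ Finset.range i, b ^ k
    have hs : ∀ i, 1 - b ^ i = (1 - b) * s i := fun i => by
      exact (mul_neg_geom_sum b i).symm
    have hunit : ∀ i ∈ Finset.range (p - 1), IsUnit (s (i + 1)) := by
      intro i hi
      rw [Finset.mem_range] at hi
      obtain ⟨j, hj⟩ := Nat.exists_mul_mod_eq_one_of_coprime (k := p)
        ((hp.coprime_iff_not_dvd.2 fun hd => by
          have := Nat.le_of_dvd (Nat.succ_pos i) hd; omega).symm) hp.one_lt
      let t : Module.End ℤ_[p] T₁.S := ∑ k ∈ Finset.range j, (b ^ (i + 1)) ^ k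
      have e : (1 - b) * (s (i + 1) * t) = (1 - b) * 1 := by
        show _ = _
        rw [← mul_assoc, ← hs]
        simp only [t]
        refine (mul_neg_geom_sum (b ^ (i + 1)) j).trans ?_
        rw [← pow_mul, mul_one]
        congr 1
        conv_lhs => rw [← Nat.div_add_mod ((i + 1) * j) p, hj.2, pow_succ, pow_mul, hbp, one_pow,
          one_mul]
      have h : s (i + 1) * t = 1 := LinearMap.ext fun x => hinjB (LinearMap.congr_fun e x)
      have hcomm : Commute (s (i + 1)) t := by
        refine Commute.sum_right _ _ _ fun k _ => Commute.sum_left _ _ _ fun l _ => ?_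
        exact ((Commute.refl b).pow_pow l (i + 1)).pow_right k
      exact ⟨⟨_, t, h, hcomm.eq ▸ h⟩, rfl⟩
    have hprod : ∀ N, (∀ i ∈ Finset.range N, IsUnit (s (i + 1))) →
        ∃ W, IsUnit W ∧ Polynomial.aeval b (∏ i ∈ Finset.range N, (1 - X ^ (i + 1))) =
          (1 - b) ^ N * W := by
      intro N
      induction N with
      | zero => intro _; exact ⟨1, isUnit_one, by simp⟩
      | succ N ih =>
        intro hN
        obtain ⟨W, hWu, hW⟩ := ih fun i hi => hN i (by simp at hi ⊢; omega)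
        refine ⟨s (N + 1) * W, (hN N (by simp)).mul hWu, ?_⟩
        rw [Finset.prod_range_succ, mul_comm, map_mul, hW]
        simp only [X, map_sub, map_one, map_pow, Polynomial.aeval_X]
        rw [hs, pow_succ', mul_assoc, mul_assoc]
        congr 1
        rw [← mul_assoc, ← mul_assoc]
        congr 1
        refine (Commute.pow_right ?_ N).eq
        have h : Commute (s (N + 1)) b :=
          Commute.sum_left _ _ _ fun k _ => (Commute.refl b).pow_left k
        show s (N + 1) * (1 - b) = (1 - b) * s (N + 1)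
        refine LinearMap.ext fun x => ?_
        have hx := LinearMap.congr_fun h.eq x
        simp only [Module.End.mul_apply, LinearMap.sub_apply, Module.End.one_apply, map_sub] at hx ⊢
        rw [hx]
    obtain ⟨W, hWu, hW⟩ := hprod _ hunit
    obtain ⟨w, rfl⟩ := hWu
    exact ⟨w, ↑w⁻¹, w.mul_inv, w.inv_mul, by rw [← hW]; exact h1⟩
  set β := (1 - b).toAddMonoidHom.range.index with hβ
  have hβpow : β ^ (p - 1) = p ^ r₁ := by
    rw [hr₁, ← index_range_nsmul (V := T₁.S)]
    have hj : ∀ j, ((1 - b) ^ j).toAddMonoidHom.range.index = β ^ j := by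
      intro j
      induction j with
      | zero =>
        rw [pow_zero, pow_zero, AddSubgroup.index_eq_one]
        exact AddMonoidHom.range_eq_top.2 fun x => ⟨x, rfl⟩
      | succ j ih =>
        have e : ((1 - b) ^ (j + 1)).toAddMonoidHom.range =
            (((1 - b) ^ j).toAddMonoidHom.range).map (1 - b).toAddMonoidHom := by
          rw [AddMonoidHom.map_range]
          congr 1
          rw [pow_succ' (1 - b) j]
          rfl
        rw [e, AddSubgroup.index_map_of_injective _ hinjB, ih, pow_succ, hβ]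
    rw [← hj]
    congr 1
    ext x
    have happ : ∀ y, (p : Module.End ℤ_[p] T₁.S) y = p • y := fun y => by simp
    constructor
    · rintro ⟨y, rfl⟩
      refine ⟨W' y, ?_⟩
      show p • W' y = ((1 - b) ^ (p - 1)) y
      rw [← happ, ← hprod, ← Module.End.mul_apply, mul_assoc, hWW, mul_one]
    · rintro ⟨y, rfl⟩
      exact ⟨W y, by rw [LinearMap.toAddMonoidHom_coe, ← Module.End.mul_apply, hprod, happ]; rfl⟩
  have hW1 : (T₁.S.toAddSubgroup.map (B * e).toAddMonoidHom).relIndex T₁.S.toAddSubgroup = β := by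
    rw [hβ, AddSubgroup.relIndex]
    congr 1
    ext x
    constructor
    · rintro ⟨y, hy, hxy⟩
      refine ⟨⟨y, hy⟩, Subtype.ext ?_⟩
      have hxy' : B (e y) = (x : Fin n → ℤ_[p]) := hxy
      rw [h1e y hy] at hxy'
      exact hxy'
    · rintro ⟨y, rfl⟩
      refine ⟨(y : Fin n → ℤ_[p]), y.2, ?_⟩
      show B (e (y : Fin n → ℤ_[p])) = _
      rw [h1e y y.2]
      rfl
  have key0 := hidx T₀ (Ts * e) rfl
  have key1 := hidx T₁ (B * e) rfl
  rw [hW0, hker] at key0
  rw [hW1] at key1
  obtain ⟨J, hJ⟩ : ∃ J, J = (T₁.S.toAddSubgroup ⊔ (B * e).toAddMonoidHom.ker).index := ⟨_, rfl⟩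
  rw [← hJ] at key0 key1
  obtain ⟨q₀, hq₀, hq₀e⟩ : ∃ q₀, q₀ ≤ 1 ∧ T₀.I.toAddSubgroup.relIndex T₀.S.toAddSubgroup = p ^ q₀ := by
    rcases hU T₀ with h | h
    · exact ⟨0, zero_le_one, by rw [h, pow_zero]⟩
    · exact ⟨1, le_rfl, by rw [h, pow_one]⟩
  obtain ⟨q₁, hq₁, hq₁e⟩ : ∃ q₁, q₁ ≤ 1 ∧ T₁.I.toAddSubgroup.relIndex T₁.S.toAddSubgroup = p ^ q₁ := by
    rcases hU T₁ with h | h
    · exact ⟨0, zero_le_one, by rw [h, pow_zero]⟩
    · exact ⟨1, le_rfl, by rw [h, pow_one]⟩
  rw [hq₀e] at key0
  rw [hq₁e] at key1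
  obtain ⟨j, -, rfl⟩ := (Nat.dvd_prime_pow hp).1 (Dvd.intro _ key0.symm)
  rw [← pow_add] at key0 key1
  have hr0j : r₀ = j + q₀ := Nat.pow_right_injective hp.two_le key0
  rw [key1, ← pow_mul] at hβpow
  have hr1j : (j + q₁) * (p - 1) = r₁ := Nat.pow_right_injective hp.two_le hβpow
  -- traces
  set w := Ring.inverse ((Nat.card L.V : ℕ) : ℤ_[p]) * ∑ v : L.V, LinearMap.trace ℤ_[p] _ (ρ v)
    with hw
  have htrP : LinearMap.trace ℤ_[p] _ (Ts * e) = w + ((p : ℤ_[p]) - 1) * c := by
    rw [hTs, sumP, he, avgV, mul_smul_comm, map_smul, smul_eq_mul, Finset.sum_mul, map_sum]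
    simp only [Finset.mul_sum, ← map_mul, map_sum]
    rw [← Finset.add_sum_erase _ _ (Finset.mem_univ (1 : Subgroup.zpowers L.u))]
    congr 1
    · rw [hw, Finset.mul_sum]
      exact Finset.sum_congr rfl fun v _ => by rw [OneMemClass.coe_one, one_mul]
    · have hone : ∀ y ∈ Finset.univ.erase (1 : Subgroup.zpowers L.u),
          ∑ v : L.V, Ring.inverse ((Nat.card L.V : ℕ) : ℤ_[p]) *
            LinearMap.trace ℤ_[p] _ (ρ ((y : G) * v)) = c := fun y hy => by
        rw [← Finset.mul_sum, hc y y.2 (fun h => (Finset.mem_erase.1 hy).1 (Subtype.ext h)),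
          ← mul_assoc, Ring.inverse_mul_cancel _ (isUnit_natCast L.not_dvd), one_mul]
      rw [Finset.sum_congr rfl hone, Finset.sum_const, Finset.card_erase_of_mem (Finset.mem_univ _),
        Finset.card_univ, ← Nat.card_eq_fintype_card, card_zpowers_u L, nsmul_eq_mul,
        Nat.cast_sub hp.one_le, Nat.cast_one]
  have htre : LinearMap.trace ℤ_[p] _ e = w := by
    rw [he, avgV, map_smul, smul_eq_mul, map_sum]
  have hee : ∀ x, e (e x) = e x := fun x => LinearMap.congr_fun (avgV_idem ρ L) x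
  have hTe0 : ∀ x, (Ts * e) x ∈ T₀.S := fun x => T₀.le ⟨x, rfl⟩
  have htr0 : LinearMap.trace ℤ_[p] _ (Ts * e) = (p : ℤ_[p]) * r₀ := by
    rw [← LinearMap.trace_restrict_eq_of_forall_mem T₀.S (Ts * e) hTe0,
      show (Ts * e).restrict (fun x (_ : x ∈ T₀.S) => hTe0 x) = (p : ℤ_[p]) • LinearMap.id from
        LinearMap.ext fun x => Subtype.ext (by
          show (Ts * e) x = (p : ℤ_[p]) • (x : Fin n → ℤ_[p])
          rw [h0T x x.2, Nat.cast_smul_eq_nsmul]),
      map_smul, LinearMap.trace_id, smul_eq_mul]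
  set D := (p : ℤ_[p]) • e - Ts * e with hD
  have hD1 : ∀ x, D x ∈ T₁.S := fun x => by
    have h2 : Ts ((Ts * e) x) = (p : ℤ_[p]) • (Ts * e) x := by
      have hm := hTe0 x
      have := h0T _ hm
      rw [Module.End.mul_apply, h0e _ hm] at this
      rw [this, Nat.cast_smul_eq_nsmul]
    refine ⟨?_, ?_⟩
    · show (e - 1) (D x) = 0
      rw [LinearMap.sub_apply, Module.End.one_apply, sub_eq_zero, hD, LinearMap.sub_apply,
        LinearMap.smul_apply, map_sub, map_smul, hee, h0e _ (hTe0 x)]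
    · show Ts (D x) = 0
      rw [hD, LinearMap.sub_apply, LinearMap.smul_apply, map_sub, map_smul, h2, Module.End.mul_apply,
        sub_self]
  have htr1 : LinearMap.trace ℤ_[p] _ D = (p : ℤ_[p]) * r₁ := by
    rw [← LinearMap.trace_restrict_eq_of_forall_mem T₁.S D hD1,
      show D.restrict (fun x (_ : x ∈ T₁.S) => hD1 x) = (p : ℤ_[p]) • LinearMap.id from
        LinearMap.ext fun x => Subtype.ext (by
          show D x = (p : ℤ_[p]) • (x : Fin n → ℤ_[p])
          rw [hD, LinearMap.sub_apply, LinearMap.smul_apply, Module.End.mul_apply, h1e x x.2,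
            h1T x x.2, sub_zero]),
      map_smul, LinearMap.trace_id, smul_eq_mul]
  rw [hD, map_sub, map_smul, smul_eq_mul, htre, htrP] at htr1
  rw [htrP] at htr0
  refine ⟨(q₀ : ℤ) - q₁, by omega, ?_⟩
  have hr1' : (r₁ : ℤ_[p]) = ((j : ℤ_[p]) + q₁) * ((p : ℤ_[p]) - 1) := by
    rw [← hr1j, Nat.cast_mul, Nat.cast_add, Nat.cast_sub hp.one_le, Nat.cast_one]
  have hr0' : (r₀ : ℤ_[p]) = (j : ℤ_[p]) + q₀ := by rw [hr0j, Nat.cast_add]
  have hp1 : (p : ℤ_[p]) - 1 ≠ 0 := sub_ne_zero.2 (by exact_mod_cast hp.ne_one)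
  rw [hr1'] at htr1
  rw [hr0'] at htr0
  apply mul_left_cancel₀ (mul_ne_zero hp0 hp1)
  push_cast
  linear_combination ((p : ℤ_[p]) - 1) * htr0 - htr1

end CfsgLib.Blocks
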