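import Cfsg.Agent.Lib.Blocks.RankGapOne
import Cfsg.Agent.Lib.Blocks.PrincipalBlock
import Cfsg.Agent.Lib.Blocks.RegularTwist
import Cfsg.Agent.Lib.Chars.Indicator
import Cfsg.Agent.Lib.Chars.Quotient
import Cfsg.Agent.Lib.CharApps.InertialThreeInvolution
import Mathlib

/-!
# Principal blocks with three irreducible characters

The Frobenius–Schur indicators, paired with the column of a `p`-element whose centralizer is
`p`-nilpotent, show that the two nonprincipal values are units.
-/

set_option autoImplicit false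
set_option linter.unusedSectionVars false
set_option linter.style.haveILetI false

namespace CfsgLib.Blocks.ThreePrincipal

open Cfsg CfsgLib.Chars CfsgLib.Blocks
open scoped ComplexConjugate

universe u

/-- A group of prime power order with three classes has order three. -/
theorem card_of_three_classes {Q : Type*} [Group Q] [Finite Q] {p n : ℕ} (hp : p.Prime)
    (hn : Nat.card Q = p ^ n) (h3 : Nat.card (ConjClasses Q) = 3) : Nat.card Q = 3 := by
  classical
  haveI := Fact.mk hp
  have habel : (∀ a b : Q, a * b = b * a) → Nat.card Q = 3 := by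
    intro h
    rw [← h3]
    refine Nat.card_eq_of_bijective ConjClasses.mk ⟨fun a b hab => ?_, ConjClasses.mk_surjective⟩
    obtain ⟨c, hc⟩ := isConj_iff.mp (ConjClasses.mk_eq_mk_iff_isConj.mp hab)
    rw [← hc, h c a, mul_inv_cancel_right]
  by_contra hne
  have hnc : ¬ ∀ a b : Q, a * b = b * a := fun h => hne (habel h)
  have hQ : IsPGroup p Q := IsPGroup.of_card hn
  haveI : Nontrivial Q := by
    by_contra hs
    rw [not_nontrivial_iff_subsingleton] at hs
    exact hnc fun a b => Subsingleton.elim _ _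
  haveI : Nontrivial (Subgroup.center Q) := IsPGroup.center_nontrivial hQ
  have hZtop : Subgroup.center Q ≠ ⊤ := fun h => hnc fun a b =>
    (Subgroup.mem_center_iff.mp (h ▸ Subgroup.mem_top b) a)
  have hZp : p ∣ Nat.card (Subgroup.center Q) := by
    obtain ⟨j, hj⟩ := (hQ.to_subgroup (Subgroup.center Q)).exists_card_eq
    rw [hj]
    refine dvd_pow_self p fun h0 => ?_
    rw [h0, pow_zero] at hj
    exact (Finite.one_lt_card_iff_nontrivial.mpr inferInstance).ne' hj
  -- a noncentral class
  obtain ⟨x, hx⟩ : ∃ x : Q, x ∉ Subgroup.center Q := by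
    by_contra h
    exact hZtop (Subgroup.eq_top_iff' _ |>.mpr fun x => by_contra fun hx => h ⟨x, hx⟩)
  let f : Option (Subgroup.center Q) → ConjClasses Q :=
    fun o => o.elim (ConjClasses.mk x) (fun z => ConjClasses.mk (z : Q))
  have hcen : ∀ (z : Subgroup.center Q) (y : Q), IsConj (z : Q) y → y = z := fun z y h => by
    obtain ⟨c, hc⟩ := isConj_iff.mp h
    rw [← hc, Subgroup.mem_center_iff.mp z.2 c, mul_inv_cancel_right]
  have hf : Function.Injective f := by
    rintro (_ | a) (_ | b) h
    · rfl
    · exact absurd (hcen b x (ConjClasses.mk_eq_mk_iff_isConj.mp h).symm ▸ b.2) hx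
    · exact absurd (hcen a x (ConjClasses.mk_eq_mk_iff_isConj.mp h) ▸ a.2) hx
    · exact congrArg some (Subtype.ext (hcen a b (ConjClasses.mk_eq_mk_iff_isConj.mp h)).symm)
  have hle : Nat.card (Option (Subgroup.center Q)) ≤ 3 :=
    h3 ▸ Nat.card_le_card_of_injective f hf
  rw [Finite.card_option] at hle
  have hp2 : p = 2 := le_antisymm (by
    have := Nat.le_of_dvd Nat.card_pos hZp
    omega) hp.two_le
  have hZ : Nat.card (Subgroup.center Q) = 2 := by
    have := Nat.le_of_dvd Nat.card_pos hZp
    omega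
  have hsurj : Function.Surjective f := by
    refine (hf.bijective_of_nat_card_le ?_).2
    rw [Finite.card_option, h3, hZ]
  have hsize : Nat.card {y : Q // IsConj x y} + 2 = Nat.card Q := by
    rw [← hZ, ← Nat.card_sum]
    refine (Nat.card_eq_of_bijective
      (Sum.elim (fun y : {y : Q // IsConj x y} => y.1) (fun z : Subgroup.center Q => (z : Q)))
      ⟨?_, fun y => ?_⟩)
    · refine Function.Injective.sumElim Subtype.val_injective Subtype.val_injective fun a b hab => ?_
      exact hx (hcen b x ((show IsConj (b : Q) a.1 by rw [hab]).trans a.2.symm) ▸ b.2)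
    · obtain ⟨o, ho⟩ := hsurj (ConjClasses.mk y)
      rcases o with _ | z
      · exact ⟨Sum.inl ⟨y, ConjClasses.mk_eq_mk_iff_isConj.mp ho⟩, rfl⟩
      · exact ⟨Sum.inr z, (hcen z y (ConjClasses.mk_eq_mk_iff_isConj.mp ho)).symm⟩
  have hdvd : Nat.card {y : Q // IsConj x y} ∣ Nat.card Q :=
    ⟨_, (card_isConj_mul_card_centralizer x).symm⟩
  have hn2 : n ≤ 2 := by
    by_contra hn3
    obtain ⟨i, hi, hie⟩ := (Nat.dvd_prime_pow hp).mp (hn ▸ hdvd)
    rw [hn, hie, hp2] at hsize
    have h8 : 2 ^ 3 ≤ 2 ^ n := Nat.pow_le_pow_right (by norm_num) (by omega)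
    have h4 : 2 ^ i * 2 ≤ 2 ^ n := by
      rcases Nat.lt_or_ge i n with hlt | hge
      · rw [← pow_succ]
        exact Nat.pow_le_pow_right (by norm_num) hlt
      · rw [le_antisymm hi hge] at hsize
        omega
    omega
  have hn' : n = 2 := by
    rcases Nat.lt_or_ge n 2 with h | h
    · exfalso
      have h1 := Subgroup.card_subgroup_dvd_card (Subgroup.center Q)
      rw [hZ, hn, hp2] at h1
      interval_cases n
      · simp at h1
      · exact hZtop (Subgroup.eq_top_of_card_eq _ (by rw [hZ, hn, hp2, pow_one]))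
    · omega
  haveI : Fact (Nat.Prime p) := ⟨hp⟩
  exact hnc (IsPGroup.commutative_of_card_eq_prime_sq (hn.trans (by rw [hn'])))

variable {G : Type u} [Group G] [Fintype G] {M : Ideal AlgInt} [M.IsPrime] {p : ℕ}
  [Fact p.Prime]

/-- The `p`-nilpotent case. -/
theorem card_sylow_of_complement (hpM : (p : AlgInt) ∈ M) {N : Subgroup G} [N.Normal]
    (hN : ¬ p ∣ Nat.card N) {k : ℕ} (hk : N.index = p ^ k)
    (h3 : Nat.card (principalBlock M G) = 3) (D : Sylow p G) : Nat.card (D : Subgroup G) = 3 := by
  haveI := irrFintype G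
  haveI := Fintype.ofFinite (G ⧸ N)
  have h1 : Nat.card (ConjClasses (G ⧸ N)) = 3 := by
    rw [← card_irr_eq_card_classes, ← h3]
    exact Nat.card_congr ((quotientIrrEquiv N).trans
      (Equiv.subtypeEquivRight fun χ => (mem_principalBlock_iff_of_pow_index hpM hN hk χ).symm))
  have h2 : Nat.card (G ⧸ N) = p ^ k := by rw [← Subgroup.index_eq_card, hk]
  rw [← card_of_three_classes Fact.out h2 h1, h2, D.card_eq_multiplicity, ← N.card_mul_index,
    Nat.factorization_mul Nat.card_pos.ne' Subgroup.index_ne_zero_of_finite, Finsupp.add_apply,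
    Nat.factorization_eq_zero_of_not_dvd hN, hk, (Fact.out : p.Prime).factorization_pow,
    Finsupp.single_eq_same, zero_add]

omit [Fact p.Prime] [M.IsPrime] in
/-- The class function counting the ways of conjugating into the coset `u K`. -/
noncomputable def secCount (u : G) (K : Set G) : G → ℂ :=
  fun g => (Nat.card {c : G // u⁻¹ * (c * g * c⁻¹) ∈ K} : ℂ)

omit [Fact p.Prime] [M.IsPrime] in
theorem isClassFunction_secCount (u : G) (K : Set G) : IsClassFunction G (secCount u K) := by
  intro g h
  refine congrArg Nat.cast (Nat.card_congr ((Equiv.mulRight h).subtypeEquiv fun c => ?_))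
  show _ ↔ u⁻¹ * (c * h * g * (c * h)⁻¹) ∈ K
  rw [show c * h * g * (c * h)⁻¹ = c * (h * g * h⁻¹) * c⁻¹ by group]

omit [Fact p.Prime] [M.IsPrime] in
/-- Pairing `secCount u K` with a class function sums that function over the coset. -/
theorem sum_secCount_mul (u : G) (K : Subgroup G) [Fintype K] {f : G → ℂ}
    (hf : IsClassFunction G f) :
    ∑ g, secCount u (K : Set G) g * f g = (Nat.card G : ℂ) * ∑ v : K, f (u * v) := by
  classical
  have h1 : ∀ g, secCount u (K : Set G) g * f g =
      ∑ c : G, if u⁻¹ * (c * g * c⁻¹) ∈ K then f g else 0 := fun g => by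
    rw [secCount, Nat.card_eq_fintype_card, Fintype.card_subtype, Finset.card_filter, Nat.cast_sum,
      Finset.sum_mul]
    refine Finset.sum_congr rfl fun c _ => ?_
    split_ifs with h h' h'
    all_goals first | simp_all | skip
  rw [Finset.sum_congr rfl (fun g _ => h1 g), Finset.sum_comm]
  have h2 : ∀ c : G, (∑ g, if u⁻¹ * (c * g * c⁻¹) ∈ K then f g else 0) = ∑ v : K, f (u * v) := by
    intro c
    rw [← Finset.sum_filter]
    refine Finset.sum_bij' (fun g hg => (⟨u⁻¹ * (c * g * c⁻¹), (Finset.mem_filter.mp hg).2⟩ : K))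
      (fun v _ => c⁻¹ * (u * v) * c) (fun g _ => Finset.mem_univ _) (fun v _ => ?_) (fun g _ => ?_)
      (fun v _ => ?_) (fun g _ => ?_)
    · rw [Finset.mem_filter]
      refine ⟨Finset.mem_univ _, ?_⟩
      rw [show u⁻¹ * (c * (c⁻¹ * (u * v) * c) * c⁻¹) = (v : G) by group]
      exact v.2
    · show c⁻¹ * (u * (u⁻¹ * (c * g * c⁻¹))) * c = g
      group
    · exact Subtype.ext (show u⁻¹ * (c * (c⁻¹ * (u * v) * c) * c⁻¹) = (v : G) by group)
    · show f g = f (u * (u⁻¹ * (c * g * c⁻¹)))
      rw [mul_inv_cancel_left, hf g c]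
  rw [Finset.sum_congr rfl (fun c _ => h2 c), Finset.sum_const, Finset.card_univ, nsmul_eq_mul,
    Nat.card_eq_fintype_card]

/-- The data attached to a `p`-element whose centralizer is `p`-nilpotent. -/
theorem column_data (hM : IsPModular p M) [Fintype (IrrCharacter G)]
    [DecidablePred (· ∈ principalBlock M G)] {u : G} (hu : ∃ k, orderOf u = p ^ k)
    (hr : blockRank p (principalBlock M (Subgroup.centralizer ({u} : Set G))) = 1) :
    (∑ χ ∈ Finset.univ.filter (· ∈ principalBlock M G),
      (χ : G → ℂ) u * conj ((χ : G → ℂ) u) =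
        ((p ^ (Nat.card (Subgroup.centralizer ({u} : Set G))).factorization p : ℕ) : ℂ)) ∧
    (∀ χ ∈ principalBlock M G, (χ : G → ℂ) u ≠ 0 → Chars.conjIrr χ ∈ principalBlock M G) ∧
    (p ≠ 2 → u ^ p = 1 → ∑ χ ∈ Finset.univ.filter (· ∈ principalBlock M G),
      ((Nat.card G : ℂ)⁻¹ * ∑ s : G, (χ : G → ℂ) (s * s)) * conj ((χ : G → ℂ) u) = 1) := by
  classical
  have hp : p.Prime := Fact.out
  have hpM := hM.2.2
  set C := Subgroup.centralizer ({u} : Set G) with hC
  haveI : Fintype C := Fintype.ofFinite _
  haveI : Fintype (IrrCharacter C) := irrFintype C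
  obtain ⟨K₀, hK₀n, hK₀p, k, hk⟩ := exists_normal_complement_of_rank_one (G := C) hpM hr
  haveI := hK₀n
  have hcore : K₀ ≤ pPrimeCore p C := CfsgLib.Base.le_pPrimeCore_of_not_dvd hK₀p
  have hcard : Nat.card C = Nat.card K₀ * p ^ k := by rw [← hk, K₀.card_mul_index]
  have hfac : (Nat.card C).factorization p = k := by
    rw [hcard, Nat.factorization_mul Nat.card_pos.ne' (pow_ne_zero _ hp.ne_zero), Finsupp.add_apply,
      Nat.factorization_eq_zero_of_not_dvd hK₀p, hp.factorization_pow, Finsupp.single_eq_same,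
      zero_add]
  rw [hfac]
  set K : Subgroup G := K₀.map C.subtype with hKdef
  haveI : Fintype K := Fintype.ofFinite _
  have hKcard : Nat.card K = Nat.card K₀ := Subgroup.card_subtype C K₀
  have hKC : ∀ v ∈ K, v * u = u * v := by
    rintro v ⟨w, -, rfl⟩
    exact Subgroup.mem_centralizer_singleton_iff.mp w.2
  have hKn : ∀ c ∈ C, ∀ v ∈ K, c * v * c⁻¹ ∈ K := by
    rintro c hc v ⟨w, hw, rfl⟩
    exact ⟨⟨c, hc⟩ * w * (⟨c, hc⟩ : C)⁻¹, hK₀n.conj_mem w hw _, rfl⟩
  -- the column of the principal block
  have hsum : ∑ χ ∈ Finset.univ.filter (· ∈ principalBlock M G),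
      (χ : G → ℂ) u * conj ((χ : G → ℂ) u) = ((p ^ k : ℕ) : ℂ) := by
    have h := principalBlock_normSum_centralizer hM hu (1 : C) (by
      rw [orderOf_one]; exact hp.not_dvd_one)
    rw [OneMemClass.coe_one, mul_one, finsum_mem_eq_sum_of_inter_support_eq
      (t := Finset.univ.filter (· ∈ principalBlock M G)) _ (by ext; simp)] at h
    rw [h]
    have hb := blockCoeff_principalBlock_one (G := C) hpM hK₀p hk
    rw [blockCoeff] at hb
    have hK0 : (Nat.card K₀ : ℂ) ≠ 0 := Nat.cast_ne_zero.mpr Nat.card_pos.ne'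
    have hC0 : (Nat.card C : ℂ) ≠ 0 := Nat.cast_ne_zero.mpr Nat.card_pos.ne'
    rw [inv_mul_eq_iff_eq_mul₀ hC0] at hb
    rw [hb, hcard, Nat.cast_mul]
    field_simp
  -- all characters
  set θ := secCount u (K : Set G) with hθ
  have hθcf : IsClassFunction G θ := isClassFunction_secCount u _
  have hθconj : ∀ g, conj (θ g) = θ g := fun g => by rw [hθ, secCount, map_natCast]
  have hinner : ∀ χ : IrrCharacter G,
      classInner θ (χ : G → ℂ) = ∑ v : K, conj ((χ : G → ℂ) (u * v)) := by
    intro χ
    rw [inner_def, sum_secCount_mul u K (f := fun g => conj ((χ : G → ℂ) g))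
      (fun g h => by simp only [isClassFunction_irr χ g h]), ← mul_assoc,
      inv_mul_cancel₀ (Chars.card_ne_zero G), one_mul]
  have huord : ∀ v ∈ K, ∀ c : G, u⁻¹ * (c * (u * v) * c⁻¹) ∈ K ↔ c ∈ C := by
    intro v hv c
    constructor
    · intro hw
      set w := u⁻¹ * (c * (u * v) * c⁻¹) with hwdef
      obtain ⟨a, ha⟩ := hu
      have hcop : (Nat.card K).Coprime (p ^ a) :=
        ((hp.coprime_iff_not_dvd.mpr (hKcard ▸ hK₀p)).symm).pow_right a
      obtain ⟨m, hm1, hm2⟩ := Nat.chineseRemainder hcop 0 1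
      have hpow : ∀ y ∈ K, (u * y) ^ m = u := by
        intro y hy
        rw [(show Commute u y from (hKC y hy).symm).mul_pow,
          ← pow_mod_orderOf u m, ← pow_mod_orderOf y m]
        have h1 : orderOf y ∣ Nat.card K := Subgroup.orderOf_dvd_natCard K hy
        have e1 : m % orderOf y = 0 :=
          Nat.mod_eq_zero_of_dvd (h1.trans ((Nat.modEq_zero_iff_dvd).mp hm1))
        have e2 : m % orderOf u = 1 % orderOf u := ha ▸ hm2
        rw [e1, e2, pow_mod_orderOf, pow_one, pow_zero, mul_one]
      have h2 : (u * w) = c * (u * v) * c⁻¹ := by rw [hwdef, mul_inv_cancel_left]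
      have h3 := hpow w hw
      rw [h2, conj_pow, hpow v hv] at h3
      rw [hC, Subgroup.mem_centralizer_singleton_iff]
      exact mul_inv_eq_iff_eq_mul.mp h3
    · intro hc
      have hcu : c * u = u * c := Subgroup.mem_centralizer_singleton_iff.mp hc
      rw [show u⁻¹ * (c * (u * v) * c⁻¹) = u⁻¹ * (c * u) * v * c⁻¹ by group, hcu,
        inv_mul_cancel_left]
      exact hKn c hc v hv
  have htot : ∑ χ : IrrCharacter G, classInner θ (χ : G → ℂ) * conj (classInner θ (χ : G → ℂ)) =
      (Nat.card K : ℂ) * (Nat.card C : ℂ) := by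
    rw [← inner_eq_sum hθcf θ, inner_def,
      Finset.sum_congr rfl (g := fun g => secCount u (K : Set G) g * θ g)
        (fun g _ => by rw [hθconj]),
      sum_secCount_mul u K hθcf, ← mul_assoc, inv_mul_cancel₀ (Chars.card_ne_zero G), one_mul,
      Finset.sum_congr rfl (g := fun _ : K => (Nat.card C : ℂ))
        (fun (v : K) _ => show θ (u * (v : G)) = (Nat.card C : ℂ) from congrArg Nat.cast
          (Nat.card_congr (Equiv.subtypeEquivRight fun c => huord v v.2 c))),
      Finset.sum_const, Finset.card_univ, nsmul_eq_mul, Nat.card_eq_fintype_card (α := K)]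
  have hmem : ∀ χ ∈ principalBlock M G,
      classInner θ (χ : G → ℂ) = (Nat.card K : ℂ) * conj ((χ : G → ℂ) u) := by
    intro χ hχ
    rw [hinner, Finset.sum_congr rfl (g := fun _ => conj ((χ : G → ℂ) u)) (fun v _ => by
      obtain ⟨w, hw, hwv⟩ := v.2
      rw [← hwv]
      exact congrArg conj (principalBlock_apply_mul_core hM hu (hcore hw) hχ)), Finset.sum_const,
      Finset.card_univ, nsmul_eq_mul, Nat.card_eq_fintype_card]
  have hout : ∀ χ : IrrCharacter G, χ ∉ principalBlock M G → classInner θ (χ : G → ℂ) = 0 := by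
    intro χ hχ
    have h1 : ∑ ξ ∈ Finset.univ.filter (· ∈ principalBlock M G),
        classInner θ (ξ : G → ℂ) * conj (classInner θ (ξ : G → ℂ)) =
        (Nat.card K : ℂ) * (Nat.card C : ℂ) := by
      rw [Finset.sum_congr rfl (g := fun ξ : IrrCharacter G => (Nat.card K : ℂ) ^ 2 *
        ((ξ : G → ℂ) u * conj ((ξ : G → ℂ) u))) (fun ξ hξ => by
          rw [hmem ξ (Finset.mem_filter.mp hξ).2, map_mul, map_natCast, Complex.conj_conj]
          ring), ← Finset.mul_sum, hsum, hcard, hKcard]
      push_cast
      ring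
    rw [← Finset.sum_filter_add_sum_filter_not Finset.univ (· ∈ principalBlock M G), h1,
      add_eq_left] at htot
    simp only [Complex.mul_conj, ← Complex.ofReal_sum, Complex.ofReal_eq_zero] at htot
    exact Complex.normSq_eq_zero.mp ((Finset.sum_eq_zero_iff_of_nonneg
      (fun ξ _ => Complex.normSq_nonneg _)).mp htot χ (Finset.mem_filter.mpr ⟨Finset.mem_univ _, hχ⟩))
  have hKne : (Nat.card K : ℂ) ≠ 0 := Nat.cast_ne_zero.mpr Nat.card_pos.ne'
  refine ⟨hsum, fun χ hχ hne => ?_, fun hp2 hup => ?_⟩
  · by_contra hout'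
    have h := hout _ hout'
    rw [hinner] at h
    have h2 : ∑ v : K, conj ((χ : G → ℂ) (u * v)) = 0 := by
      rw [← map_eq_zero_iff (starRingEnd ℂ) (RingHom.injective _), map_sum]
      refine (Finset.sum_congr rfl fun v _ => ?_).trans h
      rfl
    rw [← hinner, hmem χ hχ, mul_eq_zero, or_iff_right hKne, map_eq_zero] at h2
    exact hne h2
  · -- counting square roots
    have hsq : ∑ x : G, θ (x * x) = (Nat.card G : ℂ) * (Nat.card K : ℂ) := by
      have hodd : Odd p := hp.odd_of_ne_two hp2
      obtain ⟨j, hj⟩ := hodd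
      set r := u ^ (j + 1) with hrdef
      have hrr : r * r = u := by
        rw [hrdef, ← pow_add, show j + 1 + (j + 1) = p + 1 by omega, pow_succ, hup, one_mul]
      have hrC : r ∈ C := pow_mem (Subgroup.mem_centralizer_singleton_iff.mpr rfl) _
      have hroots : ∀ y : G, u⁻¹ * (y * y) ∈ K ↔ r⁻¹ * y ∈ K := by
        intro y
        constructor
        · intro hy
          have hyC : y ∈ C := (huord _ (one_mem K) y).mp (by
            rw [mul_one]
            -- `u` is a power of `y * y`
            obtain ⟨a, ha⟩ := hu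
            have hcop : (Nat.card K).Coprime (p ^ a) :=
              ((hp.coprime_iff_not_dvd.mpr (hKcard ▸ hK₀p)).symm).pow_right a
            obtain ⟨m, hm1, hm2⟩ := Nat.chineseRemainder hcop 0 1
            set v := u⁻¹ * (y * y) with hv
            have hpow : (y * y) ^ m = u := by
              rw [show y * y = u * v by rw [hv, mul_inv_cancel_left],
                (show Commute u v from (hKC v hy).symm).mul_pow, ← pow_mod_orderOf u m,
                ← pow_mod_orderOf v m,
                Nat.mod_eq_zero_of_dvd ((Subgroup.orderOf_dvd_natCard K hy).trans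
                  ((Nat.modEq_zero_iff_dvd).mp hm1)),
                show m % orderOf u = 1 % orderOf u from ha ▸ hm2, pow_mod_orderOf, pow_one,
                pow_zero, mul_one]
            have hyu : Commute y u := hpow ▸ ((Commute.refl y).mul_right (Commute.refl y)).pow_right m
            rw [hyu.eq, mul_inv_cancel_right, inv_mul_cancel]
            exact one_mem K)
          have hyr : Commute r y :=
            ((show Commute y u from Subgroup.mem_centralizer_singleton_iff.mp hyC).symm).pow_left _
          have hz2 : (r⁻¹ * y) * (r⁻¹ * y) ∈ K := by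
            rw [show r⁻¹ * y * (r⁻¹ * y) = r⁻¹ * (y * r⁻¹) * y by group, ← hyr.inv_left.eq,
              show r⁻¹ * (r⁻¹ * y) * y = (r * r)⁻¹ * (y * y) by group, hrr]
            exact hy
          obtain ⟨z, hzdef⟩ : ∃ z : C, (z : G) = r⁻¹ * y :=
            ⟨⟨_, mul_mem (inv_mem hrC) hyC⟩, rfl⟩
          rw [← hzdef] at hz2 ⊢
          obtain ⟨w, hw, hwz⟩ := hz2
          have hzz : z * z ∈ K₀ := by
            rw [show z * z = w from Subtype.ext hwz.symm]; exact hw
          refine ⟨z, ?_, rfl⟩
          have h1 : (z : C ⧸ K₀) ^ 2 = 1 := by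
            rw [sq, ← QuotientGroup.mk_mul, QuotientGroup.eq_one_iff]
            exact hzz
          have h2 : (z : C ⧸ K₀) ^ (p ^ k) = 1 := by
            rw [← hk, Subgroup.index_eq_card]
            exact pow_card_eq_one'
          show z ∈ K₀
          rw [← QuotientGroup.eq_one_iff, ← pow_one (z : C ⧸ K₀),
            ← Nat.coprime_iff_gcd_eq_one.mp ((Nat.coprime_two_left.mpr (hp.odd_of_ne_two hp2)).pow_right k)]
          exact pow_gcd_eq_one.mpr ⟨h1, h2⟩
        · intro hy
          obtain ⟨v, hv, rfl⟩ : ∃ v ∈ K, y = r * v := ⟨_, hy, (mul_inv_cancel_left r y).symm⟩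
          have hrv : v * r = r * v := ((show Commute v u from hKC v hv).pow_right _).eq
          rw [show r * v * (r * v) = r * (v * r) * v by group, hrv,
            show r * (r * v) * v = (r * r) * (v * v) by group, hrr, inv_mul_cancel_left]
          exact mul_mem hv hv
      have h1 : ∀ x : G, θ (x * x) =
          ∑ c : G, if u⁻¹ * (c * (x * x) * c⁻¹) ∈ K then (1 : ℂ) else 0 := fun x => by
        rw [hθ, secCount, Nat.card_eq_fintype_card, Fintype.card_subtype, Finset.sum_boole]
        rfl
      rw [Finset.sum_congr rfl (fun x _ => h1 x), Finset.sum_comm]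
      have h2 : ∀ c : G, (∑ x : G, if u⁻¹ * (c * (x * x) * c⁻¹) ∈ K then (1 : ℂ) else 0) =
          (Nat.card K : ℂ) := by
        intro c
        rw [Finset.sum_boole, ← Fintype.card_subtype, ← Nat.card_eq_fintype_card]
        refine congrArg Nat.cast (Nat.card_congr
          (((MulAut.conj c).toEquiv.trans (Equiv.mulLeft r⁻¹)).subtypeEquiv fun x => ?_))
        show _ ↔ r⁻¹ * (c * x * c⁻¹) ∈ K
        rw [← hroots, show c * x * c⁻¹ * (c * x * c⁻¹) = c * (x * x) * c⁻¹ by group]
      rw [Finset.sum_congr rfl (fun c _ => h2 c), Finset.sum_const, Finset.card_univ, nsmul_eq_mul]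
      simp [Nat.card_eq_fintype_card]
    have hexp := classFun_eq_sum hθcf
    rw [Finset.sum_congr rfl (fun x _ => congrFun hexp (x * x))] at hsq
    simp only [Finset.sum_apply, Pi.smul_apply, smul_eq_mul] at hsq
    rw [Finset.sum_comm] at hsq
    simp only [← Finset.mul_sum] at hsq
    rw [← Finset.sum_filter_add_sum_filter_not Finset.univ (· ∈ principalBlock M G),
      Finset.sum_eq_zero (s := Finset.univ.filter fun χ => ¬ χ ∈ principalBlock M G)
        (fun χ hχ => by rw [hout χ (Finset.mem_filter.mp hχ).2, zero_mul]), add_zero] at hsq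
    refine mul_left_cancel₀ (mul_ne_zero (Chars.card_ne_zero G) hKne) ?_
    rw [mul_one, Finset.mul_sum]
    refine Eq.trans ?_ hsq
    refine Finset.sum_congr rfl fun χ hχ => ?_
    rw [hmem χ (Finset.mem_filter.mp hχ).2]
    field_simp [Chars.card_ne_zero G]

/-- **Three characters in the principal block**: the Sylow subgroups have order three. -/
theorem card_sylow (hM : IsPModular p M) (h3 : Nat.card (principalBlock M G) = 3)
    (D : Sylow p G) : Nat.card (D : Subgroup G) = 3 := by
  classical
  haveI := irrFintype G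
  have hp : p.Prime := Fact.out
  have hpM := hM.2.2
  by_cases hl : blockRank p (principalBlock M G) = 1
  · obtain ⟨N, hN, hd, k, hk⟩ := exists_normal_complement_of_rank_one hpM hl
    exact card_sylow_of_complement hpM hd hk h3 D
  have hl1 := one_le_blockRank (p := p) (isPBlock_principalBlock (G := G) M)
  have hk : Nat.card (principalBlock M G) ≤ blockRank p (principalBlock M G) + 1 := by omega
  have helem := RankGap.principal_case hM hk D
  have hDne : (D : Subgroup G) ≠ ⊥ := by
    intro hbot
    refine hl (blockRank_eq_one_of_pow_index hpM (N := (⊤ : Subgroup G)) ?_ (k := 0)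
      (by rw [Subgroup.index_top, pow_zero]))
    rw [Subgroup.card_top]
    intro hd
    have h := D.card_eq_multiplicity
    rw [hbot, Subgroup.card_bot] at h
    exact (hp.factorization_pos_of_dvd Nat.card_pos.ne' hd).ne'
      ((Nat.pow_eq_one.mp h.symm).resolve_left hp.ne_one)
  obtain ⟨u, huD, hu1⟩ := (Subgroup.bot_or_exists_ne_one (D : Subgroup G)).resolve_left hDne
  have hup : u ^ p = 1 := helem.2 u huD
  have huord : orderOf u = p := orderOf_eq_prime hup hu1
  have hu : ∃ k, orderOf u = p ^ k := ⟨1, by rw [huord, pow_one]⟩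
  have hind : IsInducedBlock M (Subgroup.centralizer ({u} : Set G))
      (principalBlock M (Subgroup.centralizer ({u} : Set G))) (principalBlock M G) :=
    RankGap.induced_congr (centralizer_zpowers_eq u) (isInducedBlock_centralizer_of_pair hpM
      (isBrauerPairOf_principalPair hpM (RankGap.isPGroup_zpowers_of_orderOf hu)))
  have hr := (RankGap.single_section hM (isPBlock_principalBlock M) hk hu hu1 hind hu hu1
    ⟨_, hind⟩).2
  obtain ⟨hcol, hconjmem, hfs⟩ := column_data hM hu hr
  -- the centralizer contains the Sylow subgroup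
  have hCp : (Nat.card (Subgroup.centralizer ({u} : Set G))).factorization p =
      (Nat.card G).factorization p := by
    refine le_antisymm ((Nat.factorization_le_iff_dvd Nat.card_pos.ne' Nat.card_pos.ne').mpr
      (Subgroup.card_subgroup_dvd_card _) p) ?_
    refine (hp.pow_dvd_iff_le_factorization Nat.card_pos.ne').mp ?_
    rw [← D.card_eq_multiplicity]
    exact Subgroup.card_dvd_of_le fun x hx =>
      Subgroup.mem_centralizer_singleton_iff.mpr
        (congrArg Subtype.val (helem.1.is_comm.comm ⟨x, hx⟩ ⟨u, huD⟩))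
  rw [hCp, ← D.card_eq_multiplicity] at hcol
  set B := Finset.univ.filter (· ∈ principalBlock M G) with hB
  have horth : ∑ χ ∈ B, (charDegree (χ : G → ℂ) : ℂ) * conj ((χ : G → ℂ) u) = 0 := by
    have h := weak_orthogonality hp hpM (isPBlock_principalBlock (G := G) M)
      (x := 1) (by simp [hp.ne_one]) (y := u) (huord ▸ dvd_rfl)
    rw [finsum_mem_eq_sum_of_inter_support_eq (t := B) _ (by ext; simp [hB])] at h
    rw [← h]
    exact Finset.sum_congr rfl fun χ _ => by rw [← CharApps.deg_eq χ]
  have hBcard : B.card = 3 := by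
    rw [← h3, hB, ← Fintype.card_subtype, ← Nat.card_eq_fintype_card]
  obtain ⟨x, y, z, hxy, hxz, hyz, hxyz⟩ := Finset.card_eq_three.mp hBcard
  have hprinc : principal G ∈ B := by
    rw [hB]
    exact Finset.mem_filter.mpr ⟨Finset.mem_univ _, principal_mem_principalBlock M⟩
  obtain ⟨χ, ψ, hχ1, hψ1, hχψ, hB3⟩ : ∃ χ ψ : IrrCharacter G, χ ≠ principal G ∧
      ψ ≠ principal G ∧ χ ≠ ψ ∧ B = {principal G, χ, ψ} := by
    rw [hxyz] at hprinc
    simp only [Finset.mem_insert, Finset.mem_singleton] at hprinc
    rcases hprinc with h | h | h <;> subst h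
    · exact ⟨y, z, hxy.symm, hxz.symm, hyz, hxyz⟩
    · refine ⟨x, z, hxy, hyz.symm, hxz, ?_⟩
      rw [hxyz, Finset.insert_comm]
    · refine ⟨x, y, hxz, hyz, hxy, ?_⟩
      rw [hxyz, Finset.pair_comm y, Finset.insert_comm]
  have hsum3 : ∀ F : IrrCharacter G → ℂ, ∑ ξ ∈ B, F ξ = F (principal G) + F χ + F ψ := fun F => by
    rw [hB3, Finset.sum_insert (by simp [hχ1.symm, hψ1.symm]), Finset.sum_pair hχψ, add_assoc]
  have hχB : χ ∈ principalBlock M G :=
    (Finset.mem_filter.mp (show χ ∈ B by rw [hB3]; simp)).2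
  have hψB : ψ ∈ principalBlock M G :=
    (Finset.mem_filter.mp (show ψ ∈ B by rw [hB3]; simp)).2
  set a := (χ : G → ℂ) u with ha
  set b := (ψ : G → ℂ) u with hb
  set f := charDegree (χ : G → ℂ) with hf
  set g := charDegree (ψ : G → ℂ) with hg
  rw [hsum3] at hcol horth
  simp only [principal_apply, map_one, mul_one] at hcol horth
  rw [show charDegree (principal G : G → ℂ) = 1 by simp [charDegree, principal_apply],
    Nat.cast_one, ← ha, ← hb, ← hf, ← hg] at horth
  rw [← ha, ← hb] at hcol
  have horth' : 1 + (f : ℂ) * a + (g : ℂ) * b = 0 := by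
    have h := congrArg conj horth
    simpa using h
  have hD3 : 2 ≤ Nat.card (D : Subgroup G) := Finite.one_lt_card_iff_nontrivial.mpr
    ((Subgroup.nontrivial_iff_ne_bot _).mpr hDne)
  -- a value at `u` which is rational is an integer
  have hint : ∀ (ξ : IrrCharacter G) (m : ℕ), (m : ℂ) * (ξ : G → ℂ) u = -1 →
      (ξ : G → ℂ) u = -1 := by
    intro ξ m hm
    have hm0 : (m : ℂ) ≠ 0 := fun h0 => by simp [h0] at hm
    have hq : (((-1 : ℚ) / (m : ℚ) : ℚ) : ℂ) = (ξ : G → ℂ) u := by
      push_cast
      rw [div_eq_iff hm0, mul_comm, hm]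
    obtain ⟨t, ht⟩ := CharApps.exists_int_of_rat
      (char_isIntegral (isCharacter_of_irr ξ.2) u) ⟨_, hq⟩
    rw [← ht] at hm ⊢
    have hmt : (m : ℤ) * t = -1 := by exact_mod_cast hm
    rcases Int.eq_one_or_neg_one_of_mul_eq_neg_one' hmt with ⟨-, h1⟩ | ⟨h1, -⟩
    · rw [h1]; norm_num
    · omega
  have hzero : ∀ (ξ ξ' : IrrCharacter G), (ξ : G → ℂ) u = 0 →
      1 + (ξ' : G → ℂ) u * conj ((ξ' : G → ℂ) u) = (Nat.card (D : Subgroup G) : ℂ) →
      1 + (charDegree (ξ' : G → ℂ) : ℂ) * (ξ' : G → ℂ) u = 0 → Nat.card (D : Subgroup G) = 2 := by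
    intro ξ ξ' _ h1 h2
    rw [hint ξ' (charDegree (ξ' : G → ℂ)) (eq_neg_of_add_eq_zero_right h2)] at h1
    norm_num at h1
    rw [Nat.card_eq_fintype_card]
    exact_mod_cast h1.symm
  rcases eq_or_ne p 2 with hp2 | hp2
  · exfalso
    subst hp2
    obtain ⟨s, hs⟩ := CharApps.exists_int_apply_involution (by rw [← sq]; exact hup) χ
    obtain ⟨t, ht⟩ := CharApps.exists_int_apply_involution (by rw [← sq]; exact hup) ψ
    rw [← ha] at hs
    rw [← hb] at ht
    rw [← hs, ← ht, map_intCast, map_intCast] at hcol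
    have h1 : (1 : ℤ) + s * s + t * t = (Nat.card (D : Subgroup G) : ℤ) := by exact_mod_cast hcol
    rw [D.card_eq_multiplicity] at h1 hD3
    rcases Nat.lt_or_ge ((Nat.card G).factorization 2) 2 with hn | hn
    · -- a Sylow subgroup of order two has a normal complement
      interval_cases hn' : (Nat.card G).factorization 2
      · simp at hD3
      · refine hl ((isNilpotentBlock_principal_iff_rank hpM).mp
          ((isNilpotentBlock_principal_iff_complement hpM).mpr ?_))
        have hcent : Subgroup.normalizer ((D : Subgroup G) : Set G) ≤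
            Subgroup.centralizer ((D : Subgroup G) : Set G) := by
          have hD2 : Nat.card (D : Subgroup G) = 2 := by rw [D.card_eq_multiplicity, hn', pow_one]
          intro w hw
          rw [Subgroup.mem_centralizer_iff]
          intro d hd
          rcases eq_or_ne d 1 with rfl | hd1
          · simp
          have hall : ∀ e ∈ (D : Subgroup G), e ≠ 1 → e = d := by
            intro e he he1
            obtain ⟨-, ⟨e', he'1, he'2⟩⟩ := Nat.card_eq_two_iff' (⟨1, one_mem _⟩ : (D : Subgroup G))
              |>.mp hD2 |> fun h => And.intro trivial h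
            exact congrArg Subtype.val ((he'2 ⟨e, he⟩ fun h => he1 (congrArg Subtype.val h)).trans
              (he'2 ⟨d, hd⟩ fun h => hd1 (congrArg Subtype.val h)).symm)
          have h2 := hall _ ((Subgroup.mem_normalizer_iff.mp hw d).mp hd) (by simpa using hd1)
          exact (mul_inv_eq_iff_eq_mul.mp h2).symm
        exact ⟨D, _, inferInstance, MonoidHom.ker_transferSylow_isComplement' D hcent⟩
    · have h4 : (4 : ℤ) ∣ ((2 ^ (Nat.card G).factorization 2 : ℕ) : ℤ) := by
        exact_mod_cast pow_dvd_pow 2 hn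
      rw [← h1] at h4
      have h5 : ∀ s t : ZMod 4, 1 + s * s + t * t ≠ 0 := by decide
      have h6 := (ZMod.intCast_zmod_eq_zero_iff_dvd _ 4).mpr h4
      push_cast at h6
      exact h5 _ _ h6
  have hbad : Nat.card (D : Subgroup G) ≠ 2 := fun h => by
    obtain ⟨n, hn⟩ := D.isPGroup'.exists_card_eq
    rw [h] at hn
    have h2 : 2 ∣ p ^ n := hn ▸ dvd_rfl
    exact hp2 ((Nat.prime_dvd_prime_iff_eq Nat.prime_two hp).mp (Nat.prime_two.dvd_of_dvd_pow h2)).symm
  by_cases ha0 : a = 0
  · exact absurd (hzero χ ψ ha0 (by rw [← hb, ← hcol, ha0]; simp)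
      (by rw [← hb, ← hg]; rw [ha0] at horth'; simpa using horth')) hbad
  by_cases hb0 : b = 0
  · exact absurd (hzero ψ χ hb0 (by rw [← ha, ← hcol, hb0]; simp)
      (by rw [← ha, ← hf]; rw [hb0] at horth'; simpa using horth')) hbad
  have hnorm : a * conj a = 1 ∧ b * conj b = 1 → Nat.card (D : Subgroup G) = 3 := fun h => by
    rw [h.1, h.2] at hcol
    norm_num at hcol
    rw [Nat.card_eq_fintype_card]
    exact_mod_cast hcol.symm
  by_cases hχr : Chars.conjIrr χ = χ
  · have hψr : Chars.conjIrr ψ = ψ := by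
      by_contra hne
      have hmem : Chars.conjIrr ψ ∈ B := Finset.mem_filter.mpr
        ⟨Finset.mem_univ _, hconjmem ψ hψB hb0⟩
      rw [hB3] at hmem
      simp only [Finset.mem_insert, Finset.mem_singleton] at hmem
      rcases hmem with h | h | h
      · exact hψ1 (by rw [← conjIrr_conjIrr ψ, h, conjIrr_principal])
      · exact hχψ (by rw [← conjIrr_conjIrr ψ, h, hχr])
      · exact hne h
    have hν : ∀ ξ : IrrCharacter G, Chars.conjIrr ξ = ξ →
        (Nat.card G : ℂ)⁻¹ * ∑ s : G, (ξ : G → ℂ) (s * s) = 1 ∨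
        (Nat.card G : ℂ)⁻¹ * ∑ s : G, (ξ : G → ℂ) (s * s) = -1 := by
      intro ξ hξ
      obtain ⟨h, hiff⟩ := indicator_trichotomy ξ.2
      refine h.resolve_left fun h0 => ?_
      obtain ⟨s, hs⟩ := hiff.mp h0
      exact hs ((conjIrr_eq_iff ξ).mp hξ s)
    have hreal : conj a = a ∧ conj b = b :=
      ⟨Complex.conj_eq_iff_im.mpr ((conjIrr_eq_iff χ).mp hχr u),
        Complex.conj_eq_iff_im.mpr ((conjIrr_eq_iff ψ).mp hψr u)⟩
    have h1 := hfs hp2 hup
    rw [hsum3] at h1
    simp only [principal_apply, Finset.sum_const, Finset.card_univ, ← Nat.card_eq_fintype_card,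
      nsmul_eq_mul, mul_one, map_one, inv_mul_cancel₀ (Chars.card_ne_zero G)] at h1
    rw [← ha, ← hb, hreal.1, hreal.2] at h1
    -- `b = ± a`
    have hab : b = a ∨ b = -a := by
      rcases hν χ hχr with e1 | e1 <;> rcases hν ψ hψr with e2 | e2 <;> rw [e1, e2] at h1
      · right; linear_combination h1
      · left; linear_combination -h1
      · left; linear_combination h1
      · right; linear_combination -h1
    have hfacts : a = 1 ∨ a = -1 := by
      rcases hab with hab | hab <;> rw [hab] at horth'
      · exact Or.inr (hint χ (f + g) (by rw [← ha]; push_cast; linear_combination horth'))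
      · obtain ⟨n, hn⟩ := exists_int_of_isIntegral_rat (-1 / ((f : ℚ) - g)) (by
          have hfg : ((f : ℂ) - g) ≠ 0 := fun h => by
            have : (1 : ℂ) = 0 := by linear_combination horth' - a * h
            exact one_ne_zero this
          have he : ((-1 / ((f : ℚ) - g) : ℚ) : ℂ) = a := by
            push_cast
            rw [div_eq_iff hfg]
            linear_combination -horth'
          rw [he, ha]
          exact char_isIntegral (isCharacter_of_irr χ.2) u)
        have hfg : ((f : ℚ) - g) ≠ 0 := fun h => by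
          have hh : ((f : ℂ) - g) = 0 := by exact_mod_cast h
          have : (1 : ℂ) = 0 := by linear_combination horth' - a * hh
          exact one_ne_zero this
        have hn' : n * ((f : ℤ) - g) = -1 := by
          have := (div_eq_iff hfg).mp hn
          exact_mod_cast this.symm
        have hac : a = (n : ℂ) := by
          have hh : ((n : ℂ)) * ((f : ℂ) - g) = -1 := by exact_mod_cast hn'
          have hne : ((f : ℂ) - g) ≠ 0 := right_ne_zero_of_mul (by rw [hh]; norm_num)
          exact mul_right_cancel₀ hne (by rw [hh]; linear_combination horth')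
        rcases Int.eq_one_or_neg_one_of_mul_eq_neg_one hn' with h | h <;> rw [hac, h] <;> simp
    refine hnorm ?_
    rw [hreal.1, hreal.2]
    rcases hab with e | e <;> rcases hfacts with e' | e' <;> rw [e, e'] <;> norm_num
  · have hmem : Chars.conjIrr χ ∈ B := Finset.mem_filter.mpr ⟨Finset.mem_univ _, hconjmem χ hχB ha0⟩
    rw [hB3] at hmem
    simp only [Finset.mem_insert, Finset.mem_singleton] at hmem
    have hψeq : Chars.conjIrr χ = ψ := by
      rcases hmem with h | h | h
      · exact absurd (by rw [← conjIrr_conjIrr χ, h, conjIrr_principal]) hχ1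
      · exact absurd h hχr
      · exact h
    have hval : ∀ s, (ψ : G → ℂ) s = conj ((χ : G → ℂ) s) := fun s => by rw [← hψeq]; rfl
    have hgf : (g : ℂ) = f := by
      rw [hg, hf, ← CharApps.deg_eq, ← CharApps.deg_eq, hval, CharApps.conj_deg]
    rw [hgf, show b = conj a from hval u] at horth'
    -- the trace of an algebraic integer forces degree one
    have hf0 : (f : ℂ) ≠ 0 := fun h => by simp [h] at horth'
    have hq : ((-1 / (f : ℚ) : ℚ) : ℂ) = a + conj a := by
      push_cast
      rw [div_eq_iff hf0]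
      linear_combination -horth'
    have hint2 : IsIntegral ℤ (((-1 / (f : ℚ) : ℚ) : ℂ)) := by
      rw [hq, ← irr_inv, ha]
      exact (char_isIntegral (isCharacter_of_irr χ.2) u).add
        (char_isIntegral (isCharacter_of_irr χ.2) u⁻¹)
    obtain ⟨n, hn⟩ := exists_int_of_isIntegral_rat _ hint2
    have hf0' : (f : ℚ) ≠ 0 := by exact_mod_cast (show f ≠ 0 from fun h => hf0 (by simp [h]))
    have hn' : n * (f : ℤ) = -1 := by
      have := (div_eq_iff hf0').mp hn
      exact_mod_cast this.symm
    have hf1 : f = 1 := by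
      rcases Int.eq_one_or_neg_one_of_mul_eq_neg_one' hn' with ⟨-, h⟩ | ⟨-, h⟩
      · omega
      · exact_mod_cast h
    have hone : (χ : G → ℂ) 1 = 1 := by rw [CharApps.deg_eq χ, ← hf, hf1, Nat.cast_one]
    obtain ⟨lam, hlam⟩ := exists_hom_of_degree_one (isCharacter_of_irr χ.2) hone
    have hap : a ^ p = 1 := by
      rw [ha, hlam]
      show ((lam u : ℂ)) ^ p = 1
      rw [← Units.val_pow_eq_pow_val, ← map_pow, hup, map_one, Units.val_one]
    have hna : a * conj a = 1 := by
      rw [Complex.mul_conj, Complex.normSq_eq_norm_sq,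
        Complex.norm_eq_one_of_pow_eq_one hap hp.ne_zero]
      norm_num
    refine hnorm ⟨hna, ?_⟩
    rw [show b = conj a from hval u, Complex.conj_conj, mul_comm]
    exact hna

end CfsgLib.Blocks.ThreePrincipal
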