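import Cfsg.Agent.Lib.Blocks.RankOneAlgebra
import Cfsg.Agent.Lib.Blocks.Idempotent
import Cfsg.Agent.Lib.BlockOrth.RankOne

/-!
# Blocks with one Brauer character and at most four irreducible characters

The corner of the block algebra at a suitable idempotent has dimension at most the number `k` of
the block's characters, and that dimension is at least the sum of the squares of their values at
a lift of the idempotent, a multiple of `p ^ d`; so `p ^ d ≤ k`.
-/

set_option autoImplicit false
set_option linter.unusedSectionVars false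
set_option linter.style.haveILetI false

namespace CfsgLib.Blocks

open Cfsg Chars Module Finset ComplexConjugate

variable {G : Type*} [Group G] [Fintype G]

/-- The matrix of `x ↦ f x f`. -/
noncomputable def cornerMatrix {R : Type*} [CommRing R] (f : MonoidAlgebra R G) : Matrix G G R :=
  fun x y => (f * MonoidAlgebra.single y 1 * f).coeff x

theorem cornerMatrix_mul_self {R : Type*} [CommRing R] {f : MonoidAlgebra R G} (hf : f * f = f) :
    cornerMatrix f * cornerMatrix f = cornerMatrix f := by
  ext x y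
  rw [Matrix.mul_apply]
  simp only [cornerMatrix]
  set w := f * MonoidAlgebra.single y (1 : R) * f with hw
  have h1 : f * w * f = w := by
    rw [hw, ← mul_assoc, ← mul_assoc, hf, mul_assoc, hf]
  conv_rhs => rw [← h1, sum_single_coeff w, Finset.mul_sum, Finset.sum_mul]
  rw [MonoidAlgebra.coeff_sum, Finsupp.finsetSum_apply]
  refine Finset.sum_congr rfl fun z _ => ?_
  rw [show MonoidAlgebra.single z (w.coeff z) = w.coeff z • MonoidAlgebra.single z (1 : R) by
      rw [MonoidAlgebra.smul_single', mul_one], mul_smul_comm, smul_mul_assoc,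
    MonoidAlgebra.coeff_smul, Finsupp.smul_apply, smul_eq_mul, mul_comm]

/-- Solutions of `a * x * b = x` counted by the characters. -/
theorem sum_irr_mul_irr [Fintype (IrrCharacter G)] [DecidableEq G] (a b : G) :
    ∑ χ : IrrCharacter G, (χ : G → ℂ) a * (χ : G → ℂ) b =
      ((univ.filter fun x : G => a * x * b = x).card : ℂ) := by
  classical
  have h1 : ∀ χ : IrrCharacter G, (χ : G → ℂ) b = conj ((χ : G → ℂ) b⁻¹) := fun χ => by
    rw [irr_inv]; simp
  simp only [h1 _]
  rw [second_orthogonality]
  split_ifs with hc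
  · obtain ⟨x₀, hx₀⟩ := isConj_iff.1 hc
    have hs : a * x₀ * b = x₀ := by rw [← hx₀]; group
    rw [← Fintype.card_subtype, ← Nat.card_eq_fintype_card]
    refine congrArg Nat.cast (Nat.card_congr
      { toFun := fun c => ⟨(c : G) * x₀, ?_⟩
        invFun := fun x => ⟨(x : G) * x₀⁻¹, ?_⟩
        left_inv := fun c => Subtype.ext (by simp)
        right_inv := fun x => Subtype.ext (by simp) })
    · have hc' := Subgroup.mem_centralizer_iff.1 c.2 a rfl
      calc a * ((c : G) * x₀) * b = a * (c : G) * x₀ * b := by group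
        _ = (c : G) * (a * x₀ * b) := by rw [hc']; group
        _ = _ := by rw [hs]
    · rw [Subgroup.mem_centralizer_iff]
      intro h hh
      rw [Set.mem_singleton_iff.1 hh]
      have hx := x.2
      calc a * ((x : G) * x₀⁻¹) = a * (x : G) * b * (b⁻¹ * x₀⁻¹) := by group
        _ = (x : G) * (b⁻¹ * x₀⁻¹) := by rw [hx]
        _ = (x : G) * x₀⁻¹ * (x₀ * b⁻¹ * x₀⁻¹) := by group
        _ = _ := by rw [hx₀]
  · rw [Finset.card_eq_zero.2 ?_, Nat.cast_zero]
    refine Finset.filter_eq_empty_iff.2 fun x _ hx => hc (isConj_iff.2 ⟨x, ?_⟩)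
    rw [show x * b⁻¹ * x⁻¹ = (a * x * b) * b⁻¹ * x⁻¹ by rw [hx]]
    group

variable {M : Ideal AlgInt} [M.IsPrime] {p : ℕ} [Fact p.Prime] {B : Set (IrrCharacter G)}

/-- The value of a character at an element of the group ring. -/
noncomputable def algValue (f : MonoidAlgebra (loc M) G) (θ : G → ℂ) : ℂ :=
  ∑ g, θ g * (f.coeff g : ℂ)

theorem trace_cornerMatrix [Fintype (IrrCharacter G)] (f : MonoidAlgebra (loc M) G) [DecidableEq G] :
    ((cornerMatrix f).map (Subring.subtype (loc M))).trace =
      ∑ χ : IrrCharacter G, algValue f (χ : G → ℂ) ^ 2 := by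
  classical
  have h1 : ∀ x : G, ((f * MonoidAlgebra.single x 1 * f).coeff x : ℂ) =
      ∑ a, ∑ b, if a * x * b = x then (f.coeff a : ℂ) * (f.coeff b : ℂ) else 0 := fun x => by
    conv_lhs => rw [sum_single_coeff f]
    simp only [Finset.sum_mul, Finset.mul_sum, MonoidAlgebra.single_mul_single, mul_one,
      MonoidAlgebra.coeff_sum, Finsupp.finsetSum_apply, MonoidAlgebra.coeff_single,
      Finsupp.single_apply, AddSubmonoidClass.coe_finsetSum]
    rw [Finset.sum_comm]
    refine Finset.sum_congr rfl fun a _ => Finset.sum_congr rfl fun b _ => ?_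
    split_ifs <;> simp
  calc ((cornerMatrix f).map (Subring.subtype (loc M))).trace
      = ∑ x, ∑ a, ∑ b, if a * x * b = x then (f.coeff a : ℂ) * (f.coeff b : ℂ) else 0 :=
        Finset.sum_congr rfl fun x _ => h1 x
    _ = ∑ a, ∑ b, (f.coeff a : ℂ) * (f.coeff b : ℂ) *
          ∑ χ : IrrCharacter G, (χ : G → ℂ) a * (χ : G → ℂ) b := by
        rw [Finset.sum_comm]
        refine Finset.sum_congr rfl fun a _ => ?_
        rw [Finset.sum_comm]
        refine Finset.sum_congr rfl fun b _ => ?_
        rw [sum_irr_mul_irr, ← Finset.sum_filter, Finset.sum_const, nsmul_eq_mul, mul_comm]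
    _ = _ := by
        simp only [algValue, sq, Finset.sum_mul, Finset.mul_sum]
        rw [Finset.sum_comm]
        refine (Finset.sum_congr rfl fun b _ => Finset.sum_comm).trans ?_
        rw [Finset.sum_comm]
        exact Finset.sum_congr rfl fun χ _ => Finset.sum_congr rfl fun b _ =>
          Finset.sum_congr rfl fun a _ => by ring

theorem exists_nat_algValue {f : MonoidAlgebra (loc M) G} (hf : f * f = f) (χ : IrrCharacter G) :
    ∃ m : ℕ, algValue f (χ : G → ℂ) = (m : ℂ) := by
  obtain ⟨n, ρ, -, hρ⟩ := χ.2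
  set F : MonoidAlgebra ℂ G := MonoidAlgebra.mapRingHom G (Subring.subtype (loc M)) f with hF
  set E := ρ.asAlgebraHom F with hE
  have hEE : E * E = E := by rw [hE, ← map_mul, hF, ← map_mul, hf]
  have htr : LinearMap.trace ℂ _ E = algValue f (χ : G → ℂ) := by
    rw [hE, sum_single_coeff F, map_sum, map_sum, algValue]
    refine Finset.sum_congr rfl fun g _ => ?_
    rw [Representation.asAlgebraHom_single, map_smul, smul_eq_mul, ← congrFun hρ g, hF]
    simp [Representation.character, mul_comm]
  refine ⟨finrank ℂ (LinearMap.range E), ?_⟩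
  rw [← htr]
  exact LinearMap.IsProj.trace ⟨fun v => LinearMap.mem_range_self E v, fun v hv => by
    obtain ⟨w, rfl⟩ := hv
    rw [← Module.End.mul_apply, hEE]⟩

theorem algValue_mul_toAlg (f : MonoidAlgebra (loc M) G) (hB : IsPBlock M B)
    (χ : IrrCharacter G) [DecidablePred (· ∈ B)] :
    algValue (f * toAlg (blockCoeff B) (blockCoeff_mem_loc hB)) (χ : G → ℂ) =
      if χ ∈ B then algValue f (χ : G → ℂ) else 0 := by
  classical
  have h1 : algValue (f * toAlg (blockCoeff B) (blockCoeff_mem_loc hB)) (χ : G → ℂ) =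
      ∑ y, (f.coeff y : ℂ) * ∑ g, blockCoeff B g * (χ : G → ℂ) (g * y) := by
    rw [algValue]
    simp only [coeff_mul_eq_conv, Blocks.conv, coeff_toAlg, Finset.mul_sum]
    rw [Finset.sum_comm]
    refine Finset.sum_congr rfl fun y _ => ?_
    rw [← Equiv.sum_comp (Equiv.mulLeft y)]
    refine Finset.sum_congr rfl fun g _ => ?_
    rw [Equiv.coe_mulLeft, inv_mul_cancel_left,
      classFun_mul_comm (isClassFunction_irr χ) y g]
    ring
  rw [h1]
  simp only [sum_mul_blockCoeff]
  split_ifs with hχ
  · exact Finset.sum_congr rfl fun y _ => mul_comm _ _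
  · simp

/-- **A block with one Brauer character and at most four irreducible characters has defect group
of order at most the number of those characters.** -/
theorem pow_defect_le_card (hpM : (p : AlgInt) ∈ M) (hB : IsPBlock M B)
    (hl : blockRank p B = 1) (hk : Nat.card B ≤ 4 ∨ CornerCyclic hB) : p ^ blockDefect p B ≤ Nat.card B := by
  classical
  haveI := irrFintype G
  have hp := (Fact.out : p.Prime)
  obtain ⟨f₀, hff, hf0, hef, hN⟩ := exists_idem_corner_le_card hpM hB hl hk
  -- lift the idempotent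
  obtain ⟨x, hx, hxf⟩ := exists_fixed_lift (⊥ : Subgroup G) (z := f₀)
    (fun u hu g => by rw [Subgroup.mem_bot] at hu; subst hu; simp)
  have hcut : ∀ z : MonoidAlgebra (ResField M) G,
      cut (Subgroup.centralizer ((⊥ : Subgroup G) : Set G) : Set G) z = z := fun z => by
    apply MonoidAlgebra.ext
    ext g
    have : g ∈ Subgroup.centralizer ((⊥ : Subgroup G) : Set G) := by
      rw [Subgroup.mem_centralizer_iff]
      intro h hh
      rw [SetLike.mem_coe, Subgroup.mem_bot] at hh
      subst hh
      simp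
    exact coeff_cut_of_mem z this
  obtain ⟨w, -, -, hidem, hred⟩ := exists_idem_of_cut hpM (IsPGroup.of_bot (p := p)) hx
    (by rw [hcut, hxf, hff])
  rw [hcut, hcut, hxf] at hred
  set E := toAlg (blockCoeff B) (blockCoeff_mem_loc hB) with hE
  have hEE : E * E = E := toAlg_mul_self (blockCoeff_mem_loc hB) (conv_blockCoeff_self B)
  have hEc : ∀ z, Commute E z := fun z => commute_toAlg (isLocClassFun_blockCoeff hB) z
  obtain ⟨f, hf⟩ : ∃ f, f = x * w * E := ⟨_, rfl⟩
  have hfid : f * f = f := by
    rw [hf, (hEc (x * w)).mul_mul_mul_comm, hidem, hEE]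
  have hfred : redAlg f = f₀ := by
    rw [hf, map_mul, hred, show redAlg E = blockIdem hB from rfl,
      ← (commute_blockIdem hB f₀).eq, hef]
  set T := cornerMatrix f with hT
  obtain ⟨r, hr, hrle, hr0⟩ := exists_trace_le_rank (cornerMatrix_mul_self hfid)
  have hTred : T.map red = cornerMatrix f₀ := by
    ext a b
    show red ((f * MonoidAlgebra.single b 1 * f).coeff a) = _
    rw [← coeff_redAlg, map_mul, map_mul, hfred, cornerMatrix]
    simp [redAlg]
  have hr2 : r ≤ Nat.card B := by
    refine hrle.trans ?_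
    rw [hTred, Matrix.rank_eq_finrank_span_cols]
    set π := (LinearMap.mulRight (ResField M) f₀).comp (LinearMap.mulLeft (ResField M) f₀)
    let c : MonoidAlgebra (ResField M) G →ₗ[ResField M] (G → ResField M) :=
      { toFun := fun z g => z.coeff g
        map_add' := fun a b => by funext g; simp
        map_smul' := fun s a => by funext g; simp }
    refine le_trans (Submodule.finrank_mono (Submodule.span_le.2 ?_ :
      Submodule.span _ (Set.range (cornerMatrix f₀).col) ≤ (LinearMap.range π).map c)) ?_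
    · rintro _ ⟨b, rfl⟩
      exact ⟨π (MonoidAlgebra.single b 1), LinearMap.mem_range_self _ _, rfl⟩
    · exact (Submodule.finrank_map_le _ _).trans hN
  have hr1 : r ≠ 0 := fun h => by
    have h1 := hr0 h
    apply hf0
    rw [← hfred]
    suffices f = 0 by rw [this, map_zero]
    apply MonoidAlgebra.ext
    ext a
    have h2 := congrFun (congrFun h1 a) 1
    simp only [cornerMatrix, ← MonoidAlgebra.one_def, mul_one, hfid, Matrix.zero_apply] at h2
    simpa using h2
  -- the values at the lift
  choose a ha using fun χ => exists_nat_algValue hfid χ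
  have hout : ∀ χ : IrrCharacter G, χ ∉ B → a χ = 0 := fun χ hχ => by
    have h1 := ha χ
    rw [hf, algValue_mul_toAlg _ hB, if_neg hχ] at h1
    exact_mod_cast h1.symm
  obtain ⟨φ, dd, ⟨n, hn⟩, hdec, hsum⟩ := BlockOrth.exists_decomposition_of_rank_one hpM hB hl
  simp only [BlockOrth.sum_mem_block] at hn hsum
  have hprop : ∀ χ ∈ B, ∀ ψ ∈ B, (dd ψ : ℂ) * (a χ : ℂ) = (dd χ : ℂ) * (a ψ : ℂ) := by
    intro χ hχ ψ hψ
    have hm : ∀ (ξ : IrrCharacter G) g, (ξ : G → ℂ) g ∈ loc M := fun ξ g =>
      isIntegral_mem_loc (char_isIntegral (isCharacter_of_irr ξ.2) g)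
    let θ : G → loc M := fun g => (dd ψ : loc M) * ⟨_, hm χ g⟩ - (dd χ : loc M) * ⟨_, hm ψ g⟩
    have h := trace_idempotent_eq_zero_of_regular hp (loc_eq_zero_of_forall_dvd hp hpM) hfid θ
      (fun g h => Subtype.ext (by
        simp [θ, isClassFunction_irr χ g h, isClassFunction_irr ψ g h]))
      (fun g hg => Subtype.ext (by
        simp only [θ]
        push_cast
        rw [hdec χ hχ g hg, hdec ψ hψ g hg]
        ring))
    have h2 := congrArg Subtype.val h
    simp only [θ, AddSubmonoidClass.coe_finsetSum, MulMemClass.coe_mul, AddSubgroupClass.coe_sub,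
      ZeroMemClass.coe_zero, sub_mul, Finset.sum_sub_distrib, SubringClass.coe_natCast,
      mul_assoc, ← Finset.mul_sum, sub_eq_zero] at h2
    rw [← ha, ← ha]
    exact h2
  -- the multiplicity
  obtain ⟨χ₀, hχ₀⟩ := IsPBlock.nonempty hB
  have hnd : ∑ ψ ∈ univ.filter (· ∈ B), (n ψ : ℂ) * (dd ψ : ℂ) = 1 := by
    have h1 : ¬ p ∣ orderOf (1 : G) := by simp [hp.ne_one]
    have hne : φ 1 ≠ 0 := fun h => irr_degree_ne_zero χ₀.2 (by rw [hdec χ₀ hχ₀ 1 h1, h, mul_zero])
    refine mul_right_cancel₀ hne ?_
    rw [Finset.sum_mul, one_mul]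
    conv_rhs => rw [hn 1]
    exact Finset.sum_congr rfl fun ψ hψ => by
      rw [hdec ψ (Finset.mem_filter.1 hψ).2 1 h1]; ring
  set q : ℤ := ∑ ψ ∈ univ.filter (· ∈ B), n ψ * (a ψ : ℤ) with hq
  have haq : ∀ χ ∈ B, (a χ : ℂ) = (q : ℂ) * (dd χ : ℂ) := fun χ hχ => by
    rw [hq]
    push_cast
    rw [Finset.sum_mul, ← one_mul (a χ : ℂ), ← hnd, Finset.sum_mul]
    refine Finset.sum_congr rfl fun ψ hψ => ?_
    rw [mul_assoc, hprop χ hχ ψ (Finset.mem_filter.1 hψ).2]
    ring
  have hfin : (r : ℂ) = (q : ℂ) ^ 2 * (p : ℂ) ^ blockDefect p B := by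
    rw [← hr, trace_cornerMatrix, ← Finset.sum_subset (Finset.filter_subset (· ∈ B) univ)
      (fun χ _ hχ => by
        rw [ha, hout χ (fun h => hχ (Finset.mem_filter.2 ⟨Finset.mem_univ _, h⟩))]; simp)]
    rw [← Nat.cast_pow, ← hsum, Nat.cast_sum, Finset.mul_sum]
    refine Finset.sum_congr rfl fun χ hχ => ?_
    rw [ha, haq χ (Finset.mem_filter.1 hχ).2]
    push_cast
    ring
  have hZ : (r : ℤ) = q ^ 2 * ((p ^ blockDefect p B : ℕ) : ℤ) := by
    push_cast
    exact_mod_cast hfin
  have hq0 : q ^ 2 ≠ 0 := fun h => hr1 (by rw [h, zero_mul] at hZ; exact_mod_cast hZ)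
  have hq1 : 1 ≤ q ^ 2 := by
    have := sq_nonneg q
    omega
  have hP := Int.natCast_nonneg (p ^ blockDefect p B)
  have hle : ((p ^ blockDefect p B : ℕ) : ℤ) ≤ (r : ℤ) := by nlinarith
  omega

/-- In such a block with positive defect the two numbers are equal. -/
theorem card_block_eq_pow_defect (hpM : (p : AlgInt) ∈ M) (hB : IsPBlock M B)
    (hl : blockRank p B = 1) (hk : Nat.card B ≤ 4 ∨ CornerCyclic hB) : Nat.card B = p ^ blockDefect p B := by
  classical
  haveI := irrFintype G
  refine le_antisymm ?_ (pow_defect_le_card hpM hB hl hk)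
  obtain ⟨φ, dd, -, hdec, hsum⟩ := BlockOrth.exists_decomposition_of_rank_one hpM hB hl
  rw [← hsum, BlockOrth.sum_mem_block, Nat.card_eq_fintype_card, Fintype.card_subtype,
    Finset.card_eq_sum_ones]
  refine Finset.sum_le_sum fun χ hχ => Nat.one_le_pow _ _ (Nat.pos_of_ne_zero fun h => ?_)
  refine irr_degree_ne_zero χ.2 ?_
  rw [hdec χ (Finset.mem_filter.1 hχ).2 1 (by simp [(Fact.out : p.Prime).ne_one]), h,
    Nat.cast_zero, zero_mul]

end CfsgLib.Blocks
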