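import Cfsg.Agent.Lib.Blocks.RelPairs
import Cfsg.Agent.Lib.Blocks.Counting
import Cfsg.Agent.Lib.Blocks.NormalBlocks
import Cfsg.Agent.Lib.Blocks.Degree
import Cfsg.Agent.Lib.CharsMore.CliffordDegree

/-!
# Brauer pairs carrying a weight
-/

set_option linter.unusedSectionVars false
set_option linter.style.haveILetI false

namespace CfsgLib.Blocks

open Cfsg Chars BlockOrth

variable {G : Type*} [Group G] [Fintype G] {M : Ideal AlgInt} [M.IsPrime] {p : ℕ} [Fact p.Prime]

/-- A `p`-group with a character of defect zero on the quotient is the largest normal one. -/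
theorem normal_pSubgroup_le_of_weight (hpM : (p : AlgInt) ∈ M) {Q R : Subgroup G} [Q.Normal]
    [R.Normal] (hR : IsPGroup p R) [Fintype (G ⧸ Q)] (χ : IrrCharacter (G ⧸ Q))
    (hdeg : degVal p χ = (Nat.card (G ⧸ Q)).factorization p) : R ≤ Q := by
  have hD := (relative_defect_zero hpM IsPGroup.of_bot bot_le χ
    (by rw [hdeg, Subgroup.index_bot])).1
  haveI : (R.map (QuotientGroup.mk' Q)).Normal :=
    Subgroup.Normal.map inferInstance _ (QuotientGroup.mk'_surjective Q)
  have h := IsDefectGroup.normal_le hpM (isPBlock_blockOf χ) hD (hR.map (QuotientGroup.mk' Q))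
  intro r hr
  have h1 := h ⟨r, hr, rfl⟩
  rw [Subgroup.mem_bot] at h1
  exact (QuotientGroup.eq_one_iff r).1 h1

/-- The center of `Q` is a defect group of the block of a pair carrying a weight. -/
theorem isDefectGroup_center_of_weight (hpM : (p : AlgInt) ∈ M) {Q T : Subgroup G} [Fintype T]
    (hQ : IsPGroup p Q) (hQT : Q ≤ T) (hCT : Subgroup.centralizer (Q : Set G) ≤ T)
    (hTN : T ≤ Subgroup.normalizer (Q : Set G))
    {e : Set (IrrCharacter (Subgroup.centralizer (Q : Set G)))} (he : IsPBlock M e)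
    {F' : Set (IrrCharacter T)}
    (hFe : ∀ t : T, blockCoeff F' t =
      subgroupBlockCoeff (Subgroup.centralizer (Q : Set G)) e (t : G))
    [(Q.subgroupOf T).Normal] [Fintype (T ⧸ Q.subgroupOf T)] {χ : IrrCharacter T} (hχ : χ ∈ F')
    (ψ : IrrCharacter (T ⧸ Q.subgroupOf T))
    (hχψ : (χ : T → ℂ) = fun t : T => (ψ : T ⧸ Q.subgroupOf T → ℂ) t)
    (hdeg : degVal p ψ = (Nat.card (T ⧸ Q.subgroupOf T)).factorization p) :
    IsDefectGroup p M e ((Q ⊓ Subgroup.centralizer (Q : Set G)).subgroupOf
      (Subgroup.centralizer (Q : Set G))) := by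
  classical
  haveI := Fintype.ofFinite (Subgroup.centralizer (Q : Set G))
  obtain ⟨f₀, hf₀⟩ : ∃ f : Subgroup.centralizer (Q : Set G) →* T ⧸ Q.subgroupOf T,
      f = (QuotientGroup.mk' (Q.subgroupOf T)).comp (Subgroup.inclusion hCT) := ⟨_, rfl⟩
  haveI hCn : ((Subgroup.centralizer (Q : Set G)).subgroupOf T).Normal :=
    (Subgroup.normal_subgroupOf_iff_le_normalizer hCT).2
      fun u hu => mem_normalizer_centralizer (hTN hu)
  haveI : f₀.range.Normal := by
    have e1 : f₀.range = ((Subgroup.centralizer (Q : Set G)).subgroupOf T).map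
        (QuotientGroup.mk' (Q.subgroupOf T)) := by
      ext x
      constructor
      · rintro ⟨c, rfl⟩
        exact ⟨⟨c, hCT c.2⟩, c.2, by rw [hf₀]; rfl⟩
      · rintro ⟨t, ht, rfl⟩
        exact ⟨⟨t, ht⟩, by rw [hf₀]; rfl⟩
    rw [e1]
    exact Subgroup.Normal.map inferInstance _ (QuotientGroup.mk'_surjective _)
  haveI := Fintype.ofFinite f₀.range
  haveI := irrFintype f₀.range
  have hpull : ∀ φ : IrrCharacter f₀.range,
      IsIrrCharacter (Subgroup.centralizer (Q : Set G))
        (fun c => (φ : f₀.range → ℂ) (f₀.rangeRestrict c)) := fun φ =>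
    isIrrCharacter_comp f₀.rangeRestrict f₀.rangeRestrict_surjective φ.2
  -- a constituent in `e`
  obtain ⟨φ, hφne, hφe⟩ : ∃ φ : IrrCharacter f₀.range,
      classInner (fun n : f₀.range => (ψ : T ⧸ Q.subgroupOf T → ℂ) n) (φ : f₀.range → ℂ) ≠ 0 ∧
      (⟨_, hpull φ⟩ : IrrCharacter (Subgroup.centralizer (Q : Set G))) ∈ e := by
    by_contra hcon
    push Not at hcon
    have h1 := omega_blockCoeff F' χ
    rw [if_pos hχ, omega] at h1
    have hdec : ∀ n : f₀.range, (ψ : T ⧸ Q.subgroupOf T → ℂ) n =
        ∑ φ : IrrCharacter f₀.range,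
          classInner (fun n : f₀.range => (ψ : T ⧸ Q.subgroupOf T → ℂ) n) (φ : f₀.range → ℂ) *
            (φ : f₀.range → ℂ) n := by
      intro n
      have h2 := congrFun (classFun_eq_sum (isClassFunction_restrict f₀.range
        (isClassFunction_irr ψ))) n
      simpa [Finset.sum_apply] using h2
    have h3 : ∑ t : T, blockCoeff F' t * (χ : T → ℂ) t =
        ∑ c : Subgroup.centralizer (Q : Set G), blockCoeff e c *
          (ψ : T ⧸ Q.subgroupOf T → ℂ) (f₀.rangeRestrict c : T ⧸ Q.subgroupOf T) := by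
      refine (Fintype.sum_of_injective (Subgroup.inclusion hCT)
        (Subgroup.inclusion_injective hCT) _ _ (fun t ht => ?_) fun c => ?_).symm
      · rw [hFe, subgroupBlockCoeff_of_notMem, zero_mul]
        exact fun h => ht ⟨⟨t, h⟩, rfl⟩
      · rw [hFe, hχψ, Subgroup.coe_inclusion, subgroupBlockCoeff_coe, MonoidHom.coe_rangeRestrict,
          hf₀]
        rfl
    rw [h3] at h1
    rw [Finset.sum_congr rfl fun c _ => congrArg (blockCoeff e c * ·) (hdec (f₀.rangeRestrict c))]
      at h1
    simp only [Finset.mul_sum] at h1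
    rw [Finset.sum_comm, Finset.sum_eq_zero, zero_div] at h1
    · exact zero_ne_one h1
    · intro φ _
      by_cases hm : classInner (fun n : f₀.range => (ψ : T ⧸ Q.subgroupOf T → ℂ) n)
          (φ : f₀.range → ℂ) = 0
      · exact Finset.sum_eq_zero fun c _ => by rw [hm, zero_mul, mul_zero]
      · have h4 := omega_blockCoeff e (⟨_, hpull φ⟩ :
          IrrCharacter (Subgroup.centralizer (Q : Set G)))
        rw [if_neg (hcon φ hm), omega, div_eq_zero_iff] at h4
        have h5 := h4.resolve_right (irr_degree_ne_zero (hpull φ))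
        calc _ = classInner (fun n : f₀.range => (ψ : T ⧸ Q.subgroupOf T → ℂ) n)
              (φ : f₀.range → ℂ) * ∑ c : Subgroup.centralizer (Q : Set G),
                blockCoeff e c * (φ : f₀.range → ℂ) (f₀.rangeRestrict c) := by
              rw [Finset.mul_sum]
              exact Finset.sum_congr rfl fun c _ => by ring
          _ = 0 := by rw [h5, mul_zero]
  -- degrees
  obtain ⟨k, hk0, hk, hkdvd⟩ := CharsMore.degree_quotient f₀.range ψ.2 φ.2 hφne
  have hker : f₀.ker = (Q ⊓ Subgroup.centralizer (Q : Set G)).subgroupOf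
      (Subgroup.centralizer (Q : Set G)) := by
    ext c
    rw [MonoidHom.mem_ker, hf₀, MonoidHom.comp_apply, QuotientGroup.mk'_apply,
      QuotientGroup.eq_one_iff, Subgroup.mem_subgroupOf, Subgroup.mem_subgroupOf]
    exact ⟨fun h => ⟨h, c.2⟩, fun h => h.1⟩
  have hcard : Nat.card f₀.range = ((Q ⊓ Subgroup.centralizer (Q : Set G)).subgroupOf
      (Subgroup.centralizer (Q : Set G))).index := by
    rw [← hker, Subgroup.index_ker]
  obtain ⟨θ, hθ⟩ : ∃ θ : IrrCharacter (Subgroup.centralizer (Q : Set G)), θ = ⟨_, hpull φ⟩ :=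
    ⟨_, rfl⟩
  have hθ1 : charDegree (θ : Subgroup.centralizer (Q : Set G) → ℂ) =
      charDegree (φ : f₀.range → ℂ) := by
    apply Nat.cast_injective (R := ℂ)
    rw [charDegree_cast, charDegree_cast, hθ]
    simp
  have hψ1 : charDegree (ψ : T ⧸ Q.subgroupOf T → ℂ) = k * charDegree (φ : f₀.range → ℂ) := by
    apply Nat.cast_injective (R := ℂ)
    rw [Nat.cast_mul, charDegree_cast, charDegree_cast]
    exact hk
  have hdegθ : degVal p θ = ((Q ⊓ Subgroup.centralizer (Q : Set G)).subgroupOf
      (Subgroup.centralizer (Q : Set G))).index.factorization p := by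
    obtain ⟨n, hn0, hn, hndvd⟩ := irr_degree_dvd_card φ.2
    have hφn : charDegree (φ : f₀.range → ℂ) = n := by
      apply Nat.cast_injective (R := ℂ)
      rw [charDegree_cast]
      exact hn
    have h1 := (Nat.factorization_le_iff_dvd hn0.ne' Nat.card_pos.ne').2 hndvd p
    have h2 := (Nat.factorization_le_iff_dvd hk0.ne' Subgroup.index_ne_zero_of_finite).2 hkdvd p
    have h3 : ((Nat.card f₀.range).factorization p : ℕ) + f₀.range.index.factorization p =
        (Nat.card (T ⧸ Q.subgroupOf T)).factorization p := by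
      rw [← f₀.range.card_mul_index, Nat.factorization_mul Nat.card_pos.ne'
        Subgroup.index_ne_zero_of_finite, Finsupp.add_apply]
    rw [degVal, hψ1, hφn, Nat.factorization_mul hk0.ne' hn0.ne', Finsupp.add_apply] at hdeg
    rw [degVal, hθ1, hφn, ← hcard]
    omega
  have hZc : (Q ⊓ Subgroup.centralizer (Q : Set G)).subgroupOf
      (Subgroup.centralizer (Q : Set G)) ≤ Subgroup.center (Subgroup.centralizer (Q : Set G)) := by
    intro z hz
    rw [Subgroup.mem_center_iff]
    intro c
    exact Subtype.ext (Subgroup.mem_centralizer_iff.1 c.2 z (Subgroup.mem_subgroupOf.1 hz).1).symm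
  have hres := (relative_defect_zero hpM (isPGroup_subgroupOf (hQ.to_le inf_le_left) inf_le_right)
    hZc θ hdegθ).1
  rwa [← IsPBlock.eq_blockOf he (hθ ▸ hφe)] at hres

end CfsgLib.Blocks
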